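import Mathlib

/-! Basic lemmas on permutation actions. -/

set_option autoImplicit false

namespace Cfsg.Agent.Perm.Basic

open MulAction

/-- In a transitive action of prime-power degree a Sylow `p`-subgroup is transitive. -/
theorem sylow_isPretransitive {G : Type*} [Group G] [Finite G] {α : Type*} [Finite α]
    [MulAction G α] [IsPretransitive G α] {p : ℕ} [Fact p.Prime] {f : ℕ}
    (hcard : Nat.card α = p ^ f) (P : Sylow p G) : IsPretransitive (P : Subgroup G) α := by
  refine ⟨fun x y => ?_⟩
  suffices h : orbit (P : Subgroup G) x = Set.univ by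
    have : y ∈ orbit (P : Subgroup G) x := h ▸ Set.mem_univ y
    exact this
  apply Set.eq_of_subset_of_ncard_le (Set.subset_univ _) ?_ (Set.toFinite _)
  have h1 : (stabilizer G x).index = p ^ f := by
    rw [index_stabilizer_of_transitive, hcard]
  obtain ⟨n, hn⟩ := IsPGroup.iff_card.1 P.isPGroup'
  obtain ⟨m, hm⟩ := IsPGroup.iff_card.1 (P.isPGroup'.to_subgroup (stabilizer (P : Subgroup G) x))
  have h2 : Nat.card (stabilizer (P : Subgroup G) x) ∣ Nat.card (stabilizer G x) := by
    refine Subgroup.card_dvd_of_injective
      (f := ((P : Subgroup G).subtype.comp (stabilizer (P : Subgroup G) x).subtype).codRestrict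
        (stabilizer G x) (fun g => g.2)) ?_
    intro g h hgh
    apply Subtype.ext
    apply Subtype.ext
    exact congrArg (fun z : stabilizer G x => (z : G)) hgh
  have h3 : orbit (P : Subgroup G) x = orbit (P : Subgroup G) x := rfl
  have h4 := (stabilizer (P : Subgroup G) x).card_mul_index
  rw [index_stabilizer] at h4
  have h5 := (stabilizer G x).card_mul_index
  rw [h1] at h5
  rw [Set.ncard_univ, hcard]
  by_contra hlt
  push Not at hlt
  have hfac : p ^ (m + f) ∣ Nat.card G := by
    rw [← h5, pow_add, ← hm]
    exact Nat.mul_dvd_mul_right h2 _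
  have hle := P.pow_dvd_card_of_pow_dvd_card hfac
  rw [hn] at hle h4
  have := (Nat.pow_dvd_pow_iff_le_right (Fact.out : p.Prime).one_lt).1 hle
  rw [hm] at h4
  have h6 : p ^ n < p ^ (m + f) := by
    rw [← h4, pow_add]
    exact Nat.mul_lt_mul_of_pos_left hlt (pow_pos (Fact.out : p.Prime).pos m)
  have := (Nat.pow_lt_pow_iff_right (Fact.out : p.Prime).one_lt).1 h6
  omega

/-- `G` is `k`-transitive when the pointwise stabiliser of every finite set of fewer than `k`
points is transitive on the other points. -/
theorem isMultiplyPretransitive_of_fixing {G : Type*} [Group G] {α : Type*} [MulAction G α]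
    [DecidableEq α] {k : ℕ}
    (h : ∀ t : Finset α, t.card < k → ∀ x y, x ∉ t → y ∉ t →
      ∃ g : G, (∀ z ∈ t, g • z = z) ∧ g • x = y) :
    IsMultiplyPretransitive G α k := by
  refine ⟨fun e e' => ?_⟩
  suffices H : ∀ i : ℕ, i ≤ k → ∃ g : G, ∀ j : Fin k, (j : ℕ) < i → g • e j = e' j by
    obtain ⟨g, hg⟩ := H k le_rfl
    exact ⟨g, Function.Embedding.ext fun j => hg j j.2⟩
  intro i
  induction i with
  | zero => exact fun _ => ⟨1, fun j hj => absurd hj (Nat.not_lt_zero _)⟩
  | succ i ih =>
    intro hi
    obtain ⟨g, hg⟩ := ih (by omega)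
    let t : Finset α := (Finset.univ.filter (fun j : Fin k => (j : ℕ) < i)).image e'
    have htc : t.card < k := by
      refine lt_of_le_of_lt Finset.card_image_le ?_
      refine lt_of_le_of_lt (Finset.card_le_card_of_injOn (t := Finset.range i) (fun j => (j : ℕ))
        ?_ ?_) ?_
      · intro j hj
        simp only [Finset.coe_filter, Finset.mem_univ, true_and, Set.mem_ofPred_eq] at hj
        simpa using hj
      · exact fun a _ b _ hab => Fin.ext hab
      · rw [Finset.card_range]; omega
    have hx : g • e ⟨i, hi⟩ ∉ t := by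
      simp only [t, Finset.mem_image, Finset.mem_filter, Finset.mem_univ, true_and]
      rintro ⟨j, hj, hjeq⟩
      rw [← hg j hj] at hjeq
      have := congrArg Fin.val (e.injective (MulAction.injective g hjeq))
      simp only at this; omega
    have hy : e' ⟨i, hi⟩ ∉ t := by
      simp only [t, Finset.mem_image, Finset.mem_filter, Finset.mem_univ, true_and]
      rintro ⟨j, hj, hjeq⟩
      have := congrArg Fin.val (e'.injective hjeq)
      simp only at this; omega
    obtain ⟨g', hfix, hgx⟩ := h t htc _ _ hx hy
    refine ⟨g' * g, fun j hj => ?_⟩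
    rw [mul_smul]
    rcases Nat.lt_succ_iff_lt_or_eq.1 hj with hj' | hj'
    · rw [hg j hj']
      exact hfix _ (Finset.mem_image.2 ⟨j, by simp [hj'], rfl⟩)
    · have : j = ⟨i, hi⟩ := Fin.ext hj'
      rw [this, hgx]

/-- A variant for subgroups of the symmetric group, with the pointwise stabilisers of the sets of
exactly `k - 1` points. -/
theorem isMultiplyPretransitive_of_fixing_pred {G : Type*} [Group G] {α : Type*} [MulAction G α]
    [Fintype α] [DecidableEq α] {k : ℕ} (hk : k < Fintype.card α)
    (h : ∀ t : Finset α, t.card + 1 = k → ∀ x y, x ∉ t → y ∉ t →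
      ∃ g : G, (∀ z ∈ t, g • z = z) ∧ g • x = y) :
    IsMultiplyPretransitive G α k := by
  apply isMultiplyPretransitive_of_fixing
  intro t ht x y hx hy
  have hsub : t ⊆ Finset.univ \ {x, y} := by
    intro z hz
    simp only [Finset.mem_sdiff, Finset.mem_univ, Finset.mem_insert, Finset.mem_singleton,
      true_and]
    rintro (rfl | rfl) <;> contradiction
  have hcard : k - 1 ≤ (Finset.univ \ ({x, y} : Finset α)).card := by
    have h1 : ({x, y} : Finset α).card ≤ 2 := Finset.card_le_two
    rw [Finset.card_univ_sdiff]
    omega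
  obtain ⟨u, htu, hu, huc⟩ := Finset.exists_subsuperset_card_eq hsub (by omega : t.card ≤ k - 1) hcard
  obtain ⟨g, hg, hgx⟩ := h u (by omega) x y
    (fun hh => by simpa using hu hh) (fun hh => by simpa using hu hh)
  exact ⟨g, fun z hz => hg z (htu hz), hgx⟩

section RegularNormal

variable {G : Type*} [Group G] {α : Type*} [MulAction G α] (N : Subgroup G)

/-- A transitive semiregular subgroup is in bijection with the points. -/
theorem orbitMap_bijective (htrans : IsPretransitive N α)
    (hreg : ∀ x : α, stabilizer N x = ⊥) (a : α) :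
    Function.Bijective (fun n : N => n • a) := by
  refine ⟨fun n m hnm => ?_, fun x => exists_smul_eq N a x⟩
  have : m⁻¹ * n ∈ stabilizer N a := by
    rw [mem_stabilizer_iff, mul_smul]
    exact inv_smul_eq_iff.2 hnm
  rw [hreg a, Subgroup.mem_bot, inv_mul_eq_one] at this
  exact this.symm

theorem card_eq_of_regular (htrans : IsPretransitive N α)
    (hreg : ∀ x : α, stabilizer N x = ⊥) (a : α) : Nat.card N = Nat.card α :=
  Nat.card_eq_of_bijective _ (orbitMap_bijective N htrans hreg a)

/-- Conjugation by an element of a point stabiliser corresponds to its action on points. -/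
theorem smul_smul_base {g : G} {a : α} (hg : g • a = a) (n : G) :
    g • (n • a) = (g * n * g⁻¹) • a := by
  rw [mul_smul, mul_smul]
  have : g⁻¹ • a = a := by rw [inv_smul_eq_iff, hg]
  rw [this]

end RegularNormal

/-- Transitivity from an orbit being everything. -/
theorem isPretransitive_of_forall {G : Type*} [Group G] {α : Type*} [MulAction G α] (a : α)
    (h : ∀ b : α, ∃ g : G, g • a = b) : IsPretransitive G α := by
  refine ⟨fun x y => ?_⟩
  obtain ⟨g, rfl⟩ := h x
  obtain ⟨g', rfl⟩ := h y
  exact ⟨g' * g⁻¹, by rw [mul_smul, inv_smul_smul]⟩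

end Cfsg.Agent.Perm.Basic
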