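import Mathlib
import Cfsg.Agent.Lib.Perm.Basic

/-! Regular normal subgroups of transitive groups. -/

set_option autoImplicit false

namespace Cfsg.Agent.Perm.RegularNormal

open MulAction

variable {G : Type*} [Group G] {α : Type*} [MulAction G α] {N : Subgroup G}

/-- In a transitive action the stabiliser of a point and another point move into each other
inside a regular normal subgroup: if `g` fixes `a` and maps `n a` to `m a`, then `m = g n g⁻¹`. -/
theorem eq_conj [hn : N.Normal] (htrans : IsPretransitive N α)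
    (hreg : ∀ x : α, stabilizer N x = ⊥) {a : α} {g : G} (hga : g • a = a) (n m : N)
    (hnm : g • (n : G) • a = (m : G) • a) : (m : G) = g * n * g⁻¹ := by
  have h1 := Cfsg.Agent.Perm.Basic.smul_smul_base hga (n : G)
  rw [hnm] at h1
  have h2 : m = ⟨g * n * g⁻¹, hn.conj_mem _ n.2 g⟩ :=
    (Cfsg.Agent.Perm.Basic.orbitMap_bijective N htrans hreg a).injective h1
  rw [h2]

/-- If moreover a point stabiliser is transitive on the other points, then all non-trivial
elements of the regular normal subgroup are conjugate. -/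
theorem exists_conj [N.Normal] (htrans : IsPretransitive N α)
    (hreg : ∀ x : α, stabilizer N x = ⊥) {a : α}
    (hst : ∀ x y : α, x ≠ a → y ≠ a → ∃ g : G, g • a = a ∧ g • x = y)
    (n m : N) (hn : n ≠ 1) (hm : m ≠ 1) : ∃ g : G, (m : G) = g * n * g⁻¹ := by
  have hne : ∀ k : N, k ≠ 1 → (k : G) • a ≠ a := by
    intro k hk h
    apply hk
    rw [← Subgroup.mem_bot, ← hreg a]
    exact h
  obtain ⟨g, hga, hg⟩ := hst _ _ (hne n hn) (hne m hm)
  exact ⟨g, eq_conj htrans hreg hga n m hg⟩

/-- If all non-trivial elements of a finite normal subgroup are conjugate, then it is an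
elementary abelian group of prime power order. -/
theorem elementaryAbelian_of_conj [hn : N.Normal] [Finite N] [Nontrivial N]
    (h : ∀ n m : N, n ≠ 1 → m ≠ 1 → ∃ g : G, (m : G) = g * n * g⁻¹) :
    ∃ p : ℕ, p.Prime ∧ IsPGroup p N ∧ IsMulCommutative N ∧ ∀ n : N, n ^ p = 1 := by
  have h1 : Nat.card N ≠ 1 := Finite.one_lt_card.ne'
  set p := (Nat.card N).minFac with hp
  have hpp : p.Prime := Nat.minFac_prime h1
  have : Fact p.Prime := ⟨hpp⟩
  obtain ⟨x, hx⟩ := exists_prime_orderOf_dvd_card' (G := N) p (Nat.minFac_dvd _)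
  have hx1 : x ≠ 1 := fun hh => by simp [hh] at hx; exact hpp.ne_one hx.symm
  have hexp : ∀ n : N, n ^ p = 1 := by
    intro n
    by_cases hn1 : n = 1
    · simp [hn1]
    · obtain ⟨g, hg⟩ := h x n hx1 hn1
      apply Subtype.ext
      rw [SubgroupClass.coe_pow, hg, conj_pow, ← SubgroupClass.coe_pow, ← hx, pow_orderOf_eq_one,
        OneMemClass.coe_one, mul_one, mul_inv_cancel]
  have hpg : IsPGroup p N := fun n => ⟨1, by rw [pow_one]; exact hexp n⟩
  refine ⟨p, hpp, hpg, ⟨⟨fun u v => ?_⟩⟩, hexp⟩
  obtain ⟨z, hz, hz1⟩ := (Subgroup.center N).bot_or_exists_ne_one.resolve_left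
    (fun hh => by
      have := hpg.center_nontrivial
      rw [hh] at this
      exact not_subsingleton _ (inferInstance : Subsingleton (⊥ : Subgroup N)))
  by_cases hu : u = 1
  · simp [hu]
  · obtain ⟨g, hg⟩ := h z u hz1 hu
    have h2 := Subgroup.mem_center_iff.1 hz
      ⟨g⁻¹ * v * g, by simpa using hn.conj_mem _ v.2 g⁻¹⟩
    have h3 := congrArg (fun w : N => (w : G)) h2
    simp only [Subgroup.coe_mul] at h3
    apply Subtype.ext
    rw [Subgroup.coe_mul, Subgroup.coe_mul, hg]
    calc g * (z : G) * g⁻¹ * (v : G) = g * ((z : G) * (g⁻¹ * v * g)) * g⁻¹ := by group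
      _ = g * ((g⁻¹ * v * g) * (z : G)) * g⁻¹ := by rw [h3]
      _ = _ := by group

end Cfsg.Agent.Perm.RegularNormal
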