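import Mathlib
import Cfsg.Prelude.Def_Perm
import Cfsg.Prelude.Def_Characters
import Cfsg.Agent.Lib.Characters.Inner

/-! The complex permutation module: constituents, equivariant maps, bilinear form. -/

set_option autoImplicit false

namespace Cfsg.Agent.Perm.PermModule

open Module Cfsg.Agent.Characters

universe u w

variable {G : Type u} [Group G] {Ω : Type w} [MulAction G Ω]

/-- The permutation character. -/
noncomputable def permChar (G : Type u) [Group G] (Ω : Type w) [MulAction G Ω] : G → ℂ :=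
  fun g => (Nat.card (MulAction.fixedBy Ω g) : ℂ)

theorem permRep_apply (g : G) (v : Ω → ℂ) (x : Ω) :
    Cfsg.permRep ℂ G Ω g v x = v (g⁻¹ • x) := rfl

theorem permRep_eq : Cfsg.permRep ℂ G Ω = funRep G Ω := by
  ext g v x
  rfl

theorem character_permRep [Finite Ω] :
    (Cfsg.permRep ℂ G Ω).character = permChar G Ω := by
  rw [permRep_eq]
  exact funext (funRep_character Ω)

/-- `S` commutes with the action. -/
def IsEquivariant (S : (Ω → ℂ) →ₗ[ℂ] (Ω → ℂ)) : Prop :=
  ∀ (g : G) (v : Ω → ℂ), S (Cfsg.permRep ℂ G Ω g v) = Cfsg.permRep ℂ G Ω g (S v)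

theorem mem_invariants_iff (S : (Ω → ℂ) →ₗ[ℂ] (Ω → ℂ)) :
    S ∈ ((Cfsg.permRep ℂ G Ω).linHom (Cfsg.permRep ℂ G Ω)).invariants ↔ IsEquivariant (G := G) S := by
  rw [Representation.mem_invariants]
  simp only [Representation.linHom_apply]
  rw [Representation.mem_linHom_invariants_iff_isIntertwining]
  exact ⟨fun h => h.isIntertwining, fun h => ⟨h⟩⟩

/-- The character of an invariant subspace. -/
noncomputable def subChar (U : Submodule ℂ (Ω → ℂ))
    (hU : IsInvariantUnder (Cfsg.permRep ℂ G Ω) U) : G → ℂ :=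
  (subRep _ U hU).character

/-- An irreducible invariant subspace of the permutation module. -/
def IsIrr (G : Type u) [Group G] {Ω : Type w} [MulAction G Ω] (U : Submodule ℂ (Ω → ℂ)) : Prop :=
  ∃ hU : IsInvariantUnder (Cfsg.permRep ℂ G Ω) U, (subRep _ U hU).IsIrreducible

/-- The inclusion of an invariant subspace. -/
noncomputable def incl (U : Submodule ℂ (Ω → ℂ))
    (hU : IsInvariantUnder (Cfsg.permRep ℂ G Ω) U) :
    Representation.IntertwiningMap (subRep _ U hU) (Cfsg.permRep ℂ G Ω) :=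
  U.subtype.intertwiningMap_of_isIntertwiningMap _ _ fun _ _ => rfl

theorem isIrrCharacter_subChar [Finite Ω] {U : Submodule ℂ (Ω → ℂ)}
    {hU : IsInvariantUnder (Cfsg.permRep ℂ G Ω) U} (hirr : (subRep _ U hU).IsIrreducible) :
    Cfsg.IsIrrCharacter G (subChar U hU) := by
  haveI := hirr
  exact isIrrCharacter_character _

variable [Fintype G]

theorem classInner_subChar [Finite Ω] (U : Submodule ℂ (Ω → ℂ))
    (hU : IsInvariantUnder (Cfsg.permRep ℂ G Ω) U) :
    Cfsg.classInner (permChar G Ω) (subChar U hU) =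
      (finrank ℂ (Representation.IntertwiningMap (subRep _ U hU) (Cfsg.permRep ℂ G Ω)) : ℂ) := by
  rw [← character_permRep]
  exact classInner_character _ _

theorem classInner_subChar_ne_zero [Finite Ω] {U : Submodule ℂ (Ω → ℂ)}
    (hU : IsInvariantUnder (Cfsg.permRep ℂ G Ω) U) (hU0 : U ≠ ⊥) :
    Cfsg.classInner (permChar G Ω) (subChar U hU) ≠ 0 := by
  rw [classInner_subChar U hU, Nat.cast_ne_zero]
  intro h
  haveI : Module.Finite ℂ
      (Representation.IntertwiningMap (subRep _ U hU) (Cfsg.permRep ℂ G Ω)) :=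
    FiniteDimensional.of_injective
      ({ toFun := fun f => f.toLinearMap, map_add' := fun _ _ => rfl,
         map_smul' := fun _ _ => rfl } :
        Representation.IntertwiningMap (subRep _ U hU) (Cfsg.permRep ℂ G Ω) →ₗ[ℂ]
          (U →ₗ[ℂ] (Ω → ℂ)))
      (Representation.IntertwiningMap.toLinearMap_injective _ _)
  haveI := finrank_zero_iff.1 h
  apply hU0
  rw [Submodule.eq_bot_iff]
  intro v hv
  exact congrArg (fun f : Representation.IntertwiningMap (subRep _ U hU) (Cfsg.permRep ℂ G Ω) =>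
    f ⟨v, hv⟩) (Subsingleton.elim (incl U hU) 0)

/-- Every constituent is realised inside the module. -/
theorem exists_sub_of_ne_zero [Finite Ω] {χ : G → ℂ} (hχ : Cfsg.IsIrrCharacter G χ)
    (h : Cfsg.classInner (permChar G Ω) χ ≠ 0) :
    ∃ (U : Submodule ℂ (Ω → ℂ)) (hU : IsInvariantUnder (Cfsg.permRep ℂ G Ω) U),
      (subRep _ U hU).IsIrreducible ∧ subChar U hU = χ := by
  obtain ⟨n, σ, hσ, rfl⟩ := hχ
  haveI := hσ
  rw [← character_permRep, classInner_character, Nat.cast_ne_zero] at h
  haveI := Module.nontrivial_of_finrank_pos (Nat.pos_of_ne_zero h)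
  obtain ⟨f, hf⟩ := exists_ne (0 : Representation.IntertwiningMap σ (Cfsg.permRep ℂ G Ω))
  have hinj : Function.Injective f := (Representation.IsIrreducible.injective_or_eq_zero f).resolve_right hf
  have hU : IsInvariantUnder (Cfsg.permRep ℂ G Ω) (LinearMap.range f.toLinearMap) :=
    isInvariantUnder_range (ρ := σ) f.toLinearMap (f.isIntertwining _ _)
  have φ : σ.Equiv (subRep _ _ hU) :=
    Representation.Equiv.mk (LinearEquiv.ofInjective f.toLinearMap hinj) fun g => by
      refine LinearMap.ext fun v => Subtype.ext ?_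
      exact f.isIntertwining _ _ g v
  exact ⟨_, hU, (isIrreducible_congr φ).1 hσ, (Representation.char_iso φ).symm⟩

/-- An irreducible invariant subspace with multiplicity one: every equivariant map into the
module from it is a multiple of the inclusion. -/
theorem exists_scalar_of_mult_one [Finite Ω] {U : Submodule ℂ (Ω → ℂ)}
    {hU : IsInvariantUnder (Cfsg.permRep ℂ G Ω) U} (hirr : (subRep _ U hU).IsIrreducible)
    (h : Cfsg.classInner (permChar G Ω) (subChar U hU) = 1)
    (f : Representation.IntertwiningMap (subRep _ U hU) (Cfsg.permRep ℂ G Ω)) :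
    ∃ c : ℂ, ∀ v : U, f v = c • (v : Ω → ℂ) := by
  rw [classInner_subChar U hU, Nat.cast_eq_one] at h
  have hne : incl U hU ≠ 0 := by
    intro h0
    haveI := hirr
    obtain ⟨v, hv⟩ := @exists_ne U (nontrivial_of_isIrreducible (subRep _ U hU)) 0
    apply hv
    apply Subtype.ext
    exact congrArg (fun k : Representation.IntertwiningMap (subRep _ U hU)
      (Cfsg.permRep ℂ G Ω) => k v) h0
  obtain ⟨c, hc⟩ := exists_smul_eq_of_finrank_eq_one h hne f
  exact ⟨c, fun v => by rw [← hc]; rfl⟩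

/-- An induction principle along irreducible subspaces. -/
theorem invariant_induction [Finite Ω] (P : Submodule ℂ (Ω → ℂ) → Prop) (h0 : P ⊥)
    (hirr : ∀ U, IsIrr G U → P U)
    (hadd : ∀ U U', IsInvariantUnder (Cfsg.permRep ℂ G Ω) U →
      IsInvariantUnder (Cfsg.permRep ℂ G Ω) U' → Disjoint U U' → P U → P U' → P (U ⊔ U'))
    {W : Submodule ℂ (Ω → ℂ)} (hW : IsInvariantUnder (Cfsg.permRep ℂ G Ω) W) : P W := by
  induction hn : finrank ℂ W using Nat.strong_induction_on generalizing W with
  | _ n ih =>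
    by_cases hW0 : W = ⊥
    · exact hW0 ▸ h0
    obtain ⟨U, hU, hle, hU0, hUirr⟩ := exists_irreducible_le _ hW hW0
    obtain ⟨C, hC, hcompl⟩ := exists_invariant_compl _ hU
    have hWeq : U ⊔ C ⊓ W = W := by
      rw [← sup_inf_assoc_of_le C hle, hcompl.sup_eq_top, top_inf_eq]
    have hdis : Disjoint U (C ⊓ W) := hcompl.disjoint.mono_right inf_le_left
    have hlt : finrank ℂ (C ⊓ W : Submodule ℂ (Ω → ℂ)) < n := by
      rw [← hn]
      refine Submodule.finrank_lt_finrank_of_lt (lt_of_le_of_ne inf_le_right fun h => hU0 ?_)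
      rw [h] at hdis
      exact hdis.eq_bot_of_le hle
    rw [← hWeq]
    exact hadd _ _ hU (isInvariantUnder_inf hC hW) hdis (hirr _ ⟨hU, hUirr⟩)
      (ih _ hlt (isInvariantUnder_inf hC hW) rfl)

/-- Linear maps agreeing on all irreducible subspaces are equal. -/
theorem ext_irr [Finite Ω] {M : Type*} [AddCommGroup M] [Module ℂ M]
    {S T : (Ω → ℂ) →ₗ[ℂ] M} (h : ∀ U, IsIrr G U → ∀ v ∈ U, S v = T v) : S = T := by
  have hle : (⊤ : Submodule ℂ (Ω → ℂ)) ≤ LinearMap.eqLocus S T :=
    invariant_induction (G := G) (fun W => W ≤ LinearMap.eqLocus S T) bot_le (fun U hU v hv => h U hU v hv)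
      (fun _ _ _ _ _ h1 h2 => sup_le h1 h2) (fun _ _ _ => Submodule.mem_top)
  exact LinearMap.ext fun v => hle Submodule.mem_top

/-- Two irreducible subspaces with the same character of multiplicity one coincide. -/
theorem eq_of_subChar_eq [Finite Ω] {U U' : Submodule ℂ (Ω → ℂ)}
    {hU : IsInvariantUnder (Cfsg.permRep ℂ G Ω) U}
    {hU' : IsInvariantUnder (Cfsg.permRep ℂ G Ω) U'}
    (hirr : (subRep _ U hU).IsIrreducible) (hirr' : (subRep _ U' hU').IsIrreducible)
    (h1 : Cfsg.classInner (permChar G Ω) (subChar U hU) = 1)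
    (he : subChar U hU = subChar U' hU') : U = U' := by
  haveI := hirr
  haveI := hirr'
  have hdim : Cfsg.classInner (subRep _ U' hU').character (subRep _ U hU).character = 1 := by
    rw [show (subRep _ U hU).character = (subRep _ U' hU').character from he]
    exact classInner_isIrr_self (isIrrCharacter_character _)
  rw [classInner_character, Nat.cast_eq_one] at hdim
  haveI := Module.nontrivial_of_finrank_pos (R := ℂ) (hdim ▸ Nat.one_pos)
  obtain ⟨φ, hφ⟩ := exists_ne
    (0 : Representation.IntertwiningMap (subRep _ U hU) (subRep _ U' hU'))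
  have hbij : Function.Bijective φ := (Representation.IsIrreducible.bijective_or_eq_zero φ).resolve_right hφ
  obtain ⟨c, hc⟩ := exists_scalar_of_mult_one hirr h1
    ((U'.subtype ∘ₗ φ.toLinearMap).intertwiningMap_of_isIntertwiningMap _ _
      fun g v => congrArg Subtype.val (φ.isIntertwining _ _ g v))
  refine le_antisymm ?_ fun v hv => ?_
  · intro v hv
    have hc0 : c ≠ 0 := by
      rintro rfl
      obtain ⟨x, hx⟩ := @exists_ne U (nontrivial_of_isIrreducible (subRep _ U hU)) 0
      apply hx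
      apply hbij.1
      rw [map_zero]
      apply Subtype.ext
      exact (hc x).trans (zero_smul ℂ _)
    have h2 : (φ ⟨v, hv⟩ : Ω → ℂ) = c • v := hc ⟨v, hv⟩
    rw [show v = c⁻¹ • (φ ⟨v, hv⟩ : Ω → ℂ) by rw [h2, inv_smul_smul₀ hc0]]
    exact U'.smul_mem _ (φ ⟨v, hv⟩).2
  · obtain ⟨x, hx⟩ := hbij.2 ⟨v, hv⟩
    have h2 : (φ x : Ω → ℂ) = c • (x : Ω → ℂ) := hc x
    rw [hx] at h2
    rw [show v = c • (x : Ω → ℂ) from h2]
    exact U.smul_mem _ x.2

/-- Burnside: the principal character has multiplicity one. -/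
theorem classInner_permChar_one [Fintype Ω] [MulAction.IsPretransitive G Ω] [Nonempty Ω] :
    Cfsg.classInner (permChar G Ω) (fun _ => 1) = 1 := by
  classical
  rw [classInner_def]
  simp only [permChar, map_one, mul_one]
  have h := MulAction.sum_card_fixedBy_eq_card_orbits_mul_card_group G Ω
  have hq : Fintype.card (MulAction.orbitRel.Quotient G Ω) = 1 := by
    rw [Fintype.card_eq_one_iff_nonempty_unique]
    haveI : Subsingleton (MulAction.orbitRel.Quotient G Ω) :=
      MulAction.pretransitive_iff_subsingleton_quotient G Ω |>.1 inferInstance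
    obtain ⟨x⟩ := ‹Nonempty Ω›
    exact ⟨uniqueOfSubsingleton (Quotient.mk'' x)⟩
  rw [hq, one_mul] at h
  have h' : ∀ g : G, Nat.card (MulAction.fixedBy Ω g) = Fintype.card (MulAction.fixedBy Ω g) :=
    fun g => Nat.card_eq_fintype_card
  rw [← Nat.cast_sum, Finset.sum_congr rfl (fun g _ => h' g), h, ← Nat.card_eq_fintype_card,
    inv_mul_cancel₀ natCard_ne_zero]

section Form

variable [Fintype Ω]

/-- The standard bilinear form. -/
def form (u v : Ω → ℂ) : ℂ := ∑ x, u x * v x

theorem form_comm (u v : Ω → ℂ) : form u v = form v u := by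
  simp only [form, mul_comm]

theorem form_single [DecidableEq Ω] (u : Ω → ℂ) (x : Ω) : form u (Pi.single x 1) = u x := by
  simp [form, Pi.single_apply]

theorem form_nondeg {u u' : Ω → ℂ} (h : ∀ v, form u v = form u' v) : u = u' := by
  classical
  funext x
  rw [← form_single u x, h, form_single]

theorem form_permRep (g : G) (u v : Ω → ℂ) :
    form (Cfsg.permRep ℂ G Ω g u) v = form u (Cfsg.permRep ℂ G Ω g⁻¹ v) := by
  refine Fintype.sum_equiv (MulAction.toPerm g⁻¹) _ _ fun x => ?_
  simp [permRep_apply]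

/-- The form as a bilinear map. -/
noncomputable def formLin : (Ω → ℂ) →ₗ[ℂ] (Ω → ℂ) →ₗ[ℂ] ℂ :=
  LinearMap.mk₂ ℂ form
    (fun a b c => by simp [form, add_mul, Finset.sum_add_distrib])
    (fun k a b => by simp [form, Finset.mul_sum, mul_assoc])
    (fun a b c => by simp [form, mul_add, Finset.sum_add_distrib])
    (fun k a b => by simp [form, Finset.mul_sum, mul_left_comm])

theorem formLin_apply (u v : Ω → ℂ) : formLin u v = form u v := rfl

end Form

/-- The isotypic operator of a character. -/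
noncomputable def isoOp (Ω : Type w) [MulAction G Ω] (χ : G → ℂ) : (Ω → ℂ) →ₗ[ℂ] (Ω → ℂ) :=
  (χ 1 * (Nat.card G : ℂ)⁻¹) • ∑ g : G, (starRingEnd ℂ) (χ g) • Cfsg.permRep ℂ G Ω g

theorem isClassFunction_conj {χ : G → ℂ} (hχ : Cfsg.IsCharacter G χ) :
    Cfsg.IsClassFunction G fun g => (starRingEnd ℂ) (χ g) := fun g h =>
  congrArg (starRingEnd ℂ) (char_isClassFunction hχ g h)

theorem isEquivariant_isoOp {χ : G → ℂ} (hχ : Cfsg.IsCharacter G χ) :
    IsEquivariant (G := G) (isoOp Ω χ) := by
  intro g v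
  simp only [isoOp, LinearMap.smul_apply, map_smul]
  rw [sum_smul_comm _ (isClassFunction_conj hχ) g v]

/-- On an irreducible subspace the isotypic operator is a scalar, given by the inner product. -/
theorem isoOp_apply [Finite Ω] {U : Submodule ℂ (Ω → ℂ)}
    {hU : IsInvariantUnder (Cfsg.permRep ℂ G Ω) U} (hirr : (subRep _ U hU).IsIrreducible)
    {χ : G → ℂ} (hχ : Cfsg.IsCharacter G χ) {v : Ω → ℂ} (hv : v ∈ U) :
    isoOp Ω χ v = (χ 1 / subChar U hU 1 * Cfsg.classInner (subChar U hU) χ) • v := by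
  haveI := hirr
  set σ := subRep _ U hU with hσ
  obtain ⟨c, hc⟩ := schur_scalar σ (∑ g : G, (starRingEnd ℂ) (χ g) • σ g)
    (sum_smul_comm σ (isClassFunction_conj hχ))
  have htr := trace_sum_smul σ fun g => (starRingEnd ℂ) (χ g)
  rw [hc, map_smul, LinearMap.trace_id, smul_eq_mul] at htr
  have h1 : (subChar U hU 1 : ℂ) = finrank ℂ U := Representation.char_one _
  have hd : (finrank ℂ U : ℂ) ≠ 0 := Nat.cast_ne_zero.2 (finrank_pos_of_isIrreducible σ).ne'
  have hsum : (∑ g : G, (starRingEnd ℂ) (χ g) • Cfsg.permRep ℂ G Ω g) v = c • v := by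
    have := congrArg (fun L : U →ₗ[ℂ] U => ((L ⟨v, hv⟩ : U) : Ω → ℂ)) hc
    simpa [σ, LinearMap.sum_apply] using this
  have hin : Cfsg.classInner (subChar U hU) χ =
      (Nat.card G : ℂ)⁻¹ * (c * finrank ℂ U) := by
    rw [htr, classInner_def]
    congr 1
    exact Finset.sum_congr rfl fun g _ => mul_comm _ _
  rw [isoOp, LinearMap.smul_apply, hsum, hin, smul_smul, h1]
  congr 1
  field_simp

theorem isoOp_apply_self [Finite Ω] {U : Submodule ℂ (Ω → ℂ)}
    {hU : IsInvariantUnder (Cfsg.permRep ℂ G Ω) U} (hirr : (subRep _ U hU).IsIrreducible)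
    {v : Ω → ℂ} (hv : v ∈ U) : isoOp Ω (subChar U hU) v = v := by
  have hi := isIrrCharacter_subChar hirr
  rw [isoOp_apply hirr (isCharacter_of_isIrr hi) hv, classInner_isIrr_self hi,
    div_self (irr_one_ne_zero hi), one_mul, one_smul]

theorem isoOp_apply_ne [Finite Ω] {U : Submodule ℂ (Ω → ℂ)}
    {hU : IsInvariantUnder (Cfsg.permRep ℂ G Ω) U} (hirr : (subRep _ U hU).IsIrreducible)
    {χ : G → ℂ} (hχ : Cfsg.IsIrrCharacter G χ) (hne : subChar U hU ≠ χ)
    {v : Ω → ℂ} (hv : v ∈ U) : isoOp Ω χ v = 0 := by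
  rw [isoOp_apply hirr (isCharacter_of_isIrr hχ) hv,
    classInner_isIrr_ne (isIrrCharacter_subChar hirr) hχ hne, mul_zero, zero_smul]

end Cfsg.Agent.Perm.PermModule
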