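import Mathlib
import Cfsg.Agent.Lib.Perm.PermModule

/-! The centraliser ring of a permutation representation. -/

set_option autoImplicit false

namespace Cfsg.Agent.Perm.CentraliserRing

open Module Cfsg.Agent.Characters Cfsg.Agent.Perm.PermModule

universe u w

variable {G : Type u} [Group G] [Fintype G] {Ω : Type w} [Fintype Ω] [MulAction G Ω]

/-- Multiplicity-freeness of the permutation character. -/
def IsMultFree (G : Type u) [Group G] [Fintype G] (Ω : Type w) [MulAction G Ω] : Prop :=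
  ∀ χ : G → ℂ, Cfsg.IsIrrCharacter G χ →
    Cfsg.classInner (permChar G Ω) χ = 0 ∨ Cfsg.classInner (permChar G Ω) χ = 1

/-- The centraliser ring is commutative. -/
def IsCommRing' (G : Type u) [Group G] (Ω : Type w) [MulAction G Ω] : Prop :=
  ∀ S T : (Ω → ℂ) →ₗ[ℂ] (Ω → ℂ), IsEquivariant (G := G) S → IsEquivariant (G := G) T →
    S ∘ₗ T = T ∘ₗ S

theorem mult_one_of_multFree (h : IsMultFree G Ω) {U : Submodule ℂ (Ω → ℂ)}
    {hU : IsInvariantUnder (Cfsg.permRep ℂ G Ω) U} (hirr : (subRep _ U hU).IsIrreducible) :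
    Cfsg.classInner (permChar G Ω) (subChar U hU) = 1 := by
  refine (h _ (isIrrCharacter_subChar hirr)).resolve_left
    (classInner_subChar_ne_zero hU fun h0 => ?_)
  subst h0
  haveI := hirr
  haveI := nontrivial_of_isIrreducible (subRep _ ⊥ hU)
  exact not_subsingleton (⊥ : Submodule ℂ (Ω → ℂ)) inferInstance

/-- On a multiplicity-free module every equivariant map is scalar on irreducible subspaces. -/
theorem exists_scalar (h : IsMultFree G Ω) {U : Submodule ℂ (Ω → ℂ)} (hUi : IsIrr G U)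
    {S : (Ω → ℂ) →ₗ[ℂ] (Ω → ℂ)} (hS : IsEquivariant (G := G) S) :
    ∃ c : ℂ, ∀ v ∈ U, S v = c • v := by
  obtain ⟨hU, hirr⟩ := hUi
  obtain ⟨c, hc⟩ := exists_scalar_of_mult_one hirr (mult_one_of_multFree h hirr)
    ((S ∘ₗ U.subtype).intertwiningMap_of_isIntertwiningMap _ _ fun g v => hS g v)
  exact ⟨c, fun v hv => hc ⟨v, hv⟩⟩

theorem isCommRing_of_multFree (h : IsMultFree G Ω) : IsCommRing' G Ω := by
  intro S T hS hT
  refine ext_irr (G := G) fun U hU v hv => ?_
  obtain ⟨a, ha⟩ := exists_scalar h hU hS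
  obtain ⟨b, hb⟩ := exists_scalar h hU hT
  simp only [LinearMap.comp_apply, ha v hv, hb v hv, map_smul, smul_smul, mul_comm a b]

theorem multFree_of_isCommRing (h : IsCommRing' G Ω) : IsMultFree G Ω := by
  intro χ hχ
  by_contra hne
  push Not at hne
  obtain ⟨U, hU, hirr, rfl⟩ := exists_sub_of_ne_zero hχ hne.1
  haveI := hirr
  haveI : Nontrivial U := nontrivial_of_isIrreducible (subRep _ U hU)
  obtain ⟨C, hC, hcompl⟩ := exists_invariant_compl _ hU
  let p : (Ω → ℂ) →ₗ[ℂ] U := U.projectionOnto C hcompl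
  have hp : ∀ g v, p (Cfsg.permRep ℂ G Ω g v) = subRep _ U hU g (p v) := by
    intro g v
    have hp1 : ∀ u : U, p (u : Ω → ℂ) = u := fun u =>
      Submodule.projectionOnto_apply_left hcompl u
    have hp2 : ∀ c : Ω → ℂ, c ∈ C → p c = 0 := fun c hc =>
      (Submodule.projectionOnto_apply_eq_zero_iff hcompl).2 hc
    obtain ⟨a, b, rfl⟩ : ∃ (a : U) (b : C), (a : Ω → ℂ) + b = v :=
      ⟨(Submodule.prodEquivOfIsCompl U C hcompl).symm v |>.1,
        (Submodule.prodEquivOfIsCompl U C hcompl).symm v |>.2,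
        (Submodule.prodEquivOfIsCompl U C hcompl).apply_symm_apply v⟩
    rw [map_add, map_add, map_add, hp1, hp2 _ b.2, hp2 _ (hC g _ b.2), add_zero, add_zero,
      ← subRep_apply_coe _ U hU, hp1]
  have hp1 : ∀ u : U, p (u : Ω → ℂ) = u := fun u => Submodule.projectionOnto_apply_left hcompl u
  apply hne.2
  rw [classInner_subChar U hU, Nat.cast_eq_one]
  have hincl : incl U hU ≠ 0 := by
    intro h0
    obtain ⟨x, hx⟩ := exists_ne (0 : U)
    exact hx (Subtype.ext (congrArg
      (fun k : Representation.IntertwiningMap (subRep _ U hU) (Cfsg.permRep ℂ G Ω) => k x) h0))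
  refine finrank_eq_one (incl U hU) hincl fun f => ?_
  obtain ⟨c, hc⟩ := schur_scalar (subRep _ U hU) (p ∘ₗ f.toLinearMap) fun g v => by
    show p (f (subRep _ U hU g v)) = _
    rw [f.isIntertwining, hp]
    rfl
  refine ⟨c, ?_⟩
  have hS : IsEquivariant (G := G) (f.toLinearMap ∘ₗ p) := fun g v => by
    show f (p (Cfsg.permRep ℂ G Ω g v)) = _
    rw [hp, f.isIntertwining]
    rfl
  have hT : IsEquivariant (G := G) (U.subtype ∘ₗ p) := fun g v => by
    show ((p (Cfsg.permRep ℂ G Ω g v) : U) : Ω → ℂ) = _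
    rw [hp]
    rfl
  refine DFunLike.ext _ _ fun u => ?_
  have h1 := congrArg (fun L : (Ω → ℂ) →ₗ[ℂ] (Ω → ℂ) => L (u : Ω → ℂ)) (h _ _ hS hT)
  simp only [LinearMap.comp_apply, Submodule.subtype_apply, hp1] at h1
  have h2 : p (f u) = c • u := congrArg (fun L : U →ₗ[ℂ] U => L u) hc
  show c • (u : Ω → ℂ) = f u
  rw [show f u = f.toLinearMap u from rfl, h1]
  show c • (u : Ω → ℂ) = ((p (f u) : U) : Ω → ℂ)
  rw [h2]
  rfl

/-- Every element of the centraliser ring is symmetric. -/
def IsSymm (G : Type u) [Group G] (Ω : Type w) [Fintype Ω] [MulAction G Ω] : Prop :=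
  ∀ S : (Ω → ℂ) →ₗ[ℂ] (Ω → ℂ), IsEquivariant (G := G) S → ∀ u v, form (S u) v = form u (S v)

theorem form_isoOp (χ : G → ℂ) (hχ : Cfsg.IsCharacter G χ) (u v : Ω → ℂ) :
    form (isoOp Ω χ u) v = form u (isoOp Ω (fun g => (starRingEnd ℂ) (χ g)) v) := by
  simp only [← formLin_apply, isoOp, LinearMap.smul_apply, LinearMap.sum_apply, map_smul,
    map_sum, smul_eq_mul, Finset.mul_sum]
  refine Fintype.sum_equiv (Equiv.inv G) _ _ fun g => ?_
  have h1 : (starRingEnd ℂ) (χ 1) = χ 1 := by
    obtain ⟨n, hn⟩ := char_one_nat hχ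
    rw [hn, map_natCast]
  simp only [Equiv.inv_apply, formLin_apply, form_permRep, char_inv hχ, Complex.conj_conj, h1]

/-- In the symmetric case the centraliser ring is commutative. -/
theorem isCommRing_of_isSymm (h : IsSymm G Ω) : IsCommRing' G Ω := by
  intro S T hS hT
  refine LinearMap.ext fun u => form_nondeg fun v => ?_
  have hST : IsEquivariant (G := G) (S ∘ₗ T) := fun g w => by
    simp only [LinearMap.comp_apply, hT g w, hS g (T w)]
  rw [h _ hST, LinearMap.comp_apply, LinearMap.comp_apply, h T hT, h S hS]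

theorem real_of_isSymm (h : IsSymm G Ω) {χ : G → ℂ} (hχ : Cfsg.IsIrrCharacter G χ)
    (hne : Cfsg.classInner (permChar G Ω) χ ≠ 0) (g : G) : (starRingEnd ℂ) (χ g) = χ g := by
  obtain ⟨U, hU, hirr, rfl⟩ := exists_sub_of_ne_zero hχ hne
  haveI := hirr
  set χ := subChar U hU
  have hc : Cfsg.IsCharacter G χ := isCharacter_of_isIrr hχ
  haveI : Nontrivial U := nontrivial_of_isIrreducible (subRep _ U hU)
  obtain ⟨x, hx⟩ := exists_ne (0 : U)
  have hP : isoOp Ω χ = isoOp Ω (fun g => (starRingEnd ℂ) (χ g)) := by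
    refine LinearMap.ext fun v => form_nondeg fun u => ?_
    rw [form_comm (isoOp Ω (fun g => (starRingEnd ℂ) (χ g)) v), ← form_isoOp χ hc,
      h _ (isEquivariant_isoOp hc), form_comm]
  have h1 := isoOp_apply_self hirr x.2
  rw [hP] at h1
  have hcc : Cfsg.IsClassFunction G fun g => (starRingEnd ℂ) (χ g) := isClassFunction_conj hc
  -- the trace on `U`
  obtain ⟨c, hcs⟩ := schur_scalar (subRep _ U hU) (∑ g : G, χ g • subRep _ U hU g)
    (sum_smul_comm _ (char_isClassFunction hc))
  have htr := trace_sum_smul (subRep _ U hU) χ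
  rw [hcs, map_smul, LinearMap.trace_id, smul_eq_mul] at htr
  have hd : (finrank ℂ U : ℂ) ≠ 0 :=
    Nat.cast_ne_zero.2 (finrank_pos_of_isIrreducible (subRep _ U hU)).ne'
  have hχ1 : χ 1 = (finrank ℂ U : ℂ) := Representation.char_one _
  have hsum : (∑ g : G, χ g • Cfsg.permRep ℂ G Ω g) (x : Ω → ℂ) = c • (x : Ω → ℂ) := by
    have := congrArg (fun L : U →ₗ[ℂ] U => ((L x : U) : Ω → ℂ)) hcs
    simpa [LinearMap.sum_apply] using this
  simp only [isoOp, Complex.conj_conj, LinearMap.smul_apply, hsum, smul_smul] at h1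
  rw [show (starRingEnd ℂ) (χ 1) = χ 1 by rw [hχ1, map_natCast]] at h1
  have hx0 : (x : Ω → ℂ) ≠ 0 := fun e => hx (Subtype.ext e)
  have hcc1 : χ 1 * (Nat.card G : ℂ)⁻¹ * c = 1 := by
    by_contra hn
    exact hn (smul_left_injective ℂ hx0 (h1.trans (one_smul ℂ _).symm))
  have hsq : Cfsg.classInner χ (fun g => (starRingEnd ℂ) (χ g)) = 1 := by
    rw [classInner_def]
    simp only [Complex.conj_conj]
    rw [show ∑ g : G, χ g * χ g = c * (finrank ℂ U : ℂ) from htr.symm, ← hχ1]
    linear_combination hcc1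
  have hself := classInner_isIrr_self hχ
  have hz : Cfsg.classInner (χ - fun g => (starRingEnd ℂ) (χ g))
      (χ - fun g => (starRingEnd ℂ) (χ g)) = 0 := by
    have hbar : Cfsg.classInner (fun g => (starRingEnd ℂ) (χ g))
        (fun g => (starRingEnd ℂ) (χ g)) = 1 := by
      rw [← hself, classInner_def, classInner_def]
      congr 1
      exact Finset.sum_congr rfl fun g _ => by rw [Complex.conj_conj, mul_comm]
    have hrev : Cfsg.classInner (fun g => (starRingEnd ℂ) (χ g)) χ = 1 := by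
      rw [classInner_conj_symm χ (fun g => (starRingEnd ℂ) (χ g)), hsq, map_one]
    rw [classInner_sub_left, classInner_sub_right, classInner_sub_right, hself, hsq, hbar, hrev]
    ring
  have := congrFun (classInner_self_eq_zero.1 hz) g
  simp only [Pi.sub_apply, Pi.zero_apply] at this
  exact (sub_eq_zero.1 this).symm

theorem isSymm_of_real (h : IsMultFree G Ω)
    (hreal : ∀ χ : G → ℂ, Cfsg.IsIrrCharacter G χ → Cfsg.classInner (permChar G Ω) χ ≠ 0 →
      ∀ g : G, (starRingEnd ℂ) (χ g) = χ g) : IsSymm G Ω := by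
  have horth : ∀ U U' : Submodule ℂ (Ω → ℂ), IsIrr G U → IsIrr G U' → U ≠ U' →
      ∀ u ∈ U, ∀ v ∈ U', form u v = 0 := by
    rintro U U' ⟨hU, hirr⟩ ⟨hU', hirr'⟩ hne u hu v hv
    set χ := subChar U hU
    have hχ : Cfsg.IsIrrCharacter G χ := isIrrCharacter_subChar hirr
    have hc : (fun g => (starRingEnd ℂ) (χ g)) = χ := by
      refine funext (hreal χ hχ ?_)
      rw [mult_one_of_multFree h hirr]
      exact one_ne_zero
    calc form u v = form (isoOp Ω χ u) v := by rw [isoOp_apply_self hirr hu]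
      _ = form u (isoOp Ω χ v) := by rw [form_isoOp χ (isCharacter_of_isIrr hχ), hc]
      _ = 0 := by
        rw [isoOp_apply_ne hirr' hχ (fun he => hne ?_) hv, ← formLin_apply, map_zero]
        exact eq_of_subChar_eq hirr hirr' (mult_one_of_multFree h hirr) he.symm
  intro S hS u v
  have h1 : ((formLin (Ω := Ω)).comp S) = (formLin (Ω := Ω)).compl₂ S := by
    refine ext_irr (G := G) fun U hU u hu => ext_irr (G := G) fun U' hU' v hv => ?_
    obtain ⟨a, ha⟩ := exists_scalar h hU hS
    obtain ⟨b, hb⟩ := exists_scalar h hU' hS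
    simp only [LinearMap.comp_apply, LinearMap.compl₂_apply, ha u hu, hb v hv, map_smul,
      LinearMap.smul_apply, smul_eq_mul, formLin_apply]
    by_cases hUU : U = U'
    · subst hUU
      by_cases hv0 : v = 0
      · subst hv0; simp [form]
      · rw [smul_left_injective ℂ hv0 ((ha v hv).symm.trans (hb v hv))]
    · rw [horth U U' hU hU' hUU u hu v hv, mul_zero, mul_zero]
  exact congrArg (fun L : (Ω → ℂ) →ₗ[ℂ] (Ω → ℂ) →ₗ[ℂ] ℂ => L u v) h1

section Orbital

open scoped Classical in
/-- The adjacency operator of the orbital of `(a, b)`. -/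
noncomputable def orbital (G : Type u) [Group G] {Ω : Type w} [Fintype Ω] [MulAction G Ω]
    (a b : Ω) : (Ω → ℂ) →ₗ[ℂ] (Ω → ℂ) :=
  Matrix.toLin' (Matrix.of fun x y => if (x, y) ∈ MulAction.orbit G (a, b) then (1 : ℂ) else 0)

open scoped Classical in
theorem orbital_apply (a b : Ω) (v : Ω → ℂ) (x : Ω) :
    orbital G a b v x = ∑ y, if (x, y) ∈ MulAction.orbit G (a, b) then v y else 0 := by
  simp [orbital, Matrix.toLin'_apply, Matrix.mulVec, dotProduct]

theorem mem_orbital_smul (g : G) (a b x y : Ω) :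
    (g • x, g • y) ∈ MulAction.orbit G (a, b) ↔ (x, y) ∈ MulAction.orbit G (a, b) := by
  rw [show (g • x, g • y) = g • (x, y) from rfl, ← MulAction.orbit_eq_iff, MulAction.orbit_smul,
    MulAction.orbit_eq_iff]

theorem isEquivariant_orbital (a b : Ω) : IsEquivariant (G := G) (orbital G a b) := by
  classical
  intro g v
  funext x
  rw [permRep_apply, orbital_apply, orbital_apply]
  refine Fintype.sum_equiv (MulAction.toPerm g⁻¹) _ _ fun y => ?_
  simp only [MulAction.toPerm_apply, permRep_apply, mem_orbital_smul]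

theorem swap_of_isSymm (h : IsSymm G Ω) (a b : Ω) : ∃ g : G, g • a = b ∧ g • b = a := by
  classical
  have h1 := h _ (isEquivariant_orbital a b) (Pi.single b 1) (Pi.single a 1)
  rw [form_single, form_comm, form_single, orbital_apply, orbital_apply] at h1
  simp only [Pi.single_apply, ← ite_and] at h1
  rw [Finset.sum_eq_single b (by intro y _ hy; simp [hy]) (by simp),
    Finset.sum_eq_single a (by intro y _ hy; simp [hy]) (by simp)] at h1
  simp only [MulAction.mem_orbit_self, if_true, and_true, true_and] at h1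
  by_contra hn
  rw [if_neg fun hm => hn ?_] at h1
  · exact one_ne_zero h1
  · obtain ⟨g, hg⟩ := hm
    exact ⟨g, congrArg Prod.fst hg, congrArg Prod.snd hg⟩

theorem isSymm_of_swap (h : ∀ a b : Ω, ∃ g : G, g • a = b ∧ g • b = a) : IsSymm G Ω := by
  classical
  intro S hS u v
  have hexp : ∀ (w : Ω → ℂ) (y : Ω), S w y = ∑ x, w x * S (Pi.single x 1) y := by
    intro w y
    conv_lhs => rw [pi_eq_sum_univ' w]
    simp
  have hsym : ∀ x y, S (Pi.single x 1) y = S (Pi.single y 1) x := by
    intro x y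
    obtain ⟨g, h1, h2⟩ := h x y
    have he : Cfsg.permRep ℂ G Ω g (Pi.single x (1 : ℂ)) = Pi.single y 1 := by
      funext z
      rw [permRep_apply, Pi.single_apply, Pi.single_apply, ← h1, inv_smul_eq_iff]
    rw [← he, hS g, permRep_apply, show g⁻¹ • x = y from inv_smul_eq_iff.2 h2.symm]
  simp only [form, hexp u, hexp v, Finset.sum_mul, Finset.mul_sum]
  rw [Finset.sum_comm]
  exact Finset.sum_congr rfl fun x _ => Finset.sum_congr rfl fun y _ => by rw [hsym x y]; ring

end Orbital

end Cfsg.Agent.Perm.CentraliserRing
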