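import Mathlib
import Cfsg.Agent.Lib.Perm.CentraliserRing
import Cfsg.Agent.Lib.Characters.Integrality

/-! Subdegrees and the degrees of the constituents of the permutation character. -/

set_option autoImplicit false

namespace Cfsg.Agent.Perm.Subdegrees

open Module Cfsg.Agent.Characters Cfsg.Agent.Perm.PermModule Cfsg.Agent.Perm.CentraliserRing

universe u w

theorem trace_toLin {n : Type*} [Fintype n] [DecidableEq n] (M : Matrix n n ℂ) :
    LinearMap.trace ℂ (n → ℂ) (Matrix.toLin' M) = M.trace := by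
  rw [LinearMap.trace_eq_matrix_trace ℂ (Pi.basisFun ℂ n), ← Matrix.toLin_eq_toLin',
    LinearMap.toMatrix_toLin]

/-- An eigenvalue of an integer matrix is an algebraic integer. -/
theorem isIntegral_eigen {n : Type*} [Fintype n] [DecidableEq n] (M : Matrix n n ℤ) {v : n → ℂ}
    (hv : v ≠ 0) {μ : ℂ} (h : Matrix.toLin' (M.map (Int.cast : ℤ → ℂ)) v = μ • v) :
    IsIntegral ℤ μ := by
  let φ : Matrix n n ℤ →ₐ[ℤ] Module.End ℂ (n → ℂ) :=
    ((Matrix.toLinAlgEquiv' (R := ℂ) (n := n)).toRingEquiv.toRingHom.comp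
      ((Int.castRingHom ℂ).mapMatrix)).toIntAlgHom
  obtain ⟨p, hp, hpM⟩ := (Matrix.isIntegral M).map φ
  refine ⟨p, hp, ?_⟩
  have hφ : φ M = Matrix.toLin' (M.map (Int.cast : ℤ → ℂ)) := rfl
  rw [hφ] at hpM
  have h1 := Module.End.aeval_apply_of_hasEigenvector (p := p.map (algebraMap ℤ ℂ))
    (f := Matrix.toLin' (M.map (Int.cast : ℤ → ℂ))) (μ := μ) (x := v)
    ⟨Module.End.mem_eigenspace_iff.2 h, hv⟩
  rw [Polynomial.aeval_map_algebraMap, Polynomial.aeval_def, hpM, LinearMap.zero_apply,
    Polynomial.eval_map] at h1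
  exact (smul_eq_zero.1 h1.symm).resolve_right hv

variable {G : Type u} [Group G] [Fintype G] {Ω : Type w} [Fintype Ω] [MulAction G Ω]
  [MulAction.IsPretransitive G Ω]

omit [Fintype G] in
/-- A fixed vector is constant. -/
theorem eq_of_fixed {v : Ω → ℂ} (h : ∀ g : G, Cfsg.permRep ℂ G Ω g v = v) (x y : Ω) :
    v x = v y := by
  obtain ⟨g, rfl⟩ := MulAction.exists_smul_eq G x y
  have := congrFun (h g) (g • x)
  rwa [permRep_apply, inv_smul_smul] at this

theorem subChar_ne_one {U : Submodule ℂ (Ω → ℂ)}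
    {hU : IsInvariantUnder (Cfsg.permRep ℂ G Ω) U} (hirr : (subRep _ U hU).IsIrreducible)
    (hle : U ≤ (Cfsg.permSumZero ℂ G Ω).toSubmodule) : subChar U hU ≠ fun _ => 1 := by
  intro h1
  haveI := hirr
  haveI : Nontrivial U := nontrivial_of_isIrreducible (subRep _ U hU)
  obtain ⟨v, hv⟩ := exists_ne (0 : U)
  have hd : (finrank ℂ U : ℂ) = 1 := by
    rw [← congrFun h1 1]
    exact (Representation.char_one _).symm
  have hfix : ∀ g : G, Cfsg.permRep ℂ G Ω g v = v := by
    intro g
    have := rep_apply_eq_id_of_char_eq (subRep _ U hU) g ((congrFun h1 g).trans hd.symm)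
    exact congrArg Subtype.val (congrArg (fun L : U →ₗ[ℂ] U => L v) this)
  apply hv
  apply Subtype.ext
  funext x
  have hsum : ∑ y, (v : Ω → ℂ) y = 0 := hle v.2
  rw [Finset.sum_congr rfl fun y _ => eq_of_fixed hfix y x, Finset.sum_const, nsmul_eq_mul,
    mul_eq_zero] at hsum
  exact hsum.resolve_left (Nat.cast_ne_zero.2 (Finset.card_pos.2 ⟨x, Finset.mem_univ x⟩).ne')

/-- Invariant subspaces of the sum-zero module have dimension divisible by `f`. -/
theorem dvd_finrank {f : ℕ}
    (hf : ∀ χ : G → ℂ, Cfsg.IsIrrCharacter G χ → χ ≠ (fun _ => 1) →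
      Cfsg.classInner (permChar G Ω) χ ≠ 0 → ∃ m : ℕ, χ 1 = (f : ℂ) * m)
    {W : Submodule ℂ (Ω → ℂ)} (hW : IsInvariantUnder (Cfsg.permRep ℂ G Ω) W)
    (hle : W ≤ (Cfsg.permSumZero ℂ G Ω).toSubmodule) : f ∣ finrank ℂ W := by
  refine invariant_induction (G := G)
    (fun W => W ≤ (Cfsg.permSumZero ℂ G Ω).toSubmodule → f ∣ finrank ℂ W)
    (fun _ => by simp) ?_ ?_ hW hle
  · rintro U ⟨hU, hirr⟩ hle
    have hU0 : U ≠ ⊥ := by
      rintro rfl
      haveI := hirr
      haveI := nontrivial_of_isIrreducible (subRep _ ⊥ hU)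
      exact not_subsingleton (⊥ : Submodule ℂ (Ω → ℂ)) inferInstance
    obtain ⟨m, hm⟩ := hf _ (isIrrCharacter_subChar hirr) (subChar_ne_one hirr hle)
      (classInner_subChar_ne_zero hU hU0)
    rw [subChar, Representation.char_one] at hm
    exact ⟨m, by exact_mod_cast hm⟩
  · intro U U' _ _ hd h1 h2 hle
    have := Submodule.finrank_sup_add_finrank_inf_eq U U'
    rw [hd.eq_bot, finrank_bot, add_zero] at this
    rw [this]
    exact dvd_add (h1 (le_sup_left.trans hle)) (h2 (le_sup_right.trans hle))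

open scoped Classical in
/-- The number of points related to `x`. -/
theorem orbital_one (a b x : Ω) :
    orbital G a b (fun _ => 1) x = (Nat.card (MulAction.orbit (MulAction.stabilizer G a) b) : ℂ) := by
  have hinv : ∀ g : G, Cfsg.permRep ℂ G Ω g (orbital G a b fun _ => 1) =
      orbital G a b fun _ => 1 := fun g => by
    rw [← isEquivariant_orbital a b g]
    rfl
  rw [eq_of_fixed hinv x a, orbital_apply, Finset.sum_boole, Nat.card_eq_fintype_card,
    Fintype.card_subtype]
  congr 2
  ext y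
  simp only [Finset.mem_filter, Finset.mem_univ, true_and]
  constructor
  · rintro ⟨g, hg⟩
    exact ⟨⟨g, congrArg Prod.fst hg⟩, congrArg Prod.snd hg⟩
  · rintro ⟨g, rfl⟩
    exact ⟨g, Prod.ext g.2 rfl⟩

/-- The column sums of an orbital equal the row sums. -/
theorem sum_orbital (a b : Ω) (v : Ω → ℂ) :
    ∑ x, orbital G a b v x =
      (Nat.card (MulAction.orbit (MulAction.stabilizer G a) b) : ℂ) * ∑ y, v y := by
  classical
  let c : Ω → ℂ := fun y => ∑ x, if (x, y) ∈ MulAction.orbit G (a, b) then (1 : ℂ) else 0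
  have hv : ∀ v : Ω → ℂ, ∑ x, orbital G a b v x = ∑ y, c y * v y := by
    intro v
    simp only [orbital_apply, c, Finset.sum_mul, ite_mul, one_mul, zero_mul]
    exact Finset.sum_comm
  have hc : ∀ y y' : Ω, c y = c y' := by
    refine eq_of_fixed (G := G) fun g => funext fun y => ?_
    rw [permRep_apply]
    refine Fintype.sum_equiv (MulAction.toPerm g) _ _ fun x => ?_
    rw [MulAction.toPerm_apply, ← mem_orbital_smul g a b x (g⁻¹ • y), smul_inv_smul]
  have h1 : ∑ y, c y = ∑ y : Ω, (Nat.card (MulAction.orbit (MulAction.stabilizer G a) b) : ℂ) := by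
    have := hv fun _ => 1
    simp only [mul_one, orbital_one] at this
    exact this.symm
  rw [hv, Finset.mul_sum]
  refine Finset.sum_congr rfl fun y _ => ?_
  rw [Finset.sum_congr rfl fun z _ => hc z y, Finset.sum_const, Finset.sum_const, nsmul_eq_mul,
    nsmul_eq_mul] at h1
  rw [mul_left_cancel₀ (Nat.cast_ne_zero.2 (Finset.card_pos.2 ⟨y, Finset.mem_univ y⟩).ne') h1]

/-- Frame–Wielandt: the subdegrees are divisible by `f`. -/
theorem dvd_subdegree {f : ℕ}
    (hf : ∀ χ : G → ℂ, Cfsg.IsIrrCharacter G χ → χ ≠ (fun _ => 1) →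
      Cfsg.classInner (permChar G Ω) χ ≠ 0 → ∃ m : ℕ, χ 1 = (f : ℂ) * m)
    (a b : Ω) (hab : b ≠ a) : f ∣ Nat.card (MulAction.orbit (MulAction.stabilizer G a) b) := by
  classical
  set d := Nat.card (MulAction.orbit (MulAction.stabilizer G a) b) with hd
  have hn : (Fintype.card Ω : ℂ) ≠ 0 := Nat.cast_ne_zero.2 (Fintype.card_pos_iff.2 ⟨a⟩).ne'
  let L : (Ω → ℂ) →ₗ[ℂ] ℂ := ∑ y, LinearMap.proj y
  have hL : ∀ v : Ω → ℂ, L v = ∑ y, v y := fun v => by simp [L]
  let A : Module.End ℂ (Ω → ℂ) :=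
    orbital G a b - L.smulRight (fun _ => (d : ℂ) / (Fintype.card Ω : ℂ))
  have hAapp : ∀ v x, A v x = orbital G a b v x - (∑ y, v y) * ((d : ℂ) / Fintype.card Ω) := by
    intro v x
    simp [A, hL]
  have hA0 : ∀ v, A v ∈ (Cfsg.permSumZero ℂ G Ω).toSubmodule := by
    intro v
    show ∑ x, A v x = 0
    simp only [hAapp]
    rw [Finset.sum_sub_distrib, sum_orbital, Finset.sum_const, Finset.card_univ, nsmul_eq_mul,
      ← hd]
    field_simp
    ring
  have hAU : ∀ v ∈ (Cfsg.permSumZero ℂ G Ω).toSubmodule, A v = orbital G a b v := by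
    intro v hv
    funext x
    have hv' : ∑ y, v y = 0 := hv
    rw [hAapp, hv', zero_mul, sub_zero]
  have hcomm : ∀ g : G, Commute A (Cfsg.permRep ℂ G Ω g : Module.End ℂ (Ω → ℂ)) := by
    intro g
    refine LinearMap.ext fun v => funext fun x => ?_
    show A (Cfsg.permRep ℂ G Ω g v) x = A v (g⁻¹ • x)
    rw [hAapp, hAapp, isEquivariant_orbital a b g v, permRep_apply]
    congr 2
    exact Fintype.sum_equiv (MulAction.toPerm g⁻¹) _ _ fun y => rfl
  have htr : LinearMap.trace ℂ (Ω → ℂ) A = -(d : ℂ) := by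
    have h0 : LinearMap.trace ℂ (Ω → ℂ) (orbital G a b) = 0 := by
      rw [orbital, trace_toLin, Matrix.trace]
      refine Finset.sum_eq_zero fun x _ => ?_
      simp only [Matrix.diag_apply, Matrix.of_apply]
      rw [if_neg]
      rintro ⟨g, hg⟩
      exact hab (MulAction.injective g
        ((congrArg Prod.snd hg).trans (congrArg Prod.fst hg).symm))
    simp only [A, map_sub, h0, LinearMap.trace_smulRight, hL, zero_sub, Finset.sum_const,
      Finset.card_univ, nsmul_eq_mul]
    field_simp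
  have heig : ∀ μ : ℂ, μ ≠ 0 →
      A.maxGenEigenspace μ ≤ (Cfsg.permSumZero ℂ G Ω).toSubmodule := by
    intro μ hμ v hv
    obtain ⟨k, hk⟩ := (Module.End.mem_maxGenEigenspace A μ v).1 hv
    clear hv
    induction k generalizing v with
    | zero =>
      rw [pow_zero, Module.End.one_apply] at hk
      rw [hk]
      exact zero_mem _
    | succ k ih =>
      rw [pow_succ, Module.End.mul_apply] at hk
      have h1 := ih hk
      have h2 : μ • v = A v - (A - μ • 1) v := by simp
      rw [show v = μ⁻¹ • (A v - (A - μ • 1) v) by rw [← h2, inv_smul_smul₀ hμ]]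
      exact Submodule.smul_mem _ _ (Submodule.sub_mem _ (hA0 v) h1)
  have hdvd : ∀ μ : ℂ, μ ≠ 0 → f ∣ A.charpoly.roots.count μ := by
    intro μ hμ
    rw [Polynomial.count_roots, ← LinearMap.finrank_maxGenEigenspace_eq]
    exact dvd_finrank hf
      (fun g v hv => Module.End.mapsTo_maxGenEigenspace_of_comm (hcomm g) μ hv) (heig μ hμ)
  have hint : ∀ μ ∈ A.charpoly.roots, IsIntegral ℤ μ := by
    intro μ hμ
    by_cases hμ0 : μ = 0
    · subst hμ0
      exact isIntegral_zero
    obtain ⟨v, hv, hv0⟩ := ((Module.End.hasEigenvalue_iff_isRoot_charpoly A μ).2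
      (Polynomial.isRoot_of_mem_roots hμ)).exists_hasEigenvector
    rw [Module.End.mem_eigenspace_iff] at hv
    have hvU : v ∈ (Cfsg.permSumZero ℂ G Ω).toSubmodule := by
      rw [show v = μ⁻¹ • A v by rw [hv, inv_smul_smul₀ hμ0]]
      exact Submodule.smul_mem _ _ (hA0 v)
    rw [hAU v hvU] at hv
    refine isIntegral_eigen
      (Matrix.of fun x y => if (x, y) ∈ MulAction.orbit G (a, b) then (1 : ℤ) else 0) hv0 ?_
    rw [← hv, orbital]
    congr 2
    ext x y
    simp only [Matrix.map_apply, Matrix.of_apply]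
    split_ifs <;> simp
  rw [Module.End.trace_eq_sum_roots_charpoly_of_splits (IsAlgClosed.splits _),
    Finset.sum_multiset_count] at htr
  let q : ℂ → ℕ := fun μ => if μ = 0 then 0 else A.charpoly.roots.count μ / f
  have hq : ∀ μ : ℂ, (A.charpoly.roots.count μ • μ : ℂ) = (f : ℂ) * ((q μ : ℂ) * μ) := by
    intro μ
    by_cases h0 : μ = 0
    · simp [h0]
    · rw [nsmul_eq_mul, ← mul_assoc, ← Nat.cast_mul, show f * q μ = A.charpoly.roots.count μ by
        simp only [q, if_neg h0]; exact Nat.mul_div_cancel' (hdvd μ h0)]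
  rw [Finset.sum_congr rfl fun μ _ => hq μ, ← Finset.mul_sum] at htr
  set z : ℂ := ∑ μ ∈ A.charpoly.roots.toFinset, (q μ : ℂ) * μ with hz
  have hzi : IsIntegral ℤ z := IsIntegral.sum _ fun μ hμ =>
    (by simpa using isIntegral_algebraMap (R := ℤ) (A := ℂ) (x := ((q μ : ℕ) : ℤ)) :
      IsIntegral ℤ ((q μ : ℕ) : ℂ)).mul (hint μ (Multiset.mem_toFinset.1 hμ))
  rcases Nat.eq_zero_or_pos f with rfl | hfp
  · rw [Nat.cast_zero, zero_mul, eq_comm, neg_eq_zero] at htr
    rw [Nat.cast_eq_zero.1 htr]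
  · refine dvd_of_isIntegral_div hfp.ne' ?_
    rw [show (d : ℂ) / (f : ℂ) = -z by
      rw [← neg_eq_iff_eq_neg.2 htr.symm.symm, neg_div,
        mul_div_cancel_left₀ _ (Nat.cast_ne_zero.2 hfp.ne')]]
    exact hzi.neg

/-- The rank is the sum of the squares of the multiplicities. -/
theorem rank_eq (a : Ω) :
    Cfsg.classInner (permChar G Ω) (permChar G Ω) =
      (Nat.card (MulAction.orbitRel.Quotient (MulAction.stabilizer G a) Ω) : ℂ) := by
  classical
  have hF : ∀ g : G, Nat.card (MulAction.fixedBy Ω g) =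
      (Finset.univ.filter fun x : Ω => g • x = x).card := fun g => by
    rw [Nat.card_eq_fintype_card, Fintype.card_subtype]
    rfl
  let F : Ω → ℕ := fun x => ∑ g : G, if g • x = x then Nat.card (MulAction.fixedBy Ω g) else 0
  have hFc : ∀ x, F x = F a := by
    intro x
    obtain ⟨t, rfl⟩ := MulAction.exists_smul_eq G a x
    refine (Fintype.sum_equiv (MulAut.conj t).toEquiv _ _ fun g => ?_).symm
    have h1 : Nat.card (MulAction.fixedBy Ω (t * g * t⁻¹)) = Nat.card (MulAction.fixedBy Ω g) :=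
      Nat.card_congr ((MulAction.toPerm t⁻¹).subtypeEquiv fun y => by
        simp [MulAction.mem_fixedBy, mul_smul, smul_eq_iff_eq_inv_smul])
    simp only [MulEquiv.toEquiv_eq_coe, MulEquiv.coe_toEquiv, MulAut.conj_apply, h1, mul_smul,
      inv_smul_smul, smul_left_cancel_iff]
  have hsum : ∑ g : G, Nat.card (MulAction.fixedBy Ω g) * Nat.card (MulAction.fixedBy Ω g) =
      ∑ x, F x := by
    rw [Finset.sum_comm]
    refine Finset.sum_congr rfl fun g _ => ?_
    rw [Finset.sum_ite, Finset.sum_const_zero, add_zero, Finset.sum_const, ← hF, smul_eq_mul]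
  have hFa : F a = Nat.card (MulAction.orbitRel.Quotient (MulAction.stabilizer G a) Ω) *
      Nat.card (MulAction.stabilizer G a) := by
    have hb := MulAction.sum_card_fixedBy_eq_card_orbits_mul_card_group
      (MulAction.stabilizer G a) Ω
    rw [Nat.card_eq_fintype_card, Nat.card_eq_fintype_card, ← hb]
    show (∑ g : G, if g • a = a then Nat.card (MulAction.fixedBy Ω g) else 0) = _
    rw [← Finset.sum_filter, Finset.sum_subtype (p := fun g : G => g ∈ MulAction.stabilizer G a) _
      (fun g => by simp [MulAction.mem_stabilizer_iff])]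
    exact Finset.sum_congr rfl fun g _ => Nat.card_eq_fintype_card
  have hcard : Fintype.card Ω * Nat.card (MulAction.stabilizer G a) = Nat.card G := by
    rw [← (MulAction.stabilizer G a).index_mul_card, MulAction.index_stabilizer_of_transitive,
      Nat.card_eq_fintype_card (α := Ω)]
  rw [classInner_def]
  simp only [permChar, map_natCast]
  rw [← Finset.sum_congr rfl (fun g _ => Nat.cast_mul (α := ℂ) _ _), ← Nat.cast_sum, hsum,
    Finset.sum_congr rfl (fun x _ => hFc x), Finset.sum_const, Finset.card_univ, smul_eq_mul,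
    hFa, mul_left_comm, hcard, Nat.cast_mul, mul_left_comm, inv_mul_cancel₀ natCard_ne_zero,
    mul_one]

/-- When all non-principal constituents have degree `f`, the character is multiplicity-free and
all non-trivial subdegrees equal `f`. -/
theorem all_degree_eq (a : Ω) (f : ℕ)
    (hf : ∀ χ : G → ℂ, Cfsg.IsIrrCharacter G χ → χ ≠ (fun _ => 1) →
      Cfsg.classInner (permChar G Ω) χ ≠ 0 → χ 1 = f) :
    IsMultFree G Ω ∧ ∀ b : Ω, b ≠ a →
      Nat.card (MulAction.orbit (MulAction.stabilizer G a) b) = f := by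
  classical
  haveI : Nonempty Ω := ⟨a⟩
  haveI := Fintype.ofFinite (Cfsg.IrrCharacter G)
  have hdvd := dvd_subdegree (G := G) (Ω := Ω) (f := f) fun χ h1 h2 h3 => ⟨1, by rw [hf χ h1 h2 h3, Nat.cast_one, mul_one]⟩
  have hπ : Cfsg.IsCharacter G (permChar G Ω) := isCharacter_permChar Ω
  choose m hm using fun χ : Cfsg.IrrCharacter G =>
    classInner_char_nat hπ (irr_isCharacter χ)
  set o : Cfsg.IrrCharacter G := trivIrr G
  have hmo : m o = 1 := by
    have h := hm o
    rw [show ((o : Cfsg.IrrCharacter G) : G → ℂ) = fun _ => 1 from rfl,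
      classInner_permChar_one] at h
    exact_mod_cast h.symm
  -- the degree
  have hdeg : Fintype.card Ω = 1 + f * ∑ χ ∈ Finset.univ.erase o, m χ := by
    have h := congrFun (classFun_eq_sum (f := permChar G Ω) (char_isClassFunction hπ)) 1
    rw [Finset.sum_apply, ← Finset.add_sum_erase _ _ (Finset.mem_univ o)] at h
    have h1 : permChar G Ω 1 = (Fintype.card Ω : ℂ) := by
      simp [permChar, MulAction.fixedBy]
    have hoo : Cfsg.classInner (permChar G Ω) (o : G → ℂ) • (o : G → ℂ) 1 = 1 := by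
      rw [hm o, hmo, Nat.cast_one, one_smul]
      rfl
    rw [h1] at h
    simp only [Pi.smul_apply] at h
    rw [hoo, Finset.sum_congr rfl (g := fun χ => ((f * m χ : ℕ) : ℂ)) (fun χ hχ => by
      rw [hm χ, smul_eq_mul]
      by_cases h0 : m χ = 0
      · simp [h0]
      · rw [hf χ χ.2 (fun he => (Finset.mem_erase.1 hχ).1 (Subtype.ext he))
          (by rw [hm χ]; exact Nat.cast_ne_zero.2 h0), Nat.cast_mul, mul_comm]),
      ← Nat.cast_sum, ← Finset.mul_sum] at h
    exact_mod_cast h
  -- the rank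
  set Q := MulAction.orbitRel.Quotient (MulAction.stabilizer G a) Ω with hQ
  haveI := Fintype.ofFinite Q
  have hrank : Fintype.card Q =
      1 + ∑ χ ∈ Finset.univ.erase o, m χ * m χ := by
    have h := rank_eq (G := G) a
    rw [← hQ] at h
    rw [classInner_eq_sum _ (char_isClassFunction hπ), ← Finset.add_sum_erase _ _ (Finset.mem_univ o),
      Nat.card_eq_fintype_card] at h
    rw [Finset.sum_congr rfl (g := fun χ => ((m χ * m χ : ℕ) : ℂ)) (fun χ _ => by
      rw [classInner_conj_symm (permChar G Ω) (χ : G → ℂ), hm χ, map_natCast, Nat.cast_mul]),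
      classInner_conj_symm (permChar G Ω) (o : G → ℂ), hm o, hmo, Nat.cast_one, map_one, one_mul,
      ← Nat.cast_sum] at h
    exact_mod_cast h.symm
  -- the orbits
  set q₀ : Q := Quotient.mk'' a
  haveI : ∀ q : Q, Fintype q.orbit := fun q => Fintype.ofFinite _
  have horb : Fintype.card Ω = ∑ q : Q, Nat.card q.orbit := by
    rw [Fintype.card_congr (MulAction.selfEquivSigmaOrbits' (MulAction.stabilizer G a) Ω),
      Fintype.card_sigma]
    exact Finset.sum_congr rfl fun q _ => Nat.card_eq_fintype_card.symm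
  have hq0 : Nat.card q₀.orbit = 1 := by
    rw [MulAction.orbitRel.Quotient.orbit_mk, Nat.card_eq_one_iff_unique]
    refine ⟨⟨fun u v => ?_⟩, ⟨⟨a, MulAction.mem_orbit_self a⟩⟩⟩
    obtain ⟨g, hg⟩ := u.2
    obtain ⟨h, hh⟩ := v.2
    exact Subtype.ext (hg.symm.trans (g.2.trans (h.2.symm.trans hh)))
  have hother : ∀ q ∈ Finset.univ.erase q₀, f ∣ Nat.card q.orbit ∧ 0 < Nat.card q.orbit := by
    intro q hq
    induction q using Quotient.inductionOn' with
    | h b =>
      rw [MulAction.orbitRel.Quotient.orbit_mk]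
      refine ⟨hdvd a b fun he => (Finset.mem_erase.1 hq).1 (congrArg Quotient.mk'' he), ?_⟩
      haveI : Nonempty (MulAction.orbit (MulAction.stabilizer G a) b) :=
        ⟨⟨b, MulAction.mem_orbit_self b⟩⟩
      exact Nat.card_pos
  rw [← Finset.add_sum_erase _ _ (Finset.mem_univ q₀), hq0, hdeg, add_right_inj] at horb
  have hcq : (Finset.univ.erase q₀).card = ∑ χ ∈ Finset.univ.erase o, m χ * m χ := by
    rw [← Nat.card_eq_fintype_card] at hrank
    rw [Finset.card_erase_of_mem (Finset.mem_univ q₀), Finset.card_univ, ← Nat.card_eq_fintype_card]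
    exact (congrArg (· - 1) hrank).trans (Nat.add_sub_cancel_left _ _)
  have hmm : ∀ χ ∈ Finset.univ.erase o, m χ ≤ m χ * m χ := fun χ _ => Nat.le_mul_self _
  rcases Nat.eq_zero_or_pos f with hf0 | hfp
  · subst hf0
    rw [zero_mul] at horb
    have hnone : ∀ q ∈ Finset.univ.erase q₀, False := fun q hq => by
      have := Finset.single_le_sum (f := fun q : Q => Nat.card q.orbit)
        (fun _ _ => Nat.zero_le _) hq
      rw [← horb] at this
      have := (hother q hq).2
      omega
    have hzero : ∑ χ ∈ Finset.univ.erase o, m χ * m χ = 0 := by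
      rw [← hcq, Finset.card_eq_zero]
      exact Finset.eq_empty_of_forall_notMem hnone
    refine ⟨fun χ hχ => ?_, fun b hb => (hnone (Quotient.mk'' b) ?_).elim⟩
    · by_cases ho : (⟨χ, hχ⟩ : Cfsg.IrrCharacter G) = o
      · right
        rw [show χ = fun _ => 1 from congrArg Subtype.val ho]
        exact classInner_permChar_one
      · left
        rw [hm ⟨χ, hχ⟩]
        have := Finset.sum_eq_zero_iff.1 hzero ⟨χ, hχ⟩ (by simp [ho])
        simpa using this
    · refine Finset.mem_erase.2 ⟨fun he => hb ?_, Finset.mem_univ _⟩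
      have h1 : b ∈ MulAction.orbit (MulAction.stabilizer G a) a := Quotient.eq''.1 he
      obtain ⟨g, hg⟩ := h1
      exact hg.symm.trans g.2
  have hle : (Finset.univ.erase q₀).card * f ≤
      ∑ q ∈ Finset.univ.erase q₀, Nat.card q.orbit := by
    rw [← smul_eq_mul, ← Finset.sum_const]
    exact Finset.sum_le_sum fun q hq => Nat.le_of_dvd (hother q hq).2 (hother q hq).1
  have hM := Finset.sum_le_sum hmm
  rw [← horb, hcq, mul_comm f] at hle
  have hle' := Nat.le_of_mul_le_mul_right hle hfp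
  have heq : ∑ χ ∈ Finset.univ.erase o, m χ = ∑ χ ∈ Finset.univ.erase o, m χ * m χ :=
    le_antisymm hM hle'
  refine ⟨fun χ hχ => ?_, fun b hb => ?_⟩
  · by_cases ho : (⟨χ, hχ⟩ : Cfsg.IrrCharacter G) = o
    · right
      rw [show χ = fun _ => 1 from congrArg Subtype.val ho]
      exact classInner_permChar_one
    · have := (Finset.sum_eq_sum_iff_of_le hmm).1 heq ⟨χ, hχ⟩ (by simp [ho])
      rw [hm ⟨χ, hχ⟩]
      rcases Nat.eq_zero_or_pos (m ⟨χ, hχ⟩) with h0 | h0
      · exact Or.inl (by simp [h0])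
      · refine Or.inr ?_
        have h1 : m ⟨χ, hχ⟩ = 1 := by nlinarith
        simp [h1]
  · have hsumf : ∑ q ∈ Finset.univ.erase q₀, f = ∑ q ∈ Finset.univ.erase q₀, Nat.card q.orbit := by
      rw [Finset.sum_const, smul_eq_mul, hcq, ← heq, ← horb, mul_comm]
    have hmem : (Quotient.mk'' b : Q) ∈ Finset.univ.erase q₀ := by
      refine Finset.mem_erase.2 ⟨fun he => hb ?_, Finset.mem_univ _⟩
      have h1 : b ∈ MulAction.orbit (MulAction.stabilizer G a) a := Quotient.eq''.1 he
      obtain ⟨g, hg⟩ := h1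
      exact hg.symm.trans g.2
    have := (Finset.sum_eq_sum_iff_of_le
      (fun q hq => Nat.le_of_dvd (hother q hq).2 (hother q hq).1)).1 hsumf _ hmem
    rw [MulAction.orbitRel.Quotient.orbit_mk] at this
    exact this.symm

/-- Rank at most five gives a multiplicity-free character. -/
theorem multFree_of_rank_le_five (a : Ω)
    (hr : Nat.card (MulAction.orbitRel.Quotient (MulAction.stabilizer G a) Ω) ≤ 5) :
    IsMultFree G Ω := by
  classical
  haveI : Nonempty Ω := ⟨a⟩
  haveI := Fintype.ofFinite (Cfsg.IrrCharacter G)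
  have hπ : Cfsg.IsCharacter G (permChar G Ω) := isCharacter_permChar Ω
  choose m hm using fun χ : Cfsg.IrrCharacter G =>
    classInner_char_nat hπ (irr_isCharacter χ)
  by_contra hno
  obtain ⟨χ₀, hχ₀, h0, h1⟩ : ∃ χ : G → ℂ, Cfsg.IsIrrCharacter G χ ∧
      Cfsg.classInner (permChar G Ω) χ ≠ 0 ∧ Cfsg.classInner (permChar G Ω) χ ≠ 1 := by
    simp only [IsMultFree] at hno
    push Not at hno
    exact hno
  set c : Cfsg.IrrCharacter G := ⟨χ₀, hχ₀⟩
  rw [hm c] at h0 h1
  set o : Cfsg.IrrCharacter G := trivIrr G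
  have hmo : m o = 1 := by
    have h := hm o
    rw [show ((o : Cfsg.IrrCharacter G) : G → ℂ) = fun _ => 1 from rfl,
      classInner_permChar_one] at h
    exact_mod_cast h.symm
  have hsq : ∑ χ, m χ * m χ ≤ 5 := by
    refine le_trans (le_of_eq ?_) hr
    have h := rank_eq (G := G) a
    rw [classInner_eq_sum _ (char_isClassFunction hπ), Finset.sum_congr rfl
      (g := fun χ => ((m χ * m χ : ℕ) : ℂ)) (fun χ _ => by
      rw [classInner_conj_symm (permChar G Ω) (χ : G → ℂ), hm χ, map_natCast, Nat.cast_mul]),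
      ← Nat.cast_sum] at h
    exact_mod_cast h
  have hc2 : 2 ≤ m c := by
    rcases Nat.lt_or_ge (m c) 2 with h | h
    · interval_cases (m c) <;> simp_all
    · exact h
  have hco : c ≠ o := fun h => by rw [h, hmo] at hc2; omega
  obtain ⟨k, hk0, hk⟩ := irr_one_pos hχ₀
  refine hno (all_degree_eq a k fun χ hχ hne hχ0 => ?_).1
  set d : Cfsg.IrrCharacter G := ⟨χ, hχ⟩
  rw [hm d] at hχ0
  by_cases hdc : d = c
  · rw [show χ = χ₀ from congrArg Subtype.val hdc]
    exact hk
  exfalso
  have hdo : d ≠ o := fun h => hne (congrArg Subtype.val h)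
  have h3 : ∑ χ ∈ ({o, c, d} : Finset (Cfsg.IrrCharacter G)), m χ * m χ ≤ 5 :=
    le_trans (Finset.sum_le_sum_of_subset (Finset.subset_univ _)) hsq
  rw [Finset.sum_insert (by simp [hco.symm, hdo.symm]), Finset.sum_insert (by simp [Ne.symm hdc]),
    Finset.sum_singleton, hmo] at h3
  have : 1 ≤ m d := Nat.one_le_iff_ne_zero.2 fun h => hχ0 (by simp [h])
  nlinarith

end Cfsg.Agent.Perm.Subdegrees
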