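import Mathlib

/-! Groups without invariant normal subgroups are direct powers of simple groups. -/

set_option autoImplicit false

namespace Cfsg.Agent.Perm.CharSimple

variable {X : Type*} [Group X]

/-- `V` is a minimal normal subgroup. -/
def IsMinNormal (V : Subgroup X) : Prop :=
  V.Normal ∧ V ≠ ⊥ ∧ ∀ K : Subgroup X, K.Normal → K ≤ V → K = ⊥ ∨ K = V

theorem exists_isMinNormal [Finite X] [Nontrivial X] : ∃ V : Subgroup X, IsMinNormal V := by
  obtain ⟨V, hV, hmin⟩ := (Set.toFinite {V : Subgroup X | V.Normal ∧ V ≠ ⊥}).exists_minimal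
    ⟨⊤, inferInstance, top_ne_bot⟩
  refine ⟨V, hV.1, hV.2, fun K hK hKV => ?_⟩
  by_cases h : K = ⊥
  · exact Or.inl h
  · exact Or.inr (le_antisymm hKV (hmin ⟨hK, h⟩ hKV))

theorem IsMinNormal.map {V : Subgroup X} (hV : IsMinNormal V) (φ : X ≃* X) :
    IsMinNormal (V.map φ.toMonoidHom) := by
  obtain ⟨hn, hne, hmin⟩ := hV
  refine ⟨hn.map _ φ.surjective, ?_, fun K hK hKV => ?_⟩
  · rwa [Ne, Subgroup.map_eq_bot_iff_of_injective V φ.injective]
  · have h1 : K.comap φ.toMonoidHom ≤ V := by
      rw [← Subgroup.comap_map_eq_self_of_injective (f := φ.toMonoidHom) φ.injective V]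
      exact Subgroup.comap_mono hKV
    rcases hmin _ (hK.comap _) h1 with h | h
    · left
      rw [← Subgroup.map_comap_eq_self_of_surjective (f := φ.toMonoidHom) φ.surjective K, h,
        Subgroup.map_bot]
    · right
      rw [← Subgroup.map_comap_eq_self_of_surjective (f := φ.toMonoidHom) φ.surjective K, h]

theorem IsMinNormal.commute {V W : Subgroup X} (hV : IsMinNormal V) (hW : IsMinNormal W)
    (hne : V ≠ W) (x y : X) (hx : x ∈ V) (hy : y ∈ W) : Commute x y := by
  refine Subgroup.commute_of_normal_of_disjoint V W hV.1 hW.1 ?_ x y hx hy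
  rw [disjoint_iff]
  have := hV.1
  have := hW.1
  rcases hV.2.2 (V ⊓ W) inferInstance inf_le_left with h | h
  · exact h
  · have h2 : V ≤ W := inf_eq_left.1 h
    rcases hW.2.2 V hV.1 h2 with h' | h'
    · exact absurd h' hV.2.1
    · exact absurd h' hne

/-- Minimal normal subgroups with join the whole group: some of them form a direct decomposition,
and each factor is simple. -/
theorem exists_decomposition [Finite X] (S : Set (Subgroup X)) (hS : ∀ V ∈ S, IsMinNormal V)
    (htop : sSup S = ⊤) :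
    ∃ (m : ℕ) (V : Fin m → Subgroup X), (∀ i, V i ∈ S) ∧ Function.Injective V ∧ iSupIndep V ∧
      (⨆ i, V i) = ⊤ ∧ ∀ i, IsSimpleGroup (V i) := by
  classical
  obtain ⟨s, ⟨hsS, hstop⟩, hmin⟩ := (Set.toFinite {s : Set (Subgroup X) | s ⊆ S ∧ sSup s = ⊤}).exists_minimal
    ⟨S, le_rfl, htop⟩
  have hind : sSupIndep s := by
    intro V hV
    rw [disjoint_iff]
    have hn : (V ⊓ sSup (s \ {V})).Normal := by
      have := (hS V (hsS hV)).1
      have : (sSup (s \ {V})).Normal :=
        Subgroup.sSup_normal _ fun W hW => (hS W (hsS hW.1)).1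
      infer_instance
    refine ((hS V (hsS hV)).2.2 _ hn inf_le_left).resolve_right fun h => ?_
    have hle : V ≤ sSup (s \ {V}) := inf_eq_left.mp h
    have hs' : s \ {V} ∈ {s : Set (Subgroup X) | s ⊆ S ∧ sSup s = ⊤} := by
      refine ⟨fun W hW => hsS hW.1, ?_⟩
      rw [← top_le_iff, ← hstop]
      refine sSup_le fun W hW => ?_
      by_cases hWV : W = V
      · exact hWV ▸ hle
      · exact le_sSup ⟨hW, hWV⟩
    exact (hmin hs' Set.diff_subset hV).2 rfl
  have : Fintype s := Fintype.ofFinite _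
  let V : Fin (Fintype.card s) → Subgroup X := fun i => ((Fintype.equivFin s).symm i).1
  have hinj : Function.Injective V :=
    Subtype.val_injective.comp (Fintype.equivFin s).symm.injective
  have hVS : ∀ i, V i ∈ S := fun i => hsS ((Fintype.equivFin s).symm i).2
  have hsup : (⨆ i, V i) = ⊤ := by
    rw [← hstop, sSup_eq_iSup']
    exact Equiv.iSup_congr (Fintype.equivFin s).symm fun _ => rfl
  refine ⟨Fintype.card s, V, hVS, hinj,
    ((sSupIndep_iff s).mp hind).comp (Fintype.equivFin s).symm.injective, hsup, fun i => ?_⟩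
  have : Nontrivial (V i) := (Subgroup.nontrivial_iff_ne_bot _).2 (hS _ (hVS i)).2.1
  refine { eq_bot_or_eq_top_of_normal := fun K hK => ?_ }
  have hKn : (K.map (V i).subtype).Normal := by
    rw [← Subgroup.normalizer_eq_top_iff, ← top_le_iff, ← hsup, iSup_le_iff]
    intro j x hx
    rw [Subgroup.mem_normalizer_iff]
    by_cases hji : j = i
    · subst hji
      intro h
      constructor
      · rintro ⟨k, hk, rfl⟩
        exact ⟨⟨x, hx⟩ * k * ⟨x, hx⟩⁻¹, hK.conj_mem k hk _, by simp⟩
      · rintro ⟨k, hk, hkx⟩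
        refine ⟨⟨x, hx⟩⁻¹ * k * ⟨x, hx⟩, ?_, ?_⟩
        · simpa using hK.conj_mem k hk ⟨x, hx⟩⁻¹
        · simp only [Subgroup.coe_subtype] at hkx ⊢
          simp [hkx, mul_assoc]
    · intro h
      have hfix : ∀ k : X, k ∈ V i → x * k * x⁻¹ = k := by
        intro k hk
        rw [((hS _ (hVS j)).commute (hS _ (hVS i)) (fun he => hji (hinj he)) x k hx hk).eq]
        simp
      constructor
      · rintro ⟨k, hk, rfl⟩
        exact ⟨k, hk, (hfix k k.2).symm⟩
      · rintro ⟨k, hk, hkx⟩
        refine ⟨k, hk, ?_⟩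
        simp only [Subgroup.coe_subtype] at hkx ⊢
        have h1 := hfix k k.2
        rw [hkx] at h1
        have h2 : x * h * x⁻¹ = x * k * x⁻¹ := by rw [hfix k k.2, hkx]
        exact (mul_left_cancel (mul_right_cancel h2)).symm
  rcases (hS _ (hVS i)).2.2 _ hKn (Subgroup.map_subtype_le K) with h | h
  · exact Or.inl ((Subgroup.map_eq_bot_iff_of_injective K (V i).subtype_injective).1 h)
  · refine Or.inr (Subgroup.map_injective (V i).subtype_injective ?_)
    rw [h, ← MonoidHom.range_eq_map, Subgroup.range_subtype]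

/-- An internal direct product of commuting subgroups, each isomorphic to `T`, is a power of
`T`. -/
theorem nonempty_mulEquiv_pi {m : ℕ} {T : Type*} [Group T] (V : Fin m → Subgroup X)
    (hV : ∀ i, IsMinNormal (V i)) (hinj : Function.Injective V) (hind : iSupIndep V)
    (hsup : (⨆ i, V i) = ⊤) (e : ∀ i, Nonempty (V i ≃* T)) :
    Nonempty (X ≃* (Fin m → T)) := by
  have hcomm : Pairwise fun i j : Fin m => ∀ x y : X, x ∈ V i → y ∈ V j → Commute x y :=
    fun i j hij x y => (hV i).commute (hV j) (fun he => hij (hinj he)) x y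
  let f := Subgroup.noncommPiCoprod hcomm
  have hsurj : Function.Surjective f := by
    rw [← MonoidHom.range_eq_top, Subgroup.noncommPiCoprod_range, hsup]
  have hbij : Function.Bijective f :=
    ⟨Subgroup.injective_noncommPiCoprod_of_iSupIndep hind, hsurj⟩
  exact ⟨(MulEquiv.ofBijective f hbij).symm.trans
    (MulEquiv.piCongrRight fun i => (e i).some)⟩

/-- If no proper non-trivial normal subgroup of `X` is invariant under the action `ρ`, then `X`
is the direct product of a set of conjugates (under `ρ`) of any minimal normal subgroup. -/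
theorem exists_decomposition_of_invariant [Finite X] [Nontrivial X] {G : Type*} [Group G]
    (ρ : G →* MulAut X)
    (h : ∀ K : Subgroup X, K.Normal → (∀ g, K.map (ρ g).toMonoidHom = K) → K = ⊥ ∨ K = ⊤) :
    ∃ (m : ℕ) (V : Fin m → Subgroup X), 0 < m ∧ (∀ i, IsMinNormal (V i)) ∧ Function.Injective V ∧
      iSupIndep V ∧ (⨆ i, V i) = ⊤ ∧ (∀ i, IsSimpleGroup (V i)) ∧
      ∀ i j, ∃ g, (V i).map (ρ g).toMonoidHom = V j := by
  obtain ⟨T, hT⟩ := exists_isMinNormal (X := X)
  let S : Set (Subgroup X) := Set.range fun g => T.map (ρ g).toMonoidHom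
  have hS : ∀ V ∈ S, IsMinNormal V := by
    rintro _ ⟨g, rfl⟩
    exact hT.map (ρ g)
  have hmm : ∀ (K : Subgroup X) (g g' : G),
      (K.map (ρ g).toMonoidHom).map (ρ g').toMonoidHom = K.map (ρ (g' * g)).toMonoidHom := by
    intro K g g'
    rw [Subgroup.map_map, map_mul]
    rfl
  have htop : sSup S = ⊤ := by
    have hn : (sSup S).Normal := Subgroup.sSup_normal _ fun V hV => (hS V hV).1
    have hinv : ∀ g, (sSup S).map (ρ g).toMonoidHom = sSup S := by
      intro g
      rw [(Subgroup.gc_map_comap _).l_sSup]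
      refine le_antisymm (iSup₂_le ?_) (sSup_le ?_)
      · rintro _ ⟨g', rfl⟩
        exact le_sSup ⟨g * g', (hmm T g' g).symm⟩
      · rintro _ ⟨g', rfl⟩
        refine le_trans ?_ (le_iSup₂ _ ⟨g⁻¹ * g', rfl⟩)
        rw [hmm, mul_inv_cancel_left]
    rcases h _ hn hinv with h' | h'
    · exfalso
      apply hT.2.1
      rw [← le_bot_iff, ← h']
      refine le_sSup ⟨1, ?_⟩
      simp only [map_one]
      exact Subgroup.map_id T
    · exact h'
  obtain ⟨m, V, hVS, hinj, hind, hsup, hsimple⟩ := exists_decomposition S hS htop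
  refine ⟨m, V, ?_, fun i => hS _ (hVS i), hinj, hind, hsup, hsimple, fun i j => ?_⟩
  · rcases Nat.eq_zero_or_pos m with rfl | hm
    · exfalso
      rw [iSup_of_empty] at hsup
      exact bot_ne_top hsup
    · exact hm
  · obtain ⟨g, hg⟩ := hVS i
    obtain ⟨g', hg'⟩ := hVS j
    refine ⟨g' * g⁻¹, ?_⟩
    simp only at hg hg'
    rw [← hg, hmm, mul_assoc, inv_mul_cancel, mul_one, hg']

/-- A minimal normal subgroup is the direct product of conjugate simple groups. -/
theorem exists_decomposition_minimal_normal {H : Type*} [Group H] [Finite H] (N : Subgroup H)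
    [N.Normal] (hN : N ≠ ⊥) (hmin : ∀ M : Subgroup H, M.Normal → M ≤ N → M = ⊥ ∨ M = N) :
    ∃ (m : ℕ) (V : Fin m → Subgroup N), 0 < m ∧ (∀ i, IsMinNormal (V i)) ∧ Function.Injective V ∧
      iSupIndep V ∧ (⨆ i, V i) = ⊤ ∧ (∀ i, IsSimpleGroup (V i)) ∧
      ∀ i j, ∃ g : H, (V i).map (MulAut.conjNormal g : MulAut N).toMonoidHom = V j := by
  have : Nontrivial N := (Subgroup.nontrivial_iff_ne_bot N).2 hN
  refine exists_decomposition_of_invariant (MulAut.conjNormal (H := N)) fun K _ hinv => ?_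
  have hn : (K.map N.subtype).Normal := by
    refine ⟨fun x hx g => ?_⟩
    obtain ⟨k, hk, rfl⟩ := hx
    refine ⟨(MulAut.conjNormal g : MulAut N) k, ?_, MulAut.conjNormal_apply g k⟩
    rw [← hinv g]
    exact ⟨k, hk, rfl⟩
  rcases hmin _ hn (Subgroup.map_subtype_le K) with h | h
  · exact Or.inl ((Subgroup.map_eq_bot_iff_of_injective K N.subtype_injective).1 h)
  · refine Or.inr (Subgroup.map_injective N.subtype_injective ?_)
    rw [h, ← MonoidHom.range_eq_map, Subgroup.range_subtype]

/-- A minimal normal subgroup is a power of a simple group, given on `Type`. -/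
theorem exists_simple_power {H : Type*} [Group H] [Finite H] (N : Subgroup H)
    [N.Normal] (hN : N ≠ ⊥) (hmin : ∀ M : Subgroup H, M.Normal → M ≤ N → M = ⊥ ∨ M = N) :
    ∃ (T : Type) (_ : Group T) (m : ℕ), IsSimpleGroup T ∧ 0 < m ∧ Nonempty (N ≃* (Fin m → T)) := by
  obtain ⟨m, V, hm, hV, hinj, hind, hsup, hsimple, hconj⟩ :=
    exists_decomposition_minimal_normal N hN hmin
  have := hsimple ⟨0, hm⟩
  obtain ⟨T, ⟨ε⟩⟩ : ∃ T : Type, Nonempty (T ≃ V ⟨0, hm⟩) :=
    ⟨Fin (Nat.card (V ⟨0, hm⟩)), ⟨(Finite.equivFin _).symm⟩⟩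
  letI : Group T := ε.group
  let E : T ≃* V ⟨0, hm⟩ := ε.mulEquiv
  refine ⟨T, inferInstance, m, E.isSimpleGroup, hm,
    nonempty_mulEquiv_pi V hV hinj hind hsup fun i => ?_⟩
  obtain ⟨g, hg⟩ := hconj i ⟨0, hm⟩
  exact ⟨((Subgroup.equivMapOfInjective (V i) (MulAut.conjNormal g : MulAut N).toMonoidHom
    (MulAut.conjNormal g : MulAut N).injective).trans (MulEquiv.subgroupCongr hg)).trans E.symm⟩

end Cfsg.Agent.Perm.CharSimple
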