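import Mathlib
import Cfsg.Agent.Lib.Perm.Basic
import Cfsg.Agent.Lib.Perm.RegularNormal

/-! Finite sharply 2-transitive groups: the fixed-point-free elements with the identity form a
regular normal elementary abelian subgroup. -/

set_option autoImplicit false

namespace Cfsg.Agent.Perm.Sharp

open MulAction

variable {G : Type*} [Group G] {α : Type*} [MulAction G α]

theorem stabilizer_embedding_eq_bot_iff {k : ℕ} (x : Fin k ↪ α) :
    stabilizer G x = ⊥ ↔ ∀ g : G, (∀ i, g • x i = x i) → g = 1 := by
  rw [Subgroup.eq_bot_iff_forall]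
  constructor
  · intro h g hg
    exact h g (Function.Embedding.ext hg)
  · intro h g hg
    exact h g fun i => congrArg (fun f : Fin k ↪ α => f i) hg

theorem eq_one_of_fix_two (hsharp : ∀ x : Fin 2 ↪ α, stabilizer G x = ⊥) {g : G} {a b : α}
    (hab : a ≠ b) (ha : g • a = a) (hb : g • b = b) : g = 1 := by
  have hinj : Function.Injective ![a, b] := by
    intro i j hij
    fin_cases i <;> fin_cases j <;> simp_all
  refine (stabilizer_embedding_eq_bot_iff ⟨![a, b], hinj⟩).1 (hsharp _) g fun i => ?_
  show g • ![a, b] i = ![a, b] i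
  fin_cases i <;> simp [ha, hb]

theorem exists_fix_map (h2 : IsMultiplyPretransitive G α 2) {a x y : α} (hx : x ≠ a) (hy : y ≠ a) :
    ∃ g : G, g • a = a ∧ g • x = y :=
  is_two_pretransitive_iff.1 h2 hx.symm hy.symm

theorem finite_group [Finite α] [Nontrivial α]
    (hsharp : ∀ x : Fin 2 ↪ α, stabilizer G x = ⊥) : Finite G := by
  obtain ⟨a, b, hab⟩ := exists_pair_ne α
  refine Finite.of_injective (fun g : G => (g • a, g • b)) fun g h hgh => ?_
  simp only [Prod.mk.injEq] at hgh
  have := eq_one_of_fix_two hsharp (g := h⁻¹ * g) hab (by rw [mul_smul, hgh.1, inv_smul_smul])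
    (by rw [mul_smul, hgh.2, inv_smul_smul])
  exact (inv_mul_eq_one.1 this).symm

theorem card_stabilizer [Finite α] [Nontrivial α] (h2 : IsMultiplyPretransitive G α 2)
    (hsharp : ∀ x : Fin 2 ↪ α, stabilizer G x = ⊥) (a : α) :
    Nat.card (stabilizer G a) = Nat.card α - 1 := by
  obtain ⟨b, hb⟩ := exists_ne a
  rw [← Nat.card_coe_set_eq (Set.univ : Set α) |>.trans (Set.ncard_univ α),
    Nat.card_coe_set_eq (Set.univ : Set α), ← Set.ncard_diff_singleton_of_mem (Set.mem_univ a),
    ← Nat.card_coe_set_eq]
  refine Nat.card_eq_of_bijective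
    (fun g : stabilizer G a => (⟨(g : G) • b, Set.mem_univ _, fun h => hb (by
      exact MulAction.injective (g : G) (h.trans g.2.symm))⟩ :
        ↥((Set.univ : Set α) \ {a}))) ⟨fun g h hgh => ?_, fun x => ?_⟩
  · have hgh' : (g : G) • b = (h : G) • b := congrArg Subtype.val hgh
    have := eq_one_of_fix_two hsharp (g := (h : G)⁻¹ * g) hb
      (by rw [mul_smul, hgh', inv_smul_smul]) (by rw [mul_smul, g.2, inv_smul_eq_iff, h.2])
    exact Subtype.ext (inv_mul_eq_one.1 this).symm
  · obtain ⟨g, hga, hgb⟩ := exists_fix_map h2 hb x.2.2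
    exact ⟨⟨g, hga⟩, Subtype.ext hgb⟩

theorem card_group [Finite α] [Nontrivial α] (h2 : IsMultiplyPretransitive G α 2)
    (hsharp : ∀ x : Fin 2 ↪ α, stabilizer G x = ⊥) :
    Nat.card G = Nat.card α * (Nat.card α - 1) := by
  have : IsPretransitive G α := isPretransitive_of_is_two_pretransitive
  obtain ⟨a, -⟩ := exists_pair_ne α
  rw [← (stabilizer G a).index_mul_card, index_stabilizer_of_transitive,
    card_stabilizer h2 hsharp a]

/-- The kernel of a finite sharply 2-transitive group. -/
theorem exists_kernel [Finite α] [Nontrivial α] (h2 : IsMultiplyPretransitive G α 2)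
    (hsharp : ∀ x : Fin 2 ↪ α, stabilizer G x = ⊥) :
    ∃ N : Subgroup G, N.Normal ∧ IsMulCommutative N ∧ IsPretransitive N α ∧
      (∀ x : α, stabilizer N x = ⊥) ∧ (∀ g : G, g ∈ N ↔ g = 1 ∨ ∀ a : α, g • a ≠ a) ∧
      ∃ p : ℕ, p.Prime ∧ IsPGroup p N ∧ ∀ n : N, n ^ p = 1 := by
  classical
  have := finite_group hsharp
  have := Fintype.ofFinite G
  have := Fintype.ofFinite α
  have htr : IsPretransitive G α := isPretransitive_of_is_two_pretransitive
  obtain ⟨a₀, b₀, hab₀⟩ := exists_pair_ne α
  set n := Fintype.card α with hn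
  have hnα : Nat.card α = n := Nat.card_eq_fintype_card
  have hn2 : 1 < n := Fintype.one_lt_card
  let D : Finset G := Finset.univ.filter fun g => ∀ a : α, g • a ≠ a
  let T : α → Finset G := fun a => Finset.univ.filter fun g => g • a = a ∧ g ≠ 1
  have hT : ∀ a, (T a).card = n - 2 := by
    intro a
    have h0 : T a = (Finset.univ.filter fun g => g • a = a).erase 1 := by
      ext g; simp [T, and_comm]
    rw [h0, Finset.card_erase_of_mem (by simp), ← Fintype.card_subtype,
      ← Nat.card_eq_fintype_card]
    rw [show Nat.card {g : G // g • a = a} = n - 1 from (card_stabilizer h2 hsharp a).trans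
      (by rw [hnα])]
    omega
  have hdisj : ∀ a ∈ (Finset.univ : Finset α), ∀ b ∈ (Finset.univ : Finset α), a ≠ b →
      Disjoint (T a) (T b) := by
    intro a _ b _ hab
    rw [Finset.disjoint_left]
    intro g hga hgb
    simp only [T, Finset.mem_filter, Finset.mem_univ, true_and] at hga hgb
    exact hga.2 (eq_one_of_fix_two hsharp hab hga.1 hgb.1)
  have hD : D.card = n - 1 := by
    have h1 : (Finset.univ : Finset G) = insert 1 (D ∪ Finset.univ.biUnion T) := by
      ext g
      by_cases hg : g = 1
      · simp [hg]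
      · simp only [D, T, Finset.mem_insert, Finset.mem_union, Finset.mem_filter, Finset.mem_univ,
          true_and, Finset.mem_biUnion, hg, false_or, ne_eq, not_false_eq_true, and_true, true_iff]
        by_cases h : ∀ a : α, g • a ≠ a
        · exact Or.inl h
        · push Not at h; exact Or.inr h
    have h1' := congrArg Finset.card h1
    rw [Finset.card_univ, ← Nat.card_eq_fintype_card, card_group h2 hsharp, hnα,
      Finset.card_insert_of_notMem, Finset.card_union_of_disjoint, Finset.card_biUnion hdisj,
      Finset.sum_congr rfl (fun a _ => hT a), Finset.sum_const, smul_eq_mul, Finset.card_univ,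
      ← hn] at h1'
    · obtain ⟨k, hk⟩ : ∃ k, n = k + 2 := ⟨n - 2, by omega⟩
      rw [hk] at h1' ⊢
      simp only [Nat.add_sub_cancel] at h1'
      rw [show k + 2 - 1 = k + 1 by omega] at h1' ⊢
      nlinarith [h1']
    · rw [Finset.disjoint_left]
      intro g hg hgT
      obtain ⟨a, -, ha⟩ := Finset.mem_biUnion.1 hgT
      simp only [D, T, Finset.mem_filter, Finset.mem_univ, true_and] at hg ha
      exact hg a ha.1
    · intro h
      rcases Finset.mem_union.1 h with h | h
      · simp only [D, Finset.mem_filter, Finset.mem_univ, true_and, one_smul] at h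
        exact h a₀ rfl
      · obtain ⟨a, -, ha⟩ := Finset.mem_biUnion.1 h
        simp only [T, Finset.mem_filter] at ha
        exact ha.2.2 rfl
  have h1D : (1 : G) ∉ D := by
    simp only [D, Finset.mem_filter, Finset.mem_univ, true_and, one_smul, not_forall]
    exact ⟨a₀, fun h => h rfl⟩
  have key : ∀ x ∈ D, ∀ g : G, g ∈ Subgroup.centralizer ({x} : Set G) ↔ g ∈ insert 1 D := by
    intro x hx
    simp only [D, Finset.mem_filter, Finset.mem_univ, true_and] at hx
    set C := Subgroup.centralizer ({x} : Set G) with hC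
    have hsub : (Finset.univ.filter fun g => g ∈ C) ⊆ insert 1 D := by
      intro g hg
      simp only [Finset.mem_filter, Finset.mem_univ, true_and, hC,
        Subgroup.mem_centralizer_singleton_iff] at hg
      by_cases hg1 : g = 1
      · simp [hg1]
      · refine Finset.mem_insert_of_mem ?_
        simp only [D, Finset.mem_filter, Finset.mem_univ, true_and]
        intro a ha
        apply hg1
        refine eq_one_of_fix_two hsharp (hx a).symm ha ?_
        rw [← mul_smul, hg, mul_smul, ha]
    have hclass : C.index ≤ n - 1 := by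
      rw [hC]
      rw [show (Subgroup.centralizer ({x} : Set G)).index =
        (stabilizer (ConjAct G) x).index by rw [ConjAct.stabilizer_eq_centralizer]; rfl]
      rw [index_stabilizer]
      rw [← hD, ← Set.ncard_coe_finset]
      refine Set.ncard_le_ncard ?_ (Finset.finite_toSet D)
      rintro _ ⟨c, rfl⟩
      simp only [D, Finset.coe_filter, Finset.mem_univ, true_and, Set.mem_ofPred_eq]
      intro a ha
      have hc : c • x = ConjAct.ofConjAct c * x * (ConjAct.ofConjAct c)⁻¹ := rfl
      rw [hc, mul_smul, mul_smul, ← eq_inv_smul_iff] at ha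
      exact hx _ ha
    have hcard : n ≤ (Finset.univ.filter fun g => g ∈ C).card := by
      rw [← Fintype.card_subtype, ← Nat.card_eq_fintype_card]
      have h1 := C.card_mul_index
      rw [card_group h2 hsharp, hnα] at h1
      by_contra hlt
      push Not at hlt
      have hlt' : Nat.card C * C.index < n * (n - 1) :=
        lt_of_le_of_lt (Nat.mul_le_mul_left _ hclass) (Nat.mul_lt_mul_of_pos_right hlt (by omega))
      omega
    have heq := Finset.eq_of_subset_of_card_le hsub
      (by rw [Finset.card_insert_of_notMem h1D, hD]; omega)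
    intro g
    rw [← heq]
    simp
  obtain ⟨x, hx⟩ : D.Nonempty := Finset.card_pos.1 (by omega)
  let N := Subgroup.centralizer ({x} : Set G)
  have hN : ∀ g : G, g ∈ N ↔ g = 1 ∨ ∀ a : α, g • a ≠ a := by
    intro g
    rw [key x hx g]
    simp [D]
  have hreg : ∀ a : α, stabilizer N a = ⊥ := by
    intro a
    rw [Subgroup.eq_bot_iff_forall]
    intro g hg
    rcases (hN g).1 g.2 with h | h
    · exact Subtype.ext h
    · exact absurd hg (h a)
  have hcardN : Nat.card N = n := by
    rw [Nat.card_eq_fintype_card, Fintype.card_subtype]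
    rw [show (Finset.univ.filter fun g => g ∈ N) = insert 1 D from by
      ext g; simp only [Finset.mem_filter, Finset.mem_univ, true_and]; exact key x hx g]
    rw [Finset.card_insert_of_notMem h1D, hD]; omega
  have htrN : IsPretransitive N α := by
    refine Cfsg.Agent.Perm.Basic.isPretransitive_of_forall a₀ fun b => ?_
    have hinj : Function.Injective fun g : N => g • a₀ := by
      intro u v huv
      have : v⁻¹ * u ∈ stabilizer N a₀ := by
        rw [mem_stabilizer_iff, mul_smul, inv_smul_eq_iff]; exact huv
      rw [hreg, Subgroup.mem_bot, inv_mul_eq_one] at this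
      exact this.symm
    exact ((Fintype.bijective_iff_injective_and_card _).2 ⟨hinj, by
      rw [← Nat.card_eq_fintype_card, hcardN]⟩).2 b
  have hab : IsMulCommutative N := ⟨⟨fun u v => by
    apply Subtype.ext
    show (u : G) * v = v * u
    by_cases hv : (v : G) = 1
    · simp [hv]
    · have hvD : (v : G) ∈ D :=
        Finset.mem_of_mem_insert_of_ne ((key x hx _).1 v.2) hv
      exact Subgroup.mem_centralizer_singleton_iff.1 ((key _ hvD _).2 ((key x hx _).1 u.2))⟩⟩
  have hnorm : N.Normal := by
    refine ⟨fun g hg c => ?_⟩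
    rw [hN] at hg ⊢
    rcases hg with rfl | h
    · left; group
    · right
      intro a ha
      rw [mul_smul, mul_smul, ← eq_inv_smul_iff] at ha
      exact h _ ha
  have : Nontrivial N := Finite.one_lt_card_iff_nontrivial.1 (by omega)
  obtain ⟨p, hp, hpg, -, hexp⟩ := Cfsg.Agent.Perm.RegularNormal.elementaryAbelian_of_conj
    (Cfsg.Agent.Perm.RegularNormal.exists_conj (a := a₀) htrN hreg
      (fun x y hx hy => exists_fix_map h2 hx hy))
  exact ⟨N, hnorm, hab, htrN, hreg, hN, p, hp, hpg, hexp⟩

end Cfsg.Agent.Perm.Sharp
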