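import Mathlib
import Cfsg.Agent.S0734

/-! A `k`-transitive group, `4 ≤ k < n`, induces the alternating group on some `(k+1)`-set. -/

set_option autoImplicit false

namespace Cfsg.Agent.Perm.AltSet

variable {α : Type*} [Fintype α] [DecidableEq α]

omit [Fintype α] [DecidableEq α] in
theorem inv_apply' (f : Equiv.Perm α) (x : α) : f⁻¹ (f x) = x := f.symm_apply_apply x

omit [Fintype α] [DecidableEq α] in
theorem apply_inv' (f : Equiv.Perm α) (x : α) : f (f⁻¹ x) = x := f.apply_symm_apply x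

/-- Elements of `G` fixing `s` pointwise. -/
def fx (G : Subgroup (Equiv.Perm α)) (s : Finset α) : Subgroup (Equiv.Perm α) where
  carrier := {g | g ∈ G ∧ ∀ x ∈ s, g x = x}
  one_mem' := ⟨G.one_mem, fun _ _ => rfl⟩
  mul_mem' := fun {g h} hg hh => ⟨G.mul_mem hg.1 hh.1, fun x hx => by
    rw [Equiv.Perm.mul_apply, hh.2 x hx, hg.2 x hx]⟩
  inv_mem' := fun {g} hg => ⟨G.inv_mem hg.1, fun x hx => by
    rw [Equiv.Perm.inv_eq_iff_eq, hg.2 x hx]⟩

theorem mem_fx {G : Subgroup (Equiv.Perm α)} {s : Finset α} {g : Equiv.Perm α} :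
    g ∈ fx G s ↔ g ∈ G ∧ ∀ x ∈ s, g x = x := Iff.rfl

/-- Every map on a `k`-set is induced. -/
def Ext (G : Subgroup (Equiv.Perm α)) (k : ℕ) : Prop :=
  ∀ s : Finset α, s.card = k → ∀ π : Equiv.Perm α, ∃ g ∈ G, ∀ x ∈ s, g x = π x

/-- No non-identity element fixes more than `k` points. -/
def Small (G : Subgroup (Equiv.Perm α)) (k : ℕ) : Prop :=
  ∀ g ∈ G, ∀ T : Finset α, k + 1 ≤ T.card → (∀ x ∈ T, g x = x) → g = 1

/-- The conclusion. -/
def Good (G : Subgroup (Equiv.Perm α)) (k : ℕ) : Prop :=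
  ∃ Δ : Finset α, Δ.card = k + 1 ∧
    ∀ σ : Equiv.Perm ↥Δ, σ ∈ alternatingGroup ↥Δ → ∃ g ∈ G, ∀ x : ↥Δ, g (x : α) = σ x

theorem ext_of_multiply {G : Subgroup (Equiv.Perm α)} {k : ℕ}
    (hG : MulAction.IsMultiplyPretransitive G α k) : Ext G k := by
  intro s hs π
  let e : Fin k ≃ ↥s := (finCongr hs.symm).trans s.equivFin.symm
  let x : Fin k ↪ α := e.toEmbedding.trans (Function.Embedding.subtype _)
  let y : Fin k ↪ α := x.trans π.toEmbedding
  obtain ⟨g, hg⟩ := hG.exists_smul_eq x y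
  refine ⟨g, g.2, fun z hz => ?_⟩
  have := DFunLike.congr_fun hg (e.symm ⟨z, hz⟩)
  simp only [x, y, Function.Embedding.trans_apply, Equiv.coe_toEmbedding, Equiv.apply_symm_apply,
    Function.Embedding.subtype_apply, Function.Embedding.smul_apply] at this
  exact this

theorem multiply_of_ext {G : Subgroup (Equiv.Perm α)} {k : ℕ} (h : Ext G k) :
    MulAction.IsMultiplyPretransitive G α k := by
  classical
  refine ⟨fun x y => ?_⟩
  obtain ⟨π, hπ⟩ : ∃ π : Equiv.Perm α, ∀ i, π (x i) = y i := by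
    let e : {a // a ∈ Set.range x} ≃ {a // a ∈ Set.range y} :=
      (Equiv.ofInjective x x.injective).symm.trans (Equiv.ofInjective y y.injective)
    refine ⟨e.extendSubtype, fun i => ?_⟩
    rw [Equiv.extendSubtype_apply_of_mem e (x i) ⟨i, rfl⟩]
    show ((Equiv.ofInjective y y.injective) ((Equiv.ofInjective x x.injective).symm ⟨x i, _⟩) : α) = y i
    rw [Equiv.ofInjective_symm_apply]
    rfl
  obtain ⟨g, hg, hgx⟩ := h (Finset.univ.map x) (by simp) π
  refine ⟨⟨g, hg⟩, DFunLike.ext _ _ fun i => ?_⟩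
  show g (x i) = y i
  rw [hgx (x i) (by simp), hπ]

theorem exists_perm_image {s t : Finset α} (h : s.card = t.card) :
    ∃ π : Equiv.Perm α, ∀ x, π x ∈ t ↔ x ∈ s := by
  let e : {x // x ∈ s} ≃ {x // x ∈ t} := Finset.equivOfCardEq h
  refine ⟨e.extendSubtype, fun x => ⟨fun hx => ?_, fun hx => e.extendSubtype_mem x hx⟩⟩
  by_contra hn
  exact e.extendSubtype_not_mem x hn hx

theorem card_fx {G : Subgroup (Equiv.Perm α)} {k : ℕ} (hE : Ext G k) {s t : Finset α}
    (hs : s.card = k) (ht : t.card = k) : Nat.card (fx G s) = Nat.card (fx G t) := by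
  obtain ⟨π, hπ⟩ := exists_perm_image (hs.trans ht.symm)
  obtain ⟨g, hg, hgx⟩ := hE s hs π
  have hmap : ∀ y ∈ t, g⁻¹ y ∈ s ∧ g (g⁻¹ y) = y := by
    intro y hy
    obtain ⟨x, rfl⟩ := π.surjective y
    have hx := (hπ x).1 hy
    rw [← hgx x hx, inv_apply']
    exact ⟨hx, rfl⟩
  refine Nat.card_congr ((MulAut.conj g).toEquiv.subtypeEquiv fun h => ?_)
  show h ∈ fx G s ↔ g * h * g⁻¹ ∈ fx G t
  constructor
  · rintro ⟨hh, hfix⟩
    refine ⟨G.mul_mem (G.mul_mem hg hh) (G.inv_mem hg), fun y hy => ?_⟩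
    rw [Equiv.Perm.mul_apply, Equiv.Perm.mul_apply, hfix _ (hmap y hy).1, (hmap y hy).2]
  · rintro ⟨hh, hfix⟩
    refine ⟨?_, fun x hx => ?_⟩
    · have := G.mul_mem (G.mul_mem (G.inv_mem hg) hh) hg
      simpa [mul_assoc] using this
    · have hy : g x ∈ t := by
        rw [hgx x hx]
        exact (hπ x).2 hx
      have := hfix _ hy
      rw [Equiv.Perm.mul_apply, Equiv.Perm.mul_apply, inv_apply'] at this
      exact g.injective this

/-- At most two orbits of a `k`-set's pointwise stabiliser outside it suffice. -/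
theorem good_of_few {G : Subgroup (Equiv.Perm α)} {k : ℕ} (hkn : k < Fintype.card α)
    (hE : Ext G k) (hS : Small G k) {Γ : Finset α} (hΓ : Γ.card = k)
    (hlt : Fintype.card α - k < 3 * Nat.card (fx G Γ)) : Good G k := by
  classical
  obtain ⟨x0, hx0⟩ : ∃ x, x ∉ Γ := by
    by_contra! h
    have := Finset.card_le_card (fun x _ => h x : (Finset.univ : Finset α) ⊆ Γ)
    rw [Finset.card_univ] at this
    omega
  -- among three points outside `Γ` two are in one orbit
  let O : α → Finset α := fun u =>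
    Finset.univ.image fun g : fx G Γ => (g : Equiv.Perm α) u
  have hOcard : ∀ u, u ∉ Γ → (O u).card = Nat.card (fx G Γ) := by
    intro u hu
    rw [Finset.card_image_of_injective _ (fun g h hgh => ?_), Finset.card_univ,
      Nat.card_eq_fintype_card]
    have h1 : ((h⁻¹ * g : fx G Γ) : Equiv.Perm α) = 1 := by
      refine hS _ (h⁻¹ * g).2.1 (insert u Γ) (by rw [Finset.card_insert_of_notMem hu, hΓ]) ?_
      intro y hy
      rcases Finset.mem_insert.1 hy with rfl | hy
      · show (h : Equiv.Perm α)⁻¹ ((g : Equiv.Perm α) y) = y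
        rw [Equiv.Perm.inv_eq_iff_eq]
        exact hgh
      · exact (h⁻¹ * g).2.2 y hy
    exact (inv_mul_eq_one.1 (Subtype.ext h1)).symm
  have hOsub : ∀ u, u ∉ Γ → O u ⊆ Γᶜ := by
    intro u hu y hy
    obtain ⟨g, -, rfl⟩ := Finset.mem_image.1 hy
    rw [Finset.mem_compl]
    intro h
    exact hu ((g : Equiv.Perm α).injective (g.2.2 _ h) ▸ h)
  have hmeet : ∀ u v : α, ¬ Disjoint (O u) (O v) → ∃ g ∈ fx G Γ, g u = v := by
    intro u v h
    obtain ⟨y, hy, hy'⟩ := Finset.not_disjoint_iff.1 h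
    obtain ⟨g, -, hg⟩ := Finset.mem_image.1 hy
    obtain ⟨g', -, hg'⟩ := Finset.mem_image.1 hy'
    refine ⟨(g'⁻¹ * g : fx G Γ), (g'⁻¹ * g).2, ?_⟩
    show (g' : Equiv.Perm α)⁻¹ ((g : Equiv.Perm α) u) = v
    rw [Equiv.Perm.inv_eq_iff_eq, hg, hg']
  set Δ := insert x0 Γ
  refine ⟨Δ, by rw [Finset.card_insert_of_notMem hx0, hΓ], ?_⟩
  let H : Subgroup (Equiv.Perm ↥Δ) :=
    { carrier := {σ | ∃ g ∈ G, ∀ x : ↥Δ, g (x : α) = σ x}
      one_mem' := ⟨1, G.one_mem, fun _ => rfl⟩
      mul_mem' := by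
        rintro σ τ ⟨g, hg, hgx⟩ ⟨h, hh, hhx⟩
        exact ⟨g * h, G.mul_mem hg hh, fun x => by
          rw [Equiv.Perm.mul_apply, hhx, hgx, Equiv.Perm.mul_apply]⟩
      inv_mem' := by
        rintro σ ⟨g, hg, hgx⟩
        refine ⟨g⁻¹, G.inv_mem hg, fun x => ?_⟩
        rw [Equiv.Perm.inv_eq_iff_eq, hgx, apply_inv'] }
  suffices hc : ∀ c : Equiv.Perm ↥Δ, c.IsThreeCycle → c ∈ H by
    intro σ hσ
    rw [← Equiv.Perm.closure_three_cycles_eq_alternating] at hσ
    exact (Subgroup.closure_le H).2 hc hσ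
  intro c hc
  have hc3 : c * c * c = 1 := by
    have := pow_orderOf_eq_one c
    rwa [hc.orderOf, pow_three', ] at this
  have hpick : ∀ σ : Equiv.Perm ↥Δ, ∃ g ∈ G, ∃ u, u ∉ Γ ∧ (∀ y ∈ Γ, g y = Equiv.Perm.ofSubtype σ y)
      ∧ g u = Equiv.Perm.ofSubtype σ x0 := by
    intro σ
    obtain ⟨g, hg, hgx⟩ := hE Γ hΓ (Equiv.Perm.ofSubtype σ)
    refine ⟨g, hg, g⁻¹ (Equiv.Perm.ofSubtype σ x0), fun h => ?_, hgx, apply_inv' _ _⟩
    have h1 := hgx _ h
    rw [apply_inv'] at h1
    exact hx0 ((Equiv.Perm.ofSubtype σ).injective h1 ▸ h)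
  have hrel : ∀ σ τ : Equiv.Perm ↥Δ, ∀ g ∈ G, ∀ h ∈ G, ∀ u v,
      (∀ y ∈ Γ, g y = Equiv.Perm.ofSubtype σ y) → g u = Equiv.Perm.ofSubtype σ x0 →
      (∀ y ∈ Γ, h y = Equiv.Perm.ofSubtype τ y) → h v = Equiv.Perm.ofSubtype τ x0 →
      ¬ Disjoint (O u) (O v) → τ * σ⁻¹ ∈ H := by
    intro σ τ g hg h hh u v hgy hgu hhy hhv hd
    obtain ⟨q, hq, hqu⟩ := hmeet u v hd
    refine ⟨h * q * g⁻¹, G.mul_mem (G.mul_mem hh hq.1) (G.inv_mem hg), fun x => ?_⟩
    obtain ⟨z, rfl⟩ := σ.surjective x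
    rw [Equiv.Perm.mul_apply τ, inv_apply', Equiv.Perm.mul_apply,
      Equiv.Perm.mul_apply]
    rw [← Equiv.Perm.ofSubtype_apply_coe σ z, ← Equiv.Perm.ofSubtype_apply_coe τ z]
    rcases Finset.mem_insert.1 z.2 with hz | hz
    · rw [hz, ← hgu, inv_apply', hqu, hhv]
    · rw [← hgy _ hz, inv_apply', hq.2 _ hz, hhy _ hz]
  obtain ⟨g1, hg1, u1, hu1, hg1y, hg1u⟩ := hpick 1
  obtain ⟨g2, hg2, u2, hu2, hg2y, hg2u⟩ := hpick c
  obtain ⟨g3, hg3, u3, hu3, hg3y, hg3u⟩ := hpick (c * c)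
  by_cases h12 : Disjoint (O u1) (O u2)
  · by_cases h13 : Disjoint (O u1) (O u3)
    · by_cases h23 : Disjoint (O u2) (O u3)
      · exfalso
        have hsub : O u1 ∪ O u2 ∪ O u3 ⊆ Γᶜ :=
          Finset.union_subset (Finset.union_subset (hOsub _ hu1) (hOsub _ hu2)) (hOsub _ hu3)
        have := Finset.card_le_card hsub
        rw [Finset.card_union_of_disjoint (Finset.disjoint_union_left.2 ⟨h13, h23⟩),
          Finset.card_union_of_disjoint h12, hOcard _ hu1, hOcard _ hu2, hOcard _ hu3,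
          Finset.card_compl, hΓ] at this
        omega
      · simpa [mul_assoc] using hrel c (c * c) g2 hg2 g3 hg3 u2 u3 hg2y hg2u hg3y hg3u h23
    · have h := hrel 1 (c * c) g1 hg1 g3 hg3 u1 u3 hg1y hg1u hg3y hg3u h13
      rw [inv_one, mul_one] at h
      have h' := H.mul_mem h h
      rwa [← mul_assoc, hc3, one_mul] at h'
  · simpa using hrel 1 c g1 hg1 g2 hg2 u1 u2 hg1y hg1u hg2y hg2u h12

/-- The case of a pointwise stabiliser of even order. -/
theorem few_of_even {G : Subgroup (Equiv.Perm α)} {k : ℕ} (hk : 2 ≤ k) (hkn : k < Fintype.card α)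
    (hE : Ext G k) (hS : Small G k) {Γ : Finset α} (hΓ : Γ.card = k)
    (he : Even (Nat.card (fx G Γ))) : Fintype.card α - k ≤ 2 * Nat.card (fx G Γ) := by
  classical
  set e := Nat.card (fx G Γ) with hedef
  obtain ⟨R, -, hRc⟩ := Finset.exists_subset_card_eq (show k - 2 ≤ Γ.card by omega)
  set W := Rᶜ with hWdef
  have hWc : W.card = Fintype.card α - k + 2 := by
    rw [hWdef, Finset.card_compl, hRc]
    omega
  have hq : ∀ q ∈ W.powersetCard 2, ∃ g ∈ fx G (R ∪ q), g * g = 1 ∧ g ≠ 1 := by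
    intro q hq
    rw [Finset.mem_powersetCard] at hq
    have hc : (R ∪ q).card = k := by
      rw [Finset.card_union_of_disjoint
        (disjoint_compl_right.mono_right hq.1), hRc, hq.2]
      omega
    obtain ⟨t, ht⟩ := exists_prime_orderOf_dvd_card' (G := fx G (R ∪ q)) 2
      (by rw [card_fx hE hc hΓ]; exact he.two_dvd)
    refine ⟨t, t.2, ?_, ?_⟩
    · rw [← Subgroup.coe_mul, ← pow_two, ← ht, pow_orderOf_eq_one, Subgroup.coe_one]
    · rw [Ne, OneMemClass.coe_eq_one, ← orderOf_eq_one_iff, ht]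
      norm_num
  choose! i hi hii hine using hq
  have hfix : ∀ q ∈ W.powersetCard 2, W.filter (fun x => i q x ≠ x) = W \ q := by
    intro q hqm
    have hq' := Finset.mem_powersetCard.1 hqm
    ext x
    simp only [Finset.mem_filter, Finset.mem_sdiff]
    refine and_congr_right fun hxW => ⟨fun h hxq => h ((hi q hqm).2 x (Finset.mem_union_right _ hxq)),
      fun hxq h => hine q hqm ?_⟩
    refine hS _ (hi q hqm).1 (insert x (R ∪ q)) ?_ ?_
    · rw [Finset.card_insert_of_notMem (by simp [hxq, Finset.mem_compl.1 hxW]),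
        Finset.card_union_of_disjoint (disjoint_compl_right.mono_right hq'.1), hRc, hq'.2]
      omega
    · intro y hy
      rcases Finset.mem_insert.1 hy with rfl | hy
      · exact h
      · exact (hi q hqm).2 y hy
  have hbound : ∀ x ∈ W, ((W.powersetCard 2).filter fun q => i q x ≠ x).card ≤
      e * (W.erase x).card := by
    intro x hx
    refine Finset.card_le_mul_card_image_of_maps_to (f := fun q => i q x) ?_ e ?_
    · intro q hq
      rw [Finset.mem_filter] at hq
      refine Finset.mem_erase.2 ⟨hq.2, Finset.mem_compl.2 fun h => ?_⟩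
      have h1 := (hi q hq.1).2 _ (Finset.mem_union_left _ h)
      exact hq.2 ((i q).injective h1)
    · intro y hy
      set Fb := ((W.powersetCard 2).filter fun q => i q x ≠ x).filter fun q => i q x = y with hFb
      rcases Fb.eq_empty_or_nonempty with h | ⟨q0, hq0⟩
      · rw [h]
        simp
      simp only [hFb, Finset.mem_filter] at hq0
      rw [Finset.mem_erase] at hy
      have hT : (insert x (insert y R)).card = k := by
        rw [Finset.card_insert_of_notMem (by simp [Ne.symm hy.1, Finset.mem_compl.1 hx]),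
          Finset.card_insert_of_notMem (Finset.mem_compl.1 hy.2), hRc]
        omega
      have hmem : ∀ q ∈ Fb, i q0 * i q ∈ fx G (insert x (insert y R)) := by
        intro q hq
        simp only [hFb, Finset.mem_filter] at hq
        refine ⟨G.mul_mem (hi q0 hq0.1.1).1 (hi q hq.1.1).1, fun z hz => ?_⟩
        rw [Equiv.Perm.mul_apply]
        have sym : ∀ p ∈ W.powersetCard 2, i p x = y → i p y = x := fun p hp h => by
          rw [← h, ← Equiv.Perm.mul_apply, hii p hp, Equiv.Perm.one_apply]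
        simp only [Finset.mem_insert] at hz
        rcases hz with rfl | rfl | hz
        · rw [hq.2, sym q0 hq0.1.1 hq0.2]
        · rw [sym q hq.1.1 hq.2, hq0.2]
        · rw [(hi q hq.1.1).2 z (Finset.mem_union_left _ hz),
            (hi q0 hq0.1.1).2 z (Finset.mem_union_left _ hz)]
      rw [hedef, ← card_fx hE hT hΓ, Nat.card_eq_fintype_card, ← Finset.card_univ]
      refine Finset.card_le_card_of_injOn
        (fun q => if h : q ∈ Fb then (⟨_, hmem q h⟩ : fx G (insert x (insert y R))) else 1)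
        (fun q _ => Finset.mem_univ _) ?_
      intro q hq q' hq' h
      simp only [dif_pos (Finset.mem_coe.1 hq), dif_pos (Finset.mem_coe.1 hq'), Subtype.mk.injEq,
        mul_right_inj] at h
      have hqq := Finset.mem_coe.1 hq
      have hqq' := Finset.mem_coe.1 hq'
      simp only [hFb, Finset.mem_filter] at hqq hqq'
      have h1 := hfix q hqq.1.1
      rw [h, hfix q' hqq'.1.1] at h1
      have hs := (Finset.mem_powersetCard.1 hqq.1.1).1
      have hs' := (Finset.mem_powersetCard.1 hqq'.1.1).1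
      rw [← Finset.sdiff_sdiff_eq_self hs, ← h1, Finset.sdiff_sdiff_eq_self hs']
  have hsum := Finset.sum_card_bipartiteAbove_eq_sum_card_bipartiteBelow
    (s := W.powersetCard 2) (t := W) (fun q x => i q x ≠ x)
  simp only [Finset.bipartiteAbove, Finset.bipartiteBelow] at hsum
  set N := Fintype.card α - k with hN
  have hL : ∑ q ∈ W.powersetCard 2, (W.filter fun x => i q x ≠ x).card =
      (W.powersetCard 2).card * N := by
    rw [Finset.sum_congr rfl (g := fun _ => N) (fun q hq => by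
      rw [hfix q hq, Finset.card_sdiff_of_subset (Finset.mem_powersetCard.1 hq).1, hWc,
        (Finset.mem_powersetCard.1 hq).2, Nat.add_sub_cancel]), Finset.sum_const, smul_eq_mul]
  have hR : ∑ x ∈ W, ((W.powersetCard 2).filter fun q => i q x ≠ x).card ≤ W.card * (e * (N + 1)) := by
    refine (Finset.sum_le_sum hbound).trans ?_
    rw [Finset.sum_congr rfl (g := fun _ => e * (N + 1)) (fun x hx => by
      rw [Finset.card_erase_of_mem hx, hWc, show N + 2 - 1 = N + 1 by omega]), Finset.sum_const,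
      smul_eq_mul]
  rw [← hsum, hL, Finset.card_powersetCard, hWc, Nat.choose_two_right,
    show N + 2 - 1 = N + 1 by omega] at hR
  have h2 : (N + 2) * (N + 1) / 2 * 2 = (N + 2) * (N + 1) :=
    Nat.div_mul_cancel (by rw [mul_comm]; exact (Nat.even_mul_succ_self (N + 1)).two_dvd)
  generalize (N + 2) * (N + 1) / 2 = P at h2 hR
  have h3 : ((N + 2) * (N + 1)) * N ≤ ((N + 2) * (N + 1)) * (2 * e) := by nlinarith
  exact Nat.le_of_mul_le_mul_left h3 (by positivity)

section odd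

variable {G : Subgroup (Equiv.Perm α)} {k : ℕ}

/-- No involution fixes `k` points when the stabiliser of `k` points has odd order. -/
theorem sq_fix_eq_one {s : Finset α} (he : Odd (Nat.card (fx G s))) {g : Equiv.Perm α}
    (hg : g ∈ fx G s) (h2 : g * g = 1) : g = 1 := by
  obtain ⟨j, hj⟩ := he
  have h1 : g ^ Nat.card (fx G s) = 1 := by
    have := pow_card_eq_one' (x := (⟨g, hg⟩ : fx G s))
    exact congrArg Subtype.val this
  rwa [hj, pow_succ, pow_mul, pow_two, h2, one_pow, one_mul] at h1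

/-- An involutive map of a set with odd pointwise stabiliser that is induced at all is induced by an
involution, commuting with a given one. -/
theorem exists_lift' {s : Finset α} (he : Odd (Nat.card (fx G s))) {π g0 : Equiv.Perm α} (hg0 : g0 ∈ G)
    (hg0x : ∀ x ∈ s, g0 x = π x) (hπs : ∀ x ∈ s, π x ∈ s) (hπ : ∀ x ∈ s, π (π x) = x)
    {u : Equiv.Perm α} (hu : u ∈ G) (hu2 : u * u = 1) (hus : ∀ x ∈ s, u x ∈ s)
    (huπ : ∀ x ∈ s, u (π x) = π (u x)) :
    ∃ z ∈ G, z * z = 1 ∧ (∀ x ∈ s, z x = π x) ∧ u * z = z * u := by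
  obtain ⟨j, hj⟩ := he
  have hsq : g0 * g0 ∈ fx G s := ⟨G.mul_mem hg0 hg0, fun x hx => by
    rw [Equiv.Perm.mul_apply, hg0x x hx, hg0x _ (hπs x hx), hπ x hx]⟩
  obtain ⟨z0, hz0⟩ : ∃ z0, z0 = g0 ^ Nat.card (fx G s) := ⟨_, rfl⟩
  have hz0G : z0 ∈ G := hz0 ▸ pow_mem hg0 _
  have hz02 : z0 * z0 = 1 := by
    rw [hz0, ← pow_add, ← two_mul, pow_mul, pow_two]
    have := pow_card_eq_one' (x := (⟨_, hsq⟩ : fx G s))
    exact congrArg Subtype.val this
  have hz0x : ∀ x ∈ s, z0 x = π x := by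
    intro x hx
    rw [hz0, hj, pow_succ', pow_mul, pow_two, Equiv.Perm.mul_apply,
      ((fx G s).pow_mem hsq j).2 x hx, hg0x x hx]
  obtain ⟨w, hw⟩ : ∃ w, w = z0 * (u * z0 * u) := ⟨_, rfl⟩
  have hwmem : w ∈ fx G s := ⟨hw ▸ G.mul_mem hz0G (G.mul_mem (G.mul_mem hu hz0G) hu), fun x hx => by
    simp only [hw, Equiv.Perm.mul_apply]
    rw [hz0x _ (hus x hx), huπ _ (hus x hx), ← Equiv.Perm.mul_apply u u, hu2, Equiv.Perm.one_apply,
      hz0x _ (hπs x hx), hπ x hx]⟩
  have huw : u * w * u = w⁻¹ := by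
    rw [eq_inv_iff_mul_eq_one, hw]
    calc u * (z0 * (u * z0 * u)) * u * (z0 * (u * z0 * u))
        = u * z0 * u * z0 * (u * u) * (z0 * (u * z0 * u)) := by group
      _ = u * z0 * u * (z0 * z0) * (u * z0 * u) := by rw [hu2, mul_one]; group
      _ = u * z0 * (u * u) * z0 * u := by rw [hz02, mul_one]; group
      _ = 1 := by rw [hu2, mul_one, mul_assoc u, hz02, mul_one, hu2]
  have hzw : z0 * w * z0 = w⁻¹ := by
    rw [eq_inv_iff_mul_eq_one, hw]
    calc z0 * (z0 * (u * z0 * u)) * z0 * (z0 * (u * z0 * u))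
        = (z0 * z0) * (u * z0 * u) * (z0 * z0) * (u * z0 * u) := by group
      _ = u * z0 * (u * u) * z0 * u := by rw [hz02, one_mul, mul_one]; group
      _ = 1 := by rw [hu2, mul_one, mul_assoc u, hz02, mul_one, hu2]
  obtain ⟨i, hi⟩ : ∃ i, w ^ (4 * i + 1) = 1 := by
    have h1 : w ^ Nat.card (fx G s) = 1 := by
      have := pow_card_eq_one' (x := (⟨w, hwmem⟩ : fx G s))
      exact congrArg Subtype.val this
    rcases Nat.even_or_odd j with ⟨q, hq⟩ | ⟨q, hq⟩
    · exact ⟨q, by rwa [show 4 * q + 1 = Nat.card (fx G s) by omega]⟩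
    · exact ⟨3 * q + 2, by
        rw [show 4 * (3 * q + 2) + 1 = Nat.card (fx G s) * 3 by omega, pow_mul, h1, one_pow]⟩
  have hconj : ∀ a : Equiv.Perm α, a * a = 1 → a * w * a = w⁻¹ →
      ∀ n : ℕ, a * w ^ n * a = (w ^ n)⁻¹ := by
    intro a ha haw n
    induction n with
    | zero => simp [ha]
    | succ n ih =>
      calc a * w ^ (n + 1) * a = a * w ^ n * (a * a) * w * a := by rw [ha, pow_succ]; group
        _ = (a * w ^ n * a) * (a * w * a) := by group
        _ = (w ^ (n + 1))⁻¹ := by rw [ih, haw, pow_succ', mul_inv_rev]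
  obtain ⟨z, hz⟩ : ∃ z, z = w ^ (2 * i) * z0 := ⟨_, rfl⟩
  refine ⟨z, hz ▸ G.mul_mem (pow_mem hwmem.1 _) hz0G, ?_, fun x hx => ?_, ?_⟩
  · calc z * z = w ^ (2 * i) * (z0 * w ^ (2 * i) * z0) := by rw [hz]; group
      _ = 1 := by rw [hconj z0 hz02 hzw, mul_inv_cancel]
  · rw [hz, Equiv.Perm.mul_apply, hz0x x hx]
    exact ((fx G s).pow_mem hwmem _).2 _ (hπs x hx)
  · have key : u * z * u = z := by
      have h4 : w⁻¹ = w ^ (4 * i) := by
        rw [pow_succ] at hi
        exact (eq_inv_of_mul_eq_one_left hi).symm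
      calc u * z * u = u * w ^ (2 * i) * (u * u) * z0 * u := by rw [hz, hu2]; group
        _ = (u * w ^ (2 * i) * u) * ((z0 * z0) * (u * z0 * u)) := by rw [hz02]; group
        _ = (w ^ (2 * i))⁻¹ * (z0 * w * (z0 * z0)) := by
          rw [hconj u hu2 huw, hz02, one_mul, mul_one,
            show u * z0 * u = z0 * w by rw [hw, ← mul_assoc z0, hz02, one_mul]]
        _ = (w ^ (2 * i))⁻¹ * ((z0 * w * z0) * z0) := by group
        _ = z := by
          rw [hzw, h4, show 4 * i = 2 * i + 2 * i by ring, pow_add, hz]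
          group
    calc u * z = (u * z * u) * u := by rw [mul_assoc (u * z), hu2, mul_one]
      _ = z * u := by rw [key]

/-- An involutive map of a `k`-set is induced by an involution, commuting with a given one. -/
theorem exists_lift {s : Finset α} (hs : s.card = k) (hE : Ext G k) (he : Odd (Nat.card (fx G s)))
    {π : Equiv.Perm α} (hπs : ∀ x ∈ s, π x ∈ s) (hπ : ∀ x ∈ s, π (π x) = x)
    {u : Equiv.Perm α} (hu : u ∈ G) (hu2 : u * u = 1) (hus : ∀ x ∈ s, u x ∈ s)
    (huπ : ∀ x ∈ s, u (π x) = π (u x)) :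
    ∃ z ∈ G, z * z = 1 ∧ (∀ x ∈ s, z x = π x) ∧ u * z = z * u := by
  obtain ⟨g0, hg0, hg0x⟩ := hE s hs π
  exact exists_lift' he hg0 hg0x hπs hπ hu hu2 hus huπ

end odd

end Cfsg.Agent.Perm.AltSet
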