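import Mathlib
import Cfsg.Agent.Lib.Perm.AltSet

/-! The odd-stabiliser case of the lemma on `(k+1)`-sets. -/

set_option autoImplicit false

namespace Cfsg.Agent.Perm.AltSet

variable {α : Type*} [Fintype α] [DecidableEq α] {G : Subgroup (Equiv.Perm α)} {k : ℕ}

theorem swap_mem {Γ : Finset α} {a b x : α} (ha : a ∈ Γ) (hb : b ∈ Γ) (hx : x ∈ Γ) :
    Equiv.swap a b x ∈ Γ := by
  rw [Equiv.swap_apply_def]
  split_ifs <;> assumption

omit [Fintype α] in
/-- At most two points moved by `u` are fixed by a commuting involution which fixes `k - 4` of the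
points fixed by `u`. -/
theorem cover_two {R A : Finset α} {u g : Equiv.Perm α} (hRu : ∀ x ∈ R, u x = x)
    (hRg : ∀ x ∈ R, g x = x) (hu2 : u * u = 1) (hug : u * g = g * u) (hR : k - 4 ≤ R.card)
    (hA : ∀ x ∈ A, g x = x ∧ u x ≠ x)
    (hfew : ∀ T : Finset α, k ≤ T.card → ¬ ∀ x ∈ T, g x = x) : A.card ≤ 2 := by
  by_contra h
  obtain ⟨x, hx⟩ := Finset.card_pos.1 (show 0 < A.card by omega)
  obtain ⟨y, hy⟩ : ((A.erase x).erase (u x)).Nonempty := by
    rw [← Finset.card_pos]
    have h1 := Finset.pred_card_le_card_erase (s := A) (a := x)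
    have h2 := Finset.pred_card_le_card_erase (s := A.erase x) (a := u x)
    omega
  simp only [Finset.mem_erase] at hy
  obtain ⟨hy1, hy2, hyA⟩ := hy
  have huu : ∀ z, u (u z) = z := fun z => by rw [← Equiv.Perm.mul_apply, hu2, Equiv.Perm.one_apply]
  have hgu : ∀ z, g z = z → g (u z) = u z := fun z hz => by
    rw [← Equiv.Perm.mul_apply, ← hug, Equiv.Perm.mul_apply, hz]
  obtain ⟨hgx, hux⟩ := hA x hx
  obtain ⟨hgy, huy⟩ := hA y hyA
  have hxR : x ∉ R := fun h => hux (hRu x h)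
  have hyR : y ∉ R := fun h => huy (hRu y h)
  have huxR : u x ∉ R := fun h => hux ((hRu _ h).symm.trans (huu x))
  have huyR : u y ∉ R := fun h => huy ((hRu _ h).symm.trans (huu y))
  have h1 : u y ≠ x := fun h => hy1 (by rw [← h, huu])
  have h2 : u y ≠ u x := fun h => hy2 (u.injective h)
  refine hfew (insert x (insert (u x) (insert y (insert (u y) R)))) ?_ ?_
  · rw [Finset.card_insert_of_notMem (by simp [hux.symm, hy2.symm, h1.symm, hxR]),
      Finset.card_insert_of_notMem (by simp [hy1.symm, h2.symm, huxR]),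
      Finset.card_insert_of_notMem (by simp [huy.symm, hyR]),
      Finset.card_insert_of_notMem huyR]
    omega
  · intro z hz
    simp only [Finset.mem_insert] at hz
    rcases hz with rfl | rfl | rfl | rfl | hz
    · exact hgx
    · exact hgu x hgx
    · exact hgy
    · exact hgu y hgy
    · exact hRg z hz

/-- A transposition lift has at most one further fixed point, and either there are few orbits or
there is exactly one further fixed point and at most seven points outside. -/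
theorem odd_frame (hk : 4 ≤ k) (hE : Ext G k) (hS : Small G k)
    (hodd : ∀ s : Finset α, s.card = k → Odd (Nat.card (fx G s))) {Γ : Finset α} (hΓ : Γ.card = k)
    {a b : α} (ha : a ∈ Γ) (hb : b ∈ Γ) (hab : a ≠ b) {u : Equiv.Perm α} (hu : u ∈ G)
    (hu2 : u * u = 1) (hux : ∀ x ∈ Γ, u x = Equiv.swap a b x) :
    Fintype.card α - k ≤ 2 * Nat.card (fx G Γ) ∨
      ((∃ f, f ∉ Γ ∧ u f = f ∧ ∀ f', f' ∉ Γ → u f' = f' → f' = f) ∧ Fintype.card α - k ≤ 7) := by
  classical
  have hfew : ∀ g ∈ G, g * g = 1 → g ≠ 1 → ∀ T : Finset α, k ≤ T.card → ¬ ∀ x ∈ T, g x = x := by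
    intro g hg hg2 hg1 T hT h
    obtain ⟨T', hT', hT'c⟩ := Finset.exists_subset_card_eq hT
    exact hg1 (sq_fix_eq_one (hodd T' hT'c) ⟨hg, fun x hx => h x (hT' hx)⟩ hg2)
  have huu : ∀ z, u (u z) = z := fun z => by rw [← Equiv.Perm.mul_apply, hu2, Equiv.Perm.one_apply]
  have hua : u a = b := by rw [hux a ha, Equiv.swap_apply_left]
  have hub : u b = a := by rw [hux b hb, Equiv.swap_apply_right]
  have hu1 : u ≠ 1 := fun h => hab (by rw [← hua, h, Equiv.Perm.one_apply])
  have huniq : ∀ f f', f ∉ Γ → u f = f → f' ∉ Γ → u f' = f' → f' = f := by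
    intro f f' hf huf hf' huf'
    by_contra hne
    refine hfew u hu hu2 hu1 (insert f' (insert f ((Γ.erase a).erase b))) ?_ ?_
    · rw [Finset.card_insert_of_notMem (by simp [hne, hf']),
        Finset.card_insert_of_notMem (by simp [hf]),
        Finset.card_erase_of_mem (Finset.mem_erase.2 ⟨hab.symm, hb⟩), Finset.card_erase_of_mem ha, hΓ]
      omega
    · intro z hz
      simp only [Finset.mem_insert, Finset.mem_erase] at hz
      rcases hz with rfl | rfl | ⟨h1, h2, h3⟩
      · exact huf'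
      · exact huf
      · rw [hux z h3, Equiv.swap_apply_of_ne_of_ne h2 h1]
  obtain ⟨c, hc⟩ : ((Γ.erase a).erase b).Nonempty := by
    rw [← Finset.card_pos, Finset.card_erase_of_mem (Finset.mem_erase.2 ⟨hab.symm, hb⟩),
      Finset.card_erase_of_mem ha, hΓ]
    omega
  obtain ⟨d, hd⟩ : (((Γ.erase a).erase b).erase c).Nonempty := by
    rw [← Finset.card_pos, Finset.card_erase_of_mem hc,
      Finset.card_erase_of_mem (Finset.mem_erase.2 ⟨hab.symm, hb⟩), Finset.card_erase_of_mem ha, hΓ]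
    omega
  simp only [Finset.mem_erase] at hc hd
  obtain ⟨hcb, hca, hcΓ⟩ := hc
  obtain ⟨hdc, hdb, hda, hdΓ⟩ := hd
  set R := (((Γ.erase a).erase b).erase c).erase d with hRdef
  have hRc : R.card = k - 4 := by
    rw [hRdef, Finset.card_erase_of_mem (by simp [hdc, hdb, hda, hdΓ]),
      Finset.card_erase_of_mem (by simp [hcb, hca, hcΓ]),
      Finset.card_erase_of_mem (Finset.mem_erase.2 ⟨hab.symm, hb⟩), Finset.card_erase_of_mem ha, hΓ]
    omega
  have hRmem : ∀ z, z ∈ R ↔ z ≠ d ∧ z ≠ c ∧ z ≠ b ∧ z ≠ a ∧ z ∈ Γ := fun z => by simp [hRdef]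
  have hcases : ∀ z ∈ Γ, z = a ∨ z = b ∨ z = c ∨ z = d ∨ z ∈ R := by
    intro z hz
    rw [hRmem]
    tauto
  have huR : ∀ z ∈ R, u z = z := by
    intro z hz
    rw [hRmem] at hz
    rw [hux z hz.2.2.2.2, Equiv.swap_apply_of_ne_of_ne hz.2.2.2.1 hz.2.2.1]
  have huc : u c = c := by rw [hux c hcΓ, Equiv.swap_apply_of_ne_of_ne hca hcb]
  have hud : u d = d := by rw [hux d hdΓ, Equiv.swap_apply_of_ne_of_ne hda hdb]
  set M := Finset.univ.filter (fun x => x ∉ Γ ∧ u x ≠ x) with hMdef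
  have hMmem : ∀ x, x ∈ M ↔ x ∉ Γ ∧ u x ≠ x := fun x => by simp [hMdef]
  -- commuting lifts of the transposition `(a b)` on other `k`-sets
  have hlift : ∀ x ∈ M, ∃ z ∈ G, z * z = 1 ∧ z ≠ 1 ∧ u * z = z * u ∧ (∀ y ∈ R, z y = y) ∧ z x = x ∧
      z a = b ∧ z b = a ∧ ¬ (z c = c ∧ z d = d) := by
    intro x hx
    rw [hMmem] at hx
    obtain ⟨hxΓ, hxu⟩ := hx
    have hyΓ : u x ∉ Γ := fun h => hxΓ (by
      rw [← huu x, hux _ h]
      exact swap_mem ha hb h)
    set s := insert a (insert b (insert x (insert (u x) R)))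
    have hmem : ∀ z, z ∈ s ↔ z = a ∨ z = b ∨ z = x ∨ z = u x ∨ z ∈ R := fun z => by simp [s]
    have hne : ∀ p ∈ Γ, ∀ q, q ∉ Γ → p ≠ q := fun p hp q hq h => hq (h ▸ hp)
    have hsc : s.card = k := by
      have hR : ∀ z ∈ R, z ∈ Γ := fun z hz => ((hRmem z).1 hz).2.2.2.2
      have haR : a ∉ R := fun h => ((hRmem a).1 h).2.2.2.1 rfl
      have hbR : b ∉ R := fun h => ((hRmem b).1 h).2.2.1 rfl
      have hxR : x ∉ R := fun h => hxΓ (hR x h)
      have hyR : u x ∉ R := fun h => hyΓ (hR _ h)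
      rw [Finset.card_insert_of_notMem (by simp [hab, hne a ha x hxΓ, hne a ha _ hyΓ, haR]),
        Finset.card_insert_of_notMem (by simp [hne b hb x hxΓ, hne b hb _ hyΓ, hbR]),
        Finset.card_insert_of_notMem (by simp [hxu.symm, hxR]),
        Finset.card_insert_of_notMem hyR, hRc]
      omega
    have hsw : ∀ q, q ∉ Γ → Equiv.swap a b q = q := fun q hq =>
      Equiv.swap_apply_of_ne_of_ne (hne a ha q hq).symm (hne b hb q hq).symm
    have hswR : ∀ q ∈ R, Equiv.swap a b q = q := fun q hq =>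
      Equiv.swap_apply_of_ne_of_ne ((hRmem q).1 hq).2.2.2.1 ((hRmem q).1 hq).2.2.1
    obtain ⟨z, hz, hz2, hzx, hzu⟩ := exists_lift hsc hE (hodd s hsc) (π := Equiv.swap a b)
      (fun q hq => by
        rcases (hmem q).1 hq with rfl | rfl | rfl | rfl | h
        · simp [hmem]
        · simp [hmem]
        · simp [hmem, hsw _ hxΓ]
        · simp [hmem, hsw _ hyΓ]
        · simp [hmem, hswR q h, h])
      (fun q _ => Equiv.swap_apply_self a b q) hu hu2
      (fun q hq => by
        rcases (hmem q).1 hq with rfl | rfl | rfl | rfl | h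
        · simp [hmem, hua]
        · simp [hmem, hub]
        · simp [hmem]
        · simp [hmem, huu]
        · simp [hmem, huR q h, h])
      (fun q hq => by
        rcases (hmem q).1 hq with rfl | rfl | rfl | rfl | h
        · simp [hua, hub]
        · simp [hua, hub]
        · rw [hsw _ hxΓ, hsw _ hyΓ]
        · rw [huu, hsw _ hxΓ, hsw _ hyΓ, huu]
        · rw [hswR q h, huR q h, hswR q h])
    have hza : z a = b := by rw [hzx a (by simp [hmem]), Equiv.swap_apply_left]
    have hzb : z b = a := by rw [hzx b (by simp [hmem]), Equiv.swap_apply_right]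
    have hzxx : z x = x := by rw [hzx x (by simp [hmem]), hsw x hxΓ]
    have hzR : ∀ y ∈ R, z y = y := fun y hy => by rw [hzx y (by simp [hmem, hy]), hswR y hy]
    refine ⟨z, hz, hz2, fun h => hab (by rw [← hza, h, Equiv.Perm.one_apply]), hzu, hzR, hzxx, hza,
      hzb, fun ⟨hzc, hzd⟩ => hxu ?_⟩
    have h1 : z * u = 1 := by
      refine sq_fix_eq_one (hodd Γ hΓ) ⟨G.mul_mem hz hu, fun q hq => ?_⟩ ?_
      · rw [Equiv.Perm.mul_apply]
        rcases hcases q hq with rfl | rfl | rfl | rfl | h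
        · rw [hua, hzb]
        · rw [hub, hza]
        · rw [huc, hzc]
        · rw [hud, hzd]
        · rw [huR q h, hzR q h]
      · rw [mul_assoc, ← mul_assoc u, hzu, mul_assoc z, hu2, mul_one, hz2]
    have h2 : z (u x) = x := by rw [← Equiv.Perm.mul_apply, h1, Equiv.Perm.one_apply]
    have h3 : z (u x) = u x := by rw [← Equiv.Perm.mul_apply, ← hzu, Equiv.Perm.mul_apply, hzxx]
    exact h3.symm.trans h2
  choose! ζ hζG hζ2 hζ1 hζu hζR hζx hζa hζb hζne using hlift
  -- where `c` and `d` can go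
  have himg : ∀ x ∈ M, ∀ q, u q = q → q ∉ R →
      u (ζ x q) = ζ x q ∧ (ζ x q = c ∨ ζ x q = d ∨ ζ x q ∉ Γ) := by
    intro x hx q hq hqR
    have h1 : u (ζ x q) = ζ x q := by
      rw [← Equiv.Perm.mul_apply, hζu x hx, Equiv.Perm.mul_apply, hq]
    refine ⟨h1, ?_⟩
    by_cases hΓq : ζ x q ∈ Γ
    · rcases hcases _ hΓq with h | h | h | h | h
      · rw [h, hua] at h1
        exact absurd h1 hab.symm
      · rw [h, hub] at h1
        exact absurd h1 hab
      · exact Or.inl h
      · exact Or.inr (Or.inl h)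
      · exact absurd ((ζ x).injective (hζR x hx _ h)) (fun e => hqR (e ▸ h))
    · exact Or.inr (Or.inr hΓq)
  have hcR : c ∉ R := fun h => ((hRmem c).1 h).2.1 rfl
  have hdR : d ∉ R := fun h => ((hRmem d).1 h).1 rfl
  have hinvζ : ∀ x ∈ M, ∀ p q, ζ x p = q → ζ x q = p := fun x hx p q h => by
    rw [← h, ← Equiv.Perm.mul_apply, hζ2 x hx, Equiv.Perm.one_apply]
  have hfibre : ∀ x ∈ M, ∀ S : Finset α, S ⊆ M → (∀ y ∈ S, ζ y = ζ x) → S.card ≤ 2 := by
    intro x hx S hS hSx
    refine cover_two (k := k) (R := R) (g := ζ x) huR (hζR x hx) hu2 (hζu x hx) (by rw [hRc])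
      (fun y hy => ⟨?_, ((hMmem y).1 (hS hy)).2⟩) (hfew _ (hζG x hx) (hζ2 x hx) (hζ1 x hx))
    rw [← hSx y hy]
    exact hζx y (hS hy)
  by_cases hf : ∃ f, f ∉ Γ ∧ u f = f
  · obtain ⟨f, hfΓ, huf⟩ := hf
    refine Or.inr ⟨⟨f, hfΓ, huf, fun f' hf' huf' => huniq f f' hfΓ huf hf' huf'⟩, ?_⟩
    have hfR : f ∉ R := fun h => hfΓ ((hRmem f).1 h).2.2.2.2
    have hto : ∀ x ∈ M, ∀ q, u q = q → q ∉ R → ζ x q = c ∨ ζ x q = d ∨ ζ x q = f := by
      intro x hx q hq hqR
      obtain ⟨h1, h | h | h⟩ := himg x hx q hq hqR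
      · exact Or.inl h
      · exact Or.inr (Or.inl h)
      · exact Or.inr (Or.inr (huniq f _ hfΓ huf h h1))
    have hcd : c ≠ d := hdc.symm
    have hcf : c ≠ f := fun h => hfΓ (h ▸ hcΓ)
    have hdf : d ≠ f := fun h => hfΓ (h ▸ hdΓ)
    have hval : ∀ x ∈ M, (ζ x c = c ∧ ζ x d = f ∧ ζ x f = d) ∨ (ζ x c = d ∧ ζ x d = c ∧ ζ x f = f) ∨
        (ζ x c = f ∧ ζ x d = d ∧ ζ x f = c) := by
      intro x hx
      rcases hto x hx c huc hcR with h | h | h
      · rcases hto x hx d hud hdR with h' | h' | h'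
        · exact absurd ((ζ x).injective (h'.trans h.symm)) hdc
        · exact absurd ⟨h, h'⟩ (hζne x hx)
        · exact Or.inl ⟨h, h', hinvζ x hx _ _ h'⟩
      · have hd' := hinvζ x hx _ _ h
        rcases hto x hx f huf hfR with h' | h' | h'
        · exact absurd ((ζ x).injective (h'.trans hd'.symm)) hdf.symm
        · exact absurd ((ζ x).injective (h'.trans h.symm)) hcf.symm
        · exact Or.inr (Or.inl ⟨h, hd', h'⟩)
      · have hf' := hinvζ x hx _ _ h
        rcases hto x hx d hud hdR with h' | h' | h'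
        · exact absurd ((ζ x).injective (h'.trans hf'.symm)) hdf
        · exact Or.inr (Or.inr ⟨h, h', hf'⟩)
        · exact absurd ((ζ x).injective (h'.trans h.symm)) hdc
    have hkey : ∀ x ∈ M, ∀ y ∈ M, ζ x c = ζ y c → ζ y = ζ x := by
      intro x hx y hy h
      have hd' : ζ x d = ζ y d ∧ ζ x f = ζ y f := by
        rcases hval x hx with ⟨p1, p2, p3⟩ | ⟨p1, p2, p3⟩ | ⟨p1, p2, p3⟩ <;>
          rcases hval y hy with ⟨q1, q2, q3⟩ | ⟨q1, q2, q3⟩ | ⟨q1, q2, q3⟩ <;> simp_all
      have h1 : (ζ x)⁻¹ * ζ y = 1 := by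
        refine hS _ (G.mul_mem (G.inv_mem (hζG x hx)) (hζG y hy)) (insert f Γ)
          (by rw [Finset.card_insert_of_notMem hfΓ, hΓ]) ?_
        intro q hq
        rw [Equiv.Perm.mul_apply, Equiv.Perm.inv_eq_iff_eq]
        rcases Finset.mem_insert.1 hq with rfl | hq
        · exact hd'.2.symm
        rcases hcases q hq with rfl | rfl | rfl | rfl | hq
        · rw [hζa x hx, hζa y hy]
        · rw [hζb x hx, hζb y hy]
        · exact h.symm
        · exact hd'.1.symm
        · rw [hζR x hx q hq, hζR y hy q hq]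
      exact (inv_mul_eq_one.1 h1).symm
    have hM6 : M.card ≤ 2 * ({c, d, f} : Finset α).card := by
      refine Finset.card_le_mul_card_image_of_maps_to (f := fun x => ζ x c) (fun x hx => ?_) 2 ?_
      · simpa using hto x hx c huc hcR
      · intro q _
        rcases (M.filter fun x => ζ x c = q).eq_empty_or_nonempty with h | ⟨x, hx⟩
        · rw [h]; simp
        rw [Finset.mem_filter] at hx
        exact hfibre x hx.1 _ (Finset.filter_subset _ _) fun y hy =>
          hkey x hx.1 y (Finset.mem_filter.1 hy).1 (hx.2.trans (Finset.mem_filter.1 hy).2.symm)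
    have h3 : ({c, d, f} : Finset α).card ≤ 3 := Finset.card_le_three
    have hsub : Γᶜ ⊆ insert f M := by
      intro q hq
      rw [Finset.mem_compl] at hq
      rw [Finset.mem_insert, hMmem]
      rcases eq_or_ne (u q) q with h | h
      · exact Or.inl (huniq f q hfΓ huf hq h)
      · exact Or.inr ⟨hq, h⟩
    have := (Finset.card_le_card hsub).trans (Finset.card_insert_le _ _)
    rw [Finset.card_compl, hΓ] at this
    omega
  · push Not at hf
    left
    have hval : ∀ x ∈ M, ζ x c = d ∧ ζ x d = c := by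
      intro x hx
      rcases (himg x hx c huc hcR) with ⟨h1, h | h | h⟩
      · rcases (himg x hx d hud hdR) with ⟨h1', h' | h' | h'⟩
        · exact absurd ((ζ x).injective (h'.trans h.symm)) hdc
        · exact absurd ⟨h, h'⟩ (hζne x hx)
        · exact absurd h1' (hf _ h')
      · exact ⟨h, hinvζ x hx _ _ h⟩
      · exact absurd h1 (hf _ h)
    set S := Finset.univ.filter (fun g : Equiv.Perm α => ∃ x ∈ M, ζ x = g) with hSdef
    have hSe : S.card ≤ Nat.card (fx G Γ) := by
      rcases S.eq_empty_or_nonempty with h | ⟨g0, hg0⟩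
      · rw [h]; simp
      simp only [hSdef, Finset.mem_filter, Finset.mem_univ, true_and] at hg0
      obtain ⟨x0, hx0, rfl⟩ := hg0
      have hmem : ∀ g ∈ S, ζ x0 * g ∈ fx G Γ := by
        intro g hg
        simp only [hSdef, Finset.mem_filter, Finset.mem_univ, true_and] at hg
        obtain ⟨x, hx, rfl⟩ := hg
        refine ⟨G.mul_mem (hζG x0 hx0) (hζG x hx), fun q hq => ?_⟩
        rw [Equiv.Perm.mul_apply]
        rcases hcases q hq with rfl | rfl | rfl | rfl | hq
        · rw [hζa x hx, hζb x0 hx0]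
        · rw [hζb x hx, hζa x0 hx0]
        · rw [(hval x hx).1, (hval x0 hx0).2]
        · rw [(hval x hx).2, (hval x0 hx0).1]
        · rw [hζR x hx q hq, hζR x0 hx0 q hq]
      rw [Nat.card_eq_fintype_card, ← Finset.card_univ]
      refine Finset.card_le_card_of_injOn
        (fun g => if h : g ∈ S then (⟨_, hmem g h⟩ : fx G Γ) else 1) (fun g _ => Finset.mem_univ _) ?_
      intro g hg g' hg' h
      simpa [Finset.mem_coe.1 hg, Finset.mem_coe.1 hg'] using h
    have hM : M.card ≤ 2 * S.card := by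
      refine Finset.card_le_mul_card_image_of_maps_to (f := ζ)
        (fun x hx => by simp only [hSdef, Finset.mem_filter, Finset.mem_univ, true_and]; exact ⟨x, hx, rfl⟩) 2 ?_
      intro g hg
      simp only [hSdef, Finset.mem_filter, Finset.mem_univ, true_and] at hg
      obtain ⟨x, hx, rfl⟩ := hg
      exact hfibre x hx _ (Finset.filter_subset _ _) fun y hy => (Finset.mem_filter.1 hy).2
    have hsub : Γᶜ ⊆ M := by
      intro q hq
      rw [Finset.mem_compl] at hq
      exact (hMmem q).2 ⟨hq, hf q hq⟩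
    have := Finset.card_le_card hsub
    rw [Finset.card_compl, hΓ] at this
    omega

/-! ### The sharply `k`-transitive case -/

/-- `u` is the lift of the transposition `(a b)` on `Γ`. -/
def IsLift (G : Subgroup (Equiv.Perm α)) (Γ : Finset α) (π u : Equiv.Perm α) : Prop :=
  u ∈ G ∧ ∀ x ∈ Γ, u x = π x

/-- Every transposition lift has exactly one fixed point outside its `k`-set. -/
def OneFix (G : Subgroup (Equiv.Perm α)) (k : ℕ) : Prop :=
  ∀ Γ : Finset α, Γ.card = k → ∀ a ∈ Γ, ∀ b ∈ Γ, a ≠ b → ∀ u, IsLift G Γ (Equiv.swap a b) u →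
    ∃ f, f ∉ Γ ∧ u f = f ∧ ∀ f', f' ∉ Γ → u f' = f' → f' = f

/-- Elements agreeing on `k` points are equal. -/
def Sharp (G : Subgroup (Equiv.Perm α)) (k : ℕ) : Prop :=
  ∀ s : Finset α, k ≤ s.card → ∀ g ∈ G, ∀ h ∈ G, (∀ x ∈ s, g x = h x) → g = h

theorem sharp_inv (hsh : Sharp G k) {Γ : Finset α} (hΓ : Γ.card = k) {π u : Equiv.Perm α}
    (hu : IsLift G Γ π u) (hm : ∀ x ∈ Γ, π x ∈ Γ) (hπ : ∀ x ∈ Γ, π (π x) = x) : u * u = 1 :=
  hsh Γ hΓ.ge _ (G.mul_mem hu.1 hu.1) 1 G.one_mem fun x hx => by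
    rw [Equiv.Perm.mul_apply, hu.2 x hx, hu.2 _ (hm x hx), hπ x hx, Equiv.Perm.one_apply]

/-- Lifts of disjoint transpositions have the same further fixed point. -/
theorem disjoint_fix (hsh : Sharp G k) (hone : OneFix G k) {Γ : Finset α} (hΓ : Γ.card = k)
    {a b c d : α} (ha : a ∈ Γ) (hb : b ∈ Γ) (hab : a ≠ b) (hc : c ∈ Γ) (hd : d ∈ Γ)
    (h1 : c ≠ a) (h2 : c ≠ b) (h3 : d ≠ a) (h4 : d ≠ b) {u v : Equiv.Perm α}
    (hu : IsLift G Γ (Equiv.swap a b) u) (hv : IsLift G Γ (Equiv.swap c d) v) {f : α}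
    (hf : f ∉ Γ) (huf : u f = f) : v f = f := by
  have huv : u * v = v * u := hsh Γ hΓ.ge _ (G.mul_mem hu.1 hv.1) _ (G.mul_mem hv.1 hu.1) fun x hx => by
    rw [Equiv.Perm.mul_apply, Equiv.Perm.mul_apply, hv.2 x hx, hu.2 _ (swap_mem hc hd hx), hu.2 x hx,
      hv.2 _ (swap_mem ha hb hx)]
    rcases eq_or_ne x a with rfl | hxa
    · simp [Equiv.swap_apply_of_ne_of_ne h1.symm h3.symm, Equiv.swap_apply_of_ne_of_ne h2.symm h4.symm]
    rcases eq_or_ne x b with rfl | hxb
    · simp [Equiv.swap_apply_of_ne_of_ne h1.symm h3.symm, Equiv.swap_apply_of_ne_of_ne h2.symm h4.symm]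
    rw [Equiv.swap_apply_of_ne_of_ne hxa hxb]
    rcases eq_or_ne x c with rfl | hxc
    · simp [Equiv.swap_apply_of_ne_of_ne h3 h4]
    rcases eq_or_ne x d with rfl | hxd
    · simp [Equiv.swap_apply_of_ne_of_ne h1 h2]
    simp [Equiv.swap_apply_of_ne_of_ne hxc hxd, Equiv.swap_apply_of_ne_of_ne hxa hxb]
  obtain ⟨f0, hf0, huf0, huniq⟩ := hone Γ hΓ a ha b hb hab u hu
  have hvf : v f ∉ Γ := by
    intro h
    have hv2 : v * v = 1 := sharp_inv hsh hΓ hv (fun x hx => swap_mem hc hd hx)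
      fun x _ => Equiv.swap_apply_self c d x
    have h' : v (v f) = f := by rw [← Equiv.Perm.mul_apply, hv2, Equiv.Perm.one_apply]
    rw [hv.2 _ h] at h'
    exact hf (h' ▸ swap_mem hc hd h)
  have hfix : u (v f) = v f := by
    rw [← Equiv.Perm.mul_apply, huv, Equiv.Perm.mul_apply, huf]
  rw [huniq _ hvf hfix, huniq f hf huf]

end Cfsg.Agent.Perm.AltSet
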