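import Mathlib
import Cfsg.Agent.Lib.Perm.AltSetOdd
import Cfsg.Agent.S0743

/-! A `k`-transitive group, `4 ≤ k < n`, induces the alternating group on some `(k+1)`-set. -/

set_option autoImplicit false

namespace Cfsg.Agent.Perm.AltSet

variable {α : Type*} [Fintype α] [DecidableEq α] {G : Subgroup (Equiv.Perm α)} {k : ℕ}

theorem exists_frame_map (hE : Ext G 4) {a b c d a' b' c' d' : α}
    (h : List.Nodup [a, b, c, d]) (h' : List.Nodup [a', b', c', d']) :
    ∃ g ∈ G, g a = a' ∧ g b = b' ∧ g c = c' ∧ g d = d' := by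
  let x : Fin 4 ↪ α := ⟨![a, b, c, d], by
    simp only [List.nodup_cons, List.mem_cons, List.not_mem_nil, List.nodup_nil] at h
    intro i j hij
    fin_cases i <;> fin_cases j <;> simp_all [eq_comm]⟩
  let y : Fin 4 ↪ α := ⟨![a', b', c', d'], by
    simp only [List.nodup_cons, List.mem_cons, List.not_mem_nil, List.nodup_nil] at h'
    intro i j hij
    fin_cases i <;> fin_cases j <;> simp_all [eq_comm]⟩
  obtain ⟨g, hg⟩ := (multiply_of_ext hE).exists_smul_eq x y
  exact ⟨g, g.2, DFunLike.congr_fun hg 0, DFunLike.congr_fun hg 1, DFunLike.congr_fun hg 2,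
    DFunLike.congr_fun hg 3⟩

/-- Eliminating the sharply 4-transitive configuration where overlapping transpositions have
different fixed points. -/
theorem overlap_four (hE : Ext G 4) (hsh : Sharp G 4) (hone : OneFix G 4)
    (hn : Fintype.card α ≤ 11) {a0 b0 c0 d0 : α} (h0 : List.Nodup [a0, b0, c0, d0])
    {u0 w0 : Equiv.Perm α} (hu0 : IsLift G {a0, b0, c0, d0} (Equiv.swap a0 b0) u0)
    (hw0 : IsLift G {a0, b0, c0, d0} (Equiv.swap a0 c0) w0) {f0 : α}
    (hf0 : f0 ∉ ({a0, b0, c0, d0} : Finset α)) (huf0 : u0 f0 = f0) : w0 f0 = f0 := by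
  classical
  by_contra hbad
  -- lifts and their fixed points
  have hcard : ∀ a b c d : α, List.Nodup [a, b, c, d] → ({a, b, c, d} : Finset α).card = 4 := by
    intro a b c d h
    have := List.toFinset_card_of_nodup h
    simpa using this
  -- the failure holds in every frame
  have hne : ∀ a b c d : α, List.Nodup [a, b, c, d] → ∀ u w,
      IsLift G {a, b, c, d} (Equiv.swap a b) u → IsLift G {a, b, c, d} (Equiv.swap a c) w →
      ∀ f, f ∉ ({a, b, c, d} : Finset α) → u f = f → w f ≠ f := by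
    intro a b c d h u w hu hw f hf huf hwf
    apply hbad
    obtain ⟨g, hg, ga, gb, gc, gd⟩ := exists_frame_map hE h h0
    have key : ∀ (p q p' q' : α) (v v0 : Equiv.Perm α), g p = p' → g q = q' →
        IsLift G {a, b, c, d} (Equiv.swap p q) v → IsLift G {a0, b0, c0, d0} (Equiv.swap p' q') v0 →
        v0 = g * v * g⁻¹ := by
      intro p q p' q' v v0 hp hq hv hv0
      refine hsh {a0, b0, c0, d0} (hcard _ _ _ _ h0).ge _ hv0.1 _
        (G.mul_mem (G.mul_mem hg hv.1) (G.inv_mem hg)) fun x hx => ?_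
      obtain ⟨y, hy, rfl⟩ : ∃ y ∈ ({a, b, c, d} : Finset α), g y = x := by
        simp only [Finset.mem_insert, Finset.mem_singleton] at hx
        rcases hx with rfl | rfl | rfl | rfl
        exacts [⟨a, by simp, ga⟩, ⟨b, by simp, gb⟩, ⟨c, by simp, gc⟩, ⟨d, by simp, gd⟩]
      rw [hv0.2 _ hx, Equiv.Perm.mul_apply, Equiv.Perm.mul_apply, inv_apply', hv.2 y hy, ← hp, ← hq,
        Equiv.swap_apply_def, Equiv.swap_apply_def]
      simp only [g.injective.eq_iff]
      split_ifs <;> rfl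
    have hu' := key a b a0 b0 u u0 ga gb hu hu0
    have hw' := key a c a0 c0 w w0 ga gc hw hw0
    have hgf : g f ∉ ({a0, b0, c0, d0} : Finset α) := by
      intro hm
      apply hf
      simp only [Finset.mem_insert, Finset.mem_singleton, ← ga, ← gb, ← gc, ← gd,
        g.injective.eq_iff] at hm
      simpa using hm
    obtain ⟨f1, -, -, huniq⟩ := hone _ (hcard _ _ _ _ h0) a0 (by simp) b0 (by simp)
      (by simp only [List.nodup_cons, List.mem_cons, not_or] at h0; exact h0.1.1) u0 hu0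
    have hu0g : u0 (g f) = g f := by
      rw [hu', Equiv.Perm.mul_apply, Equiv.Perm.mul_apply, inv_apply', huf]
    have : g f = f0 := (huniq _ hgf hu0g).trans (huniq _ hf0 huf0).symm
    rw [← this, hw', Equiv.Perm.mul_apply, Equiv.Perm.mul_apply, inv_apply', hwf]
  -- data of a frame
  have hlift : ∀ (Γ : Finset α), Γ.card = 4 → ∀ π : Equiv.Perm α, ∃ g, IsLift G Γ π g := fun Γ h π => by
    obtain ⟨g, hg, hgx⟩ := hE Γ h π
    exact ⟨g, hg, hgx⟩
  have data : ∀ a b c d : α, List.Nodup [a, b, c, d] → ∀ u w r s,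
      IsLift G {a, b, c, d} (Equiv.swap a b) u → IsLift G {a, b, c, d} (Equiv.swap a c) w →
      IsLift G {a, b, c, d} (Equiv.swap b c) r →
      IsLift G {a, b, c, d} (Equiv.swap a b * Equiv.swap c d) s →
      ∃ f1 f2 f3, f1 ∉ ({a, b, c, d} : Finset α) ∧ f2 ∉ ({a, b, c, d} : Finset α) ∧
        f3 ∉ ({a, b, c, d} : Finset α) ∧ f1 ≠ f2 ∧ f1 ≠ f3 ∧ f2 ≠ f3 ∧ u f1 = f1 ∧ w f2 = f2 ∧
        r f3 = f3 ∧ u f2 = f3 ∧ u f3 = f2 ∧ s f1 = f1 ∧ s f2 = f2 ∧ s f3 = f3 := by
    intro a b c d h u w r s hu hw hr hs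
    have h' := h
    simp only [List.nodup_cons, List.mem_cons, List.not_mem_nil, not_or, List.nodup_nil] at h'
    obtain ⟨⟨hab, hac, had, -⟩, ⟨hbc, hbd, -⟩, ⟨hcd, -⟩, -, -⟩ := h'
    set Γ : Finset α := {a, b, c, d} with hΓdef
    have hΓ : Γ.card = 4 := hcard a b c d h
    obtain ⟨v, hv⟩ := hlift Γ hΓ (Equiv.swap c d)
    obtain ⟨w', hw'⟩ := hlift Γ hΓ (Equiv.swap b d)
    obtain ⟨f1, hf1, huf1, hu1⟩ := hone Γ hΓ a (by simp [Γ]) b (by simp [Γ]) hab u hu
    obtain ⟨f2, hf2, hwf2, hw1⟩ := hone Γ hΓ a (by simp [Γ]) c (by simp [Γ]) hac w hw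
    obtain ⟨f3, hf3, hrf3, hr1⟩ := hone Γ hΓ b (by simp [Γ]) c (by simp [Γ]) hbc r hr
    obtain ⟨f2', hf2', hwf2', hw1'⟩ := hone Γ hΓ b (by simp [Γ]) d (by simp [Γ]) hbd w' hw'
    have hw'f2 : w' f2 = f2 := disjoint_fix hsh hone hΓ (by simp [Γ]) (by simp [Γ]) hac (by simp [Γ])
      (by simp [Γ]) (Ne.symm hab) hbc (Ne.symm had) (Ne.symm hcd) hw hw' hf2 hwf2
    have hvf1 : v f1 = f1 := disjoint_fix hsh hone hΓ (by simp [Γ]) (by simp [Γ]) hab (by simp [Γ])
      (by simp [Γ]) (Ne.symm hac) (Ne.symm hbc) (Ne.symm had) (Ne.symm hbd) hu hv hf1 huf1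
    have hsuv : s = u * v := hsh Γ hΓ.ge _ hs.1 _ (G.mul_mem hu.1 hv.1) fun x hx => by
      rw [hs.2 x hx, Equiv.Perm.mul_apply, Equiv.Perm.mul_apply, hv.2 x hx,
        hu.2 _ (swap_mem (by simp [Γ]) (by simp [Γ]) hx)]
    have hs1 : s f1 = f1 := by rw [hsuv, Equiv.Perm.mul_apply, hvf1, huf1]
    have hsws : w' * s = s * w := hsh Γ hΓ.ge _ (G.mul_mem hw'.1 hs.1) _ (G.mul_mem hs.1 hw.1)
      fun x hx => by
        rw [Equiv.Perm.mul_apply, Equiv.Perm.mul_apply, hs.2 x hx, hw.2 x hx,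
          hw'.2 _ (by rw [Equiv.Perm.mul_apply]; exact swap_mem (by simp [Γ]) (by simp [Γ]) (swap_mem (by simp [Γ]) (by simp [Γ]) hx)),
          hs.2 _ (swap_mem (by simp [Γ]) (by simp [Γ]) hx)]
        simp only [Γ, Finset.mem_insert, Finset.mem_singleton] at hx
        rcases hx with rfl | rfl | rfl | rfl <;>
          simp [Equiv.swap_apply_def, hab, hac, had, hbc, hbd, hcd, Ne.symm hab, Ne.symm hac,
            Ne.symm had, Ne.symm hbc, Ne.symm hbd, Ne.symm hcd]
    have hout : ∀ (g : Equiv.Perm α) π, IsLift G Γ π g → (∀ x ∈ Γ, π x ∈ Γ) →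
        (∀ x ∈ Γ, π (π x) = x) → ∀ f, f ∉ Γ → g f ∉ Γ := by
      intro g π hg hm hπ f hf hgf
      have h2 := sharp_inv hsh hΓ hg hm hπ
      have h3 : g (g f) = f := by rw [← Equiv.Perm.mul_apply, h2, Equiv.Perm.one_apply]
      rw [hg.2 _ hgf] at h3
      exact hf (h3 ▸ hm _ hgf)
    have hs2 : s f2 = f2 := by
      have hsf : s f2 ∉ Γ := hout s _ hs (fun x hx => by
          rw [Equiv.Perm.mul_apply]
          exact swap_mem (by simp [Γ]) (by simp [Γ]) (swap_mem (by simp [Γ]) (by simp [Γ]) hx))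
        (fun x hx => by
          simp only [Γ, Finset.mem_insert, Finset.mem_singleton] at hx
          rcases hx with rfl | rfl | rfl | rfl <;>
            simp [Equiv.swap_apply_def, hab, hac, had, hbc, hbd, hcd, Ne.symm hab, Ne.symm hac,
              Ne.symm had, Ne.symm hbc, Ne.symm hbd, Ne.symm hcd]) f2 hf2
      have : w' (s f2) = s f2 := by rw [← Equiv.Perm.mul_apply, hsws, Equiv.Perm.mul_apply, hwf2]
      exact (hw1' _ hsf this).trans (hw1' _ hf2 hw'f2).symm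
    have hu2 : u * u = 1 := sharp_inv hsh hΓ hu (fun x hx => swap_mem (by simp [Γ]) (by simp [Γ]) hx)
      fun x _ => Equiv.swap_apply_self a b x
    have huu : ∀ z, u (u z) = z := fun z => by rw [← Equiv.Perm.mul_apply, hu2, Equiv.Perm.one_apply]
    have huwu : r * u = u * w := hsh Γ hΓ.ge _ (G.mul_mem hr.1 hu.1) _ (G.mul_mem hu.1 hw.1)
      fun x hx => by
        rw [Equiv.Perm.mul_apply, Equiv.Perm.mul_apply, hu.2 x hx, hw.2 x hx,
          hr.2 _ (swap_mem (by simp [Γ]) (by simp [Γ]) hx),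
          hu.2 _ (swap_mem (by simp [Γ]) (by simp [Γ]) hx)]
        simp only [Γ, Finset.mem_insert, Finset.mem_singleton] at hx
        rcases hx with rfl | rfl | rfl | rfl <;>
          simp [Equiv.swap_apply_def, hab, hac, had, hbc, hbd, hcd, Ne.symm hab, Ne.symm hac,
            Ne.symm had, Ne.symm hbc, Ne.symm hbd, Ne.symm hcd]
    have hu23 : u f2 = f3 := by
      refine hr1 _ (hout u _ hu (fun x hx => swap_mem (by simp [Γ]) (by simp [Γ]) hx)
        (fun x _ => Equiv.swap_apply_self a b x) f2 hf2) ?_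
      rw [← Equiv.Perm.mul_apply, huwu, Equiv.Perm.mul_apply, hwf2]
    have hu32 : u f3 = f2 := by rw [← hu23, huu]
    have h12 : f1 ≠ f2 := fun e => hne a b c d h u w hu hw f1 hf1 huf1 (e ▸ hwf2)
    have h13 : f1 ≠ f3 := by
      intro e
      apply h12
      have : f2 = u f1 := by rw [e, hu32]
      rw [this, huf1]
    have h23 : f2 ≠ f3 := by
      intro e
      apply h12
      exact (hu1 f2 hf2 (hu23.trans e.symm)).symm
    have hs3 : s f3 = f3 := by
      have hsu : s * u = u * s := hsh Γ hΓ.ge _ (G.mul_mem hs.1 hu.1) _ (G.mul_mem hu.1 hs.1)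
        fun x hx => by
          rw [Equiv.Perm.mul_apply, Equiv.Perm.mul_apply, hu.2 x hx,
            hs.2 _ (swap_mem (by simp [Γ]) (by simp [Γ]) hx), hs.2 x hx,
            hu.2 _ (by rw [Equiv.Perm.mul_apply]; exact swap_mem (by simp [Γ]) (by simp [Γ]) (swap_mem (by simp [Γ]) (by simp [Γ]) hx))]
          simp only [Γ, Finset.mem_insert, Finset.mem_singleton] at hx
          rcases hx with rfl | rfl | rfl | rfl <;>
            simp [Equiv.swap_apply_def, hab, hac, had, hbc, hbd, hcd, Ne.symm hab, Ne.symm hac,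
              Ne.symm had, Ne.symm hbc, Ne.symm hbd, Ne.symm hcd]
      rw [← hu23, ← Equiv.Perm.mul_apply, hsu, Equiv.Perm.mul_apply, hs2]
    exact ⟨f1, f2, f3, hf1, hf2, hf3, h12, h13, h23, huf1, hwf2, hrf3, hu23, hu32, hs1, hs2, hs3⟩
  -- the frame `(a, b, c, d)` and the frame `(a, b, c, f1)`
  have h0' := h0
  simp only [List.nodup_cons, List.mem_cons, List.not_mem_nil, not_or, List.nodup_nil] at h0'
  obtain ⟨⟨hab, hac, had, -⟩, ⟨hbc, hbd, -⟩, ⟨hcd, -⟩, -, -⟩ := h0'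
  set Γ : Finset α := {a0, b0, c0, d0} with hΓdef
  have hΓ : Γ.card = 4 := hcard _ _ _ _ h0
  have hmΓ : ∀ x, x ∈ Γ ↔ x = a0 ∨ x = b0 ∨ x = c0 ∨ x = d0 := fun x => by simp [Γ]
  obtain ⟨r0, hr0⟩ := hlift Γ hΓ (Equiv.swap b0 c0)
  obtain ⟨s, hs⟩ := hlift Γ hΓ (Equiv.swap a0 b0 * Equiv.swap c0 d0)
  obtain ⟨f1, f2, f3, hf1, hf2, hf3, h12, h13, h23, huf1, hwf2, hrf3, hu23, hu32, hs1, hs2, hs3⟩ :=
    data _ _ _ _ h0 u0 w0 r0 s hu0 hw0 hr0 hs
  simp only [Finset.mem_insert, Finset.mem_singleton, not_or] at hf1 hf2 hf3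
  obtain ⟨hf1a, hf1b, hf1c, hf1d⟩ := hf1
  obtain ⟨hf2a, hf2b, hf2c, hf2d⟩ := hf2
  obtain ⟨hf3a, hf3b, hf3c, hf3d⟩ := hf3
  have hua : u0 a0 = b0 := by rw [hu0.2 a0 (by simp [Γ]), Equiv.swap_apply_left]
  have hub : u0 b0 = a0 := by rw [hu0.2 b0 (by simp [Γ]), Equiv.swap_apply_right]
  have huc : u0 c0 = c0 := by
    rw [hu0.2 c0 (by simp [Γ]), Equiv.swap_apply_of_ne_of_ne (Ne.symm hac) (Ne.symm hbc)]
  have h1nd : List.Nodup [a0, b0, c0, f1] := by
    simp [hab, hac, hbc, Ne.symm hf1a, Ne.symm hf1b, Ne.symm hf1c]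
  set Γ1 : Finset α := {a0, b0, c0, f1} with hΓ1def
  have hΓ1 : Γ1.card = 4 := hcard _ _ _ _ h1nd
  have hu1 : IsLift G Γ1 (Equiv.swap a0 b0) u0 := by
    refine ⟨hu0.1, fun x hx => ?_⟩
    simp only [Γ1, Finset.mem_insert, Finset.mem_singleton] at hx
    rcases hx with rfl | rfl | rfl | rfl
    · rw [hua, Equiv.swap_apply_left]
    · rw [hub, Equiv.swap_apply_right]
    · rw [huc, Equiv.swap_apply_of_ne_of_ne (Ne.symm hac) (Ne.symm hbc)]
    · rw [huf1, Equiv.swap_apply_of_ne_of_ne hf1a hf1b]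
  obtain ⟨w1, hw1⟩ := hlift Γ1 hΓ1 (Equiv.swap a0 c0)
  obtain ⟨r1, hr1⟩ := hlift Γ1 hΓ1 (Equiv.swap b0 c0)
  obtain ⟨z, hz⟩ := hlift Γ1 hΓ1 (Equiv.swap a0 b0 * Equiv.swap c0 f1)
  obtain ⟨e1, e2, e3, he1, he2, he3, e12, e13, e23, -, -, -, -, -, hz1, hz2, hz3⟩ :=
    data _ _ _ _ h1nd u0 w1 r1 z hu1 hw1 hr1 hz
  have hza : z a0 = b0 := by
    rw [hz.2 a0 (by simp [Γ1]), Equiv.Perm.mul_apply,
      Equiv.swap_apply_of_ne_of_ne hac (Ne.symm hf1a), Equiv.swap_apply_left]
  have hzb : z b0 = a0 := by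
    rw [hz.2 b0 (by simp [Γ1]), Equiv.Perm.mul_apply,
      Equiv.swap_apply_of_ne_of_ne hbc (Ne.symm hf1b), Equiv.swap_apply_right]
  have hzc : z c0 = f1 := by
    rw [hz.2 c0 (by simp [Γ1]), Equiv.Perm.mul_apply, Equiv.swap_apply_left,
      Equiv.swap_apply_of_ne_of_ne hf1a hf1b]
  have hsa : s a0 = b0 := by
    rw [hs.2 a0 (by simp [Γ]), Equiv.Perm.mul_apply, Equiv.swap_apply_of_ne_of_ne hac had,
      Equiv.swap_apply_left]
  have hsb : s b0 = a0 := by
    rw [hs.2 b0 (by simp [Γ]), Equiv.Perm.mul_apply, Equiv.swap_apply_of_ne_of_ne hbc hbd,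
      Equiv.swap_apply_right]
  have hsc : s c0 = d0 := by
    rw [hs.2 c0 (by simp [Γ]), Equiv.Perm.mul_apply, Equiv.swap_apply_left,
      Equiv.swap_apply_of_ne_of_ne (Ne.symm had) (Ne.symm hbd)]
  have hzu : z * u0 = u0 * z := hsh Γ1 hΓ1.ge _ (G.mul_mem hz.1 hu0.1) _ (G.mul_mem hu0.1 hz.1)
    fun x hx => by
      simp only [Γ1, Finset.mem_insert, Finset.mem_singleton] at hx
      have hzf : z f1 = c0 := by
        rw [hz.2 f1 (by simp [Γ1]), Equiv.Perm.mul_apply, Equiv.swap_apply_right,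
          Equiv.swap_apply_of_ne_of_ne (Ne.symm hac) (Ne.symm hbc)]
      rw [Equiv.Perm.mul_apply, Equiv.Perm.mul_apply]
      rcases hx with rfl | rfl | rfl | rfl
      · rw [hua, hzb, hza, hub]
      · rw [hub, hza, hzb, hua]
      · rw [huc, hzc, huf1]
      · rw [huf1, hzf, huc]
  have hzf2 : ¬ (z f2 = f2 ∨ z f3 = f3) := by
    intro hor
    have key : z f2 = f2 ∧ z f3 = f3 := by
      rcases hor with h | h
      · exact ⟨h, by rw [← hu23, ← Equiv.Perm.mul_apply, hzu, Equiv.Perm.mul_apply, h]⟩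
      · exact ⟨by rw [← hu32, ← Equiv.Perm.mul_apply, hzu, Equiv.Perm.mul_apply, h], h⟩
    have hT : ({a0, b0, f2, f3} : Finset α).card = 4 :=
      hcard _ _ _ _ (by simp [hab, h23, Ne.symm hf2a, Ne.symm hf2b, Ne.symm hf3a, Ne.symm hf3b])
    have hzs : z = s := hsh _ hT.ge _ hz.1 _ hs.1 fun x hx => by
      simp only [Finset.mem_insert, Finset.mem_singleton] at hx
      rcases hx with rfl | rfl | rfl | rfl
      · rw [hza, hsa]
      · rw [hzb, hsb]
      · rw [key.1, hs2]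
      · rw [key.2, hs3]
    exact hf1d (hzc.symm.trans (hzs ▸ hsc))
  simp only [Finset.mem_insert, Finset.mem_singleton, not_or] at he1 he2 he3
  obtain ⟨q, hq⟩ : ∃ q, z q = q ∧ q ≠ a0 ∧ q ≠ b0 ∧ q ≠ c0 ∧ q ≠ d0 ∧ q ≠ f1 ∧ q ≠ f2 ∧ q ≠ f3 := by
    push Not at hzf2
    have h' : ∀ e, z e = e → (e ≠ a0 ∧ e ≠ b0 ∧ e ≠ c0 ∧ e ≠ f1) → e ≠ d0 →
        ∃ q, z q = q ∧ q ≠ a0 ∧ q ≠ b0 ∧ q ≠ c0 ∧ q ≠ d0 ∧ q ≠ f1 ∧ q ≠ f2 ∧ q ≠ f3 :=
      fun e he ⟨p1, p2, p3, p4⟩ hed => ⟨e, he, p1, p2, p3, hed, p4, fun h => hzf2.1 (h ▸ he),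
        fun h => hzf2.2 (h ▸ he)⟩
    rcases eq_or_ne e1 d0 with h | h
    · exact h' e2 hz2 he2 (fun h'' => e12 (h.trans h''.symm))
    · exact h' e1 hz1 he1 h
  obtain ⟨hzq, hqa, hqb, hqc, hqd, hq1, hq2, hq3⟩ := hq
  -- the double transpositions all fix `f1, f2, f3`
  obtain ⟨t, ht⟩ := hlift Γ hΓ (Equiv.swap a0 c0 * Equiv.swap b0 d0)
  obtain ⟨p, hp⟩ := hlift Γ hΓ (Equiv.swap a0 d0 * Equiv.swap b0 c0)
  obtain ⟨v0, hv0⟩ := hlift Γ hΓ (Equiv.swap a0 d0)
  obtain ⟨x0, hx0⟩ := hlift Γ hΓ (Equiv.swap d0 b0)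
  have hset : ∀ {a b c d : α}, ({a, b, c, d} : Finset α) = Γ → ∀ {π g},
      IsLift G Γ π g → IsLift G {a, b, c, d} π g := by
    intro a b c d h π g hg
    rw [h]
    exact hg
  have hf1Γ : f1 ∉ Γ := by simp [Γ, hf1a, hf1b, hf1c, hf1d]
  have hf2Γ : f2 ∉ Γ := by simp [Γ, hf2a, hf2b, hf2c, hf2d]
  have hf3Γ : f3 ∉ Γ := by simp [Γ, hf3a, hf3b, hf3c, hf3d]
  obtain ⟨F1, hF1, -, hu1'⟩ := hone Γ hΓ a0 (by simp [Γ]) b0 (by simp [Γ]) hab u0 hu0
  obtain ⟨F2, hF2, -, hw1'⟩ := hone Γ hΓ a0 (by simp [Γ]) c0 (by simp [Γ]) hac w0 hw0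
  obtain ⟨F3, hF3, -, hr1'⟩ := hone Γ hΓ b0 (by simp [Γ]) c0 (by simp [Γ]) hbc r0 hr0
  have ht123 : t f1 = f1 ∧ t f2 = f2 ∧ t f3 = f3 := by
    have hnd : List.Nodup [a0, c0, b0, d0] := by
      simp [hab, hac, had, hbd, hcd, Ne.symm hbc]
    have heq : ({a0, c0, b0, d0} : Finset α) = Γ := by
      ext x; simp only [Γ, Finset.mem_insert, Finset.mem_singleton]; tauto
    have hr0' : IsLift G Γ (Equiv.swap c0 b0) r0 := by rw [Equiv.swap_comm]; exact hr0
    obtain ⟨g1, g2, g3, hg1, hg2, hg3, -, -, -, hug1, hug2, hug3, -, -, ht1, ht2, ht3⟩ :=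
      data _ _ _ _ hnd w0 u0 r0 t (hset heq hw0) (hset heq hu0) (hset heq hr0') (hset heq ht)
    rw [heq] at hg1 hg2 hg3
    rw [(hw1' _ hg1 hug1).trans (hw1' _ hf2Γ hwf2).symm] at ht1
    rw [(hu1' _ hg2 hug2).trans (hu1' _ hf1Γ huf1).symm] at ht2
    rw [(hr1' _ hg3 hug3).trans (hr1' _ hf3Γ hrf3).symm] at ht3
    exact ⟨ht2, ht1, ht3⟩
  have hp123 : p f1 = f1 ∧ p f2 = f2 ∧ p f3 = f3 := by
    have hnd : List.Nodup [a0, d0, b0, c0] := by
      simp [hab, hac, had, hbc, Ne.symm hbd, Ne.symm hcd]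
    have heq : ({a0, d0, b0, c0} : Finset α) = Γ := by
      ext x; simp only [Γ, Finset.mem_insert, Finset.mem_singleton]; tauto
    obtain ⟨g1, g2, g3, hg1, hg2, hg3, -, -, -, hug1, hug2, hug3, -, -, ht1, ht2, ht3⟩ :=
      data _ _ _ _ hnd v0 u0 x0 p (hset heq hv0) (hset heq hu0) (hset heq hx0) (hset heq hp)
    rw [heq] at hg1 hg2 hg3
    have hA := disjoint_fix hsh hone hΓ (a := a0) (b := d0) (c := b0) (d := c0) (by simp [Γ])
      (by simp [Γ]) had (by simp [Γ]) (by simp [Γ]) (Ne.symm hab) hbd (Ne.symm hac) hcd hv0 hr0 hg1 hug1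
    have hB := disjoint_fix hsh hone hΓ (a := d0) (b := b0) (c := a0) (d := c0) (by simp [Γ])
      (by simp [Γ]) (Ne.symm hbd) (by simp [Γ]) (by simp [Γ]) had hab hcd (Ne.symm hbc) hx0 hw0 hg3 hug3
    rw [(hr1' _ hg1 hA).trans (hr1' _ hf3Γ hrf3).symm] at ht1
    rw [(hu1' _ hg2 hug2).trans (hu1' _ hf1Γ huf1).symm] at ht2
    rw [(hw1' _ hg3 hB).trans (hw1' _ hf2Γ hwf2).symm] at ht3
    exact ⟨ht2, ht3, ht1⟩
  -- no point outside `Γ ∪ {f1, f2, f3}` is fixed by a double transposition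
  have hnofix : ∀ g ∈ G, g f1 = f1 → g f2 = f2 → g f3 = f3 → g a0 ≠ a0 →
      ∀ x, x ≠ f1 → x ≠ f2 → x ≠ f3 → g x ≠ x := by
    intro g hg g1 g2 g3 ga x x1 x2 x3 gx
    apply ga
    have hT : ({f1, f2, f3, x} : Finset α).card = 4 :=
      hcard _ _ _ _ (by simp [h12, h13, h23, Ne.symm x1, Ne.symm x2, Ne.symm x3])
    have : g = 1 := hsh _ hT.ge g hg 1 G.one_mem fun y hy => by
      simp only [Finset.mem_insert, Finset.mem_singleton] at hy
      rcases hy with rfl | rfl | rfl | rfl <;> (rw [Equiv.Perm.one_apply]; assumption)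
    rw [this, Equiv.Perm.one_apply]
  have hta : t a0 = c0 := by
    rw [ht.2 a0 (by simp [Γ]), Equiv.Perm.mul_apply, Equiv.swap_apply_of_ne_of_ne hab had,
      Equiv.swap_apply_left]
  have hpa : p a0 = d0 := by
    rw [hp.2 a0 (by simp [Γ]), Equiv.Perm.mul_apply, Equiv.swap_apply_of_ne_of_ne hab hac,
      Equiv.swap_apply_left]
  have hmF : ∀ x, x ∈ ({f1, f2, f3} : Finset α) ↔ x = f1 ∨ x = f2 ∨ x = f3 := fun x => by simp
  set E : Finset α := Γ ∪ {f1, f2, f3} with hEdef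
  have hmE : ∀ x, x ∈ E ↔ x ∈ Γ ∨ x = f1 ∨ x = f2 ∨ x = f3 := fun x => by
    rw [hEdef, Finset.mem_union, hmF]
  have hEc : E.card = 7 := by
    rw [hEdef, Finset.card_union_of_disjoint, hΓ, Finset.card_insert_of_notMem (by simp [h12, h13]),
      Finset.card_pair h23]
    rw [Finset.disjoint_right]
    intro x hx
    rcases (hmF x).1 hx with rfl | rfl | rfl <;> assumption
  have hqE : q ∉ E := by
    rw [hmE, hmΓ]
    rintro ((h | h | h | h) | h | h | h)
    exacts [hqa h, hqb h, hqc h, hqd h, hq1 h, hq2 h, hq3 h]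
  have hstab : ∀ g π, IsLift G Γ π g → (∀ x ∈ Γ, π x ∈ Γ) → g f1 ∈ E → g f2 ∈ E → g f3 ∈ E →
      ∀ x, x ∉ E → g x ∉ E := by
    intro g π hg hm g1 g2 g3 x hx hgx
    have himg : E.image g = E := by
      refine Finset.eq_of_subset_of_card_le (fun y hy => ?_) (Finset.card_image_of_injective _ g.injective).ge
      obtain ⟨z', hz', rfl⟩ := Finset.mem_image.1 hy
      rcases (hmE z').1 hz' with h | rfl | rfl | rfl
      · rw [hg.2 z' h]
        exact (hmE _).2 (Or.inl (hm z' h))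
      all_goals assumption
    rw [← himg] at hgx
    obtain ⟨z', hz', e⟩ := Finset.mem_image.1 hgx
    exact hx (g.injective e ▸ hz')
  have hm2 : ∀ p1 q1 p2 q2, p1 ∈ Γ → q1 ∈ Γ → p2 ∈ Γ → q2 ∈ Γ →
      ∀ x ∈ Γ, (Equiv.swap p1 q1 * Equiv.swap p2 q2) x ∈ Γ := fun p1 q1 p2 q2 a1 a2 a3 a4 x hx => by
    rw [Equiv.Perm.mul_apply]
    exact swap_mem a1 a2 (swap_mem a3 a4 hx)
  have hgenE : f1 ∈ E ∧ f2 ∈ E ∧ f3 ∈ E := by simp [hmE]
  obtain ⟨hf1E, hf2E, hf3E⟩ := hgenE
  have hsq : s q ∉ E := hstab s _ hs (hm2 _ _ _ _ (by simp [Γ]) (by simp [Γ]) (by simp [Γ]) (by simp [Γ]))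
    (hs1.symm ▸ hf1E) (hs2.symm ▸ hf2E) (hs3.symm ▸ hf3E) q hqE
  have htq : t q ∉ E := hstab t _ ht (hm2 _ _ _ _ (by simp [Γ]) (by simp [Γ]) (by simp [Γ]) (by simp [Γ]))
    (ht123.1.symm ▸ hf1E) (ht123.2.1.symm ▸ hf2E) (ht123.2.2.symm ▸ hf3E) q hqE
  have hpq : p q ∉ E := hstab p _ hp (hm2 _ _ _ _ (by simp [Γ]) (by simp [Γ]) (by simp [Γ]) (by simp [Γ]))
    (hp123.1.symm ▸ hf1E) (hp123.2.1.symm ▸ hf2E) (hp123.2.2.symm ▸ hf3E) q hqE
  have huq : u0 q ∉ E := hstab u0 _ hu0 (fun x hx => swap_mem (by simp [Γ]) (by simp [Γ]) hx)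
    (huf1.symm ▸ hf1E) (hu23.symm ▸ hf3E) (hu32.symm ▸ hf2E) q hqE
  have hp2 : ∀ g π, IsLift G Γ π g → (∀ x ∈ Γ, π x ∈ Γ) → (∀ x ∈ Γ, π (π x) = x) → g * g = 1 :=
    fun g π hg hm hπ => sharp_inv hsh hΓ hg hm hπ
  have hst : s * t = p := hsh Γ hΓ.ge _ (G.mul_mem hs.1 ht.1) _ hp.1 fun x hx => by
    rw [Equiv.Perm.mul_apply, ht.2 x hx,
      hs.2 _ (hm2 _ _ _ _ (by simp [Γ]) (by simp [Γ]) (by simp [Γ]) (by simp [Γ]) x hx), hp.2 x hx]
    rw [hmΓ] at hx
    rcases hx with rfl | rfl | rfl | rfl <;>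
      simp [Equiv.swap_apply_def, hab, hac, had, hbc, hbd, hcd, Ne.symm hab, Ne.symm hac,
        Ne.symm had, Ne.symm hbc, Ne.symm hbd, Ne.symm hcd]
  have hss : s * s = 1 := hp2 s _ hs (hm2 _ _ _ _ (by simp [Γ]) (by simp [Γ]) (by simp [Γ]) (by simp [Γ]))
    fun x hx => by
      rw [hmΓ] at hx
      rcases hx with rfl | rfl | rfl | rfl <;>
        simp [Equiv.swap_apply_def, hab, hac, had, hbc, hbd, hcd, Ne.symm hab, Ne.symm hac,
          Ne.symm had, Ne.symm hbc, Ne.symm hbd, Ne.symm hcd]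
  have hsfix := hnofix s hs.1 hs1 hs2 hs3 (by rw [hsa]; exact Ne.symm hab) q hq1 hq2 hq3
  have htfix := hnofix t ht.1 ht123.1 ht123.2.1 ht123.2.2 (by rw [hta]; exact Ne.symm hac) q hq1 hq2 hq3
  have hpfix := hnofix p hp.1 hp123.1 hp123.2.1 hp123.2.2 (by rw [hpa]; exact Ne.symm had) q hq1 hq2 hq3
  have hsapp : ∀ x, s (s x) = x := fun x => by rw [← Equiv.Perm.mul_apply, hss, Equiv.Perm.one_apply]
  have hpapp : s (t q) = p q := by rw [← hst, Equiv.Perm.mul_apply]
  have hd1 : s q ≠ t q := fun h => hpfix (by rw [← hpapp, ← h, hsapp])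
  have hd2 : s q ≠ p q := fun h => htfix (s.injective (hpapp.trans h.symm))
  have hd3 : t q ≠ p q := by
    intro h
    have hne' : t q ≠ f1 ∧ t q ≠ f2 ∧ t q ≠ f3 :=
      ⟨fun e => htq (e ▸ hf1E), fun e => htq (e ▸ hf2E), fun e => htq (e ▸ hf3E)⟩
    exact hnofix s hs.1 hs1 hs2 hs3 (by rw [hsa]; exact Ne.symm hab) (t q) hne'.1 hne'.2.1 hne'.2.2
      (hpapp.trans h.symm)
  have hQc : ({q, s q, t q, p q} : Finset α).card = 4 :=
    hcard _ _ _ _ (by simp [Ne.symm hsfix, Ne.symm htfix, Ne.symm hpfix, hd1, hd2, hd3])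
  have hsub : ({q, s q, t q, p q} : Finset α) ⊆ Eᶜ := by
    intro x hx
    simp only [Finset.mem_insert, Finset.mem_singleton] at hx
    rw [Finset.mem_compl]
    rcases hx with rfl | rfl | rfl | rfl <;> assumption
  have hQeq : ({q, s q, t q, p q} : Finset α) = Eᶜ := by
    refine Finset.eq_of_subset_of_card_le hsub ?_
    rw [hQc, Finset.card_compl, hEc]
    omega
  have huqQ : u0 q ∈ ({q, s q, t q, p q} : Finset α) := by
    rw [hQeq, Finset.mem_compl]; exact huq
  have huu : ∀ x, u0 (u0 x) = x := fun x => by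
    rw [← Equiv.Perm.mul_apply, hp2 u0 _ hu0 (fun x hx => swap_mem (by simp [Γ]) (by simp [Γ]) hx)
      (fun x _ => Equiv.swap_apply_self a0 b0 x), Equiv.Perm.one_apply]
  obtain ⟨v, hv⟩ := hlift Γ hΓ (Equiv.swap c0 d0)
  have hus : u0 * s = v := hsh Γ hΓ.ge _ (G.mul_mem hu0.1 hs.1) _ hv.1 fun x hx => by
    rw [Equiv.Perm.mul_apply, hs.2 x hx,
      hu0.2 _ (hm2 _ _ _ _ (by simp [Γ]) (by simp [Γ]) (by simp [Γ]) (by simp [Γ]) x hx), hv.2 x hx,
      Equiv.Perm.mul_apply, Equiv.swap_apply_self]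
  have hsquare : ∀ g π, IsLift G Γ π g → (∀ x ∈ Γ, π x ∈ Γ) →
      (∀ x ∈ Γ, Equiv.swap a0 b0 (π (Equiv.swap a0 b0 (π x))) =
        Equiv.swap a0 b0 (Equiv.swap c0 d0 x)) → u0 q ≠ g q ∨ g * g ≠ 1 := by
    intro g π hg hm hπ
    by_contra hcon
    push Not at hcon
    obtain ⟨hug, hgg⟩ := hcon
    have h1 : u0 (g q) = q := by rw [← hug, huu]
    have h2 : (u0 * g) * (u0 * g) = s := hsh Γ hΓ.ge _
      (G.mul_mem (G.mul_mem hu0.1 hg.1) (G.mul_mem hu0.1 hg.1)) _ hs.1 fun x hx => by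
        simp only [Equiv.Perm.mul_apply]
        rw [hg.2 x hx, hu0.2 _ (hm x hx), hg.2 _ (swap_mem (by simp [Γ]) (by simp [Γ]) (hm x hx)),
          hu0.2 _ (hm _ (swap_mem (by simp [Γ]) (by simp [Γ]) (hm x hx))), hπ x hx, hs.2 x hx,
          Equiv.Perm.mul_apply]
    apply hsfix
    rw [← h2]
    simp only [Equiv.Perm.mul_apply]
    rw [h1, h1]
  simp only [Finset.mem_insert, Finset.mem_singleton] at huqQ
  rcases huqQ with h | h | h | h
  · exact hq1 ((hu1' q (by simp [Γ, hqa, hqb, hqc, hqd]) h).trans (hu1' _ hf1Γ huf1).symm)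
  · have hvq : v q = q := by rw [← hus, Equiv.Perm.mul_apply, ← h, huu]
    have hvf : v f1 = f1 := disjoint_fix hsh hone hΓ (by simp [Γ]) (by simp [Γ]) hab (by simp [Γ])
      (by simp [Γ]) (Ne.symm hac) (Ne.symm hbc) (Ne.symm had) (Ne.symm hbd) hu0 hv hf1Γ huf1
    obtain ⟨Fv, -, -, hv1⟩ := hone Γ hΓ c0 (by simp [Γ]) d0 (by simp [Γ]) hcd v hv
    exact hq1 ((hv1 q (by simp [Γ, hqa, hqb, hqc, hqd]) hvq).trans (hv1 _ hf1Γ hvf).symm)
  · rcases hsquare t _ ht (hm2 _ _ _ _ (by simp [Γ]) (by simp [Γ]) (by simp [Γ]) (by simp [Γ]))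
      (fun x hx => by
        rw [hmΓ] at hx
        rcases hx with rfl | rfl | rfl | rfl <;>
          simp [Equiv.swap_apply_def, hab, hac, had, hbc, hbd, hcd, Ne.symm hab, Ne.symm hac,
            Ne.symm had, Ne.symm hbc, Ne.symm hbd, Ne.symm hcd]) with h' | h'
    · exact h' h
    · exact h' (hp2 t _ ht (hm2 _ _ _ _ (by simp [Γ]) (by simp [Γ]) (by simp [Γ]) (by simp [Γ]))
        fun x hx => by
          rw [hmΓ] at hx
          rcases hx with rfl | rfl | rfl | rfl <;>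
            simp [Equiv.swap_apply_def, hab, hac, had, hbc, hbd, hcd, Ne.symm hab, Ne.symm hac,
              Ne.symm had, Ne.symm hbc, Ne.symm hbd, Ne.symm hcd])
  · rcases hsquare p _ hp (hm2 _ _ _ _ (by simp [Γ]) (by simp [Γ]) (by simp [Γ]) (by simp [Γ]))
      (fun x hx => by
        rw [hmΓ] at hx
        rcases hx with rfl | rfl | rfl | rfl <;>
          simp [Equiv.swap_apply_def, hab, hac, had, hbc, hbd, hcd, Ne.symm hab, Ne.symm hac,
            Ne.symm had, Ne.symm hbc, Ne.symm hbd, Ne.symm hcd]) with h' | h'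
    · exact h' h
    · exact h' (hp2 p _ hp (hm2 _ _ _ _ (by simp [Γ]) (by simp [Γ]) (by simp [Γ]) (by simp [Γ]))
        fun x hx => by
          rw [hmΓ] at hx
          rcases hx with rfl | rfl | rfl | rfl <;>
            simp [Equiv.swap_apply_def, hab, hac, had, hbc, hbd, hcd, Ne.symm hab, Ne.symm hac,
              Ne.symm had, Ne.symm hbc, Ne.symm hbd, Ne.symm hcd])

/-- In the sharp case some `(k+1)`-set has its whole symmetric group induced. -/
theorem good_of_sharp (hk : 4 ≤ k) (hkn : k < Fintype.card α) (hE : Ext G k) (hsh : Sharp G k)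
    (hone : OneFix G k) (hn : Fintype.card α - k ≤ 7) : Good G k := by
  classical
  -- all transposition lifts of a `k`-set fix a common point
  have hlift : ∀ (Γ : Finset α), Γ.card = k → ∀ π : Equiv.Perm α, ∃ g, IsLift G Γ π g := fun Γ h π => by
    obtain ⟨g, hg, hgx⟩ := hE Γ h π
    exact ⟨g, hg, hgx⟩
  have hcommon : ∀ Γ : Finset α, Γ.card = k → ∃ x, x ∉ Γ ∧ ∀ a ∈ Γ, ∀ b ∈ Γ, a ≠ b → ∀ u,
      IsLift G Γ (Equiv.swap a b) u → u x = x := by
    intro Γ hΓ
    have hstep : ∀ a ∈ Γ, ∀ b ∈ Γ, ∀ c ∈ Γ, a ≠ b → a ≠ c → ∀ u w,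
        IsLift G Γ (Equiv.swap a b) u → IsLift G Γ (Equiv.swap a c) w →
        ∀ f, f ∉ Γ → u f = f → w f = f := by
      intro a ha b hb c hc hab hac u w hu hw f hf huf
      rcases eq_or_ne b c with rfl | hbc
      · rwa [hsh Γ hΓ.ge _ hw.1 _ hu.1 fun x hx => by rw [hw.2 x hx, hu.2 x hx]]
      obtain ⟨d, hd⟩ : (((Γ.erase a).erase b).erase c).Nonempty := by
        rw [← Finset.card_pos, Finset.card_erase_of_mem (by simp [(Ne.symm hbc), (Ne.symm hac), hc]),
          Finset.card_erase_of_mem (by simp [(Ne.symm hab), hb]), Finset.card_erase_of_mem ha, hΓ]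
        omega
      simp only [Finset.mem_erase] at hd
      obtain ⟨hdc, hdb, hda, hdΓ⟩ := hd
      by_cases hk4 : k = 4
      · subst hk4
        have hnd : List.Nodup [a, b, c, d] := by
          simp [hab, hac, hbc, hda.symm, hdb.symm, hdc.symm]
        have heq : Γ = {a, b, c, d} := by
          symm
          refine Finset.eq_of_subset_of_card_le ?_ ?_
          · intro x hx
            simp only [Finset.mem_insert, Finset.mem_singleton] at hx
            rcases hx with rfl | rfl | rfl | rfl <;> assumption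
          · have := List.toFinset_card_of_nodup hnd
            simp at this
            omega
        rw [heq] at hu hw hf
        exact overlap_four hE hsh hone (by omega) hnd hu hw hf huf
      · obtain ⟨e, he⟩ : ((((Γ.erase a).erase b).erase c).erase d).Nonempty := by
          rw [← Finset.card_pos, Finset.card_erase_of_mem (by simp [hdc, hdb, hda, hdΓ]),
            Finset.card_erase_of_mem (by simp [(Ne.symm hbc), (Ne.symm hac), hc]),
            Finset.card_erase_of_mem (by simp [(Ne.symm hab), hb]), Finset.card_erase_of_mem ha, hΓ]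
          omega
        simp only [Finset.mem_erase] at he
        obtain ⟨hed, hec, heb, hea, heΓ⟩ := he
        obtain ⟨v, hv⟩ := hlift Γ hΓ (Equiv.swap d e)
        have hvf := disjoint_fix hsh hone hΓ ha hb hab hdΓ heΓ hda hdb hea heb hu hv hf huf
        exact disjoint_fix hsh hone hΓ hdΓ heΓ hed.symm ha hc hda.symm hea.symm hdc.symm hec.symm hv hw
          hf hvf
    obtain ⟨a0, ha0, b0, hb0, hab0⟩ := Finset.one_lt_card.1 (by omega : 1 < Γ.card)
    obtain ⟨u0, hu0⟩ := hlift Γ hΓ (Equiv.swap a0 b0)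
    obtain ⟨x, hx, hxu, -⟩ := hone Γ hΓ a0 ha0 b0 hb0 hab0 u0 hu0
    refine ⟨x, hx, fun c hc d hd hcd w hw => ?_⟩
    rcases eq_or_ne a0 c with rfl | hac
    · exact hstep _ ha0 _ hb0 _ hd hab0 hcd u0 w hu0 hw x hx hxu
    obtain ⟨v, hv⟩ := hlift Γ hΓ (Equiv.swap a0 c)
    have hvx := hstep _ ha0 _ hb0 _ hc hab0 hac u0 v hu0 hv x hx hxu
    refine hstep _ hc _ ha0 _ hd (Ne.symm hac) hcd v w ?_ hw x hx hvx
    rwa [Equiv.swap_comm]
  obtain ⟨Γ, -, hΓ⟩ := Finset.exists_subset_card_eq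
    (show k ≤ (Finset.univ : Finset α).card by rw [Finset.card_univ]; omega)
  obtain ⟨x, hx, hxfix⟩ := hcommon Γ hΓ
  set Δ := insert x Γ with hΔdef
  have hΔc : Δ.card = k + 1 := by rw [Finset.card_insert_of_notMem hx, hΓ]
  have hpoint : ∀ p ∈ Δ, ∀ a ∈ Δ.erase p, ∀ b ∈ Δ.erase p, a ≠ b → ∀ u,
      IsLift G (Δ.erase p) (Equiv.swap a b) u → u p = p := by
    intro p hp a ha b hb hab u hu
    rcases Finset.mem_insert.1 hp with rfl | hpΓ
    · rw [hΔdef, Finset.erase_insert hx] at ha hb hu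
      exact hxfix a ha b hb hab u hu
    have hΓ' : (Δ.erase p).card = k := by rw [Finset.card_erase_of_mem hp, hΔc]; omega
    obtain ⟨x', hx', hx'fix⟩ := hcommon _ hΓ'
    obtain ⟨c, hc, d, hd, hcd⟩ := Finset.one_lt_card.1
      (by rw [Finset.card_erase_of_mem hpΓ, hΓ]; omega : 1 < (Γ.erase p).card)
    rw [Finset.mem_erase] at hc hd
    obtain ⟨v, hv⟩ := hlift Γ hΓ (Equiv.swap c d)
    have hvx : v x = x := hxfix c hc.2 d hd.2 hcd v hv
    have hc' : c ∈ Δ.erase p := Finset.mem_erase.2 ⟨hc.1, Finset.mem_insert_of_mem hc.2⟩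
    have hd' : d ∈ Δ.erase p := Finset.mem_erase.2 ⟨hd.1, Finset.mem_insert_of_mem hd.2⟩
    have hv' : IsLift G (Δ.erase p) (Equiv.swap c d) v := by
      refine ⟨hv.1, fun y hy => ?_⟩
      rcases Finset.mem_insert.1 (Finset.mem_of_mem_erase hy) with rfl | hy'
      · rw [hvx, Equiv.swap_apply_of_ne_of_ne (fun e : y = c => hx (e ▸ hc.2))
          (fun e : y = d => hx (e ▸ hd.2))]
      · exact hv.2 y hy'
    have hvp : v p = p := by
      rw [hv.2 p hpΓ, Equiv.swap_apply_of_ne_of_ne (Ne.symm hc.1) (Ne.symm hd.1)]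
    obtain ⟨F, -, -, hFu⟩ := hone _ hΓ' c hc' d hd' hcd v hv'
    have hpx : p = x' := (hFu p (Finset.notMem_erase p Δ) hvp).trans
      (hFu x' hx' (hx'fix c hc' d hd' hcd v hv')).symm
    rw [hpx]
    exact hx'fix a ha b hb hab u hu
  let H : Subgroup (Equiv.Perm ↥Δ) :=
    { carrier := {σ | ∃ g ∈ G, ∀ x : ↥Δ, g (x : α) = σ x}
      one_mem' := ⟨1, G.one_mem, fun _ => rfl⟩
      mul_mem' := by
        rintro σ τ ⟨g, hg, hgx⟩ ⟨h, hh, hhx⟩
        exact ⟨g * h, G.mul_mem hg hh, fun x => by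
          rw [Equiv.Perm.mul_apply, hhx, hgx, Equiv.Perm.mul_apply]⟩
      inv_mem' := by
        rintro σ ⟨g, hg, hgx⟩
        refine ⟨g⁻¹, G.inv_mem hg, fun x => ?_⟩
        rw [Equiv.Perm.inv_eq_iff_eq, hgx, apply_inv'] }
  refine ⟨Δ, hΔc, fun σ _ => ?_⟩
  suffices hs : ∀ τ : Equiv.Perm ↥Δ, τ.IsSwap → τ ∈ H by
    have : σ ∈ Subgroup.closure {τ : Equiv.Perm ↥Δ | τ.IsSwap} := by
      rw [Equiv.Perm.closure_isSwap]; exact Subgroup.mem_top σ
    exact (Subgroup.closure_le H).2 hs this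
  rintro _ ⟨⟨p, hp⟩, ⟨q, hq⟩, hpq, rfl⟩
  have hpq' : p ≠ q := fun e => hpq (Subtype.ext e)
  obtain ⟨r, hr⟩ : ((Δ.erase p).erase q).Nonempty := by
    rw [← Finset.card_pos, Finset.card_erase_of_mem (Finset.mem_erase.2 ⟨hpq'.symm, hq⟩),
      Finset.card_erase_of_mem hp, hΔc]
    omega
  simp only [Finset.mem_erase] at hr
  obtain ⟨hrq, hrp, hrΔ⟩ := hr
  have hΓ' : (Δ.erase r).card = k := by rw [Finset.card_erase_of_mem hrΔ, hΔc]; omega
  obtain ⟨u, hu⟩ := hlift _ hΓ' (Equiv.swap p q)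
  refine ⟨u, hu.1, fun y => ?_⟩
  have hval : ((Equiv.swap (⟨p, hp⟩ : ↥Δ) ⟨q, hq⟩ y : ↥Δ) : α) = Equiv.swap p q (y : α) :=
    (Function.Injective.swap_apply Subtype.val_injective _ _ _).symm
  rw [hval]
  by_cases hyr : (y : α) = r
  · rw [hyr, hpoint r hrΔ p (Finset.mem_erase.2 ⟨hrp.symm, hp⟩) q (Finset.mem_erase.2 ⟨hrq.symm, hq⟩)
      hpq' u hu, Equiv.swap_apply_of_ne_of_ne hrp hrq]
  · exact hu.2 _ (Finset.mem_erase.2 ⟨hyr, y.2⟩)

/-- The case in which no non-identity element fixes more than `k` points. -/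
theorem good_of_small (hk : 4 ≤ k) (hkn : k < Fintype.card α) (hE : Ext G k) (hS : Small G k) :
    Good G k := by
  classical
  by_contra hbad
  obtain ⟨Γ, -, hΓ⟩ := Finset.exists_subset_card_eq
    (show k ≤ (Finset.univ : Finset α).card by rw [Finset.card_univ]; omega)
  have hlarge : 3 * Nat.card (fx G Γ) ≤ Fintype.card α - k := by
    by_contra h
    exact hbad (good_of_few hkn hE hS hΓ (by omega))
  have hpos : 0 < Nat.card (fx G Γ) := Nat.card_pos
  have hodd : ∀ s : Finset α, s.card = k → Odd (Nat.card (fx G s)) := by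
    intro s hs
    rw [card_fx hE hs hΓ, ← Nat.not_even_iff_odd]
    intro he
    have := few_of_even (by omega) hkn hE hS hΓ he
    omega
  have hinv : ∀ (s : Finset α), s.card = k → ∀ a ∈ s, ∀ b ∈ s, ∃ u ∈ G, u * u = 1 ∧
      ∀ x ∈ s, u x = Equiv.swap a b x := by
    intro s hs a ha b hb
    obtain ⟨z, hz, hz2, hzx, -⟩ := exists_lift hs hE (hodd s hs) (π := Equiv.swap a b)
      (fun x hx => swap_mem ha hb hx) (fun x _ => Equiv.swap_apply_self a b x) (u := 1) G.one_mem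
      (mul_one 1) (fun x hx => hx) (fun x _ => rfl)
    exact ⟨z, hz, hz2, hzx⟩
  obtain ⟨a, ha, b, hb, hab⟩ := Finset.one_lt_card.1 (by omega : 1 < Γ.card)
  obtain ⟨u, hu, hu2, hux⟩ := hinv Γ hΓ a ha b hb
  have h7 : Fintype.card α - k ≤ 7 := by
    rcases odd_frame hk hE hS hodd hΓ ha hb hab hu hu2 hux with h | ⟨-, h⟩ <;> omega
  have he1 : Nat.card (fx G Γ) = 1 := by
    obtain ⟨j, hj⟩ := hodd Γ hΓ
    omega
  have hsh : Sharp G k := by
    intro s hs g hg h hh hgh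
    obtain ⟨T, hT, hTc⟩ := Finset.exists_subset_card_eq hs
    have hmem : g⁻¹ * h ∈ fx G T := ⟨G.mul_mem (G.inv_mem hg) hh, fun x hx => by
      rw [Equiv.Perm.mul_apply, Equiv.Perm.inv_eq_iff_eq, hgh x (hT hx)]⟩
    have h1 : fx G T = ⊥ := Subgroup.card_eq_one.1 ((card_fx hE hTc hΓ).trans he1)
    rw [h1, Subgroup.mem_bot, inv_mul_eq_one] at hmem
    exact hmem
  refine hbad (good_of_sharp hk hkn hE hsh ?_ h7)
  intro s hs p hp q hq hpq w hw
  have hw2 : w * w = 1 := sharp_inv hsh hs hw (fun x hx => swap_mem hp hq hx)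
    fun x _ => Equiv.swap_apply_self p q x
  rcases odd_frame hk hE hS hodd hs hp hq hpq hw.1 hw2 hw.2 with h | ⟨h, -⟩
  · rw [card_fx hE hs hΓ] at h
    omega
  · exact h

/-- Reduction to the case in which no non-identity element fixes more than `k` points. -/
theorem good (hk : 4 ≤ k) : ∀ (n : ℕ) {α : Type*} [Fintype α] [DecidableEq α]
    (G : Subgroup (Equiv.Perm α)), Fintype.card α = n → k < n → Ext G k → Good G k := by
  intro n
  induction n using Nat.strong_induction_on with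
  | _ n ih =>
    intro α _ _ G hn hkn hE
    classical
    by_cases hS : Small G k
    · exact good_of_small hk (hn ▸ hkn) hE hS
    unfold Small at hS
    push Not at hS
    obtain ⟨g, hg, T, hT, hfix, hg1⟩ := hS
    obtain ⟨p, hp, hpg⟩ := Nat.exists_prime_and_dvd (fun h => hg1 (orderOf_eq_one_iff.1 h) :
      orderOf g ≠ 1)
    haveI : Fact p.Prime := ⟨hp⟩
    set h := g ^ (orderOf g / p) with hhdef
    have hho : orderOf h = p := orderOf_pow_orderOf_div (orderOf_pos g).ne' hpg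
    have hhG : h ∈ G := pow_mem hg _
    have hhfix : ∀ x ∈ T, h x = x := ((fx G T).pow_mem ⟨hg, hfix⟩ _).2
    -- maximal `p`-subgroups with more than `k` fixed points
    let P : Subgroup G → Prop := fun Q => IsPGroup p Q ∧
      ∃ S : Finset α, k + 1 ≤ S.card ∧ ∀ q ∈ Q, ∀ x ∈ S, (q : Equiv.Perm α) x = x
    have hne : P (Subgroup.zpowers ⟨h, hhG⟩) := by
      refine ⟨IsPGroup.of_card (n := 1) (by rw [Nat.card_zpowers, Subgroup.orderOf_mk, hho, pow_one]),
        T, hT, fun q hq x hx => ?_⟩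
      obtain ⟨i, rfl⟩ := Subgroup.mem_zpowers_iff.1 hq
      rw [SubgroupClass.coe_zpow]
      exact ((fx G T).zpow_mem ⟨hhG, hhfix⟩ i).2 x hx
    obtain ⟨Q, hQle, hQmax⟩ := Finite.exists_le_maximal hne
    obtain ⟨⟨hQp, S, hS, hQS⟩, hmax⟩ := hQmax
    have hQne : ∃ q ∈ Q, ∃ x, (q : Equiv.Perm α) x ≠ x := by
      refine ⟨⟨h, hhG⟩, hQle (Subgroup.mem_zpowers _), ?_⟩
      by_contra! hall
      have h1 : orderOf h = 1 := orderOf_eq_one_iff.2 (Equiv.ext hall)
      exact hp.ne_one (hho ▸ h1)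
    set F := Finset.univ.filter (fun x => ∀ q ∈ Q, (q : Equiv.Perm α) x = x) with hFdef
    have hmF : ∀ x, x ∈ F ↔ ∀ q ∈ Q, (q : Equiv.Perm α) x = x := fun x => by simp [hFdef]
    have hSF : S ⊆ F := fun x hx => (hmF x).2 fun q hq => hQS q hq x hx
    have hFk : k < F.card := lt_of_lt_of_le hS (Finset.card_le_card hSF)
    have hFn : F.card < n := by
      obtain ⟨q, hq, x, hx⟩ := hQne
      rw [← hn, ← Finset.card_univ]
      exact Finset.card_lt_card (Finset.ssubset_univ_iff.2 fun e => hx ((hmF x).1 (e ▸ Finset.mem_univ x) q hq))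
    set N := Subgroup.normalizer (Q : Set G) with hN
    have hNF : ∀ m ∈ N, ∀ x, ((m : G) : Equiv.Perm α) x ∈ F ↔ x ∈ F := by
      have one : ∀ m ∈ N, ∀ x ∈ F, ((m : G) : Equiv.Perm α) x ∈ F := by
        intro m hm x hx
        rw [hmF] at hx ⊢
        intro q hq
        have hmem : m⁻¹ * q * m ∈ Q := by
          have := (Subgroup.mem_normalizer_iff.1 (N.inv_mem hm) q).1 hq
          rwa [inv_inv] at this
        have h1 := hx _ hmem
        rw [Subgroup.coe_mul, Subgroup.coe_mul, Equiv.Perm.mul_apply, Equiv.Perm.mul_apply,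
          Subgroup.coe_inv, Equiv.Perm.inv_eq_iff_eq] at h1
        exact h1
      intro m hm x
      refine ⟨fun hx => ?_, one m hm x⟩
      have := one m⁻¹ (N.inv_mem hm) _ hx
      rwa [Subgroup.coe_inv, inv_apply'] at this
    let φ : N →* Equiv.Perm ↥F :=
      { toFun := fun m => ((m : G) : Equiv.Perm α).subtypePerm (hNF m m.2)
        map_one' := Equiv.ext fun y => Subtype.ext rfl
        map_mul' := fun a b => Equiv.ext fun y => Subtype.ext rfl }
    let Kf : Finset α → Subgroup G := fun s => (fx G s).comap G.subtype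
    have hKfm : ∀ (s : Finset α) (x : G), x ∈ Kf s ↔ ∀ y ∈ s, (x : Equiv.Perm α) y = y :=
      fun s x => ⟨fun h => h.2, fun h => ⟨x.2, h⟩⟩
    have hQK : ∀ s : Finset α, s ⊆ F → Q ≤ Kf s := fun s hs q hq =>
      (hKfm s q).2 fun y hy => (hmF y).1 (hs hy) q hq
    have hKc : ∀ s t : Finset α, s.card = k → t.card = k → Nat.card (Kf s) = Nat.card (Kf t) := by
      intro s t hs ht
      have e : ∀ u : Finset α, Nat.card (Kf u) = Nat.card (fx G u) := fun u =>
        Nat.card_congr (Subgroup.subgroupOfEquivOfLe (fun x hx => hx.1 : fx G u ≤ G)).toEquiv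
      rw [e, e, card_fx hE hs ht]
    have hM : MulAction.IsMultiplyPretransitive φ.range ↥F k := by
      by_cases hsyl : ∀ s : Finset α, s ⊆ F → s.card = k → ¬ p ∣ ((Q.subgroupOf (Kf s)).index)
      · -- `Q` is a Sylow subgroup: Witt
        refine multiply_of_ext fun s hs π => ?_
        set s' := s.map (Function.Embedding.subtype _)
        have hs'c : s'.card = k := by rw [Finset.card_map, hs]
        set t' := (s.map π.toEmbedding).map (Function.Embedding.subtype _)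
        have ht'c : t'.card = k := by rw [Finset.card_map, Finset.card_map, hs]
        have hs'F : s' ⊆ F := by
          intro y hy
          obtain ⟨z, -, rfl⟩ := Finset.mem_map.1 hy
          exact z.2
        have ht'F : t' ⊆ F := by
          intro y hy
          obtain ⟨z, -, rfl⟩ := Finset.mem_map.1 hy
          exact z.2
        obtain ⟨g0, hg0, hg0x⟩ := hE s' hs'c (Equiv.Perm.ofSubtype π)
        have hg0s : ∀ z ∈ s, g0 (z : α) = π z := fun z hz => by
          exact (hg0x _ (Finset.mem_map.2 ⟨z, hz, rfl⟩)).trans (Equiv.Perm.ofSubtype_apply_coe π z)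
        set gg : G := ⟨g0, hg0⟩
        set Q' := Q.map (MulAut.conj gg).toMonoidHom
        have hQ't : Q' ≤ Kf t' := by
          rintro _ ⟨q, hq, rfl⟩
          rw [hKfm]
          intro y hy
          obtain ⟨z', hz', rfl⟩ := Finset.mem_map.1 hy
          obtain ⟨z, hz, rfl⟩ := Finset.mem_map.1 hz'
          show g0 ((q : Equiv.Perm α) (g0⁻¹ (π z : α))) = (π z : α)
          rw [show g0⁻¹ (π z : α) = (z : α) by rw [Equiv.Perm.inv_eq_iff_eq, hg0s z hz],
            (hmF _).1 z.2 q hq, hg0s z hz]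
        have hcard : Nat.card Q' = Nat.card Q := Subgroup.card_map_of_injective (MulAut.conj gg).injective
        have hidx := hsyl t' ht'F ht'c
        let Q1 := Q.subgroupOf (Kf t')
        let Q2 := Q'.subgroupOf (Kf t')
        have hQ1p : IsPGroup p Q1 := hQp.of_equiv (Subgroup.subgroupOfEquivOfLe (hQK t' ht'F)).symm
        have hQ2p : IsPGroup p Q2 :=
          (hQp.map (MulAut.conj gg).toMonoidHom).of_equiv (Subgroup.subgroupOfEquivOfLe hQ't).symm
        have hidx2 : ¬ p ∣ Q2.index := by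
          have c1 := Q1.card_mul_index
          have c2 := Q2.card_mul_index
          have e1 : Nat.card Q1 = Nat.card Q :=
            Nat.card_congr (Subgroup.subgroupOfEquivOfLe (hQK t' ht'F)).toEquiv
          have e2 : Nat.card Q2 = Nat.card Q :=
            (Nat.card_congr (Subgroup.subgroupOfEquivOfLe hQ't).toEquiv).trans hcard
          rw [e1, ← c2, e2] at c1
          rw [← Nat.eq_of_mul_eq_mul_left Nat.card_pos c1]
          exact hidx
        obtain ⟨c, hc⟩ := MulAction.exists_smul_eq (Kf t') (hQ2p.toSylow hidx2) (hQ1p.toSylow hidx)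
        have hc' : ∀ x : Kf t', x ∈ Q2 ↔ c * x * c⁻¹ ∈ Q1 := by
          intro x
          have := congrArg (fun R : Sylow p (Kf t') => (R : Subgroup (Kf t'))) hc
          simp only [Sylow.coe_subgroup_smul, IsPGroup.toSylow_coe] at this
          rw [← this, Subgroup.mem_pointwise_smul_iff_inv_smul_mem]
          simp [MulAut.smul_def, mul_assoc]
        have hnorm : (c : G) * gg ∈ N := by
          rw [hN, Subgroup.mem_normalizer_iff]
          intro q
          have hback : ∀ y : G, y ∈ Q' ↔ (c : G) * y * (c : G)⁻¹ ∈ Q := by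
            intro y
            constructor
            · intro hy
              have := (hc' ⟨y, hQ't hy⟩).1 hy
              exact this
            · intro hy
              have hyK : y ∈ Kf t' := by
                have := hQK t' ht'F hy
                have h2 := (Kf t').mul_mem ((Kf t').mul_mem ((Kf t').inv_mem c.2) this) c.2
                simpa [mul_assoc] using h2
              exact (hc' ⟨y, hyK⟩).2 hy
          have h1 : q ∈ Q ↔ gg * q * gg⁻¹ ∈ Q' :=
            (Subgroup.mem_map_iff_mem (MulAut.conj gg).injective).symm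
          rw [h1, hback]
          simp only [mul_inv_rev, mul_assoc]
        refine ⟨φ ⟨_, hnorm⟩, ⟨_, rfl⟩, fun z hz => Subtype.ext ?_⟩
        show ((c : G) : Equiv.Perm α) (g0 (z : α)) = (π z : α)
        rw [hg0s z hz]
        exact ((hKfm t' _).1 c.2) _ (Finset.mem_map.2 ⟨π z, Finset.mem_map.2 ⟨z, hz, rfl⟩, rfl⟩)
      · -- `Q` is never a Sylow subgroup: Gleason
        push Not at hsyl
        obtain ⟨s1, hs1F, hs1, hdvd⟩ := hsyl
        refine S0743.result φ.range hp (by omega) (by rwa [Fintype.card_coe]) fun s hs => ?_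
        set s' := s.map (Function.Embedding.subtype _)
        have hs'c : s'.card = k := by rw [Finset.card_map, hs]
        have hs'F : s' ⊆ F := by
          intro y hy
          obtain ⟨z, -, rfl⟩ := Finset.mem_map.1 hy
          exact z.2
        have hidx : p ∣ (Q.subgroupOf (Kf s')).index := by
          have c1 := (Q.subgroupOf (Kf s1)).card_mul_index
          have c2 := (Q.subgroupOf (Kf s')).card_mul_index
          rw [hKc s1 s' hs1 hs'c, ← c2, Nat.card_congr (Subgroup.subgroupOfEquivOfLe (hQK s1 hs1F)).toEquiv,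
            Nat.card_congr (Subgroup.subgroupOfEquivOfLe (hQK s' hs'F)).toEquiv] at c1
          rwa [← Nat.eq_of_mul_eq_mul_left Nat.card_pos c1]
        obtain ⟨Y, hY⟩ := (hQp.of_equiv (Subgroup.subgroupOfEquivOfLe (hQK s' hs'F)).symm :
          IsPGroup p (Q.subgroupOf (Kf s'))).exists_le_sylow
        let Y' : Subgroup G := (Y : Subgroup (Kf s')).map (Kf s').subtype
        have hY'p : IsPGroup p Y' := Y.2.map _
        have hQY : Q < Y' := by
          refine lt_of_le_of_ne (fun q hq => ⟨⟨q, hQK s' hs'F hq⟩, hY hq, rfl⟩) fun e => ?_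
          have heq : Q.subgroupOf (Kf s') = (Y : Subgroup (Kf s')) := by
            rw [e, Subgroup.subgroupOf,
              Subgroup.comap_map_eq_self_of_injective (Kf s').subtype_injective]
          rw [heq] at hidx
          exact Y.not_dvd_index hidx
        haveI : Group.IsNilpotent Y' := hY'p.isNilpotent
        have hlt : Q.subgroupOf Y' < Subgroup.normalizer ((Q.subgroupOf Y' : Subgroup Y') : Set Y') := by
          refine normalizerCondition_of_isNilpotent _ (lt_top_iff_ne_top.2 fun e => ?_)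
          rw [Subgroup.subgroupOf_eq_top] at e
          exact hQY.not_ge e
        obtain ⟨y, hyN, hyQ⟩ := SetLike.exists_of_lt hlt
        set R : Subgroup G := Y' ⊓ N
        have hyR : (y : G) ∈ R := by
          refine ⟨y.2, Subgroup.mem_normalizer_iff.2 fun q => ?_⟩
          constructor
          · intro hq
            exact (Subgroup.mem_normalizer_iff.1 hyN ⟨q, hQY.le hq⟩).1 hq
          · intro hq
            have hq' : q ∈ Y' := by
              have h2 := Y'.mul_mem (Y'.mul_mem (Y'.inv_mem y.2) (hQY.le hq)) y.2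
              simpa [mul_assoc] using h2
            exact (Subgroup.mem_normalizer_iff.1 hyN ⟨q, hq'⟩).2 hq
        have hQR : Q < R := lt_of_le_of_ne (le_inf hQY.le Subgroup.le_normalizer) fun e => hyQ (by
          show (y : G) ∈ Q
          rw [e]; exact hyR)
        refine ⟨(((R.subgroupOf N).map φ.rangeRestrict)), ?_, ?_⟩
        · exact ((hY'p.to_le inf_le_left).of_equiv
            (Subgroup.subgroupOfEquivOfLe (inf_le_right : R ≤ N)).symm).map _
        · ext z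
          simp only [MulAction.mem_fixedPoints, Finset.mem_coe]
          constructor
          · intro hz
            by_contra hzs
            have hz' : (z : α) ∉ s' := fun hm => by
              obtain ⟨z', hz', e⟩ := Finset.mem_map.1 hm
              exact hzs (Subtype.ext e ▸ hz')
            refine hQR.not_ge (hmax ⟨hY'p.to_le inf_le_left, insert (z : α) s', ?_, ?_⟩ hQR.le)
            · rw [Finset.card_insert_of_notMem hz', hs'c]
            · intro q hq x hx
              rcases Finset.mem_insert.1 hx with rfl | hx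
              · exact congrArg Subtype.val (hz ⟨φ.rangeRestrict ⟨q, hq.2⟩,
                  Subgroup.mem_map_of_mem _ (show (⟨q, hq.2⟩ : N) ∈ R.subgroupOf N from hq)⟩)
              · obtain ⟨w, -, hw⟩ := hq.1
                rw [← hw]
                exact (hKfm s' _).1 w.2 x hx
          · intro hzs
            rintro ⟨_, ⟨m, hm, rfl⟩⟩
            apply Subtype.ext
            show ((m : G) : Equiv.Perm α) (z : α) = z
            obtain ⟨w, -, hw⟩ := (Subgroup.mem_subgroupOf.1 hm).1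
            rw [← hw]
            exact (hKfm s' _).1 w.2 _ (Finset.mem_map.2 ⟨z, hzs, rfl⟩)
    obtain ⟨Δ, hΔ, hΔA⟩ := ih F.card hFn φ.range (Fintype.card_coe F) hFk (ext_of_multiply hM)
    set Δ' := Δ.map (Function.Embedding.subtype _) with hΔ'def
    refine ⟨Δ', by rw [hΔ'def, Finset.card_map, hΔ], fun σ hσ => ?_⟩
    have hmem : ∀ z : ↥Δ, ((z : ↥F) : α) ∈ Δ' := fun z => Finset.mem_map.2 ⟨z, z.2, rfl⟩
    have hmem' : ∀ y : ↥Δ', ∃ h : (y : α) ∈ F, (⟨y, h⟩ : ↥F) ∈ Δ := by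
      intro y
      obtain ⟨z, hz, e⟩ := Finset.mem_map.1 y.2
      have e' : (z : α) = y := e
      refine ⟨e' ▸ z.2, ?_⟩
      convert hz using 1
      exact Subtype.ext e'.symm
    let eqv : ↥Δ ≃ ↥Δ' :=
      { toFun := fun z => ⟨((z : ↥F) : α), hmem z⟩
        invFun := fun y => ⟨⟨y, (hmem' y).fst⟩, (hmem' y).snd⟩
        left_inv := fun z => rfl
        right_inv := fun y => rfl }
    obtain ⟨m, ⟨m0, rfl⟩, hmx⟩ := hΔA (eqv.symm.permCongr σ) (by
      rw [Equiv.Perm.mem_alternatingGroup, Equiv.Perm.sign_permCongr]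
      exact hσ)
    refine ⟨((m0 : G) : Equiv.Perm α), (m0 : G).2, fun y => ?_⟩
    have := congrArg Subtype.val (hmx (eqv.symm y))
    simp only [Equiv.permCongr_apply, Equiv.symm_symm, Equiv.apply_symm_apply] at this
    exact this

end Cfsg.Agent.Perm.AltSet
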