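import Mathlib
import Cfsg.Agent.Lib.Perm.AltSet

/-! Homogeneous permutation groups. -/

set_option autoImplicit false

namespace Cfsg.Agent.Perm.Homog

open Cfsg.Agent.Perm.AltSet
open scoped Pointwise

variable {α : Type*} [Fintype α] [DecidableEq α]

/-- Transitivity on `k`-subsets. -/
def Hom (G : Subgroup (Equiv.Perm α)) (k : ℕ) : Prop :=
  ∀ s t : Finset α, s.card = k → t.card = k → ∃ g ∈ G, ∀ x, g x ∈ t ↔ x ∈ s

theorem hom_of_pretransitive {G : Subgroup (Equiv.Perm α)} {k : ℕ}
    (h : MulAction.IsPretransitive G (Set.powersetCard α k)) : Hom G k := by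
  intro s t hs ht
  obtain ⟨g, hg⟩ := h.exists_smul_eq ⟨s, hs⟩ ⟨t, ht⟩
  have hg' : g • s = t := congrArg (fun u : Set.powersetCard α k => (u : Finset α)) hg
  refine ⟨g, g.2, fun x => ?_⟩
  rw [← hg', show (g : Equiv.Perm α) x = g • x from rfl, Finset.smul_mem_smul_finset_iff]

theorem pretransitive_of_hom {G : Subgroup (Equiv.Perm α)} {k : ℕ} (h : Hom G k) :
    MulAction.IsPretransitive G (Set.powersetCard α k) := by
  refine ⟨fun s t => ?_⟩
  obtain ⟨g, hg, hgx⟩ := h (s : Finset α) (t : Finset α) s.2 t.2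
  refine ⟨⟨g, hg⟩, Subtype.ext ?_⟩
  show (⟨g, hg⟩ : G) • (s : Finset α) = (t : Finset α)
  ext y
  rw [Finset.mem_smul_finset]
  constructor
  · rintro ⟨x, hx, rfl⟩
    exact (hgx x).2 hx
  · intro hy
    exact ⟨g⁻¹ y, (hgx _).1 (by rwa [apply_inv']), apply_inv' g y⟩

theorem hom_of_ext {G : Subgroup (Equiv.Perm α)} {k : ℕ} (h : Ext G k) : Hom G k := by
  intro s t hs ht
  obtain ⟨π, hπ⟩ := exists_perm_image (hs.trans ht.symm)
  obtain ⟨g, hg, hgx⟩ := h s hs π
  refine ⟨g, hg, fun x => ⟨fun hx => ?_, fun hx => by rw [hgx x hx]; exact (hπ x).2 hx⟩⟩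
  have hsub : s.image g ⊆ t := fun y hy => by
    obtain ⟨z, hz, rfl⟩ := Finset.mem_image.1 hy
    rw [hgx z hz]
    exact (hπ z).2 hz
  have heq : s.image g = t :=
    Finset.eq_of_subset_of_card_le hsub (by rw [Finset.card_image_of_injective _ g.injective, hs, ht])
  rw [← heq] at hx
  obtain ⟨z, hz, hzx⟩ := Finset.mem_image.1 hx
  exact g.injective hzx ▸ hz

theorem image_eq {g : Equiv.Perm α} {s t : Finset α} (h : ∀ x, g x ∈ t ↔ x ∈ s) : s.image g = t := by
  ext y
  rw [Finset.mem_image]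
  constructor
  · rintro ⟨x, hx, rfl⟩
    exact (h x).2 hx
  · intro hy
    exact ⟨g⁻¹ y, (h _).1 (by rwa [apply_inv']), apply_inv' g y⟩

theorem exists_subset_card {k : ℕ} (hk : k ≤ Fintype.card α) : ∃ s : Finset α, s.card = k := by
  obtain ⟨s, -, hs⟩ := Finset.exists_subset_card_eq (show k ≤ (Finset.univ : Finset α).card by
    rwa [Finset.card_univ])
  exact ⟨s, hs⟩

theorem not_dvd_choose {p e k : ℕ} (hp : p.Prime) (hk : p ^ e ∣ k) :
    ∀ j, j < p ^ e → ¬ p ∣ (k + j).choose j := by
  intro j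
  induction j with
  | zero => intro _; rw [Nat.choose_zero_right]; exact hp.not_dvd_one
  | succ j ih =>
    intro hj hdvd
    have hid : (k + j + 1) * (k + j).choose j = (k + (j + 1)).choose (j + 1) * (j + 1) :=
      Nat.add_one_mul_choose_eq (k + j) j
    obtain ⟨t, r, hr, htr⟩ := Nat.exists_eq_pow_mul_and_not_dvd (Nat.succ_ne_zero j) p hp.ne_one
    replace htr : j + 1 = p ^ t * r := htr
    have hte : t < e := by
      by_contra hte
      have h1 : p ^ e ≤ p ^ t := Nat.pow_le_pow_right hp.pos (not_lt.1 hte)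
      have h2 : p ^ t ≤ j + 1 := Nat.le_of_dvd (Nat.succ_pos j) ⟨r, htr⟩
      omega
    obtain ⟨c, rfl⟩ := (pow_dvd_pow p (show t + 1 ≤ e from hte)).trans hk
    have hid' : p ^ t * ((p * c + r) * (p ^ (t + 1) * c + j).choose j) =
        p ^ t * ((p ^ (t + 1) * c + (j + 1)).choose (j + 1) * r) := by
      calc p ^ t * ((p * c + r) * (p ^ (t + 1) * c + j).choose j)
          = (p ^ (t + 1) * c + (j + 1)) * (p ^ (t + 1) * c + j).choose j := by
            rw [htr]; ring
        _ = (p ^ (t + 1) * c + (j + 1)).choose (j + 1) * (j + 1) := hid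
        _ = _ := by rw [htr]; ring
    have hid'' := Nat.eq_of_mul_eq_mul_left (pow_pos hp.pos t) hid'
    have hpd : p ∣ (p * c + r) * (p ^ (t + 1) * c + j).choose j := by
      rw [hid'']
      exact hdvd.mul_right r
    rcases hp.dvd_mul.1 hpd with h | h
    · exact hr ((Nat.dvd_add_right ⟨c, rfl⟩).1 h)
    · exact ih (by omega) h

/-- A `k`-homogeneous group with `k + q - 1 ≤ n` for all prime powers `q ∣ k` is
`(k - 1)`-homogeneous. -/
theorem step {G : Subgroup (Equiv.Perm α)} {k : ℕ} (hk : 2 ≤ k) (hkn : k ≤ Fintype.card α)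
    (hG : Hom G k) (hq : ∀ q : ℕ, IsPrimePow q → q ∣ k → k + q - 1 ≤ Fintype.card α) :
    Hom G (k - 1) := by
  classical
  intro s0 t0 hs0 ht0
  let Orb : Finset α → Prop := fun s => ∃ g ∈ G, ∀ x, g x ∈ s ↔ x ∈ s0
  have hinv : ∀ s, ∀ g ∈ G, Orb s → Orb (s.image g) := by
    rintro s g hg ⟨h, hh, hx⟩
    refine ⟨g * h, G.mul_mem hg hh, fun x => ?_⟩
    rw [Equiv.Perm.mul_apply, Function.Injective.mem_finset_image g.injective, hx]
  let a : Finset α → ℕ := fun Δ => ((Δ.powersetCard (k - 1)).filter Orb).card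
  obtain ⟨Δ0, hΔ0⟩ := exists_subset_card hkn
  have hconst : ∀ Δ : Finset α, Δ.card = k → a Δ = a Δ0 := by
    have key : ∀ s t : Finset α, s.card = k → t.card = k → a s ≤ a t := by
      intro s t hs ht
      obtain ⟨g, hg, hgx⟩ := hG s t hs ht
      refine Finset.card_le_card_of_injOn (fun u => u.image g) (fun u hu => ?_)
        (fun u _ v _ h => Finset.image_injective g.injective h)
      simp only [Finset.coe_filter, Set.mem_setOf_eq, Finset.mem_powersetCard] at hu ⊢
      refine ⟨⟨?_, by rw [Finset.card_image_of_injective _ g.injective, hu.1.2]⟩, hinv u g hg hu.2⟩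
      rw [← image_eq hgx]
      exact Finset.image_subset_image hu.1.1
    exact fun Δ hΔ => le_antisymm (key Δ Δ0 hΔ hΔ0) (key Δ0 Δ hΔ0 hΔ)
  have hdvd : k ∣ a Δ0 := by
    rw [Nat.dvd_iff_prime_pow_dvd_dvd]
    intro p e hp hpe
    rcases Nat.eq_zero_or_pos e with rfl | he
    · simp
    have hqn := hq (p ^ e) ⟨p, e, hp.prime, he, rfl⟩ hpe
    have hqpos : 0 < p ^ e := pow_pos hp.pos e
    obtain ⟨Y, hY⟩ := exists_subset_card hqn
    have hsum := Finset.sum_card_bipartiteAbove_eq_sum_card_bipartiteBelow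
      (s := Y.powersetCard k) (t := (Y.powersetCard (k - 1)).filter Orb)
      (fun (Δ s : Finset α) => s ⊆ Δ)
    simp only [Finset.bipartiteAbove, Finset.bipartiteBelow] at hsum
    have hL : ∀ Δ ∈ Y.powersetCard k,
        ((((Y.powersetCard (k - 1)).filter Orb).filter fun s => s ⊆ Δ)).card = a Δ0 := by
      intro Δ hΔ
      rw [Finset.mem_powersetCard] at hΔ
      rw [← hconst Δ hΔ.2]
      congr 1
      ext s
      simp only [Finset.mem_filter, Finset.mem_powersetCard]
      exact ⟨fun h => ⟨⟨h.2, h.1.1.2⟩, h.1.2⟩, fun h => ⟨⟨⟨h.1.1.trans hΔ.1, h.1.2⟩, h.2⟩, h.1.1⟩⟩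
    have hR : ∀ s ∈ (Y.powersetCard (k - 1)).filter Orb,
        ((Y.powersetCard k).filter fun Δ => s ⊆ Δ).card = p ^ e := by
      intro s hs
      simp only [Finset.mem_filter, Finset.mem_powersetCard] at hs
      have heq : (Y.powersetCard k).filter (fun Δ => s ⊆ Δ) = (Y \ s).image (fun x => insert x s) := by
        ext Δ
        simp only [Finset.mem_filter, Finset.mem_powersetCard, Finset.mem_image, Finset.mem_sdiff]
        constructor
        · rintro ⟨⟨hΔY, hΔc⟩, hsΔ⟩
          obtain ⟨x, hxs, rfl⟩ : ∃ x, x ∉ s ∧ insert x s = Δ := by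
            obtain ⟨x, hx⟩ : (Δ \ s).Nonempty := by
              rw [← Finset.card_pos, Finset.card_sdiff_of_subset hsΔ]; omega
            rw [Finset.mem_sdiff] at hx
            refine ⟨x, hx.2, Finset.eq_of_subset_of_card_le (Finset.insert_subset hx.1 hsΔ) ?_⟩
            rw [Finset.card_insert_of_notMem hx.2]; omega
          exact ⟨x, ⟨hΔY (Finset.mem_insert_self x s), hxs⟩, rfl⟩
        · rintro ⟨x, ⟨hxY, hxs⟩, rfl⟩
          exact ⟨⟨Finset.insert_subset hxY hs.1.1, by rw [Finset.card_insert_of_notMem hxs]; omega⟩,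
            Finset.subset_insert x s⟩
      rw [heq, Finset.card_image_of_injOn, Finset.card_sdiff_of_subset hs.1.1, hY, hs.1.2]
      · omega
      · intro x hx y hy hxy
        simp only [Finset.coe_sdiff, Set.mem_sdiff, Finset.mem_coe] at hx hy
        have hxy' : insert x s = insert y s := hxy
        have hm : x ∈ insert y s := hxy' ▸ Finset.mem_insert_self x s
        exact (Finset.mem_insert.1 hm).resolve_right hx.2
    rw [Finset.sum_congr rfl (g := fun _ => a Δ0) hL, Finset.sum_congr rfl (g := fun _ => p ^ e) hR,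
      Finset.sum_const, Finset.sum_const, Finset.card_powersetCard, hY, smul_eq_mul, smul_eq_mul] at hsum
    have hcop : Nat.Coprime (p ^ e) ((k + p ^ e - 1).choose k) := by
      refine (Nat.Coprime.pow_left e ((hp.coprime_iff_not_dvd).2 ?_))
      rw [show k + p ^ e - 1 = k + (p ^ e - 1) by omega, Nat.choose_symm_add]
      exact not_dvd_choose hp hpe _ (by omega)
    exact hcop.dvd_of_dvd_mul_left ⟨_, hsum.trans (mul_comm _ _)⟩
  have hle : a Δ0 ≤ k := by
    refine (Finset.card_filter_le _ _).trans ?_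
    rw [Finset.card_powersetCard, hΔ0, Nat.choose_symm (by omega), Nat.choose_one_right]
  have ha : a Δ0 = k := by
    obtain ⟨x, hx⟩ : ∃ x, x ∉ s0 := by
      by_contra! h
      have := Finset.card_le_card (fun x _ => h x : (Finset.univ : Finset α) ⊆ s0)
      rw [Finset.card_univ] at this
      omega
    have hpos : 0 < a Δ0 := by
      rw [← hconst (insert x s0) (by rw [Finset.card_insert_of_notMem hx]; omega)]
      refine Finset.card_pos.2 ⟨s0, ?_⟩
      simp only [Finset.mem_filter, Finset.mem_powersetCard]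
      exact ⟨⟨Finset.subset_insert _ _, hs0⟩, 1, G.one_mem, fun y => Iff.rfl⟩
    have := Nat.le_of_dvd hpos hdvd
    omega
  obtain ⟨x, hx⟩ : ∃ x, x ∉ t0 := by
    by_contra! h
    have := Finset.card_le_card (fun x _ => h x : (Finset.univ : Finset α) ⊆ t0)
    rw [Finset.card_univ] at this
    omega
  have hΔ : (insert x t0).card = k := by rw [Finset.card_insert_of_notMem hx]; omega
  have hall : ((insert x t0).powersetCard (k - 1)).filter Orb = (insert x t0).powersetCard (k - 1) := by
    refine Finset.eq_of_subset_of_card_le (Finset.filter_subset _ _) ?_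
    show _ ≤ a (insert x t0)
    rw [hconst _ hΔ, ha, Finset.card_powersetCard, hΔ, Nat.choose_symm (by omega), Nat.choose_one_right]
  have hmem : t0 ∈ (insert x t0).powersetCard (k - 1) :=
    Finset.mem_powersetCard.2 ⟨Finset.subset_insert _ _, ht0⟩
  rw [← hall] at hmem
  exact (Finset.mem_filter.1 hmem).2

/-- For `2k ≤ n + 1`, `k`-homogeneity gives `j`-homogeneity for all `1 ≤ j ≤ k`. -/
theorem descend {G : Subgroup (Equiv.Perm α)} {k : ℕ} (hkn : 2 * k ≤ Fintype.card α + 1) (hG : Hom G k) :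
    ∀ i, i < k → Hom G (k - i) := by
  intro i
  induction i with
  | zero => intro _; simpa using hG
  | succ i ih =>
    intro hi
    have h := step (k := k - i) (by omega) (by omega) (ih (by omega)) fun q _ hq => by
      have := Nat.le_of_dvd (by omega) hq
      omega
    rwa [show k - i - 1 = k - (i + 1) by omega] at h

end Cfsg.Agent.Perm.Homog
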