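import Mathlib
import Cfsg.Agent.Lib.Perm.Homog
import Cfsg.Agent.Lib.Perm.AltSetMain

/-! A `k`-transitive, `(k+1)`-homogeneous group, `4 ≤ k`, that is not `(k+1)`-transitive has degree
`k + 2`. -/

set_option autoImplicit false

namespace Cfsg.Agent.Perm.EvenSets

open Cfsg.Agent.Perm.AltSet Cfsg.Agent.Perm.Homog
open scoped Pointwise

variable {α : Type*} [Fintype α] [DecidableEq α] {G : Subgroup (Equiv.Perm α)} {k : ℕ}

/-- No element induces an odd permutation on an invariant `m`-set. -/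
def EvenOn (G : Subgroup (Equiv.Perm α)) (m : ℕ) : Prop :=
  ∀ g ∈ G, ∀ Δ : Finset α, Δ.card = m → ∀ h : (∀ x, g x ∈ Δ ↔ x ∈ Δ),
    Equiv.Perm.sign (g.subtypePerm h : Equiv.Perm {x // x ∈ Δ}) = 1

theorem sign_subtypePerm_mul {Δ : Finset α} (a b : Equiv.Perm α) (ha : ∀ x, a x ∈ Δ ↔ x ∈ Δ)
    (hb : ∀ x, b x ∈ Δ ↔ x ∈ Δ) (hab : ∀ x, (a * b) x ∈ Δ ↔ x ∈ Δ) :
    Equiv.Perm.sign ((a * b).subtypePerm hab : Equiv.Perm {x // x ∈ Δ}) =
      Equiv.Perm.sign (a.subtypePerm ha : Equiv.Perm {x // x ∈ Δ}) *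
        Equiv.Perm.sign (b.subtypePerm hb : Equiv.Perm {x // x ∈ Δ}) := by
  rw [← Equiv.Perm.sign_mul]
  rfl

theorem sign_subtypePerm_conj {Δ Δ0 : Finset α} (g π : Equiv.Perm α) (hg : ∀ x, g x ∈ Δ ↔ x ∈ Δ0)
    (hπ : ∀ x, π x ∈ Δ ↔ x ∈ Δ) (hπ0 : ∀ x, (g⁻¹ * π * g) x ∈ Δ0 ↔ x ∈ Δ0) :
    Equiv.Perm.sign ((g⁻¹ * π * g).subtypePerm hπ0 : Equiv.Perm {x // x ∈ Δ0}) =
      Equiv.Perm.sign (π.subtypePerm hπ : Equiv.Perm {x // x ∈ Δ}) := by
  let e : {x // x ∈ Δ0} ≃ {x // x ∈ Δ} := g.subtypeEquiv fun x => (hg x).symm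
  rw [← Equiv.Perm.sign_permCongr e]
  congr 1
  ext y
  show g ((g⁻¹ * π * g) (g.symm y)) = π y
  rw [Equiv.Perm.mul_apply, Equiv.Perm.mul_apply, apply_inv', Equiv.apply_symm_apply]

theorem conj_mem_iff {Δ Δ0 : Finset α} {g π : Equiv.Perm α} (hg : ∀ x, g x ∈ Δ ↔ x ∈ Δ0)
    (hπ : ∀ x, π x ∈ Δ ↔ x ∈ Δ) : ∀ x, (g⁻¹ * π * g) x ∈ Δ0 ↔ x ∈ Δ0 := fun x => by
  rw [← hg ((g⁻¹ * π * g) x), Equiv.Perm.mul_apply, Equiv.Perm.mul_apply, apply_inv', hπ, hg]

/-- In a `(k+1)`-homogeneous `k`-transitive group every `(k+1)`-set has its alternating group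
induced. -/
theorem alt_all (hk : 4 ≤ k) (hkn : k < Fintype.card α) (hE : Ext G k) (hH : Hom G (k + 1)) :
    ∀ Δ : Finset α, Δ.card = k + 1 → ∀ π : Equiv.Perm α, ∀ h : (∀ x, π x ∈ Δ ↔ x ∈ Δ),
      Equiv.Perm.sign (π.subtypePerm h : Equiv.Perm {x // x ∈ Δ}) = 1 →
      ∃ g ∈ G, ∀ x ∈ Δ, g x = π x := by
  obtain ⟨Δ0, hΔ0, hA⟩ := good hk _ G rfl hkn hE
  intro Δ hΔ π hπ hsign
  obtain ⟨g0, hg0, hg0x⟩ := hH Δ0 Δ hΔ0 hΔ
  obtain ⟨h, hh, hhx⟩ := hA ((g0⁻¹ * π * g0).subtypePerm (conj_mem_iff hg0x hπ)) (by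
    rw [Equiv.Perm.mem_alternatingGroup, sign_subtypePerm_conj g0 π hg0x hπ]
    exact hsign)
  refine ⟨g0 * h * g0⁻¹, G.mul_mem (G.mul_mem hg0 hh) (G.inv_mem hg0), fun x hx => ?_⟩
  have hy : g0⁻¹ x ∈ Δ0 := (hg0x _).1 (by rwa [apply_inv'])
  have := hhx ⟨_, hy⟩
  rw [Equiv.Perm.mul_apply, Equiv.Perm.mul_apply, this]
  show g0 ((g0⁻¹ * π * g0) (g0⁻¹ x)) = π x
  rw [Equiv.Perm.mul_apply, Equiv.Perm.mul_apply, apply_inv', apply_inv']

/-- If moreover `G` is not `(k+1)`-transitive then no odd permutation of a `(k+1)`-set is induced. -/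
theorem evenOn_of_not_ext (hk : 4 ≤ k) (hkn : k < Fintype.card α) (hE : Ext G k) (hH : Hom G (k + 1))
    (hnot : ¬ Ext G (k + 1)) : EvenOn G (k + 1) := by
  intro g hg Δ hΔ h
  by_contra hodd
  apply hnot
  intro s hs π
  have ht : (s.image π).card = k + 1 := by rw [Finset.card_image_of_injective _ π.injective, hs]
  obtain ⟨g1, hg1, hg1x⟩ := hH s (s.image π) hs ht
  have hδ : ∀ x, (g1⁻¹ * π) x ∈ s ↔ x ∈ s := fun x => by
    rw [← hg1x, Equiv.Perm.mul_apply, apply_inv', Function.Injective.mem_finset_image π.injective]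
  have key : ∀ δ : Equiv.Perm α, ∀ hd : (∀ x, δ x ∈ s ↔ x ∈ s), ∃ q ∈ G, ∀ x ∈ s, q x = δ x := by
    intro δ hd
    rcases Int.units_eq_one_or (Equiv.Perm.sign (δ.subtypePerm hd : Equiv.Perm {x // x ∈ s})) with h1 | h1
    · exact alt_all hk hkn hE hH s hs δ hd h1
    · obtain ⟨g2, hg2, hg2x⟩ := hH s Δ hs hΔ
      set g' := g2⁻¹ * g * g2 with hg'
      have hg'G : g' ∈ G := G.mul_mem (G.mul_mem (G.inv_mem hg2) hg) hg2
      have hg's : ∀ x, g' x ∈ s ↔ x ∈ s := conj_mem_iff hg2x h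
      have hg'sign : Equiv.Perm.sign (g'.subtypePerm hg's : Equiv.Perm {x // x ∈ s}) = -1 := by
        rw [sign_subtypePerm_conj g2 g hg2x h]
        exact (Int.units_eq_one_or _).resolve_left hodd
      have hmul : ∀ x, (δ * g') x ∈ s ↔ x ∈ s := fun x => by rw [Equiv.Perm.mul_apply, hd, hg's]
      obtain ⟨q, hq, hqx⟩ := alt_all hk hkn hE hH s hs (δ * g') hmul (by
        rw [sign_subtypePerm_mul δ g' hd hg's, h1, hg'sign]
        rfl)
      refine ⟨q * g'⁻¹, G.mul_mem hq (G.inv_mem hg'G), fun x hx => ?_⟩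
      have hy : g'⁻¹ x ∈ s := (hg's _).1 (by rwa [apply_inv'])
      rw [Equiv.Perm.mul_apply, hqx _ hy, Equiv.Perm.mul_apply, apply_inv']
  obtain ⟨q, hq, hqx⟩ := key _ hδ
  refine ⟨g1 * q, G.mul_mem hg1 hq, fun x hx => ?_⟩
  rw [Equiv.Perm.mul_apply, hqx x hx, Equiv.Perm.mul_apply, apply_inv']

omit [Fintype α] in
theorem subtypePerm_swap {Δ : Finset α} {v w : α} (hv : v ∈ Δ) (hw : w ∈ Δ) (g : Equiv.Perm α)
    (h : ∀ z, g z ∈ Δ ↔ z ∈ Δ) (hg : ∀ z ∈ Δ, g z = Equiv.swap v w z) :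
    (g.subtypePerm h : Equiv.Perm {z // z ∈ Δ}) = Equiv.swap ⟨v, hv⟩ ⟨w, hw⟩ := by
  ext z
  show g (z : α) = _
  rw [hg z z.2, Equiv.swap_apply_def, Equiv.swap_apply_def]
  simp only [Subtype.ext_iff, apply_ite Subtype.val]

/-- No element induces a transposition on a `(k+1)`-set. -/
theorem no_transp (hC : EvenOn G (k + 1)) {g : Equiv.Perm α} (hg : g ∈ G) {T : Finset α}
    (hT : T.card + 1 = k) (hfix : ∀ z ∈ T, g z = z) {x y : α} (hxy : x ≠ y) (hgx : g x = y)
    (hgy : g y = x) (hx : x ∉ T) (hy : y ∉ T) : False := by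
  set Δ := insert x (insert y T) with hΔdef
  have hmem : ∀ z, z ∈ Δ ↔ z = x ∨ z = y ∨ z ∈ T := fun z => by simp [hΔdef]
  have hΔ : Δ.card = k + 1 := by
    rw [hΔdef, Finset.card_insert_of_notMem (by simp [hxy, hx]), Finset.card_insert_of_notMem hy]
    omega
  have hsw : ∀ z ∈ Δ, g z = Equiv.swap x y z := by
    intro z hz
    rcases (hmem z).1 hz with rfl | rfl | hz
    · rw [hgx, Equiv.swap_apply_left]
    · rw [hgy, Equiv.swap_apply_right]
    · rw [hfix z hz, Equiv.swap_apply_of_ne_of_ne (fun e => hx (by rw [← e]; exact hz))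
        (fun e => hy (by rw [← e]; exact hz))]
  have hpres : ∀ z, g z ∈ Δ ↔ z ∈ Δ := by
    have h1 : ∀ z ∈ Δ, g z ∈ Δ := fun z hz => by
      rw [hsw z hz]
      exact swap_mem ((hmem x).2 (Or.inl rfl)) ((hmem y).2 (Or.inr (Or.inl rfl))) hz
    have himg : Δ.image g = Δ := Finset.eq_of_subset_of_card_le
      (fun w hw => by obtain ⟨v, hv, rfl⟩ := Finset.mem_image.1 hw; exact h1 v hv)
      (Finset.card_image_of_injective _ g.injective).ge
    refine fun z => ⟨fun hz => ?_, h1 z⟩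
    rw [← himg] at hz
    obtain ⟨v, hv, hv'⟩ := Finset.mem_image.1 hz
    exact g.injective hv' ▸ hv
  have h := hC g hg Δ hΔ hpres
  have heq := subtypePerm_swap ((hmem x).2 (Or.inl rfl)) ((hmem y).2 (Or.inr (Or.inl rfl))) g hpres hsw
  rw [heq, Equiv.Perm.sign_swap (fun e => hxy (congrArg Subtype.val e))] at h
  exact absurd h (by decide)

theorem sign_involution {β : Type*} [Fintype β] [DecidableEq β] (σ : Equiv.Perm β) (h : σ * σ = 1) :
    Equiv.Perm.sign σ = (-1) ^ (σ.support.card / 2) := by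
  have h2 : ∀ i ∈ σ.cycleType, i = 2 := by
    intro i hi
    have hd : i ∣ 2 := (Equiv.Perm.dvd_of_mem_cycleType hi).trans
      (orderOf_dvd_of_pow_eq_one (by rw [pow_two, h]))
    have h1 := Equiv.Perm.two_le_of_mem_cycleType hi
    have h2 := Nat.le_of_dvd (by norm_num) hd
    omega
  rw [Equiv.Perm.sign_of_cycleType, ← Equiv.Perm.sum_cycleType, Multiset.eq_replicate_card.2 h2,
    Multiset.sum_replicate, Multiset.card_replicate, smul_eq_mul, pow_add, pow_mul',
    Nat.mul_div_cancel _ (by norm_num)]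
  simp

/-- A `k`-transitive group, `4 ≤ k < n`, inducing only even permutations on `(k+1)`-sets and
transitive on them has degree `k + 2`. -/
theorem degree_eq (hk : 4 ≤ k) (hkn : k < Fintype.card α) (hE : Ext G k) (hH : Hom G (k + 1))
    (hC : EvenOn G (k + 1)) : Fintype.card α = k + 2 := by
  classical
  -- no involution fixes `k - 1` points
  have hfew : ∀ g ∈ G, g * g = 1 → g ≠ 1 → ∀ T : Finset α, k ≤ T.card + 1 → ¬ ∀ z ∈ T, g z = z := by
    intro g hg hg2 hg1 T hT hfix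
    obtain ⟨x, hx⟩ : ∃ x, g x ≠ x := by
      by_contra! hall
      exact hg1 (Equiv.ext hall)
    have hgg : g (g x) = x := by rw [← Equiv.Perm.mul_apply, hg2, Equiv.Perm.one_apply]
    obtain ⟨T', hT', hT'c⟩ := Finset.exists_subset_card_eq (show k - 1 ≤ T.card by omega)
    refine no_transp hC hg (T := T') (by omega) (fun z hz => hfix z (hT' hz)) hx.symm rfl hgg
      (fun h => hx (hfix x (hT' h))) (fun h => ?_)
    have := hfix _ (hT' h)
    rw [hgg] at this
    exact hx this.symm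
  have hodd : ∀ s : Finset α, s.card = k → Odd (Nat.card (fx G s)) := by
    intro s hs
    rw [← Nat.not_even_iff_odd]
    intro he
    haveI : Fact (Nat.Prime 2) := ⟨Nat.prime_two⟩
    obtain ⟨t, ht⟩ := exists_prime_orderOf_dvd_card' (G := fx G s) 2 he.two_dvd
    refine hfew (t : Equiv.Perm α) t.2.1 ?_ ?_ s (by omega) t.2.2
    · rw [← Subgroup.coe_mul, ← pow_two, ← ht, pow_orderOf_eq_one, Subgroup.coe_one]
    · rw [Ne, OneMemClass.coe_eq_one, ← orderOf_eq_one_iff, ht]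
      norm_num
  -- the frame
  obtain ⟨Γ, hΓ⟩ := exists_subset_card (le_of_lt hkn)
  obtain ⟨a, ha, b, hb, hab⟩ := Finset.one_lt_card.1 (by omega : 1 < Γ.card)
  obtain ⟨c, hc⟩ : ((Γ.erase a).erase b).Nonempty := by
    rw [← Finset.card_pos, Finset.card_erase_of_mem (Finset.mem_erase.2 ⟨hab.symm, hb⟩),
      Finset.card_erase_of_mem ha, hΓ]
    omega
  obtain ⟨d, hd⟩ : (((Γ.erase a).erase b).erase c).Nonempty := by
    rw [← Finset.card_pos, Finset.card_erase_of_mem hc,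
      Finset.card_erase_of_mem (Finset.mem_erase.2 ⟨hab.symm, hb⟩), Finset.card_erase_of_mem ha, hΓ]
    omega
  simp only [Finset.mem_erase] at hc hd
  obtain ⟨hcb, hca, hcΓ⟩ := hc
  obtain ⟨hdc, hdb, hda, hdΓ⟩ := hd
  set R := (((Γ.erase a).erase b).erase c).erase d with hRdef
  have hRc : R.card = k - 4 := by
    rw [hRdef, Finset.card_erase_of_mem (by simp [hdc, hdb, hda, hdΓ]),
      Finset.card_erase_of_mem (by simp [hcb, hca, hcΓ]),
      Finset.card_erase_of_mem (Finset.mem_erase.2 ⟨hab.symm, hb⟩), Finset.card_erase_of_mem ha, hΓ]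
    omega
  have hRmem : ∀ z, z ∈ R ↔ z ≠ d ∧ z ≠ c ∧ z ≠ b ∧ z ≠ a ∧ z ∈ Γ := fun z => by simp [hRdef]
  have hcases : ∀ z ∈ Γ, z = a ∨ z = b ∨ z = c ∨ z = d ∨ z ∈ R := by
    intro z hz
    rw [hRmem]
    tauto
  obtain ⟨g0, hg0, hg0x⟩ := hE Γ hΓ (Equiv.swap a b)
  obtain ⟨u, hu, hu2, hux, -⟩ := exists_lift hΓ hE (hodd Γ hΓ) (π := Equiv.swap a b)
    (fun x hx => swap_mem ha hb hx) (fun x _ => Equiv.swap_apply_self a b x) (u := 1) G.one_mem
    (mul_one 1) (fun x hx => hx) (fun x _ => rfl)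
  have huu : ∀ z, u (u z) = z := fun z => by rw [← Equiv.Perm.mul_apply, hu2, Equiv.Perm.one_apply]
  have hua : u a = b := by rw [hux a ha, Equiv.swap_apply_left]
  have hub : u b = a := by rw [hux b hb, Equiv.swap_apply_right]
  have hu1 : u ≠ 1 := fun h => hab (by rw [← hua, h, Equiv.Perm.one_apply])
  set T0 := (Γ.erase a).erase b with hT0def
  have hT0mem : ∀ z, z ∈ T0 ↔ z ≠ b ∧ z ≠ a ∧ z ∈ Γ := fun z => by simp [hT0def]
  have hT0c : T0.card + 2 = k := by
    rw [hT0def, Finset.card_erase_of_mem (Finset.mem_erase.2 ⟨hab.symm, hb⟩),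
      Finset.card_erase_of_mem ha, hΓ]
    omega
  have huT0 : ∀ z ∈ T0, u z = z := fun z hz => by
    rw [hT0mem] at hz
    rw [hux z hz.2.2, Equiv.swap_apply_of_ne_of_ne hz.2.1 hz.1]
  have huR : ∀ z ∈ R, u z = z := fun z hz => huT0 z (by rw [hRmem] at hz; rw [hT0mem]; tauto)
  have huc : u c = c := huT0 c ((hT0mem c).2 ⟨hcb, hca, hcΓ⟩)
  have hud : u d = d := huT0 d ((hT0mem d).2 ⟨hdb, hda, hdΓ⟩)
  have hno : ∀ f, f ∉ Γ → u f ≠ f := by
    intro f hf huf
    refine hfew u hu hu2 hu1 (insert f T0) ?_ ?_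
    · rw [Finset.card_insert_of_notMem (fun h => hf ((hT0mem f).1 h).2.2)]; omega
    · intro z hz
      rcases Finset.mem_insert.1 hz with rfl | hz
      · exact huf
      · exact huT0 z hz
  have huΓ : ∀ x, x ∉ Γ → u x ∉ Γ := fun x hx h => hx (by
    rw [← huu x, hux _ h]
    exact swap_mem ha hb h)
  -- commuting lifts
  have hlift : ∀ x, x ∉ Γ → ∃ z ∈ G, z * z = 1 ∧ u * z = z * u ∧ (∀ y ∈ R, z y = y) ∧ z x = x ∧
      z a = b ∧ z b = a ∧ z c = d ∧ z d = c := by
    intro x hxΓ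
    have hxu := hno x hxΓ
    have hyΓ := huΓ x hxΓ
    set s := insert a (insert b (insert x (insert (u x) R)))
    have hmem : ∀ z, z ∈ s ↔ z = a ∨ z = b ∨ z = x ∨ z = u x ∨ z ∈ R := fun z => by simp [s]
    have hne : ∀ p ∈ Γ, ∀ q, q ∉ Γ → p ≠ q := fun p hp q hq h => hq (h ▸ hp)
    have hsc : s.card = k := by
      have hR : ∀ z ∈ R, z ∈ Γ := fun z hz => ((hRmem z).1 hz).2.2.2.2
      have haR : a ∉ R := fun h => ((hRmem a).1 h).2.2.2.1 rfl
      have hbR : b ∉ R := fun h => ((hRmem b).1 h).2.2.1 rfl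
      have hxR : x ∉ R := fun h => hxΓ (hR x h)
      have hyR : u x ∉ R := fun h => hyΓ (hR _ h)
      rw [Finset.card_insert_of_notMem (by simp [hab, hne a ha x hxΓ, hne a ha _ hyΓ, haR]),
        Finset.card_insert_of_notMem (by simp [hne b hb x hxΓ, hne b hb _ hyΓ, hbR]),
        Finset.card_insert_of_notMem (by simp [hxu.symm, hxR]),
        Finset.card_insert_of_notMem hyR, hRc]
      omega
    have hsw : ∀ q, q ∉ Γ → Equiv.swap a b q = q := fun q hq =>
      Equiv.swap_apply_of_ne_of_ne (hne a ha q hq).symm (hne b hb q hq).symm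
    have hswR : ∀ q ∈ R, Equiv.swap a b q = q := fun q hq =>
      Equiv.swap_apply_of_ne_of_ne ((hRmem q).1 hq).2.2.2.1 ((hRmem q).1 hq).2.2.1
    obtain ⟨z, hz, hz2, hzx, hzu⟩ := exists_lift hsc hE (hodd s hsc) (π := Equiv.swap a b)
      (fun q hq => by
        rcases (hmem q).1 hq with rfl | rfl | rfl | rfl | h
        · simp [hmem]
        · simp [hmem]
        · simp [hmem, hsw _ hxΓ]
        · simp [hmem, hsw _ hyΓ]
        · simp [hmem, hswR q h, h])
      (fun q _ => Equiv.swap_apply_self a b q) hu hu2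
      (fun q hq => by
        rcases (hmem q).1 hq with rfl | rfl | rfl | rfl | h
        · simp [hmem, hua]
        · simp [hmem, hub]
        · simp [hmem]
        · simp [hmem, huu]
        · simp [hmem, huR q h, h])
      (fun q hq => by
        rcases (hmem q).1 hq with rfl | rfl | rfl | rfl | h
        · simp [hua, hub]
        · simp [hua, hub]
        · rw [hsw _ hxΓ, hsw _ hyΓ]
        · rw [huu, hsw _ hxΓ, hsw _ hyΓ, huu]
        · rw [hswR q h, huR q h, hswR q h])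
    have hza : z a = b := by rw [hzx a (by simp [hmem]), Equiv.swap_apply_left]
    have hzb : z b = a := by rw [hzx b (by simp [hmem]), Equiv.swap_apply_right]
    have hzxx : z x = x := by rw [hzx x (by simp [hmem]), hsw x hxΓ]
    have hzR : ∀ y ∈ R, z y = y := fun y hy => by rw [hzx y (by simp [hmem, hy]), hswR y hy]
    have hzz : ∀ q, z (z q) = q := fun q => by rw [← Equiv.Perm.mul_apply, hz2, Equiv.Perm.one_apply]
    have himg : ∀ q, u q = q → u (z q) = z q := fun q hq => by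
      rw [← Equiv.Perm.mul_apply, hzu, Equiv.Perm.mul_apply, hq]
    have hto : ∀ q, q ∈ Γ → q ∉ R → u q = q → z q = c ∨ z q = d := by
      intro q hqΓ hqR hq
      have h1 := himg q hq
      by_cases hΓq : z q ∈ Γ
      · rcases hcases _ hΓq with h | h | h | h | h
        · rw [h, hua] at h1; exact absurd h1 hab.symm
        · rw [h, hub] at h1; exact absurd h1 hab
        · exact Or.inl h
        · exact Or.inr h
        · exact absurd (z.injective (hzR _ h)) (fun e => hqR (e ▸ h))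
      · exact absurd h1 (hno _ hΓq)
    have hcR : c ∉ R := fun h => ((hRmem c).1 h).2.1 rfl
    have hdR : d ∉ R := fun h => ((hRmem d).1 h).1 rfl
    have hcd : z c = d := by
      rcases hto c hcΓ hcR huc with h | h
      · rcases hto d hdΓ hdR hud with h' | h'
        · exact absurd (z.injective (h'.trans h.symm)) hdc
        · exfalso
          have h1 : z * u = 1 := by
            refine sq_fix_eq_one (hodd Γ hΓ) ⟨G.mul_mem hz hu, fun q hq => ?_⟩ ?_
            · rw [Equiv.Perm.mul_apply]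
              rcases hcases q hq with rfl | rfl | rfl | rfl | hq
              · rw [hua, hzb]
              · rw [hub, hza]
              · rw [huc, h]
              · rw [hud, h']
              · rw [huR q hq, hzR q hq]
            · rw [mul_assoc, ← mul_assoc u, hzu, mul_assoc z, hu2, mul_one, hz2]
          have h2 : z (u x) = x := by rw [← Equiv.Perm.mul_apply, h1, Equiv.Perm.one_apply]
          have h3 : z (u x) = u x := by rw [← Equiv.Perm.mul_apply, ← hzu, Equiv.Perm.mul_apply, hzxx]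
          exact hxu (h3.symm.trans h2)
      · exact h
    exact ⟨z, hz, hz2, hzu, hzR, hzxx, hza, hzb, hcd, by rw [← hcd, hzz]⟩
  choose! ζ hζG hζ2 hζu hζR hζx hζa hζb hζc hζd using hlift
  have hζ1 : ∀ x, x ∉ Γ → ζ x ≠ 1 := fun x hx h => hab (by rw [← hζa x hx, h, Equiv.Perm.one_apply])
  have hpair : ∀ x, x ∉ Γ → ∀ y, y ∉ Γ → ζ x y = y → y = x ∨ y = u x := by
    intro x hx y hy hyfix
    by_contra hne
    push Not at hne
    have hR : ∀ z, z ∉ Γ → z ∉ R := fun z hz h => hz ((hRmem z).1 h).2.2.2.2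
    refine hfew _ (hζG x hx) (hζ2 x hx) (hζ1 x hx) (insert y (insert x (insert (u x) R))) ?_ ?_
    · rw [Finset.card_insert_of_notMem (by simp [hne.1, hne.2, hR y hy]),
        Finset.card_insert_of_notMem (by simp [(hno x hx).symm, hR x hx]),
        Finset.card_insert_of_notMem (hR _ (huΓ x hx)), hRc]
      omega
    · intro z hz
      simp only [Finset.mem_insert] at hz
      rcases hz with rfl | rfl | rfl | hz
      · exact hyfix
      · exact hζx _ hx
      · rw [← Equiv.Perm.mul_apply, ← hζu x hx, Equiv.Perm.mul_apply, hζx x hx]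
      · exact hζR x hx z hz
  -- the centraliser of `u` in the pointwise stabiliser is transitive on the other cycles
  have hCtrans : ∀ x, x ∉ Γ → ∀ y, y ∉ Γ →
      ∃ g ∈ fx G Γ, g * u = u * g ∧ (g x = y ∨ g x = u y) := by
    intro x hx y hy
    obtain ⟨w, hw⟩ : ∃ w, w = ζ x * ζ y := ⟨_, rfl⟩
    have hwΓ : w ∈ fx G Γ := ⟨hw ▸ G.mul_mem (hζG x hx) (hζG y hy), fun q hq => by
      rw [hw, Equiv.Perm.mul_apply]
      rcases hcases q hq with rfl | rfl | rfl | rfl | hq
      · rw [hζa y hy, hζb x hx]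
      · rw [hζb y hy, hζa x hx]
      · rw [hζc y hy, hζd x hx]
      · rw [hζd y hy, hζc x hx]
      · rw [hζR y hy q hq, hζR x hx q hq]⟩
    have hwu : w * u = u * w := by
      rw [hw, mul_assoc, ← hζu y hy, ← mul_assoc, ← hζu x hx, mul_assoc]
    obtain ⟨j, hj⟩ := hodd Γ hΓ
    have hwn : w ^ (2 * j + 1) = 1 := by
      have h := pow_card_eq_one' (x := (⟨w, hwΓ⟩ : fx G Γ))
      rw [hj] at h
      exact congrArg Subtype.val h
    have hzw : ∀ n : ℕ, ζ x * w ^ n * ζ x = (w ^ n)⁻¹ := by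
      have h1 : ζ x * w * ζ x = w⁻¹ := by
        rw [eq_inv_iff_mul_eq_one, hw]
        calc ζ x * (ζ x * ζ y) * ζ x * (ζ x * ζ y)
            = (ζ x * ζ x) * ζ y * (ζ x * ζ x) * ζ y := by group
          _ = 1 := by rw [hζ2 x hx, one_mul, mul_one, hζ2 y hy]
      intro n
      induction n with
      | zero => simp [hζ2 x hx]
      | succ n ih =>
        calc ζ x * w ^ (n + 1) * ζ x = ζ x * w ^ n * (ζ x * ζ x) * w * ζ x := by
              rw [hζ2 x hx, pow_succ]; group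
          _ = (ζ x * w ^ n * ζ x) * (ζ x * w * ζ x) := by group
          _ = (w ^ (n + 1))⁻¹ := by rw [ih, h1, pow_succ', mul_inv_rev]
    refine ⟨w ^ j, (fx G Γ).pow_mem hwΓ j, (Commute.pow_left hwu j).eq, ?_⟩
    have hconj : ζ y * w ^ j = w ^ j * ζ x := by
      have hy' : ζ y = ζ x * w := by rw [hw, ← mul_assoc, hζ2 x hx, one_mul]
      have hwj : w * w ^ j = (w ^ j)⁻¹ := by
        rw [eq_inv_iff_mul_eq_one, ← pow_succ', ← pow_add, show j + 1 + j = 2 * j + 1 by omega, hwn]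
      calc ζ y * w ^ j = ζ x * (w * w ^ j) := by rw [hy', mul_assoc]
        _ = ζ x * (ζ x * w ^ j * ζ x) := by rw [hwj, ← hzw j]
        _ = w ^ j * ζ x := by rw [← mul_assoc, ← mul_assoc, hζ2 x hx, one_mul]
    have hfix : ζ y ((w ^ j) x) = (w ^ j) x := by
      rw [← Equiv.Perm.mul_apply, hconj, Equiv.Perm.mul_apply, hζx x hx]
    have hout : (w ^ j) x ∉ Γ := fun h => hx ((w ^ j).injective (((fx G Γ).pow_mem hwΓ j).2 _ h) ▸ h)
    rcases hpair y hy _ hout hfix with h | h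
    · exact Or.inl h
    · exact Or.inr h
  -- the two orbits
  obtain ⟨x0, hx0⟩ : ∃ x, x ∉ Γ := by
    by_contra! h
    have := Finset.card_le_card (fun x _ => h x : (Finset.univ : Finset α) ⊆ Γ)
    rw [Finset.card_univ] at this
    omega
  set O1 := Finset.univ.filter (fun y => ∃ g ∈ fx G Γ, g x0 = y) with hO1def
  have hO1mem : ∀ y, y ∈ O1 ↔ ∃ g ∈ fx G Γ, g x0 = y := fun y => by simp [hO1def]
  have hx0O : x0 ∈ O1 := (hO1mem x0).2 ⟨1, Subgroup.one_mem _, rfl⟩
  have hO1out : ∀ y ∈ O1, y ∉ Γ := by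
    intro y hy hyΓ
    obtain ⟨g, hg, rfl⟩ := (hO1mem y).1 hy
    exact hx0 (g.injective (hg.2 _ hyΓ) ▸ hyΓ)
  have hnotboth : ∀ y, y ∈ O1 → u y ∉ O1 := by
    intro y hy huy
    obtain ⟨g, hg, rfl⟩ := (hO1mem y).1 hy
    obtain ⟨g', hg', hg'y⟩ := (hO1mem _).1 huy
    have hq : g'⁻¹ * u * g ∈ G := G.mul_mem (G.mul_mem (G.inv_mem hg'.1) hu) hg.1
    have hqΓ : ∀ z ∈ Γ, (g'⁻¹ * u * g) z = Equiv.swap a b z := fun z hz => by
      rw [Equiv.Perm.mul_apply, Equiv.Perm.mul_apply, hg.2 z hz, hux z hz, Equiv.Perm.inv_eq_iff_eq,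
        hg'.2 _ (swap_mem ha hb hz)]
    refine no_transp hC hq (T := insert x0 T0) ?_ ?_ hab (x := a) (y := b) ?_ ?_ ?_ ?_
    · rw [Finset.card_insert_of_notMem (fun h => hx0 ((hT0mem x0).1 h).2.2)]; omega
    · intro z hz
      rcases Finset.mem_insert.1 hz with rfl | hz
      · rw [Equiv.Perm.mul_apply, Equiv.Perm.mul_apply, Equiv.Perm.inv_eq_iff_eq, hg'y]
      · rw [hT0mem] at hz
        rw [hqΓ z hz.2.2, Equiv.swap_apply_of_ne_of_ne hz.2.1 hz.1]
    · rw [hqΓ a ha, Equiv.swap_apply_left]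
    · rw [hqΓ b hb, Equiv.swap_apply_right]
    · simp only [Finset.mem_insert, hT0mem]
      rintro (rfl | ⟨-, h, -⟩)
      · exact hx0 ha
      · exact h rfl
    · simp only [Finset.mem_insert, hT0mem]
      rintro (rfl | ⟨h, -, -⟩)
      · exact hx0 hb
      · exact h rfl
  have hcover : ∀ y, y ∉ Γ → y ∈ O1 ∨ u y ∈ O1 := by
    intro y hy
    have hs : (insert x0 Γ).card = k + 1 := by rw [Finset.card_insert_of_notMem hx0, hΓ]
    have ht : (insert y Γ).card = k + 1 := by rw [Finset.card_insert_of_notMem hy, hΓ]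
    obtain ⟨g, hg, hgx⟩ := hH _ _ hs ht
    have hτ : ∀ z, Equiv.swap x0 y z ∈ insert y Γ ↔ z ∈ insert x0 Γ := by
      intro z
      simp only [Finset.mem_insert]
      rcases eq_or_ne z x0 with rfl | h1
      · simp
      rcases eq_or_ne z y with rfl | h2
      · simp [h1, h1.symm, hx0, hy]
      · simp [Equiv.swap_apply_of_ne_of_ne h1 h2, h1, h2]
    have hτΓ : ∀ z ∈ Γ, Equiv.swap x0 y z = z := fun z hz =>
      Equiv.swap_apply_of_ne_of_ne (fun e : z = x0 => hx0 (e ▸ hz)) (fun e : z = y => hy (e ▸ hz))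
    set δ := g⁻¹ * Equiv.swap x0 y with hδdef
    have hδ : ∀ z, δ z ∈ insert x0 Γ ↔ z ∈ insert x0 Γ := fun z => by
      rw [← hgx, hδdef, Equiv.Perm.mul_apply, apply_inv', hτ]
    rcases Int.units_eq_one_or
      (Equiv.Perm.sign (δ.subtypePerm hδ : Equiv.Perm {z // z ∈ insert x0 Γ})) with h1 | h1
    · obtain ⟨h, hh, hhx⟩ := alt_all hk hkn hE hH _ hs δ hδ h1
      refine Or.inl ((hO1mem y).2 ⟨g * h, ⟨G.mul_mem hg hh, fun z hz => ?_⟩, ?_⟩)
      · rw [Equiv.Perm.mul_apply, hhx z (Finset.mem_insert_of_mem hz), hδdef, Equiv.Perm.mul_apply,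
          apply_inv', hτΓ z hz]
      · rw [Equiv.Perm.mul_apply, hhx x0 (Finset.mem_insert_self _ _), hδdef, Equiv.Perm.mul_apply,
          apply_inv', Equiv.swap_apply_left]
    · have hsw : ∀ z, Equiv.swap a b z ∈ insert x0 Γ ↔ z ∈ insert x0 Γ := by
        have h0 : ∀ z ∈ insert x0 Γ, Equiv.swap a b z ∈ insert x0 Γ := fun z hz =>
          swap_mem (Finset.mem_insert_of_mem ha) (Finset.mem_insert_of_mem hb) hz
        exact fun z => ⟨fun h => by simpa using h0 _ h, h0 z⟩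
      have hmul : ∀ z, (δ * Equiv.swap a b) z ∈ insert x0 Γ ↔ z ∈ insert x0 Γ := fun z => by
        rw [Equiv.Perm.mul_apply, hδ, hsw]
      have hswsign : Equiv.Perm.sign
          ((Equiv.swap a b).subtypePerm hsw : Equiv.Perm {z // z ∈ insert x0 Γ}) = -1 := by
        rw [show ((Equiv.swap a b).subtypePerm hsw : Equiv.Perm {z // z ∈ insert x0 Γ}) =
            Equiv.swap ⟨a, Finset.mem_insert_of_mem ha⟩ ⟨b, Finset.mem_insert_of_mem hb⟩ from
          subtypePerm_swap _ _ _ hsw fun _ _ => rfl]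
        exact Equiv.Perm.sign_swap (fun e => hab (congrArg Subtype.val e))
      obtain ⟨h, hh, hhx⟩ := alt_all hk hkn hE hH _ hs (δ * Equiv.swap a b) hmul (by
        rw [sign_subtypePerm_mul δ _ hδ hsw, h1, hswsign]
        rfl)
      refine Or.inr ((hO1mem _).2 ⟨u * (g * h), ⟨G.mul_mem hu (G.mul_mem hg hh), fun z hz => ?_⟩, ?_⟩)
      · rw [Equiv.Perm.mul_apply, Equiv.Perm.mul_apply, hhx z (Finset.mem_insert_of_mem hz),
          Equiv.Perm.mul_apply, hδdef, Equiv.Perm.mul_apply, apply_inv', hτΓ _ (swap_mem ha hb hz),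
          hux _ (swap_mem ha hb hz), Equiv.swap_apply_self]
      · rw [Equiv.Perm.mul_apply, Equiv.Perm.mul_apply, hhx x0 (Finset.mem_insert_self _ _),
          Equiv.Perm.mul_apply, Equiv.swap_apply_of_ne_of_ne (fun e : x0 = a => hx0 (e ▸ ha))
            (fun e : x0 = b => hx0 (e ▸ hb)), hδdef, Equiv.Perm.mul_apply, apply_inv',
          Equiv.swap_apply_left]
  have hcount : Fintype.card α - k = 2 * O1.card := by
    have hdisj : Disjoint O1 (O1.image u) := by
      rw [Finset.disjoint_right]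
      intro y hy hy'
      obtain ⟨z, hz, rfl⟩ := Finset.mem_image.1 hy
      exact hnotboth z hz hy'
    have hun : O1 ∪ O1.image u = Γᶜ := by
      ext y
      rw [Finset.mem_union, Finset.mem_compl, Finset.mem_image]
      constructor
      · rintro (h | ⟨z, hz, rfl⟩)
        · exact hO1out y h
        · exact huΓ z (hO1out z hz)
      · intro hy
        exact (hcover y hy).imp_right fun h => ⟨u y, h, huu y⟩
    rw [← hΓ, ← Finset.card_compl, ← hun, Finset.card_union_of_disjoint hdisj,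
      Finset.card_image_of_injective _ u.injective, two_mul]
  have hO1odd : Odd O1.card := by
    have h1 : O1.card = Nat.card (MulAction.orbit (fx G Γ) x0) := by
      rw [Nat.card_coe_set_eq, ← Set.ncard_coe_finset]
      congr 1
      ext y
      rw [Finset.mem_coe, hO1mem]
      exact ⟨fun ⟨g, hg, e⟩ => ⟨⟨g, hg⟩, e⟩, fun ⟨g, e⟩ => ⟨g, g.2, e⟩⟩
    rw [h1, Nat.card_coe_set_eq, ← MulAction.index_stabilizer]
    exact Odd.of_dvd_nat (hodd Γ hΓ) (Subgroup.index_dvd_card _)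
  obtain ⟨i, hi⟩ : ∃ i, O1.card = 4 * i + 1 := by
    -- a four-group fixing `x0`
    set Δ := insert x0 Γ with hΔdef
    have hΔc : Δ.card = k + 1 := by rw [hΔdef, Finset.card_insert_of_notMem hx0, hΓ]
    have hDt : ∀ p q r t : α, p ∈ Γ → q ∈ Γ → r ∈ Γ → t ∈ Γ → p ≠ q → r ≠ t →
        (∀ z ∈ Δ, (Equiv.swap p q * Equiv.swap r t) z ∈ Δ) ∧
        ∃ g ∈ G, ∀ z ∈ Δ, g z = (Equiv.swap p q * Equiv.swap r t) z := by
      intro p q r t hp hq hr ht hpq hrt
      have hsub : ∀ z ∈ Γ, z ∈ Δ := fun z hz => Finset.mem_insert_of_mem hz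
      have hiff : ∀ v w : α, v ∈ Δ → w ∈ Δ → ∀ z, Equiv.swap v w z ∈ Δ ↔ z ∈ Δ := fun v w hv hw z =>
        ⟨fun h => by simpa using swap_mem hv hw h, fun h => swap_mem hv hw h⟩
      have h1 := hiff p q (hsub p hp) (hsub q hq)
      have h2 := hiff r t (hsub r hr) (hsub t ht)
      refine ⟨fun z hz => (h1 _).2 ((h2 z).2 hz), ?_⟩
      have h12 : ∀ z, (Equiv.swap p q * Equiv.swap r t) z ∈ Δ ↔ z ∈ Δ := fun z => (h1 _).trans (h2 z)
      refine alt_all hk hkn hE hH Δ hΔc _ h12 ?_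
      rw [sign_subtypePerm_mul _ _ h1 h2]
      have e : ∀ v w (hv : v ∈ Δ) (hw : w ∈ Δ) (hh : ∀ z, Equiv.swap v w z ∈ Δ ↔ z ∈ Δ), v ≠ w →
          Equiv.Perm.sign ((Equiv.swap v w).subtypePerm hh : Equiv.Perm {z // z ∈ Δ}) = -1 := by
        intro v w hv hw hh hne
        rw [show ((Equiv.swap v w).subtypePerm hh : Equiv.Perm {z // z ∈ Δ}) =
            Equiv.swap ⟨v, hv⟩ ⟨w, hw⟩ from subtypePerm_swap hv hw _ hh fun _ _ => rfl]
        exact Equiv.Perm.sign_swap (fun e => hne (congrArg Subtype.val e))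
      rw [e p q (hsub p hp) (hsub q hq) _ hpq, e r t (hsub r hr) (hsub t ht) _ hrt]
      rfl
    obtain ⟨hπ1, g10, hg10, hg10x⟩ := hDt a b c d ha hb hcΓ hdΓ hab hdc.symm
    obtain ⟨hπ2, g20, hg20, hg20x⟩ := hDt a c b d ha hcΓ hb hdΓ hca.symm hdb.symm
    set π1 := Equiv.swap a b * Equiv.swap c d with hπ1def
    set π2 := Equiv.swap a c * Equiv.swap b d with hπ2def
    have hxa : x0 ≠ a := fun e => hx0 (e ▸ ha)
    have hxb : x0 ≠ b := fun e => hx0 (e ▸ hb)
    have hxc : x0 ≠ c := fun e => hx0 (e ▸ hcΓ)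
    have hxd : x0 ≠ d := fun e => hx0 (e ▸ hdΓ)
    have hfix12 : ∀ z, z ≠ a → z ≠ b → z ≠ c → z ≠ d → π1 z = z ∧ π2 z = z := fun z h1 h2 h3 h4 => by
      constructor <;>
        simp [hπ1def, hπ2def, Equiv.swap_apply_of_ne_of_ne, h1, h2, h3, h4]
    have hv4 : ∀ z, π1 (π1 z) = z ∧ π2 (π2 z) = z ∧ π1 (π2 z) = π2 (π1 z) := by
      intro z
      simp only [hπ1def, hπ2def, Equiv.Perm.mul_apply]
      rcases eq_or_ne z a with rfl | h1
      · simp [Equiv.swap_apply_def, hab, Ne.symm hab, hca, Ne.symm hca, hcb, Ne.symm hcb, hdc,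
          Ne.symm hdc, hdb, Ne.symm hdb, hda, Ne.symm hda]
      rcases eq_or_ne z b with rfl | h2
      · simp [Equiv.swap_apply_def, hab, Ne.symm hab, hca, Ne.symm hca, hcb, Ne.symm hcb, hdc,
          Ne.symm hdc, hdb, Ne.symm hdb, hda, Ne.symm hda]
      rcases eq_or_ne z c with rfl | h3
      · simp [Equiv.swap_apply_def, hab, Ne.symm hab, hca, Ne.symm hca, hcb, Ne.symm hcb, hdc,
          Ne.symm hdc, hdb, Ne.symm hdb, hda, Ne.symm hda]
      rcases eq_or_ne z d with rfl | h4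
      · simp [Equiv.swap_apply_def, hab, Ne.symm hab, hca, Ne.symm hca, hcb, Ne.symm hcb, hdc,
          Ne.symm hdc, hdb, Ne.symm hdb, hda, Ne.symm hda]
      simp [Equiv.swap_apply_of_ne_of_ne, h1, h2, h3, h4]
    have hodd' : Odd (Nat.card (fx G Δ)) := by
      have hle : fx G Δ ≤ fx G Γ := fun g hg =>
        ⟨hg.1, fun z hz => hg.2 z (Finset.mem_insert_of_mem hz)⟩
      exact Odd.of_dvd_nat (hodd Γ hΓ) (Subgroup.card_dvd_of_le hle)
    obtain ⟨g1, hg1, hg1sq, hg1x, -⟩ := exists_lift' hodd' hg10 hg10x hπ1 (fun z _ => (hv4 z).1)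
      (u := 1) G.one_mem (mul_one 1) (fun z hz => hz) (fun z _ => rfl)
    obtain ⟨g2, hg2, hg2sq, hg2x, hg12⟩ := exists_lift' hodd' hg20 hg20x hπ2 (fun z _ => (hv4 z).2.1)
      (u := g1) hg1 hg1sq (fun z hz => by rw [hg1x z hz]; exact hπ1 z hz)
      (fun z hz => by rw [hg1x z hz, hg1x _ (hπ2 z hz)]; exact (hv4 z).2.2)
    have hgood : ∀ g ∈ G, g * g = 1 → g a ≠ a → (∀ z ∈ Γ, g z ∈ Γ) → (∀ z ∈ R, g z = z) → g x0 = x0 →
        ∃ hp : (∀ z, g z ∈ O1 ↔ z ∈ O1),
          Equiv.Perm.sign (g.subtypePerm hp : Equiv.Perm {z // z ∈ O1}) =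
            (-1) ^ ((O1.card - 1) / 2) := by
      intro g hg hg2 hga hgΓ hgR hgx
      have hgg : ∀ z, g (g z) = z := fun z => by rw [← Equiv.Perm.mul_apply, hg2, Equiv.Perm.one_apply]
      have hone : ∀ z ∈ O1, g z ∈ O1 := by
        intro z hz
        obtain ⟨q, hq, rfl⟩ := (hO1mem z).1 hz
        refine (hO1mem _).2 ⟨g * q * g, ⟨G.mul_mem (G.mul_mem hg hq.1) hg, fun w hw => ?_⟩, ?_⟩
        · rw [Equiv.Perm.mul_apply, Equiv.Perm.mul_apply, hq.2 _ (hgΓ w hw), hgg]
        · rw [Equiv.Perm.mul_apply, Equiv.Perm.mul_apply, hgx]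
      have hp : ∀ z, g z ∈ O1 ↔ z ∈ O1 := fun z => ⟨fun h => by simpa [hgg] using hone _ h, hone z⟩
      refine ⟨hp, ?_⟩
      set σ : Equiv.Perm {z // z ∈ O1} := g.subtypePerm hp with hσdef
      have hσ2 : σ * σ = 1 := Equiv.ext fun z => Subtype.ext (hgg z)
      rw [sign_involution σ hσ2]
      have hxRa : x0 ∉ R := fun h => hx0 ((hRmem x0).1 h).2.2.2.2
      have hg1' : g ≠ 1 := fun h => hga (by rw [h, Equiv.Perm.one_apply])
      -- `x0` is the only fixed point in the orbit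
      have hsub : ∀ z ∈ O1, g z = z → ∀ w ∈ O1, g w = w → z ≠ x0 → w ≠ x0 → z = w := by
        intro z hz hgz w hw hgw hzx hwx
        by_contra hzw
        have hzR : z ∉ R := fun h => hO1out z hz ((hRmem z).1 h).2.2.2.2
        have hwR : w ∉ R := fun h => hO1out w hw ((hRmem w).1 h).2.2.2.2
        refine hfew g hg hg2 hg1' (insert z (insert w (insert x0 R))) ?_ ?_
        · rw [Finset.card_insert_of_notMem (by simp [hzw, hzx, hzR]),
            Finset.card_insert_of_notMem (by simp [hwx, hwR]), Finset.card_insert_of_notMem hxRa, hRc]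
          omega
        · intro v hv
          simp only [Finset.mem_insert] at hv
          rcases hv with rfl | rfl | rfl | hv
          · exact hgz
          · exact hgw
          · exact hgx
          · exact hgR v hv
      haveI : Fact (Nat.Prime 2) := ⟨Nat.prime_two⟩
      have hmod := Equiv.Perm.card_compl_support_modEq (p := 2) (n := 1) (σ := σ)
        (by rw [pow_one, pow_two, hσ2])
      rw [Fintype.card_coe] at hmod
      obtain ⟨j, hj⟩ := hO1odd
      have hle : σ.supportᶜ.card ≤ 2 := by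
        have hsubset : (σ.supportᶜ.erase ⟨x0, hx0O⟩).card ≤ 1 := by
          rw [Finset.card_le_one]
          intro z hz w hw
          simp only [Finset.mem_erase, Finset.mem_compl, Equiv.Perm.mem_support, not_not, Ne,
            Subtype.ext_iff] at hz hw
          exact Subtype.ext (hsub z z.2 hz.2 w w.2 hw.2 hz.1 hw.1)
        have := Finset.pred_card_le_card_erase (s := σ.supportᶜ) (a := (⟨x0, hx0O⟩ : {z // z ∈ O1}))
        omega
      have hsum := Finset.card_compl σ.support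
      rw [Fintype.card_coe] at hsum
      have hle' : σ.support.card ≤ O1.card := by
        have := Finset.card_le_univ σ.support
        rwa [Fintype.card_coe] at this
      unfold Nat.ModEq at hmod
      congr 1
      omega
    have hmapΓ : ∀ π : Equiv.Perm α, (∀ z ∈ Δ, π z ∈ Δ) → π x0 = x0 → ∀ z ∈ Γ, π z ∈ Γ := by
      intro π hπ hπx z hz
      rcases Finset.mem_insert.1 (hπ z (Finset.mem_insert_of_mem hz)) with h | h
      · exact absurd (π.injective (h.trans hπx.symm)) (fun e => hx0 (e ▸ hz))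
      · exact h
    have hR4 : ∀ z ∈ R, π1 z = z ∧ π2 z = z := fun z hz => by
      rw [hRmem] at hz
      exact hfix12 z hz.2.2.2.1 hz.2.2.1 hz.2.1 hz.1
    have hxΔ : x0 ∈ Δ := Finset.mem_insert_self _ _
    obtain ⟨hπ1x, hπ2x⟩ := hfix12 x0 hxa hxb hxc hxd
    have hg1x0 : g1 x0 = x0 := by rw [hg1x x0 hxΔ, hπ1x]
    have hg2x0 : g2 x0 = x0 := by rw [hg2x x0 hxΔ, hπ2x]
    have haΔ : a ∈ Δ := Finset.mem_insert_of_mem ha
    have hcΔ : c ∈ Δ := Finset.mem_insert_of_mem hcΓ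
    have hg1a : g1 a = b := by
      rw [hg1x a haΔ, hπ1def, Equiv.Perm.mul_apply, Equiv.swap_apply_of_ne_of_ne hca.symm hda.symm,
        Equiv.swap_apply_left]
    have hg2a : g2 a = c := by
      rw [hg2x a haΔ, hπ2def, Equiv.Perm.mul_apply, Equiv.swap_apply_of_ne_of_ne hab hda.symm,
        Equiv.swap_apply_left]
    have hg1c : g1 c = d := by
      rw [hg1x c hcΔ, hπ1def, Equiv.Perm.mul_apply, Equiv.swap_apply_left,
        Equiv.swap_apply_of_ne_of_ne hda hdb]
    have hg1Γ : ∀ z ∈ Γ, g1 z ∈ Γ := fun z hz => by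
      rw [hg1x z (Finset.mem_insert_of_mem hz)]; exact hmapΓ π1 hπ1 hπ1x z hz
    have hg2Γ : ∀ z ∈ Γ, g2 z ∈ Γ := fun z hz => by
      rw [hg2x z (Finset.mem_insert_of_mem hz)]; exact hmapΓ π2 hπ2 hπ2x z hz
    have hg1R : ∀ z ∈ R, g1 z = z := fun z hz => by
      rw [hg1x z (Finset.mem_insert_of_mem ((hRmem z).1 hz).2.2.2.2), (hR4 z hz).1]
    have hg2R : ∀ z ∈ R, g2 z = z := fun z hz => by
      rw [hg2x z (Finset.mem_insert_of_mem ((hRmem z).1 hz).2.2.2.2), (hR4 z hz).2]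
    obtain ⟨hp1, hs1⟩ := hgood g1 hg1 hg1sq (by rw [hg1a]; exact hab.symm) hg1Γ hg1R hg1x0
    obtain ⟨hp2, hs2⟩ := hgood g2 hg2 hg2sq (by rw [hg2a]; exact hca) hg2Γ hg2R hg2x0
    obtain ⟨hp3, hs3⟩ := hgood (g1 * g2) (G.mul_mem hg1 hg2)
      (by rw [mul_assoc, ← mul_assoc g2, ← hg12, mul_assoc g1, hg2sq, mul_one, hg1sq])
      (by rw [Equiv.Perm.mul_apply, hg2a, hg1c]; exact hda)
      (fun z hz => by rw [Equiv.Perm.mul_apply]; exact hg1Γ _ (hg2Γ z hz))
      (fun z hz => by rw [Equiv.Perm.mul_apply, hg2R z hz, hg1R z hz])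
      (by rw [Equiv.Perm.mul_apply, hg2x0, hg1x0])
    rw [sign_subtypePerm_mul g1 g2 hp1 hp2, hs1, hs2] at hs3
    have h1 : ((-1) ^ ((O1.card - 1) / 2) : ℤˣ) = 1 := by
      have h' := mul_left_cancel (a := ((-1) ^ ((O1.card - 1) / 2) : ℤˣ)) (b := (-1) ^ ((O1.card - 1) / 2))
        (c := 1) (by rw [mul_one]; exact hs3)
      exact h'
    obtain ⟨j, hj⟩ := hO1odd
    rw [hj, show (2 * j + 1 - 1) / 2 = j by omega] at h1
    obtain ⟨i, hi⟩ : Even j := (neg_one_pow_eq_one_iff_even (by decide : (-1 : ℤˣ) ≠ 1)).1 h1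
    exact ⟨i, by omega⟩
  -- the action on the cycles of `u`
  let D : Subgroup (Equiv.Perm α) :=
    { carrier := {g | g ∈ G ∧ g * u = u * g ∧ ∀ z ∈ T0, g z = z}
      one_mem' := ⟨G.one_mem, by rw [one_mul, mul_one], fun _ _ => rfl⟩
      mul_mem' := fun {g h} hg hh => ⟨G.mul_mem hg.1 hh.1,
        (Commute.mul_left (hg.2.1 : Commute g u) (hh.2.1 : Commute h u)).eq,
        fun z hz => by rw [Equiv.Perm.mul_apply, hh.2.2 z hz, hg.2.2 z hz]⟩
      inv_mem' := fun {g} hg => ⟨G.inv_mem hg.1, (Commute.inv_left (hg.2.1 : Commute g u)).eq,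
        fun z hz => by rw [Equiv.Perm.inv_eq_iff_eq, hg.2.2 z hz]⟩ }
  set Pr : Finset (Finset α) := T0ᶜ.image (fun x => ({x, u x} : Finset α)) with hPrdef
  have hprg : ∀ g ∈ D, ∀ x, g • ({x, u x} : Finset α) = {g x, u (g x)} := by
    intro g hg x
    rw [Finset.smul_finset_insert, Finset.smul_finset_singleton, Equiv.Perm.smul_def,
      Equiv.Perm.smul_def, ← Equiv.Perm.mul_apply g u, hg.2.1, Equiv.Perm.mul_apply]
  have hDT : ∀ g ∈ D, ∀ x, g x ∈ T0ᶜ ↔ x ∈ T0ᶜ := by
    intro g hg x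
    simp only [Finset.mem_compl]
    refine not_congr ⟨fun h => ?_, fun h => by rwa [hg.2.2 x h]⟩
    have h1 := hg.2.2 _ h
    exact g.injective h1 ▸ h
  have hPrg : ∀ g ∈ D, ∀ P, g • P ∈ Pr ↔ P ∈ Pr := by
    have h1 : ∀ g ∈ D, ∀ P ∈ Pr, g • P ∈ Pr := by
      intro g hg P hP
      obtain ⟨x, hx, rfl⟩ := Finset.mem_image.1 hP
      rw [hprg g hg x]
      exact Finset.mem_image.2 ⟨g x, (hDT g hg x).2 hx, rfl⟩
    exact fun g hg P => ⟨fun h => by simpa using h1 _ (D.inv_mem hg) _ h, h1 g hg P⟩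
  let ψ : D →* Equiv.Perm {P // P ∈ Pr} :=
    { toFun := fun g => (MulAction.toPerm (g : Equiv.Perm α) : Equiv.Perm (Finset α)).subtypePerm (hPrg g g.2)
      map_one' := Equiv.ext fun P => by
        apply Subtype.ext
        exact one_smul (Equiv.Perm α) (P : Finset α)
      map_mul' := fun g h => Equiv.ext fun P => by
        apply Subtype.ext
        exact mul_smul (g : Equiv.Perm α) (h : Equiv.Perm α) (P : Finset α) }
  have hψ : ∀ (g : D) (P : {P // P ∈ Pr}), ((ψ g P : {P // P ∈ Pr}) : Finset α) =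
      (g : Equiv.Perm α) • (P : Finset α) := fun g P => rfl
  have haT : a ∈ T0ᶜ := by simp [hT0mem]
  have hbT : b ∈ T0ᶜ := by simp [hT0mem]
  let P0 : {P // P ∈ Pr} := ⟨{a, u a}, Finset.mem_image.2 ⟨a, haT, rfl⟩⟩
  have huD : u ∈ D := ⟨hu, rfl, huT0⟩
  have hψu : ψ ⟨u, huD⟩ = 1 := by
    ext1 P
    apply Subtype.ext
    obtain ⟨x, hx, hP⟩ := Finset.mem_image.1 P.2
    rw [hψ, ← hP, hprg u huD x, Equiv.Perm.one_apply, ← hP, huu, Finset.pair_comm]
  obtain ⟨je, hje⟩ := hodd Γ hΓ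
  have hstab : ∀ σ ∈ ψ.range, σ P0 = P0 → σ ^ (2 * je + 1) = 1 := by
    rintro _ ⟨g, rfl⟩ hg
    have hga : (g : Equiv.Perm α) a = a ∨ (g : Equiv.Perm α) a = b := by
      have h' : (g : Equiv.Perm α) • ({a, u a} : Finset α) = {a, u a} := congrArg Subtype.val hg
      rw [hprg g g.2 a, hua] at h'
      have h : ({(g : Equiv.Perm α) a, u ((g : Equiv.Perm α) a)} : Finset α) = {a, b} := h' 
      have : (g : Equiv.Perm α) a ∈ ({a, b} : Finset α) := by
        rw [← h]; exact Finset.mem_insert_self _ _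
      simpa using this
    have key : ∀ q : D, (q : Equiv.Perm α) a = a → ψ q ^ (2 * je + 1) = 1 := by
      intro q hq
      have hqb : (q : Equiv.Perm α) b = b := by
        rw [← hua, ← Equiv.Perm.mul_apply, q.2.2.1, Equiv.Perm.mul_apply, hq]
      have hqΓ : (q : Equiv.Perm α) ∈ fx G Γ := ⟨q.2.1, fun z hz => by
        rcases eq_or_ne z a with rfl | h1
        · exact hq
        rcases eq_or_ne z b with rfl | h2
        · exact hqb
        exact q.2.2.2 z ((hT0mem z).2 ⟨h2, h1, hz⟩)⟩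
      have h := pow_card_eq_one' (x := (⟨_, hqΓ⟩ : fx G Γ))
      rw [hje] at h
      have h' : q ^ (2 * je + 1) = 1 := Subtype.ext (by
        rw [SubgroupClass.coe_pow]
        exact congrArg Subtype.val h)
      rw [← map_pow, h', map_one]
    rcases hga with h | h
    · exact key g h
    · have := key (⟨u, huD⟩ * g) (by
        rw [Subgroup.coe_mul, Equiv.Perm.mul_apply, h, hub])
      rwa [map_mul, hψu, one_mul] at this
  have htrans : ∀ P : {P // P ∈ Pr}, ∃ σ ∈ ψ.range, σ P0 = P := by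
    intro P
    obtain ⟨x, hx, hP⟩ := Finset.mem_image.1 P.2
    suffices h : ∃ g ∈ D, g a = x by
      obtain ⟨g, hg, hgx⟩ := h
      refine ⟨ψ ⟨g, hg⟩, ⟨_, rfl⟩, Subtype.ext ?_⟩
      rw [hψ, ← hP]
      show g • ({a, u a} : Finset α) = _
      rw [hprg g hg a, hgx]
    by_cases hxΓ : x ∈ Γ
    · have : x = a ∨ x = b := by
        rw [Finset.mem_compl, hT0mem] at hx
        tauto
      rcases this with rfl | rfl
      · exact ⟨1, D.one_mem, rfl⟩
      · exact ⟨u, huD, hua⟩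
    · -- conjugate `u` to itself
      set Γ' := insert x (insert (u x) T0) with hΓ'def
      have hxT : x ∉ T0 := fun h => hxΓ ((hT0mem x).1 h).2.2
      have huxT : u x ∉ T0 := fun h => huΓ x hxΓ ((hT0mem _).1 h).2.2
      have hΓ'c : Γ'.card = k := by
        rw [hΓ'def, Finset.card_insert_of_notMem (by simp [(hno x hxΓ).symm, hxT]),
          Finset.card_insert_of_notMem huxT]
        omega
      obtain ⟨g, hg, hgx⟩ := hE Γ hΓ (Equiv.swap a x * Equiv.swap b (u x))
      have hxa : x ≠ a := fun e => hxΓ (e ▸ ha)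
      have hxb : x ≠ b := fun e => hxΓ (e ▸ hb)
      have huxa : u x ≠ a := fun e => huΓ x hxΓ (e ▸ ha)
      have huxb : u x ≠ b := fun e => huΓ x hxΓ (e ▸ hb)
      have hga : g a = x := by
        rw [hgx a ha, Equiv.Perm.mul_apply, Equiv.swap_apply_of_ne_of_ne hab huxa.symm,
          Equiv.swap_apply_left]
      have hgb : g b = u x := by
        rw [hgx b hb, Equiv.Perm.mul_apply, Equiv.swap_apply_left,
          Equiv.swap_apply_of_ne_of_ne huxa (hno x hxΓ)]
      have hgT : ∀ z ∈ T0, g z = z := by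
        intro z hz
        rw [hT0mem] at hz
        rw [hgx z hz.2.2, Equiv.Perm.mul_apply,
          Equiv.swap_apply_of_ne_of_ne hz.1 (fun e : z = u x => huΓ x hxΓ (e ▸ hz.2.2)),
          Equiv.swap_apply_of_ne_of_ne hz.2.1 (fun e : z = x => hxΓ (e ▸ hz.2.2))]
      obtain ⟨w, hw⟩ : ∃ w, w = (g * u * g⁻¹) * u := ⟨_, rfl⟩
      have hu' : (g * u * g⁻¹) * (g * u * g⁻¹) = 1 := by
        calc (g * u * g⁻¹) * (g * u * g⁻¹) = g * (u * u) * g⁻¹ := by group
          _ = 1 := by rw [hu2, mul_one, mul_inv_cancel]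
      have hwΓ : w ∈ fx G Γ' := by
        refine ⟨hw ▸ G.mul_mem (G.mul_mem (G.mul_mem hg hu) (G.inv_mem hg)) hu, fun z hz => ?_⟩
        have hgi : g⁻¹ x = a ∧ g⁻¹ (u x) = b ∧ ∀ t ∈ T0, g⁻¹ t = t :=
          ⟨by rw [Equiv.Perm.inv_eq_iff_eq, hga], by rw [Equiv.Perm.inv_eq_iff_eq, hgb],
            fun t ht => by rw [Equiv.Perm.inv_eq_iff_eq, hgT t ht]⟩
        simp only [hΓ'def, Finset.mem_insert] at hz
        simp only [hw, Equiv.Perm.mul_apply]
        rcases hz with rfl | rfl | hz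
        · rw [hgi.2.1, hub, hga]
        · rw [huu, hgi.1, hua, hgb]
        · rw [huT0 z hz, hgi.2.2 z hz, huT0 z hz, hgT z hz]
      obtain ⟨j, hj⟩ := hodd Γ' hΓ'c
      have hwn : w ^ (2 * j + 1) = 1 := by
        have h := pow_card_eq_one' (x := (⟨w, hwΓ⟩ : fx G Γ'))
        rw [hj] at h
        exact congrArg Subtype.val h
      have huw : ∀ n : ℕ, u * w ^ n * u = (w ^ n)⁻¹ := by
        have h1 : u * w * u = w⁻¹ := by
          rw [eq_inv_iff_mul_eq_one, hw]
          calc u * (g * u * g⁻¹ * u) * u * (g * u * g⁻¹ * u)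
              = u * (g * u * g⁻¹) * (u * u) * (g * u * g⁻¹) * u := by group
            _ = u * ((g * u * g⁻¹) * (g * u * g⁻¹)) * u := by rw [hu2, mul_one, mul_assoc u]
            _ = 1 := by rw [hu', mul_one, hu2]
        intro n
        induction n with
        | zero => simp [hu2]
        | succ n ih =>
          calc u * w ^ (n + 1) * u = u * w ^ n * (u * u) * w * u := by rw [hu2, pow_succ]; group
            _ = (u * w ^ n * u) * (u * w * u) := by group
            _ = (w ^ (n + 1))⁻¹ := by rw [ih, h1, pow_succ', mul_inv_rev]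
      refine ⟨w ^ j * g, ⟨G.mul_mem (pow_mem hwΓ.1 j) hg, ?_, fun z hz => ?_⟩, ?_⟩
      · -- `w ^ j` conjugates `g u g⁻¹` to `u`
        have h1 : g * u = w * u * g := by rw [hw, mul_assoc _ u u, hu2, mul_one, inv_mul_cancel_right]
        have h2 : w ^ j * w = (w ^ j)⁻¹ := by
          rw [eq_inv_iff_mul_eq_one, ← pow_succ, ← pow_add, show j + 1 + j = 2 * j + 1 by omega, hwn]
        calc w ^ j * g * u = w ^ j * (w * u * g) := by rw [mul_assoc, h1]
          _ = (w ^ j * w) * u * g := by group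
          _ = u * w ^ j * (u * u) * g := by rw [h2, ← huw j]; group
          _ = u * (w ^ j * g) := by rw [hu2, mul_one, mul_assoc]
      · rw [Equiv.Perm.mul_apply, hgT z hz]
        exact ((fx G Γ').pow_mem hwΓ j).2 z (by simp [hΓ'def, hz])
      · rw [Equiv.Perm.mul_apply, hga]
        exact ((fx G Γ').pow_mem hwΓ j).2 x (by simp [hΓ'def])
  have hPrc : Fintype.card {P // P ∈ Pr} = 4 * i + 2 := by
    have heq : Pr = (insert a O1).image (fun x => ({x, u x} : Finset α)) := by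
      apply Finset.Subset.antisymm
      · intro P hP
        obtain ⟨x, hx, rfl⟩ := Finset.mem_image.1 hP
        rw [Finset.mem_compl, hT0mem] at hx
        by_cases hxΓ : x ∈ Γ
        · have : x = a ∨ x = b := by tauto
          refine Finset.mem_image.2 ⟨a, Finset.mem_insert_self _ _, ?_⟩
          rcases this with rfl | rfl
          · rfl
          · rw [hua, hub, Finset.pair_comm]
        · rcases hcover x hxΓ with h | h
          · exact Finset.mem_image.2 ⟨x, Finset.mem_insert_of_mem h, rfl⟩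
          · exact Finset.mem_image.2 ⟨u x, Finset.mem_insert_of_mem h, by rw [huu, Finset.pair_comm]⟩
      · intro P hP
        obtain ⟨x, hx, rfl⟩ := Finset.mem_image.1 hP
        refine Finset.mem_image.2 ⟨x, ?_, rfl⟩
        rcases Finset.mem_insert.1 hx with rfl | hx
        · exact haT
        · rw [Finset.mem_compl, hT0mem]
          exact fun h => hO1out x hx h.2.2
    rw [Fintype.card_coe, heq, Finset.card_image_of_injOn,
      Finset.card_insert_of_notMem (fun h => hO1out a h ha), hi]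
    intro x hx y hy hxy
    have hxy' : ({x, u x} : Finset α) = {y, u y} := hxy
    have hxm : x ∈ ({y, u y} : Finset α) := hxy' ▸ Finset.mem_insert_self _ _
    simp only [Finset.mem_insert, Finset.mem_singleton] at hxm
    rcases hxm with h | h
    · exact h
    exfalso
    simp only [Finset.coe_insert, Set.mem_insert_iff, Finset.mem_coe] at hx hy
    rcases hy with rfl | hy
    · rw [hua] at h
      rcases hx with rfl | hx
      · exact hab h
      · exact hO1out x hx (h ▸ hb)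
    · rcases hx with rfl | hx
      · exact huΓ y (hO1out y hy) (h ▸ ha)
      · exact hnotboth y hy (h ▸ hx)
  -- the parity argument
  haveI : MulAction.IsPretransitive ψ.range {P // P ∈ Pr} := by
    refine ⟨fun P Q => ?_⟩
    obtain ⟨σ, hσ, hσP⟩ := htrans P
    obtain ⟨τ, hτ, hτQ⟩ := htrans Q
    refine ⟨⟨τ * σ⁻¹, ψ.range.mul_mem hτ (ψ.range.inv_mem hσ)⟩, ?_⟩
    show (τ * σ⁻¹) P = Q
    rw [Equiv.Perm.mul_apply, ← hσP, inv_apply', hτQ]
  set St := MulAction.stabilizer ψ.range P0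
  have hStodd : Odd (Nat.card St) := by
    rw [← Nat.not_even_iff_odd]
    intro he
    haveI : Fact (Nat.Prime 2) := ⟨Nat.prime_two⟩
    obtain ⟨t, ht⟩ := exists_prime_orderOf_dvd_card' (G := St) 2 he.two_dvd
    have h1 := hstab ((t : ψ.range) : Equiv.Perm {P // P ∈ Pr}) (t : ψ.range).2 t.2
    have h2 : t ^ (2 * je + 1) = 1 := by
      apply Subtype.ext; apply Subtype.ext
      rw [SubgroupClass.coe_pow, SubgroupClass.coe_pow]
      exact h1
    have h3 := orderOf_dvd_of_pow_eq_one h2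
    rw [ht] at h3
    omega
  have hcardR : Nat.card ψ.range = (4 * i + 2) * Nat.card St := by
    rw [← St.index_mul_card, MulAction.index_stabilizer_of_transitive, Nat.card_eq_fintype_card, hPrc]
  obtain ⟨τ, hτ⟩ : ∃ τ : ψ.range, orderOf τ = 2 := by
    haveI : Fact (Nat.Prime 2) := ⟨Nat.prime_two⟩
    exact exists_prime_orderOf_dvd_card' 2 (by rw [hcardR]; exact Dvd.dvd.mul_right (by omega) _)
  let χ : ψ.range →* ℤˣ := Equiv.Perm.sign.comp ψ.range.subtype
  have hτ2 : (τ : Equiv.Perm {P // P ∈ Pr}) * τ = 1 := by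
    rw [← Subgroup.coe_mul, ← pow_two, ← hτ, pow_orderOf_eq_one, Subgroup.coe_one]
  have hτfree : ∀ P, (τ : Equiv.Perm {P // P ∈ Pr}) P ≠ P := by
    intro P hP
    obtain ⟨σ, hσ, hσP⟩ := htrans P
    set τ' := σ⁻¹ * (τ : Equiv.Perm {P // P ∈ Pr}) * σ with hτ'
    have h1 : τ' ∈ ψ.range := ψ.range.mul_mem (ψ.range.mul_mem (ψ.range.inv_mem hσ) τ.2) hσ
    have h2 : τ' ^ (2 * je + 1) = 1 := hstab τ' h1 (by
      rw [hτ', Equiv.Perm.mul_apply, Equiv.Perm.mul_apply, hσP, hP, Equiv.Perm.inv_eq_iff_eq, hσP])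
    have h3 : τ' * τ' = 1 := by
      calc τ' * τ' = σ⁻¹ * ((τ : Equiv.Perm {P // P ∈ Pr}) * τ) * σ := by rw [hτ']; group
        _ = 1 := by rw [hτ2, mul_one, inv_mul_cancel]
    rw [pow_succ, pow_mul, pow_two, h3, one_pow, one_mul] at h2
    have h4 : (τ : Equiv.Perm {P // P ∈ Pr}) = 1 := by
      calc (τ : Equiv.Perm {P // P ∈ Pr}) = σ * τ' * σ⁻¹ := by rw [hτ']; group
        _ = 1 := by rw [h2, mul_one, mul_inv_cancel]
    rw [OneMemClass.coe_eq_one] at h4
    rw [h4, orderOf_one] at hτ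
    exact absurd hτ (by norm_num)
  have hτsign : χ τ = -1 := by
    show Equiv.Perm.sign (τ : Equiv.Perm {P // P ∈ Pr}) = -1
    rw [sign_involution _ hτ2, show (τ : Equiv.Perm {P // P ∈ Pr}).support = Finset.univ from
      Finset.eq_univ_of_forall fun P => Equiv.Perm.mem_support.2 (hτfree P), Finset.card_univ, hPrc,
      show (4 * i + 2) / 2 = 2 * i + 1 by omega, pow_succ, pow_mul, neg_one_sq, one_pow, one_mul]
  have hStW : St ≤ χ.ker := by
    intro σ hσ
    rw [MonoidHom.mem_ker]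
    have h1 := hstab σ σ.2 hσ
    have h2 : χ σ ^ (2 * je + 1) = 1 := by
      rw [← map_pow, show σ ^ (2 * je + 1) = 1 from Subtype.ext (by rw [SubgroupClass.coe_pow]; exact h1), map_one]
    rcases Int.units_eq_one_or (χ σ) with h | h
    · exact h
    · rw [h, Odd.neg_one_pow ⟨je, rfl⟩] at h2
      exact absurd h2 (by decide)
  have hker2 : Nat.card χ.ker * 2 = Nat.card ψ.range := by
    rw [← χ.ker.card_mul_index, Subgroup.index_ker]
    congr 1
    rw [show χ.range = ⊤ by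
      rw [eq_top_iff]
      rintro x -
      rcases Int.units_eq_one_or x with rfl | rfl
      · exact one_mem _
      · exact ⟨τ, hτsign⟩]
    simp
  by_cases hmove : ∃ w ∈ χ.ker, w • P0 ≠ P0
  · exfalso
    obtain ⟨w, hw, hwP⟩ := hmove
    haveI : MulAction.IsPretransitive χ.ker {P // P ∈ Pr} := by
      refine (MulAction.isPretransitive_iff_base P0).2 fun Q => ?_
      rcases eq_or_ne Q P0 with rfl | hQ
      · exact ⟨1, one_smul _ _⟩
      obtain ⟨x, hx, hQx⟩ : ∃ x, x ∉ Γ ∧ (Q : Finset α) = {x, u x} := by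
        obtain ⟨x, hx, hxQ⟩ := Finset.mem_image.1 Q.2
        refine ⟨x, fun hxΓ => hQ (Subtype.ext ?_), hxQ.symm⟩
        rw [Finset.mem_compl, hT0mem] at hx
        have : x = a ∨ x = b := by tauto
        show (Q : Finset α) = {a, u a}
        rcases this with rfl | rfl
        · rw [hxQ]
        · rw [← hxQ, hua, hub, Finset.pair_comm]
      obtain ⟨y, hy, hwy⟩ : ∃ y, y ∉ Γ ∧ ((w • P0 : {P // P ∈ Pr}) : Finset α) = {y, u y} := by
        obtain ⟨y, hy, hyQ⟩ := Finset.mem_image.1 (w • P0 : {P // P ∈ Pr}).2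
        refine ⟨y, fun hyΓ => hwP (Subtype.ext ?_), hyQ.symm⟩
        rw [Finset.mem_compl, hT0mem] at hy
        have : y = a ∨ y = b := by tauto
        show _ = ({a, u a} : Finset α)
        rcases this with rfl | rfl
        · rw [hyQ]
        · rw [← hyQ, hua, hub, Finset.pair_comm]
      obtain ⟨g, hg, hgu, hgy⟩ := hCtrans y hy x hx
      have hgD : g ∈ D := ⟨hg.1, hgu, fun z hz => hg.2 z ((hT0mem z).1 hz).2.2⟩
      let σ : ψ.range := ⟨ψ ⟨g, hgD⟩, _, rfl⟩
      have hσ : σ ∈ St := by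
        refine Subtype.ext ?_
        show g • ({a, u a} : Finset α) = {a, u a}
        rw [hprg g hgD a, hg.2 a ha]
      refine ⟨⟨σ * w, χ.ker.mul_mem (hStW hσ) hw⟩, Subtype.ext ?_⟩
      show g • ((w • P0 : {P // P ∈ Pr}) : Finset α) = Q
      rw [hwy, hprg g hgD y, hQx]
      rcases hgy with h | h
      · rw [h]
      · rw [h, huu, Finset.pair_comm]
    have h1 : 4 * i + 2 ∣ Nat.card χ.ker := by
      have h := (MulAction.stabilizer χ.ker P0).index_dvd_card
      rwa [MulAction.index_stabilizer_of_transitive, Nat.card_eq_fintype_card, hPrc] at h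
    rw [hcardR, show (4 * i + 2) * Nat.card St = ((2 * i + 1) * Nat.card St) * 2 by ring] at hker2
    have h2 : Nat.card χ.ker = (2 * i + 1) * Nat.card St := Nat.eq_of_mul_eq_mul_right (by norm_num) hker2
    rw [h2] at h1
    have h3 : 2 ∣ (2 * i + 1) * Nat.card St := (Dvd.intro (2 * i + 1) (by ring)).trans h1
    have hodd3 : Odd ((2 * i + 1) * Nat.card St) := Odd.mul ⟨i, rfl⟩ hStodd
    exact (Nat.not_even_iff_odd.2 hodd3) (even_iff_two_dvd.2 h3)
  · push Not at hmove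
    have hle : χ.ker ≤ St := fun w hw => hmove w hw
    rw [le_antisymm hle hStW, hcardR] at hker2
    have hpos : 0 < Nat.card St := Nat.card_pos
    have : 4 * i + 2 = 2 := by
      apply Nat.eq_of_mul_eq_mul_right hpos
      rw [← hker2]; ring
    omega

end Cfsg.Agent.Perm.EvenSets
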