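import Mathlib
import Cfsg.Agent.Lib.Perm.Homog
import Cfsg.Agent.Lib.Perm.EvenSets
import Cfsg.Agent.S0744
import Cfsg.Agent.S0735

/-! The theorem of Livingstone and Wagner. -/

set_option autoImplicit false

namespace Cfsg.Agent.Perm.HomogTrans

open Cfsg.Agent.Perm.AltSet Cfsg.Agent.Perm.Homog Cfsg.Agent.Perm.EvenSets
open scoped Pointwise

variable {α : Type*} [Fintype α] [DecidableEq α] {G : Subgroup (Equiv.Perm α)}

/-- The setwise stabiliser of a finite set. -/
def St (G : Subgroup (Equiv.Perm α)) (s : Finset α) : Subgroup (Equiv.Perm α) where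
  carrier := {g | g ∈ G ∧ ∀ x, g x ∈ s ↔ x ∈ s}
  one_mem' := ⟨G.one_mem, fun _ => Iff.rfl⟩
  mul_mem' := fun {g h} hg hh => ⟨G.mul_mem hg.1 hh.1, fun x => by
    rw [Equiv.Perm.mul_apply, hg.2, hh.2]⟩
  inv_mem' := fun {g} hg => ⟨G.inv_mem hg.1, fun x => by rw [← hg.2, apply_inv']⟩

theorem card_fixing (s : Finset α) :
    Nat.card (fixingSubgroup G (s : Set α)) = Nat.card (fx G s) :=
  Nat.card_congr
    { toFun := fun g => ⟨(g : G), ((g : G)).2, fun x hx => g.2 ⟨x, hx⟩⟩
      invFun := fun g => ⟨⟨g, g.2.1⟩, fun x => g.2.2 x x.2⟩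
      left_inv := fun _ => rfl
      right_inv := fun _ => rfl }

/-- The order of a multiply transitive group. -/
theorem card_tuple {H : Type*} [Group H] [MulAction H α] (k : ℕ)
    (hm : MulAction.IsMultiplyPretransitive H α k) (z : Fin k ↪ α) :
    (Fintype.card α).descFactorial k * Nat.card (MulAction.stabilizer H z) = Nat.card H := by
  haveI : MulAction.IsPretransitive H (Fin k ↪ α) := hm
  rw [← (MulAction.stabilizer H z).index_mul_card, MulAction.index_stabilizer_of_transitive,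
    Nat.card_eq_fintype_card (α := Fin k ↪ α), Fintype.card_embedding_eq, Fintype.card_fin]

/-- The order of a transitive group through the stabiliser of a `k`-tuple. -/
theorem card_of_ext {k : ℕ} (hE : Ext G k) {s : Finset α} (hs : s.card = k) :
    Nat.card G = (Fintype.card α).descFactorial k * Nat.card (fx G s) := by
  let e : Fin k ≃ ↥s := (finCongr hs.symm).trans s.equivFin.symm
  let z : Fin k ↪ α := e.toEmbedding.trans (Function.Embedding.subtype _)
  rw [← card_tuple k (multiply_of_ext hE) z]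
  congr 1
  refine Nat.card_congr
    { toFun := fun g => ⟨(g : G), ((g : G)).2, fun x hx => ?_⟩
      invFun := fun g => ⟨⟨g, g.2.1⟩, Function.Embedding.ext fun i => g.2.2 _ (e i).2⟩
      left_inv := fun _ => rfl
      right_inv := fun _ => rfl }
  have := DFunLike.congr_fun g.2 (e.symm ⟨x, hx⟩)
  simp only [z, Function.Embedding.trans_apply, Equiv.coe_toEmbedding, Equiv.apply_symm_apply,
    Function.Embedding.subtype_apply, Function.Embedding.smul_apply] at this
  exact this

/-- The order of a homogeneous group through a setwise stabiliser. -/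
theorem card_of_hom {k : ℕ} (hH : Hom G k) {s : Finset α} (hs : s.card = k) :
    Nat.card G = (Fintype.card α).choose k * Nat.card (St G s) := by
  haveI := pretransitive_of_hom hH
  have h := (MulAction.stabilizer G (⟨s, hs⟩ : Set.powersetCard α k)).index_mul_card
  rw [MulAction.index_stabilizer_of_transitive, Set.powersetCard.card, Nat.card_eq_fintype_card] at h
  rw [← h]
  congr 1
  refine Nat.card_congr
    { toFun := fun g => ⟨(g : G), ((g : G)).2, fun x => ?_⟩
      invFun := fun g => ⟨⟨g, g.2.1⟩, ?_⟩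
      left_inv := fun _ => rfl
      right_inv := fun _ => rfl }
  · have hg : (g : G) • s = s := congrArg (fun u : Set.powersetCard α k => (u : Finset α)) g.2
    have h' := Finset.smul_mem_smul_finset_iff (g : G) (s := s) (b := x)
    rw [hg] at h'
    exact h' 
  · rw [MulAction.mem_stabilizer_iff]
    refine Subtype.ext ?_
    show (⟨g, g.2.1⟩ : G) • s = s
    ext y
    rw [Finset.mem_smul_finset]
    constructor
    · rintro ⟨x, hx, rfl⟩
      exact (g.2.2 x).2 hx
    · intro hy
      exact ⟨(g : Equiv.Perm α)⁻¹ y, (g.2.2 _).1 (by rwa [apply_inv']), apply_inv' _ y⟩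

/-- The permutation group induced on a set by its stabiliser, for trivial pointwise stabilisers. -/
theorem induced {k : ℕ} (h1 : ∀ s : Finset α, s.card = k → fx G s = ⊥) {Δ : Finset α}
    (hΔ : Δ.card = k) :
    ∃ H : Subgroup (Equiv.Perm {x // x ∈ Δ}), Nat.card H = Nat.card (St G Δ) ∧
      ∀ σ : Equiv.Perm {x // x ∈ Δ}, σ ∈ H ↔
        ∃ g ∈ G, ∀ x : {x // x ∈ Δ}, g (x : α) = σ x := by
  let φ : St G Δ →* Equiv.Perm {x // x ∈ Δ} :=
    { toFun := fun g => (g : Equiv.Perm α).subtypePerm g.2.2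
      map_one' := Equiv.ext fun _ => Subtype.ext rfl
      map_mul' := fun _ _ => Equiv.ext fun _ => Subtype.ext rfl }
  have hinj : Function.Injective φ := by
    rw [← MonoidHom.ker_eq_bot_iff, eq_bot_iff]
    intro g hg
    have hmem : (g : Equiv.Perm α) ∈ fx G Δ := ⟨g.2.1, fun x hx =>
      congrArg Subtype.val (DFunLike.congr_fun hg (⟨x, hx⟩ : {x // x ∈ Δ}))⟩
    rw [h1 Δ hΔ, Subgroup.mem_bot] at hmem
    rw [Subgroup.mem_bot]
    exact Subtype.ext hmem
  refine ⟨φ.range, (Nat.card_congr (MonoidHom.ofInjective hinj).toEquiv).symm, fun σ => ?_⟩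
  constructor
  · rintro ⟨g, rfl⟩
    exact ⟨g, g.2.1, fun _ => rfl⟩
  · rintro ⟨g, hg, hgx⟩
    have himg : Δ.image g = Δ := Finset.eq_of_subset_of_card_le
      (fun w hw => by
        obtain ⟨v, hv, rfl⟩ := Finset.mem_image.1 hw
        rw [hgx ⟨v, hv⟩]
        exact (σ ⟨v, hv⟩).2)
      (Finset.card_image_of_injective _ g.injective).ge
    refine ⟨⟨g, hg, fun x => ⟨fun hx => ?_, fun hx => ?_⟩⟩, Equiv.ext fun x => Subtype.ext (hgx x)⟩
    · rw [← himg] at hx
      obtain ⟨v, hv, hv'⟩ := Finset.mem_image.1 hx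
      exact g.injective hv' ▸ hv
    · rw [hgx ⟨x, hx⟩]
      exact (σ ⟨x, hx⟩).2

theorem ext_of_full {k : ℕ} (hH : Hom G k) {Δ : Finset α} (hΔ : Δ.card = k)
    (hfull : ∀ σ : Equiv.Perm {x // x ∈ Δ}, ∃ g ∈ G, ∀ x : {x // x ∈ Δ}, g (x : α) = σ x) :
    Ext G k := by
  intro s hs π
  have ht : (s.image π).card = k := by rw [Finset.card_image_of_injective _ π.injective, hs]
  obtain ⟨g1, hg1, hg1x⟩ := hH Δ s hΔ hs
  obtain ⟨g2, hg2, hg2x⟩ := hH Δ (s.image π) hΔ ht
  have hpres : ∀ x, (g2⁻¹ * π * g1) x ∈ Δ ↔ x ∈ Δ := fun x => by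
    rw [← hg2x, Equiv.Perm.mul_apply, Equiv.Perm.mul_apply, apply_inv',
      Function.Injective.mem_finset_image π.injective, hg1x]
  obtain ⟨g, hg, hgx⟩ := hfull ((g2⁻¹ * π * g1).subtypePerm hpres)
  refine ⟨g2 * g * g1⁻¹, G.mul_mem (G.mul_mem hg2 hg) (G.inv_mem hg1), fun x hx => ?_⟩
  have hy : g1⁻¹ x ∈ Δ := (hg1x _).1 (by rwa [apply_inv'])
  rw [Equiv.Perm.mul_apply, Equiv.Perm.mul_apply, hgx ⟨_, hy⟩]
  show g2 ((g2⁻¹ * π * g1) (g1⁻¹ x)) = π x
  rw [Equiv.Perm.mul_apply, Equiv.Perm.mul_apply, apply_inv', apply_inv']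

theorem card_perm_sub {k : ℕ} {Δ : Finset α} (hΔ : Δ.card = k) :
    Nat.card (Equiv.Perm {x // x ∈ Δ}) = k.factorial := by
  rw [Nat.card_perm, Nat.card_eq_fintype_card, Fintype.card_coe, hΔ]

/-- Half of the symmetric group on each set means only even permutations. -/
theorem evenOn_of_half {k : ℕ} (hk : 2 ≤ k) (h1 : ∀ s : Finset α, s.card = k → fx G s = ⊥)
    (hhalf : ∀ Δ : Finset α, Δ.card = k → Nat.card (St G Δ) * 2 = k.factorial) : EvenOn G k := by
  intro g hg Δ hΔ h
  haveI : Nontrivial {x // x ∈ Δ} := Fintype.one_lt_card_iff_nontrivial.1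
    (by rw [Fintype.card_coe, hΔ]; omega)
  obtain ⟨H, hHc, hH⟩ := induced h1 hΔ
  have hidx : H.index = 2 := by
    have h2 := H.card_mul_index
    rw [card_perm_sub hΔ, ← hhalf Δ hΔ, ← hHc] at h2
    exact Nat.eq_of_mul_eq_mul_left Nat.card_pos h2
  have hmem : g.subtypePerm h ∈ H := (hH _).2 ⟨g, hg, fun _ => rfl⟩
  rw [Equiv.Perm.eq_alternatingGroup_of_index_eq_two hidx, Equiv.Perm.mem_alternatingGroup] at hmem
  exact hmem

/-- An element of prime order `p ≤ 3` in a small pointwise stabiliser gives an element of order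
`p` in the setwise stabiliser of a `(k+1)`-set. -/
theorem orbit_three {k : ℕ} (hk : 2 ≤ k) (h1 : ∀ s : Finset α, s.card = k + 1 → fx G s = ⊥)
    (hH : Hom G (k + 1)) {s : Finset α} (hs : s.card = k) (h3 : 3 ∣ Nat.card (fx G s))
    {Δ : Finset α} (hΔ : Δ.card = k + 1) : 3 ∣ Nat.card (St G Δ) := by
  haveI : Fact (Nat.Prime 3) := ⟨Nat.prime_three⟩
  obtain ⟨t, ht⟩ := exists_prime_orderOf_dvd_card' (G := fx G s) 3 h3
  set τ := (t : Equiv.Perm α) with hτdef
  have hto : orderOf τ = 3 := by rw [hτdef, Subgroup.orderOf_coe, ht]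
  have ht3 : ∀ x, τ (τ (τ x)) = x := fun x => by
    rw [← Equiv.Perm.mul_apply, ← Equiv.Perm.mul_apply, ← pow_three' τ, ← hto, pow_orderOf_eq_one,
      Equiv.Perm.one_apply]
  obtain ⟨x, hx⟩ : ∃ x, τ x ≠ x := by
    by_contra! hall
    rw [show τ = 1 from Equiv.ext hall, orderOf_one] at hto
    omega
  have hxs : ∀ y, τ y ≠ y → y ∉ s := fun y hy h => hy (t.2.2 y h)
  have h12 : τ (τ x) ≠ x := fun h => hx (by
    have h3' := ht3 x
    rw [h] at h3'
    exact h3')
  have hy1 : τ (τ x) ≠ τ x := fun h => hx (τ.injective h)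
  obtain ⟨s', hs', hs'c⟩ := Finset.exists_subset_card_eq (show k - 2 ≤ s.card by omega)
  set Δ' := insert x (insert (τ x) (insert (τ (τ x)) s')) with hΔ'def
  have hx' : x ∉ s' := fun h => hxs x hx (hs' h)
  have hx1' : τ x ∉ s' := fun h => hxs _ hy1 (hs' h)
  have hx2' : τ (τ x) ∉ s' := fun h => hxs _ (fun e => hy1 (τ.injective e)) (hs' h)
  have hΔ'c : Δ'.card = k + 1 := by
    rw [hΔ'def, Finset.card_insert_of_notMem (by simp [hx.symm, h12.symm, hx']),
      Finset.card_insert_of_notMem (by simp [hy1.symm, hx1']), Finset.card_insert_of_notMem hx2']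
    omega
  have hmem : τ ∈ St G Δ' := by
    have hone : ∀ z ∈ Δ', τ z ∈ Δ' := by
      intro z hz
      simp only [hΔ'def, Finset.mem_insert] at hz ⊢
      rcases hz with rfl | rfl | rfl | hz
      · exact Or.inr (Or.inl rfl)
      · exact Or.inr (Or.inr (Or.inl rfl))
      · exact Or.inl (ht3 x)
      · exact Or.inr (Or.inr (Or.inr (by rw [t.2.2 z (hs' hz)]; exact hz)))
    exact ⟨t.2.1, fun z => ⟨fun hz => by simpa [ht3] using hone _ (hone _ hz), hone z⟩⟩
  have hc : Nat.card (St G Δ) = Nat.card (St G Δ') := by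
    have a := card_of_hom hH hΔ
    have b := card_of_hom hH hΔ'c
    rw [a] at b
    refine Nat.eq_of_mul_eq_mul_left (Nat.choose_pos ?_) b
    rw [← hΔ, ← Finset.card_univ]
    exact Finset.card_le_card (Finset.subset_univ _)
  rw [hc, ← hto, ← Subgroup.orderOf_mk τ hmem]
  exact orderOf_dvd_natCard _

theorem table_five : ∀ (h : Fin 24) (n : Fin 121), h.val ∣ 24 → 5 ≤ n.val → (n.val - 4) ∣ 5 * h.val →
    24 ∣ h.val * (n.val - 3) → (n.val, h.val) ∈ [(19, 3), (9, 4), (7, 6), (19, 6), (6, 8), (9, 8), (12, 8), (24, 8), (5, 12), (7, 12),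
      (9, 12), (19, 12)] := by decide +kernel

theorem table_four : ∀ (h : Fin 6) (n : Fin 24), h.val ∣ 6 → 4 ≤ n.val → (n.val - 3) ∣ 4 * h.val →
    6 ∣ h.val * (n.val - 2) → (n.val, h.val) ∈ [(5, 2), (11, 2), (4, 3), (6, 3)] := by decide +kernel

/-- No configuration of degree 24. -/
theorem not_twentyfour (hn : Fintype.card α = 24) (hE : Ext G 3)
    (h1 : ∀ s : Finset α, s.card = 4 → fx G s = ⊥) {Γ : Finset α} (hΓ : Γ.card = 3)
    (he : Nat.card (fx G Γ) = 7) : False := by
  haveI : Fact (Nat.Prime 23) := ⟨by norm_num⟩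
  have hG : Nat.card G = 24 * 23 * 22 * 7 := by
    rw [card_of_ext hE hΓ, hn, he]
    decide
  haveI : Nonempty α := Fintype.card_pos_iff.1 (by omega)
  obtain ⟨c⟩ := ‹Nonempty α›
  haveI : MulAction.IsPretransitive G α := by
    refine ⟨fun x y => ?_⟩
    obtain ⟨t, htx, -, htc⟩ := Finset.exists_subsuperset_card_eq (n := 3)
      (Finset.subset_univ ({x} : Finset α)) (by simp) (by rw [Finset.card_univ]; omega)
    obtain ⟨g, hg, hgx⟩ := hE t htc (Equiv.swap x y)
    exact ⟨⟨g, hg⟩, (hgx x (htx (Finset.mem_singleton_self x))).trans (Equiv.swap_apply_left x y)⟩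
  set S := MulAction.stabilizer G c
  have hS : Nat.card S = 23 * 154 := by
    have h := S.index_mul_card
    rw [MulAction.index_stabilizer_of_transitive, Nat.card_eq_fintype_card, hn, hG] at h
    omega
  obtain ⟨Q⟩ : Nonempty (Sylow 23 S) := inferInstance
  have hQc : Nat.card (Q : Subgroup S) = 23 := by
    have h2 : Nat.factorization (23 * 154) 23 = 1 := by
      rw [Nat.factorization_mul_apply_of_coprime (by norm_num),
        Nat.Prime.factorization_self (by norm_num), Nat.factorization_eq_zero_of_not_dvd (by norm_num)]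
    rw [Q.card_eq_multiplicity, hS, h2, pow_one]
  haveI hQn : (Q : Subgroup S).Normal := by
    have hidx : (Q : Subgroup S).index = 154 := by
      have h := (Q : Subgroup S).index_mul_card
      rw [hQc, hS] at h
      omega
    have hd : Nat.card (Sylow 23 S) ∣ 154 := hidx ▸ Q.card_dvd_index
    have hm : Nat.card (Sylow 23 S) % 23 = 1 := card_sylow_modEq_one 23 S
    have hle := Nat.le_of_dvd (by norm_num) hd
    have hone : Nat.card (Sylow 23 S) = 1 := by
      generalize Nat.card (Sylow 23 S) = n at hd hm hle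
      interval_cases n <;> omega
    haveI : Subsingleton (Sylow 23 S) := (Nat.card_eq_one_iff_unique.1 hone).1
    exact Sylow.normal_of_subsingleton Q
  obtain ⟨t0, ht0⟩ : ∃ t : (Q : Subgroup S), orderOf t = 23 :=
    exists_prime_orderOf_dvd_card' 23 (by rw [hQc])
  set τ : Equiv.Perm α := (((t0 : S) : G) : Equiv.Perm α) with hτdef
  have hto : orderOf τ = 23 := by
    rw [hτdef, Subgroup.orderOf_coe, Subgroup.orderOf_coe, Subgroup.orderOf_coe, ht0]
  have hτc : τ c = c := (t0 : S).2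
  obtain ⟨a, ha⟩ : ∃ a, τ a ≠ a := by
    by_contra! hall
    rw [show τ = 1 from Equiv.ext hall, orderOf_one] at hto
    omega
  have hper : ∀ i : ℤ, (τ ^ i) a = a → (23 : ℤ) ∣ i := by
    intro i hi
    by_contra hd
    have hcop : IsCoprime (23 : ℤ) i := (Prime.coprime_iff_not_dvd (by norm_num)).2 hd
    obtain ⟨p, q, hpq⟩ := hcop
    apply ha
    have hp23 : τ ^ (23 : ℤ) = 1 := by
      rw [show (23 : ℤ) = ((23 : ℕ) : ℤ) from rfl, zpow_natCast, ← hto, pow_orderOf_eq_one]
    have h : τ = (τ ^ i) ^ q := by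
      calc τ = τ ^ (p * 23 + q * i) := by rw [hpq, zpow_one]
        _ = _ := by rw [zpow_add, mul_comm p, zpow_mul, hp23, one_zpow, one_mul, mul_comm, zpow_mul]
    rw [h]
    exact Function.IsFixedPt.perm_zpow hi q
  have hne2 : τ (τ a) ≠ a := by
    intro h
    have := hper 2 (by rw [zpow_two, Equiv.Perm.mul_apply]; exact h)
    omega
  have hne1 : τ (τ a) ≠ τ a := fun h => ha (τ.injective h)
  have hac : a ≠ c := fun h => ha (h ▸ hτc)
  have hτac : τ a ≠ c := fun h => hac (τ.injective (h.trans hτc.symm))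
  have hτ2c : τ (τ a) ≠ c := fun h => hτac (τ.injective (h.trans hτc.symm))
  have hT3 : ({c, a, τ a} : Finset α).card = 3 := by
    rw [Finset.card_insert_of_notMem (by simp [hac.symm, hτac.symm]), Finset.card_pair ha.symm]
  haveI : Fact (Nat.Prime 7) := ⟨by norm_num⟩
  obtain ⟨κ0, hκ0⟩ := exists_prime_orderOf_dvd_card' (G := fx G ({c, a, τ a} : Finset α)) 7
    (by rw [card_fx hE hT3 hΓ, he])
  set κ := (κ0 : Equiv.Perm α) with hκdef
  have hκfix : ∀ y ∈ ({c, a, τ a} : Finset α), κ y = y := κ0.2.2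
  have hκS : (⟨κ, κ0.2.1⟩ : G) ∈ S := hκfix c (Finset.mem_insert_self _ _)
  have hconj := hQn.conj_mem _ t0.2 ⟨⟨κ, κ0.2.1⟩, hκS⟩
  have hQz : (Q : Subgroup S) = Subgroup.zpowers (t0 : S) := by
    refine (Subgroup.eq_of_le_of_card_ge (Subgroup.zpowers_le.2 t0.2) ?_).symm
    rw [hQc, Nat.card_zpowers, Subgroup.orderOf_coe, ht0]
  obtain ⟨i, hi⟩ := Subgroup.mem_zpowers_iff.1 ((SetLike.ext_iff.1 hQz _).1 hconj)
  have hi' : τ ^ i = κ * τ * κ⁻¹ := by
    have h := congrArg (fun z : S => ((z : G) : Equiv.Perm α)) hi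
    simpa using h
  have hκa : κ a = a := hκfix a (by simp)
  have hκb : κ (τ a) = τ a := hκfix _ (by simp)
  have h1' : (τ ^ i) a = τ a := by
    rw [hi', Equiv.Perm.mul_apply, Equiv.Perm.mul_apply,
      show κ⁻¹ a = a by rw [Equiv.Perm.inv_eq_iff_eq, hκa], hκb]
  have hi1 : (23 : ℤ) ∣ i - 1 := hper _ (by
    rw [show i - 1 = -1 + i by ring, zpow_add, zpow_neg_one, Equiv.Perm.mul_apply, h1', inv_apply'])
  have hcomm : κ * τ = τ * κ := by
    have h : τ ^ i = τ := by
      obtain ⟨q, hq⟩ := hi1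
      rw [show i = 1 + 23 * q by omega, zpow_add, zpow_one, zpow_mul,
        show (23 : ℤ) = ((23 : ℕ) : ℤ) from rfl, zpow_natCast, ← hto, pow_orderOf_eq_one, one_zpow,
        mul_one]
    rw [h] at hi'
    calc κ * τ = (κ * τ * κ⁻¹) * κ := by group
      _ = τ * κ := by rw [← hi']
  have hT4 : ({c, a, τ a, τ (τ a)} : Finset α).card = 4 := by
    rw [Finset.card_insert_of_notMem (by simp [hac.symm, hτac.symm, hτ2c.symm]),
      Finset.card_insert_of_notMem (by simp [ha.symm, hne2.symm]), Finset.card_pair hne1.symm]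
  have hmem : κ ∈ fx G ({c, a, τ a, τ (τ a)} : Finset α) := ⟨κ0.2.1, fun y hy => by
    simp only [Finset.mem_insert, Finset.mem_singleton] at hy
    rcases hy with rfl | rfl | rfl | rfl
    · exact hκfix _ (by simp)
    · exact hκa
    · exact hκb
    · rw [← Equiv.Perm.mul_apply, hcomm, Equiv.Perm.mul_apply, hκb]⟩
  rw [h1 _ hT4, Subgroup.mem_bot, hκdef, OneMemClass.coe_eq_one] at hmem
  rw [hmem, orderOf_one] at hκ0
  omega

/-- No configuration of degree 7. -/
theorem not_seven (hn : Fintype.card α = 7) (hE : Ext G 3) {Γ : Finset α} (hΓ : Γ.card = 3)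
    (he : Nat.card (fx G Γ) = 1) (h1 : ∀ s : Finset α, s.card = 4 → fx G s = ⊥)
    {Δ : Finset α} (hΔ : Δ.card = 4) (hh : Nat.card (St G Δ) = 6) : False := by
  haveI : Fact (Nat.Prime 2) := ⟨Nat.prime_two⟩
  haveI : Fact (Nat.Prime 3) := ⟨Nat.prime_three⟩
  obtain ⟨H, hHc, hH⟩ := induced h1 hΔ
  rw [hh] at hHc
  obtain ⟨σ, hσ⟩ := exists_prime_orderOf_dvd_card' (G := H) 3 (by rw [hHc]; norm_num)
  obtain ⟨τ, hτ⟩ := exists_prime_orderOf_dvd_card' (G := H) 2 (by rw [hHc]; norm_num)
  have hnorm : (Subgroup.zpowers σ).Normal := by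
    refine Subgroup.normal_of_index_eq_two ?_
    have h := (Subgroup.zpowers σ).card_mul_index
    rw [Nat.card_zpowers, hσ, hHc] at h
    omega
  have hsupp : (σ : Equiv.Perm {x // x ∈ Δ}).support.card = 3 := by
    have h3 : orderOf (σ : Equiv.Perm {x // x ∈ Δ}) = 3 := by rw [Subgroup.orderOf_coe, hσ]
    have hd : ∀ i ∈ (σ : Equiv.Perm {x // x ∈ Δ}).cycleType, i = 3 := fun i hi => by
      have a1 := Equiv.Perm.dvd_of_mem_cycleType hi
      rw [h3] at a1
      have a2 := Equiv.Perm.two_le_of_mem_cycleType hi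
      have a3 := Nat.le_of_dvd (by norm_num) a1
      interval_cases i <;> omega
    have h4 := Finset.card_le_univ (σ : Equiv.Perm {x // x ∈ Δ}).support
    rw [Fintype.card_coe, hΔ] at h4
    rw [← Equiv.Perm.sum_cycleType, Multiset.eq_replicate_card.2 hd, Multiset.sum_replicate, smul_eq_mul] at h4 ⊢
    have h5 : (σ : Equiv.Perm {x // x ∈ Δ}).cycleType.card ≠ 0 := by
      rw [Ne, Multiset.card_eq_zero, Equiv.Perm.cycleType_eq_zero]
      intro h; rw [h, orderOf_one] at h3; omega
    omega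
  obtain ⟨p, hp⟩ := Finset.card_eq_one.1 (show (σ : Equiv.Perm {x // x ∈ Δ}).supportᶜ.card = 1 by
    rw [Finset.card_compl, hsupp, Fintype.card_coe, hΔ])
  have hfixσ : ∀ q, (σ : Equiv.Perm {x // x ∈ Δ}) q = q ↔ q = p := fun q => by
    have := Finset.ext_iff.1 hp q
    rw [Finset.mem_compl, Equiv.Perm.mem_support, not_not, Finset.mem_singleton] at this
    exact this
  obtain ⟨i, hi⟩ := Subgroup.mem_zpowers_iff.1
    (hnorm.conj_mem σ (Subgroup.mem_zpowers σ) τ⁻¹)
  have hτp : (τ : Equiv.Perm {x // x ∈ Δ}) p = p := by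
    rw [← hfixσ]
    have h := congrArg (fun z : H => (z : Equiv.Perm {x // x ∈ Δ}) p) hi
    simp only [Subgroup.coe_zpow, inv_inv, Subgroup.coe_mul, Subgroup.coe_inv,
      Equiv.Perm.mul_apply] at h
    have hfp : ((σ : Equiv.Perm {x // x ∈ Δ}) ^ i) p = p :=
      Function.IsFixedPt.perm_zpow ((hfixσ p).2 rfl) i
    rw [hfp] at h
    exact (Equiv.Perm.eq_inv_iff_eq.1 h).symm
  set t : Equiv.Perm {x // x ∈ Δ} := (τ : Equiv.Perm {x // x ∈ Δ}) with htdef
  have hto : orderOf t = 2 := by rw [htdef, Subgroup.orderOf_coe, hτ]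
  have ht2 : ∀ q, t (t q) = q := fun q => by
    rw [← Equiv.Perm.mul_apply, ← pow_two, ← hto, pow_orderOf_eq_one, Equiv.Perm.one_apply]
  have hsq : t ^ 2 ^ 1 = 1 := Equiv.ext fun q => ht2 q
  obtain ⟨g, hg, hgx⟩ := (hH t).1 τ.2
  have hg2 : g * g = 1 := by
    have hmem : g * g ∈ fx G Δ := ⟨G.mul_mem hg hg, fun x hx => by
      rw [Equiv.Perm.mul_apply, hgx ⟨x, hx⟩, hgx, ht2]⟩
    rwa [h1 Δ hΔ, Subgroup.mem_bot] at hmem
  have hgsq : g ^ 2 ^ 1 = 1 := by rw [pow_one, pow_two, hg2]
  have hmod := Equiv.Perm.card_compl_support_modEq hgsq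
  have hmodt := Equiv.Perm.card_compl_support_modEq hsq
  rw [Fintype.card_coe, hΔ] at hmodt
  rw [hn] at hmod
  have hge : 2 ≤ t.supportᶜ.card := by
    have hpos : 1 ≤ t.supportᶜ.card := Finset.card_pos.2 ⟨p, by simp [hτp]⟩
    unfold Nat.ModEq at hmodt
    omega
  have hsub : t.supportᶜ.map (Function.Embedding.subtype _) ⊆ g.supportᶜ := by
    intro x hx
    obtain ⟨q, hq, rfl⟩ := Finset.mem_map.1 hx
    rw [Finset.mem_compl, Equiv.Perm.mem_support, not_not] at hq ⊢
    exact (hgx q).trans (congrArg Subtype.val hq)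
  have h3 : 3 ≤ g.supportᶜ.card := by
    have := Finset.card_le_card hsub
    rw [Finset.card_map] at this
    unfold Nat.ModEq at hmod
    omega
  obtain ⟨T, hT, hTc⟩ := Finset.exists_subset_card_eq h3
  have hmem : g ∈ fx G T := ⟨hg, fun x hx => by simpa using hT hx⟩
  have hT1 : fx G T = ⊥ := Subgroup.card_eq_one.1 ((card_fx hE hTc hΓ).trans he)
  rw [hT1, Subgroup.mem_bot] at hmem
  have ht1 : t = 1 := Equiv.ext fun q => Subtype.ext (by rw [← hgx q, hmem]; rfl)
  rw [ht1, orderOf_one] at hto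
  omega

/-- A `(k-2)`-transitive but not `(k-1)`-transitive group, homogeneous on `(k-1)`- and `k`-sets. -/
theorem classify {k : ℕ} (hk : 3 ≤ k) (hkn : k ≤ Fintype.card α) (hE : Ext G (k - 2))
    (hnot : ¬ Ext G (k - 1)) (hH1 : Hom G (k - 1)) (hH : Hom G k) :
    (k = Fintype.card α ∧ G = alternatingGroup α) ∨
      (Fintype.card α = 5 ∧ k = 4 ∧ Nat.card G = 20) ∨
      (Fintype.card α = 6 ∧ k = 5 ∧ Nat.card G = 120) ∨
      (Fintype.card α = 9 ∧ k = 5 ∧ (Nat.card G = 504 ∨ Nat.card G = 1512)) := by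
  classical
  haveI : Nontrivial α := Fintype.one_lt_card_iff_nontrivial.1 (by omega)
  obtain ⟨s1, hs1⟩ := exists_subset_card (α := α) (show k - 1 ≤ Fintype.card α by omega)
  obtain ⟨s2, hs2⟩ := exists_subset_card (α := α) hkn
  have hconst : ∀ m, Hom G m → ∀ s t : Finset α, s.card = m → t.card = m →
      Nat.card (fx G s) = Nat.card (fx G t) := by
    intro m hm s t hs ht
    obtain ⟨g, hg, hgx⟩ := hm s t hs ht
    refine Nat.card_congr ((MulAut.conj g).toEquiv.subtypeEquiv fun h => ?_)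
    show h ∈ fx G s ↔ g * h * g⁻¹ ∈ fx G t
    constructor
    · rintro ⟨hh, hfix⟩
      refine ⟨G.mul_mem (G.mul_mem hg hh) (G.inv_mem hg), fun y hy => ?_⟩
      have hy' : g⁻¹ y ∈ s := (hgx _).1 (by rwa [apply_inv'])
      rw [Equiv.Perm.mul_apply, Equiv.Perm.mul_apply, hfix _ hy', apply_inv']
    · rintro ⟨hh, hfix⟩
      refine ⟨by simpa [mul_assoc] using G.mul_mem (G.mul_mem (G.inv_mem hg) hh) hg, fun x hx => ?_⟩
      have := hfix _ ((hgx x).2 hx)
      rw [Equiv.Perm.mul_apply, Equiv.Perm.mul_apply, inv_apply'] at this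
      exact g.injective this
  have h1 : ∀ s : Finset α, s.card = k - 1 → fx G s = ⊥ := by
    intro s hs
    refine Subgroup.card_eq_one.1 ?_
    rw [hconst _ hH1 s s1 hs hs1]
    by_contra hne
    have hlt : 1 < Nat.card (fx G s1) := by
      have : 0 < Nat.card (fx G s1) := Nat.card_pos
      omega
    exact hnot (ext_of_multiply (S0744.result G (k := k) (by omega) hkn _ _ hlt
      (fun s hs => (card_fixing s).trans (hconst _ hH1 s s1 hs hs1))
      (fun s hs => (card_fixing s).trans (hconst _ hH s s2 hs hs2))))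
  obtain ⟨Γ, hΓ⟩ := exists_subset_card (α := α) (show k - 2 ≤ Fintype.card α by omega)
  have hGe := card_of_ext hE hΓ
  have hGh := card_of_hom hH1 hs1
  have hdvd : (Fintype.card α).choose k ∣ Nat.card G := ⟨_, card_of_hom hH hs2⟩
  set n := Fintype.card α with hn
  set e := Nat.card (fx G Γ) with he
  set h := Nat.card (St G s1) with hh
  have hh24 : h ∣ (k - 1).factorial ∧ h < (k - 1).factorial := by
    obtain ⟨H, hHc, hHm⟩ := induced h1 hs1
    rw [← card_perm_sub hs1, hh, ← hHc]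
    refine ⟨Subgroup.card_subgroup_dvd_card H, ?_⟩
    refine lt_of_le_of_ne (Subgroup.card_le_card_group H) fun heq => ?_
    refine hnot (ext_of_full hH1 hs1 fun σ => (hHm σ).1 ?_)
    rw [Subgroup.eq_top_of_card_eq H heq]
    exact Subgroup.mem_top σ
  have hr : h * (n - (k - 2)) = (k - 1).factorial * e := by
    have e1 := Nat.descFactorial_succ n (k - 2)
    rw [show k - 2 + 1 = k - 1 by omega, Nat.descFactorial_eq_factorial_mul_choose] at e1
    refine Nat.eq_of_mul_eq_mul_left (Nat.choose_pos (show k - 1 ≤ n by omega)) ?_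
    calc n.choose (k - 1) * (h * (n - (k - 2))) = Nat.card G * (n - (k - 2)) := by rw [hGh]; ring
      _ = n.descFactorial (k - 2) * e * (n - (k - 2)) := by rw [hGe]
      _ = ((n - (k - 2)) * n.descFactorial (k - 2)) * e := by ring
      _ = _ := by rw [← e1]; ring
  have hd : (n - (k - 1)) ∣ k * h := by
    obtain ⟨c, hc⟩ := hdvd
    refine ⟨c, Nat.eq_of_mul_eq_mul_left (Nat.choose_pos (show k - 1 ≤ n by omega)) ?_⟩
    have e1 := Nat.choose_succ_right_eq n (k - 1)
    rw [show k - 1 + 1 = k by omega] at e1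
    calc n.choose (k - 1) * (k * h) = k * Nat.card G := by rw [hGh]; ring
      _ = (n.choose k * k) * c := by rw [hc]; ring
      _ = _ := by rw [e1]; ring
  have hhconst : ∀ Δ : Finset α, Δ.card = k - 1 → Nat.card (St G Δ) = h := by
    intro Δ hΔ
    have a := card_of_hom hH1 hΔ
    rw [hGh] at a
    exact (Nat.eq_of_mul_eq_mul_left (Nat.choose_pos (show k - 1 ≤ n by omega)) a).symm
  have heven_half : 4 ≤ k → Even e → h * 2 = (k - 1).factorial → False := by
    intro hk4 hev hhalf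
    have hC : EvenOn G (k - 1) := evenOn_of_half (by omega) h1 fun Δ hΔ => by rw [hhconst Δ hΔ, hhalf]
    haveI : Fact (Nat.Prime 2) := ⟨Nat.prime_two⟩
    obtain ⟨t, ht⟩ := exists_prime_orderOf_dvd_card' (G := fx G Γ) 2 hev.two_dvd
    obtain ⟨x, hx⟩ : ∃ x, (t : Equiv.Perm α) x ≠ x := by
      by_contra! hall
      rw [show t = 1 from Subtype.ext (Equiv.ext hall), orderOf_one] at ht
      omega
    have htt : (t : Equiv.Perm α) ((t : Equiv.Perm α) x) = x := by
      rw [← Equiv.Perm.mul_apply, ← Subgroup.coe_mul, ← pow_two, ← ht, pow_orderOf_eq_one,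
        Subgroup.coe_one, Equiv.Perm.one_apply]
    obtain ⟨T, hT, hTc⟩ := Finset.exists_subset_card_eq (show k - 3 ≤ Γ.card by omega)
    refine no_transp (k := k - 2) (by rw [show k - 2 + 1 = k - 1 by omega]; exact hC) t.2.1 (T := T)
      (by omega) (fun z hz => t.2.2 z (hT hz)) hx.symm rfl htt (fun hm => hx (t.2.2 x (hT hm)))
      (fun hm => hx ?_)
    have h' := t.2.2 _ (hT hm)
    rw [htt] at h'
    exact h'.symm
  have hkcases : k = 3 ∨ k = 4 ∨ k = 5 ∨ 6 ≤ k := by omega
  rcases hkcases with hk3 | hk4 | hk5 | hk6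
  · -- `k = 3`
    subst hk3
    norm_num [Nat.factorial] at hh24 hr hd
    have hpos : 0 < h := by rw [hh]; exact Nat.card_pos
    have hh1 : h = 1 := by omega
    rw [hh1, one_mul] at hr
    rw [hh1, mul_one] at hd
    have hn35 : n = 3 ∨ n = 5 := by
      have hle := Nat.le_of_dvd (by norm_num) hd
      have hn7 : n ≤ 5 := by omega
      interval_cases n <;> omega
    rcases hn35 with h3 | h5
    · left
      refine ⟨h3.symm, Equiv.Perm.eq_alternatingGroup_of_index_eq_two ?_⟩
      have hi := G.card_mul_index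
      rw [hGh, hh1, h3, Nat.card_perm, Nat.card_eq_fintype_card (α := α), ← hn, h3] at hi
      norm_num [Nat.factorial, Nat.choose] at hi
      omega
    · exfalso
      apply hnot
      refine ext_of_multiply ((S0735.result G (pretransitive_of_hom hH1) (by omega)).1 ?_)
      rw [hGh, hh1, h5]
      decide
  · -- `k = 4`
    subst hk4
    norm_num [Nat.factorial] at hh24 hr hd
    have hhb : h < 6 := hh24.2
    have hnb : n < 24 := by
      have hpos : 0 < h := by rw [hh]; exact Nat.card_pos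
      have := Nat.le_of_dvd (by omega) hd
      omega
    have htab := table_four ⟨h, hhb⟩ ⟨n, hnb⟩ hh24.1 (by omega) hd ⟨e, hr⟩
    simp only [List.mem_cons, Prod.mk.injEq, List.not_mem_nil, or_false] at htab
    rcases htab with ⟨hn', hh'⟩ | ⟨hn', hh'⟩ | ⟨hn', hh'⟩ | ⟨hn', hh'⟩
    · refine Or.inr (Or.inl ⟨hn', rfl, ?_⟩)
      rw [hGh, hn', hh']
      decide
    · exfalso
      rw [hn', hh'] at hr
      have he3 : e = 3 := by omega
      have := orbit_three (k := 2) le_rfl h1 hH1 hΓ (by rw [← he, he3]) hs1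
      rw [← hh, hh'] at this
      omega
    · left
      refine ⟨hn'.symm, Equiv.Perm.eq_alternatingGroup_of_index_eq_two ?_⟩
      have hi := G.card_mul_index
      rw [hGh, hh', hn', Nat.card_perm, Nat.card_eq_fintype_card (α := α), ← hn, hn'] at hi
      norm_num [Nat.factorial, Nat.choose] at hi
      omega
    · exfalso
      rw [hn', hh'] at hr
      exact heven_half le_rfl ⟨1, by omega⟩ (by rw [hh']; rfl)
  · -- `k = 5`
    subst hk5
    norm_num [Nat.factorial] at hh24 hr hd
    have hhb : h < 24 := hh24.2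
    have hnb : n < 121 := by
      have hpos : 0 < h := by rw [hh]; exact Nat.card_pos
      have := Nat.le_of_dvd (by omega) hd
      omega
    have htab := table_five ⟨h, hhb⟩ ⟨n, hnb⟩ hh24.1 (by omega) hd ⟨e, hr⟩
    simp only [List.mem_cons, Prod.mk.injEq, List.not_mem_nil, or_false] at htab
    have hsmall : Small G 3 := by
      intro g hg T hT hfix
      obtain ⟨T', hT', hT'c⟩ := Finset.exists_subset_card_eq hT
      have hmem : g ∈ fx G T' := ⟨hg, fun x hx => hfix x (hT' hx)⟩
      rwa [h1 T' hT'c, Subgroup.mem_bot] at hmem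
    have hfew : Even e → n - 3 ≤ 2 * e := fun hev =>
      few_of_even (k := 3) (by norm_num) (by omega) hE hsmall hΓ hev
    rcases htab with ⟨hn', hh'⟩ | ⟨hn', hh'⟩ | ⟨hn', hh'⟩ | ⟨hn', hh'⟩ | ⟨hn', hh'⟩ | ⟨hn', hh'⟩ |
      ⟨hn', hh'⟩ | ⟨hn', hh'⟩ | ⟨hn', hh'⟩ | ⟨hn', hh'⟩ | ⟨hn', hh'⟩ | ⟨hn', hh'⟩
    · -- (19, 3)
      exfalso
      rw [hn', hh'] at hr
      have := hfew ⟨1, by omega⟩
      omega
    · -- (9, 4)
      refine Or.inr (Or.inr (Or.inr ⟨hn', rfl, Or.inl ?_⟩))
      rw [hGh, hn', hh']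
      decide
    · -- (7, 6)
      exfalso
      rw [hn', hh'] at hr
      exact not_seven hn' hE hΓ (show e = 1 by omega) h1 hs1 hh'
    · -- (19, 6)
      exfalso
      rw [hn', hh'] at hr
      have := hfew ⟨2, by omega⟩
      omega
    · -- (6, 8)
      refine Or.inr (Or.inr (Or.inl ⟨hn', rfl, ?_⟩))
      rw [hGh, hn', hh']
      decide
    · -- (9, 8)
      exfalso
      rw [hn', hh'] at hr
      have := hfew ⟨1, by omega⟩
      omega
    · -- (12, 8)
      exfalso
      rw [hn', hh'] at hr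
      have he3 : e = 3 := by omega
      have := orbit_three (k := 3) (by norm_num) h1 hH1 hΓ (by rw [← he, he3]) hs1
      rw [← hh, hh'] at this
      omega
    · -- (24, 8)
      exfalso
      rw [hn', hh'] at hr
      exact not_twentyfour hn' hE h1 hΓ (show e = 7 by omega)
    · -- (5, 12)
      left
      refine ⟨hn'.symm, Equiv.Perm.eq_alternatingGroup_of_index_eq_two ?_⟩
      have hi := G.card_mul_index
      rw [hGh, hh', hn', Nat.card_perm, Nat.card_eq_fintype_card (α := α), ← hn, hn'] at hi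
      norm_num [Nat.factorial, Nat.choose] at hi
      omega
    · -- (7, 12)
      exfalso
      rw [hn', hh'] at hr
      exact heven_half (by norm_num) ⟨1, by omega⟩ (by rw [hh']; rfl)
    · -- (9, 12)
      refine Or.inr (Or.inr (Or.inr ⟨hn', rfl, Or.inr ?_⟩))
      rw [hGh, hn', hh']
      decide
    · -- (19, 12)
      exfalso
      rw [hn', hh'] at hr
      exact heven_half (by norm_num) ⟨4, by omega⟩ (by rw [hh']; rfl)
  · -- `6 ≤ k`
    left
    have hk1 : k - 2 + 1 = k - 1 := by omega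
    have hH1' : Hom G (k - 2 + 1) := by rw [hk1]; exact hH1
    have hnot' : ¬ Ext G (k - 2 + 1) := by rw [hk1]; exact hnot
    have hC := evenOn_of_not_ext (by omega) (by omega) hE hH1' hnot'
    have hdeg := degree_eq (by omega) (by omega) hE hH1' hC
    have hkeq : k = n := by omega
    refine ⟨hkeq, Equiv.Perm.eq_alternatingGroup_of_index_eq_two ?_⟩
    have hcard : n.descFactorial (k - 2) * 2 = n.factorial := by
      rw [← Nat.factorial_mul_descFactorial (show k - 2 ≤ n by omega),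
        show n - (k - 2) = 2 by omega, Nat.factorial_two, mul_comm]
    have hi := G.card_mul_index
    rw [Nat.card_perm, Nat.card_eq_fintype_card (α := α), ← hn, ← hcard, hGe, mul_assoc] at hi
    have hpos : 0 < n.descFactorial (k - 2) := by
      rw [Nat.pos_iff_ne_zero, Ne, Nat.descFactorial_eq_zero_iff_lt]
      omega
    have h2 : e * G.index = 2 := Nat.eq_of_mul_eq_mul_left hpos hi
    by_contra hidx
    have hi1 : G.index = 1 := by
      have hdd : G.index ∣ 2 := ⟨e, by rw [← h2, mul_comm]⟩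
      rcases (Nat.dvd_prime Nat.prime_two).1 hdd with hi' | hi'
      · exact hi'
      · exact absurd hi' hidx
    rw [Subgroup.index_eq_one] at hi1
    exact hnot fun s _ π => ⟨π, hi1 ▸ Subgroup.mem_top π, fun _ _ => rfl⟩

/-- A `k`-homogeneous group of degree at least `2k` is `(k-1)`-transitive. -/
theorem ext_pred : ∀ {k : ℕ}, 2 ≤ k → 2 * k ≤ Fintype.card α → Hom G k → Ext G (k - 1) := by
  intro k
  induction k using Nat.strong_induction_on with
  | _ k ih =>
    intro hk hkn hH
    have hH1 : Hom G (k - 1) := by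
      have := descend (by omega) hH 1 (by omega)
      exact this
    by_cases hk2 : k = 2
    · subst hk2
      intro s hs π
      obtain ⟨x, rfl⟩ := Finset.card_eq_one.1 hs
      obtain ⟨g, hg, hgx⟩ := hH1 {x} {π x} rfl rfl
      refine ⟨g, hg, fun y hy => ?_⟩
      rw [Finset.mem_singleton] at hy
      subst hy
      simpa using (hgx y).2 (Finset.mem_singleton_self y)
    have hE : Ext G (k - 2) := by
      have := ih (k - 1) (by omega) (by omega) (by omega) hH1
      rwa [show k - 1 - 1 = k - 2 by omega] at this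
    by_contra hnot
    rcases classify (by omega) (by omega) hE hnot hH1 hH with ⟨h, -⟩ | ⟨h, h', -⟩ | ⟨h, h', -⟩ | ⟨h, h', -⟩ <;>
      omega

/-- A `k`-homogeneous group with `10 ≤ 2k ≤ n` is `k`-transitive. -/
theorem ext_self {k : ℕ} (hk : 5 ≤ k) (hkn : 2 * k ≤ Fintype.card α) (hH : Hom G k) : Ext G k := by
  by_contra hnot
  have hE : Ext G (k - 1) := ext_pred (by omega) hkn hH
  have hH' : Hom G (k - 1 + 1) := by rwa [show k - 1 + 1 = k by omega]
  have hnot' : ¬ Ext G (k - 1 + 1) := by rwa [show k - 1 + 1 = k by omega]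
  have hC := evenOn_of_not_ext (by omega) (by omega) hE hH' hnot'
  have := degree_eq (by omega) (by omega) hE hH' hC
  omega

end Cfsg.Agent.Perm.HomogTrans
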