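import Mathlib
import Cfsg.Agent.Lib.PGroups.UniqueSubgroup

/-!
Linear groups that are regular on the nonzero vectors: normal subgroups, their invariant
subspaces, and the rings of endomorphisms they give.
-/

set_option autoImplicit false

namespace Cfsg.Agent.Perm.NearField

section Schur

variable {F W : Type*} [Field F] [AddCommGroup W] [Module F W] [Finite W]

/-- Schur and Wedderburn: the centralizer of an irreducible set of endomorphisms is commutative. -/
theorem centralizer_comm [Nontrivial W] (S : Set (Module.End F W))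
    (hirr : ∀ U : Submodule F W, (∀ s ∈ S, ∀ w ∈ U, s w ∈ U) → U = ⊥ ∨ U = ⊤)
    {a b : Module.End F W} (ha : a ∈ Subalgebra.centralizer F S)
    (hb : b ∈ Subalgebra.centralizer F S) : a * b = b * a := by
  haveI : Finite (Module.End F W) := Finite.of_injective (fun f => (f : W → W)) DFunLike.coe_injective
  haveI : NoZeroDivisors (Subalgebra.centralizer F S) := ⟨fun {x y} hxy => by
    by_contra! hcon
    obtain ⟨hx, hy⟩ := hcon
    apply hy
    rcases hirr (LinearMap.ker (x : Module.End F W)) (fun s hs w hw => by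
      have h := Subalgebra.mem_centralizer_iff F |>.1 x.2 s hs
      have h' := LinearMap.congr_fun h w
      simp only [Module.End.mul_apply] at h'
      rw [LinearMap.mem_ker] at hw ⊢
      rw [← h', hw, map_zero]) with h | h
    · refine Subtype.ext (LinearMap.ext fun w => ?_)
      have hw : (x : Module.End F W) ((y : Module.End F W) w) = 0 :=
        LinearMap.congr_fun (congrArg Subtype.val hxy) w
      exact LinearMap.ker_eq_bot'.1 h _ hw
    · exact absurd (Subtype.ext (LinearMap.ker_eq_top.1 h)) hx⟩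
  haveI : IsDomain (Subalgebra.centralizer F S) := NoZeroDivisors.to_isDomain _
  exact congrArg Subtype.val
    ((Finite.isDomain_to_isField (Subalgebra.centralizer F S)).mul_comm ⟨a, ha⟩ ⟨b, hb⟩)

end Schur

variable {p : ℕ} [hp : Fact p.Prime] {V : Type*} [AddCommGroup V] [Module (ZMod p) V]
variable {H : Subgroup (V ≃ₗ[ZMod p] V)}

/-- `H` is regular on the nonzero vectors. -/
def Reg (H : Subgroup (V ≃ₗ[ZMod p] V)) : Prop :=
  ∀ v w : V, v ≠ 0 → w ≠ 0 → ∃! h : H, (h : V ≃ₗ[ZMod p] V) v = w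

/-- The action of `H` as a map to the endomorphism ring. -/
def endH (H : Subgroup (V ≃ₗ[ZMod p] V)) : H →* Module.End (ZMod p) V :=
  LinearEquiv.automorphismGroup.toLinearMapMonoidHom.comp H.subtype

theorem endH_apply (h : H) (v : V) : endH H h v = (h : V ≃ₗ[ZMod p] V) v := rfl

theorem endH_injective : Function.Injective (endH H) := fun a b e =>
  Subtype.ext (LinearEquiv.ext fun v => LinearMap.congr_fun e v)

theorem eq_one_of_fix (hreg : Reg H) {h : H} {v : V} (hv : v ≠ 0)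
    (e : (h : V ≃ₗ[ZMod p] V) v = v) : h = 1 :=
  (hreg v v hv hv).unique e rfl

theorem eq_of_apply_eq (hreg : Reg H) {g h : H} {v : V} (hv : v ≠ 0)
    (e : (g : V ≃ₗ[ZMod p] V) v = (h : V ≃ₗ[ZMod p] V) v) : g = h :=
  (hreg v ((h : V ≃ₗ[ZMod p] V) v) hv (by simpa using hv)).unique e rfl

theorem card_eq [Finite V] [Nontrivial V] (hreg : Reg H) : Nat.card H = Nat.card V - 1 := by
  classical
  obtain ⟨v₀, hv₀⟩ := exists_ne (0 : V)
  have := Fintype.ofFinite V
  rw [Nat.card_eq_of_bijective (fun h : H => (⟨(h : V ≃ₗ[ZMod p] V) v₀, by simpa using hv₀⟩ :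
    {v : V // v ≠ 0})) ⟨fun g h e => eq_of_apply_eq hreg hv₀ (congrArg Subtype.val e), fun w => ?_⟩]
  · rw [Nat.card_eq_fintype_card, Nat.card_eq_fintype_card, Fintype.card_subtype_compl,
      Fintype.card_subtype_eq]
  · obtain ⟨h, hh, -⟩ := hreg v₀ w hv₀ w.2
    exact ⟨h, Subtype.ext hh⟩

/-- `W` is invariant under `A`. -/
def Inv (A : Subgroup H) (W : Submodule (ZMod p) V) : Prop :=
  ∀ a ∈ A, ∀ v ∈ W, ((a : H) : V ≃ₗ[ZMod p] V) v ∈ W

/-- `W` is a minimal nonzero invariant subspace. -/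
def Irr (A : Subgroup H) (W : Submodule (ZMod p) V) : Prop :=
  Inv A W ∧ W ≠ ⊥ ∧ ∀ W', W' ≤ W → Inv A W' → W' = ⊥ ∨ W' = W

variable {A : Subgroup H}

theorem inv_inf {U W : Submodule (ZMod p) V} (hU : Inv A U) (hW : Inv A W) : Inv A (U ⊓ W) :=
  fun a ha v hv => ⟨hU a ha v hv.1, hW a ha v hv.2⟩

theorem inv_sup {U W : Submodule (ZMod p) V} (hU : Inv A U) (hW : Inv A W) : Inv A (U ⊔ W) := by
  intro a ha v hv
  obtain ⟨u, hu, w, hw, rfl⟩ := Submodule.mem_sup.1 hv
  rw [map_add]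
  exact Submodule.add_mem_sup (hU a ha u hu) (hW a ha w hw)

theorem eq_zero_of_inf {U W : Submodule (ZMod p) V} (h : U ⊓ W = ⊥) {v : V} (h1 : v ∈ U)
    (h2 : v ∈ W) : v = 0 := by
  have h3 : v ∈ U ⊓ W := ⟨h1, h2⟩
  rwa [h, Submodule.mem_bot] at h3

theorem Irr.eq_of_mem {U W : Submodule (ZMod p) V} (hU : Irr A U) (hW : Irr A W) {v : V}
    (hv : v ≠ 0) (hvU : v ∈ U) (hvW : v ∈ W) : U = W := by
  have hne : U ⊓ W ≠ ⊥ := fun h => hv (eq_zero_of_inf h hvU hvW)
  have h1 := (hU.2.2 _ inf_le_left (inv_inf hU.1 hW.1)).resolve_left hne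
  have h2 := (hW.2.2 _ inf_le_right (inv_inf hU.1 hW.1)).resolve_left hne
  exact h1.symm.trans h2

theorem exists_irr_le [Finite V] {W₀ : Submodule (ZMod p) V} (h : Inv A W₀) (h0 : W₀ ≠ ⊥) :
    ∃ W, W ≤ W₀ ∧ Irr A W := by
  haveI : Finite (Submodule (ZMod p) V) :=
    Finite.of_injective (fun W => (W : Set V)) SetLike.coe_injective
  obtain ⟨W, ⟨hle, hinv, hne⟩, hmin⟩ := wellFounded_lt.has_min
    {W : Submodule (ZMod p) V | W ≤ W₀ ∧ Inv A W ∧ W ≠ ⊥} ⟨W₀, le_rfl, h, h0⟩
  refine ⟨W, hle, hinv, hne, fun W' hW' hinv' => or_iff_not_imp_left.2 fun hne' => ?_⟩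
  exact (hW'.eq_or_lt).resolve_right (hmin W' ⟨hW'.trans hle, hinv', hne'⟩)

theorem inv_top : Inv A ⊤ := fun _ _ _ _ => Submodule.mem_top

theorem inv_map (hAn : A.Normal) {W : Submodule (ZMod p) V} (hW : Inv A W) (h : H) :
    Inv A (W.map (endH H h)) := by
  rintro a ha _ ⟨w, hw, rfl⟩
  refine ⟨((h⁻¹ * a * h : H) : V ≃ₗ[ZMod p] V) w, hW _ ?_ w hw, ?_⟩
  · simpa using hAn.conj_mem a ha h⁻¹
  · rw [← endH_apply, ← Module.End.mul_apply, ← map_mul, ← endH_apply, ← Module.End.mul_apply,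
      ← map_mul]
    group

theorem irr_map (hAn : A.Normal) {W : Submodule (ZMod p) V} (hW : Irr A W) (h : H) :
    Irr A (W.map (endH H h)) := by
  have hinj : Function.Injective (endH H h) := (h : V ≃ₗ[ZMod p] V).injective
  refine ⟨inv_map hAn hW.1 h, ?_, fun W' hle hinv => ?_⟩
  · intro e
    exact hW.2.1 (Submodule.map_injective_of_injective hinj (e.trans (Submodule.map_bot _).symm))
  · have hback : W'.map (endH H h⁻¹) ≤ W := by
      rintro _ ⟨v, hv, rfl⟩
      obtain ⟨w, hw, rfl⟩ := hle hv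
      rwa [← Module.End.mul_apply, ← map_mul, inv_mul_cancel, map_one, Module.End.one_apply]
    have hW' : (W'.map (endH H h⁻¹)).map (endH H h) = W' := by
      rw [← Submodule.map_comp, ← Module.End.mul_eq_comp, ← map_mul, mul_inv_cancel, map_one]
      exact Submodule.map_id _
    rcases hW.2.2 _ hback (inv_map hAn hinv h⁻¹) with e | e <;> rw [e] at hW'
    · exact Or.inl (hW'.symm.trans (Submodule.map_bot _))
    · exact Or.inr hW'.symm

theorem exists_irr_mem [Finite V] (hreg : Reg H) (hAn : A.Normal) {v : V} (hv : v ≠ 0) :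
    ∃ U, Irr A U ∧ v ∈ U := by
  haveI : Nontrivial V := nontrivial_of_ne v 0 hv
  obtain ⟨W, -, hW⟩ := exists_irr_le (A := A) inv_top top_ne_bot
  obtain ⟨w, hw, hw0⟩ := Submodule.exists_mem_ne_zero_of_ne_bot hW.2.1
  obtain ⟨h, hh, -⟩ := hreg w v hw0 hv
  exact ⟨_, irr_map hAn hW h, w, hw, hh⟩

/-- An invariant proper nonzero subspace misses some irreducible one. -/
theorem exists_irr_disjoint [Finite V] (hreg : Reg H) (hAn : A.Normal) {W : Submodule (ZMod p) V}
    (hW : Irr A W) (htop : W ≠ ⊤) : ∃ U, Irr A U ∧ W ⊓ U = ⊥ := by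
  obtain ⟨v, hv⟩ : ∃ v, v ∉ W := by
    by_contra! h
    exact htop (eq_top_iff.2 fun v _ => h v)
  have hv0 : v ≠ 0 := fun e => hv (e ▸ W.zero_mem)
  obtain ⟨U, hU, hvU⟩ := exists_irr_mem hreg hAn hv0
  refine ⟨U, hU, ?_⟩
  by_contra hne
  obtain ⟨x, hx, hx0⟩ := Submodule.exists_mem_ne_zero_of_ne_bot hne
  exact hv (Irr.eq_of_mem hW hU hx0 hx.1 hx.2 ▸ hvU)

/-! ### The ring of a commutative normal subgroup -/

/-- The algebra spanned by `A`. -/
def alg (A : Subgroup H) : Subalgebra (ZMod p) (Module.End (ZMod p) V) :=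
  Algebra.adjoin (ZMod p) (endH H '' (A : Set H))

theorem alg_mem (a : H) (ha : a ∈ A) : endH H a ∈ alg A :=
  Algebra.subset_adjoin ⟨a, ha, rfl⟩

theorem alg_inv {W : Submodule (ZMod p) V} (hW : Inv A W) {r : Module.End (ZMod p) V}
    (hr : r ∈ alg A) : ∀ w ∈ W, r w ∈ W := by
  induction hr using Algebra.adjoin_induction with
  | mem x hx => obtain ⟨a, ha, rfl⟩ := hx; exact hW a ha
  | algebraMap c => intro w hw; rw [Module.algebraMap_end_apply]; exact W.smul_mem c hw
  | add x y _ _ hx hy => intro w hw; exact W.add_mem (hx w hw) (hy w hw)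
  | mul x y _ _ hx hy => intro w hw; exact hx _ (hy w hw)

theorem alg_comm (hAc : IsMulCommutative A) {r s : Module.End (ZMod p) V} (hr : r ∈ alg A)
    (hs : s ∈ alg A) : r * s = s * r := by
  have h1 : alg A ≤ Subalgebra.centralizer (ZMod p) (endH H '' (A : Set H)) := by
    refine Algebra.adjoin_le ?_
    rintro _ ⟨b, hb, rfl⟩
    rw [SetLike.mem_coe, Subalgebra.mem_centralizer_iff]
    rintro _ ⟨a, ha, rfl⟩
    rw [← map_mul, ← map_mul]
    exact congrArg (endH H) (congrArg Subtype.val (hAc.is_comm.comm (⟨a, ha⟩ : A) ⟨b, hb⟩))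
  have h2 : alg A ≤ Subalgebra.centralizer (ZMod p) (alg A : Set (Module.End (ZMod p) V)) := by
    refine Algebra.adjoin_le ?_
    intro x hx
    rw [SetLike.mem_coe, Subalgebra.mem_centralizer_iff]
    intro y hy
    exact (Subalgebra.mem_centralizer_iff _ |>.1 (h1 hy) x hx).symm
  exact (Subalgebra.mem_centralizer_iff _ |>.1 (h2 hs) r hr)

theorem alg_kernel_inv (hAc : IsMulCommutative A) {r : Module.End (ZMod p) V} (hr : r ∈ alg A) :
    Inv A (LinearMap.ker r) := by
  intro a ha v hv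
  have h := LinearMap.congr_fun (alg_comm hAc hr (alg_mem a ha)) v
  simp only [Module.End.mul_apply, endH_apply] at h
  rw [LinearMap.mem_ker] at hv ⊢
  rw [h, hv, map_zero]

theorem alg_injective [Finite V] (hreg : Reg H) (hAn : A.Normal) (hAc : IsMulCommutative A)
    {r : Module.End (ZMod p) V} (hr : r ∈ alg A) (hr0 : r ≠ 0) {w : V} (hw : r w = 0) : w = 0 := by
  by_contra hw0
  obtain ⟨v, hv⟩ : ∃ v, r v ≠ 0 := by
    by_contra! h
    exact hr0 (LinearMap.ext h)
  have hv0 : v ≠ 0 := fun e => hv (by rw [e, map_zero])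
  have hwv : w + v ≠ 0 := fun e => hv (by
    have := congrArg r e
    rwa [map_add, hw, zero_add, map_zero] at this)
  obtain ⟨U, hU, hvU⟩ := exists_irr_mem hreg hAn hv0
  obtain ⟨U', hU', hwvU⟩ := exists_irr_mem hreg hAn hwv
  have hrv : r (w + v) = r v := by rw [map_add, hw, zero_add]
  have heq : U' = U := Irr.eq_of_mem hU' hU hv (hrv ▸ alg_inv hU'.1 hr _ hwvU)
    (alg_inv hU.1 hr _ hvU)
  have hwU : w ∈ U := by
    have := U.sub_mem (heq ▸ hwvU) hvU
    rwa [add_sub_cancel_right] at this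
  rcases hU.2.2 (U ⊓ LinearMap.ker r) inf_le_left (inv_inf hU.1 (alg_kernel_inv hAc hr)) with e | e
  · exact hw0 (eq_zero_of_inf e hwU hw)
  · exact hv (e.symm ▸ hvU : v ∈ U ⊓ LinearMap.ker r).2

theorem alg_isDomain [Finite V] [Nontrivial V] (hreg : Reg H) (hAn : A.Normal)
    (hAc : IsMulCommutative A) : IsDomain (alg A) := by
  haveI : NoZeroDivisors (alg A) := ⟨fun {x y} hxy => or_iff_not_imp_left.2 fun hx =>
    Subtype.ext (LinearMap.ext fun w => alg_injective hreg hAn hAc x.2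
      (fun e => hx (Subtype.ext e)) (LinearMap.congr_fun (congrArg Subtype.val hxy) w))⟩
  exact NoZeroDivisors.to_isDomain _

/-- The algebra is a copy of any irreducible subspace. -/
theorem card_alg [Finite V] (hreg : Reg H) (hAn : A.Normal) (hAc : IsMulCommutative A)
    {W : Submodule (ZMod p) V} (hW : Irr A W) : Nat.card (alg A) = Nat.card W := by
  obtain ⟨w₀, hw₀, hw0⟩ := Submodule.exists_mem_ne_zero_of_ne_bot hW.2.1
  refine Nat.card_eq_of_bijective (fun r => ⟨r.1 w₀, alg_inv hW.1 r.2 _ hw₀⟩) ⟨?_, ?_⟩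
  · intro r s e
    have e' : (r.1 - s.1) w₀ = 0 := by
      rw [LinearMap.sub_apply, sub_eq_zero]; exact congrArg Subtype.val e
    by_contra hne
    exact hw0 (alg_injective hreg hAn hAc ((alg A).sub_mem r.2 s.2)
      (sub_ne_zero.2 fun h => hne (Subtype.ext h)) e')
  · let R : Submodule (ZMod p) V :=
      (Subalgebra.toSubmodule (alg A)).map
      (LinearMap.applyₗ (R := ZMod p) (M := V) (M₂ := V) w₀)
    have hR : Inv A R := by
      rintro a ha _ ⟨r, hr, rfl⟩
      exact ⟨endH H a * r, (alg A).mul_mem (alg_mem a ha) hr, rfl⟩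
    have hle : R ≤ W := by
      rintro _ ⟨r, hr, rfl⟩
      exact alg_inv hW.1 hr _ hw₀
    rcases hW.2.2 R hle hR with e | e
    · refine absurd ((Submodule.mem_bot (ZMod p)).1 ?_) hw0
      rw [← e]
      exact ⟨1, (alg A).one_mem, rfl⟩
    · intro w
      obtain ⟨r, hr, hrw⟩ := (e.symm ▸ w.2 : (w : V) ∈ R)
      exact ⟨⟨r, hr⟩, Subtype.ext hrw⟩

/-- `A` as a map into its algebra. -/
def toAlg (A : Subgroup H) : A →* alg A where
  toFun a := ⟨endH H (a : H), alg_mem _ a.2⟩
  map_one' := Subtype.ext (map_one _)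
  map_mul' a b := Subtype.ext (map_mul (endH H) (a : H) (b : H))

theorem toAlg_injective : Function.Injective (toAlg A) := fun _ _ e =>
  Subtype.ext (endH_injective (congrArg Subtype.val e))

theorem finite_H [Finite V] : Finite H :=
  Finite.of_injective (fun h : H => ((h : V ≃ₗ[ZMod p] V) : V → V)) fun a b e =>
    Subtype.ext (LinearEquiv.ext (congrFun e))

theorem finite_end [Finite V] : Finite (Module.End (ZMod p) V) :=
  Finite.of_injective (fun f => (f : V → V)) DFunLike.coe_injective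

theorem isCyclic_of_comm [Finite V] [Nontrivial V] (hreg : Reg H) (hAn : A.Normal)
    (hAc : IsMulCommutative A) : IsCyclic A := by
  haveI := finite_H (H := H)
  letI : CommRing (alg A) :=
    { (inferInstance : Ring (alg A)) with
      mul_comm := fun x y => Subtype.ext (alg_comm hAc x.2 y.2) }
  haveI : IsDomain (alg A) := alg_isDomain hreg hAn hAc
  exact isCyclic_of_subgroup_isDomain (toAlg A) toAlg_injective

theorem card_dvd [Finite V] (hreg : Reg H) (hAn : A.Normal) (hAc : IsMulCommutative A)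
    {W : Submodule (ZMod p) V} (hW : Irr A W) :
    Nat.card A ∣ p ^ Module.finrank (ZMod p) W - 1 := by
  haveI := finite_end (p := p) (V := V)
  obtain ⟨w, -, hw0⟩ := Submodule.exists_mem_ne_zero_of_ne_bot hW.2.1
  haveI : Nontrivial V := nontrivial_of_ne w 0 hw0
  haveI : IsDomain (alg A) := alg_isDomain hreg hAn hAc
  have h := card_alg hreg hAn hAc hW
  rw [Module.natCard_eq_pow_finrank (K := ZMod p) (V := W), Nat.card_zmod] at h
  have hf := Finite.isDomain_to_isField (alg A)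
  have hu : Nat.card (alg A)ˣ = Nat.card (alg A) - 1 := by
    classical
    have := Fintype.ofFinite (alg A)
    rw [Nat.card_eq_of_bijective (fun u => (⟨u.1, u.ne_zero⟩ : {r : alg A // r ≠ 0}))
      ⟨fun u v e => Units.ext (congrArg Subtype.val e), fun r => ?_⟩]
    · rw [Nat.card_eq_fintype_card, Nat.card_eq_fintype_card, Fintype.card_subtype_compl,
        Fintype.card_subtype_eq]
    · obtain ⟨s, hs⟩ := hf.mul_inv_cancel r.2
      exact ⟨⟨r.1, s, hs, by rw [hf.mul_comm, hs]⟩, rfl⟩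
  rw [card_alg hreg hAn hAc hW, Module.natCard_eq_pow_finrank (K := ZMod p) (V := W),
    Nat.card_zmod] at hu
  rw [← hu]
  exact Subgroup.card_dvd_of_injective (toAlg A).toHomUnits fun a b e =>
    toAlg_injective (congrArg Units.val e)

theorem two_mul_le [Finite V] (hreg : Reg H) (hAn : A.Normal) (hAc : IsMulCommutative A)
    {W : Submodule (ZMod p) V} (hW : Irr A W) (htop : W ≠ ⊤) :
    2 * Module.finrank (ZMod p) W ≤ Module.finrank (ZMod p) V := by
  obtain ⟨U, hU, hd⟩ := exists_irr_disjoint hreg hAn hW htop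
  have hUW : Module.finrank (ZMod p) U = Module.finrank (ZMod p) W := by
    have h := (card_alg hreg hAn hAc hU).symm.trans (card_alg hreg hAn hAc hW)
    rw [Module.natCard_eq_pow_finrank (K := ZMod p) (V := U),
      Module.natCard_eq_pow_finrank (K := ZMod p) (V := W), Nat.card_zmod] at h
    exact Nat.pow_right_injective hp.out.two_le h
  have h1 := Submodule.finrank_sup_add_finrank_inf_eq W U
  rw [hd, finrank_bot, add_zero, hUW] at h1
  have h2 := Submodule.finrank_le (W ⊔ U)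
  omega

/-- The conjugation action on the algebra of `A` has few images. -/
theorem card_le_galois [Finite V] (hreg : Reg H) (hAn : A.Normal) (hAc : IsMulCommutative A)
    {W : Submodule (ZMod p) V} (hW : Irr A W) :
    Nat.card H ≤ Module.finrank (ZMod p) W * Nat.card (Subgroup.centralizer (A : Set H)) := by
  classical
  haveI := finite_end (p := p) (V := V)
  haveI := finite_H (H := H)
  obtain ⟨w₀, -, hw0⟩ := Submodule.exists_mem_ne_zero_of_ne_bot hW.2.1
  haveI : Nontrivial V := nontrivial_of_ne w₀ 0 hw0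
  letI : CommRing (alg A) :=
    { (inferInstance : Ring (alg A)) with
      mul_comm := fun x y => Subtype.ext (alg_comm hAc x.2 y.2) }
  haveI : IsDomain (alg A) := alg_isDomain hreg hAn hAc
  have := Fintype.ofFinite (alg A)
  letI : Field (alg A) := Fintype.fieldOfDomain (alg A)
  have hmem : ∀ (h : H) (r : Module.End (ZMod p) V), r ∈ alg A →
      endH H h * r * endH H h⁻¹ ∈ alg A := by
    intro h r hr
    induction hr using Algebra.adjoin_induction with
    | mem x hx =>
      obtain ⟨a, ha, rfl⟩ := hx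
      rw [← map_mul, ← map_mul]
      exact alg_mem _ (hAn.conj_mem a ha h)
    | algebraMap c =>
      rw [← Algebra.commutes, mul_assoc, ← map_mul, mul_inv_cancel, map_one, mul_one]
      exact (alg A).algebraMap_mem c
    | add x y _ _ hx hy => rw [mul_add, add_mul]; exact add_mem hx hy
    | mul x y _ _ hx hy =>
      convert mul_mem hx hy using 1
      have e : endH H h⁻¹ * endH H h = 1 := by rw [← map_mul, inv_mul_cancel, map_one]
      simp only [mul_assoc]
      rw [← mul_assoc (endH H h⁻¹) (endH H h), e, one_mul]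
  let φ : H → (alg A →ₐ[ZMod p] alg A) := fun h =>
    { toFun := fun r => ⟨_, hmem h r r.2⟩
      map_one' := Subtype.ext (by simp [← map_mul])
      map_zero' := Subtype.ext (by simp)
      map_add' := fun r s => Subtype.ext (by simp [mul_add, add_mul])
      map_mul' := fun r s => Subtype.ext (by
        have e : endH H h⁻¹ * endH H h = 1 := by rw [← map_mul, inv_mul_cancel, map_one]
        simp only [Subalgebra.coe_mul, mul_assoc]
        rw [← mul_assoc (endH H h⁻¹) (endH H h), e, one_mul])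
      commutes' := fun c => Subtype.ext (by
        simp only [Subalgebra.coe_algebraMap]
        rw [← Algebra.commutes, mul_assoc, ← map_mul, mul_inv_cancel, map_one, mul_one]) }
  set C := Subgroup.centralizer (A : Set H) with hC
  have hker : ∀ g h, φ g = φ h → h⁻¹ * g ∈ C := by
    intro g h e
    rw [Subgroup.mem_centralizer_iff]
    intro a ha
    have e1 := congrArg Subtype.val (DFunLike.congr_fun e (⟨endH H a, alg_mem a ha⟩ : alg A))
    change endH H g * endH H a * endH H g⁻¹ = endH H h * endH H a * endH H h⁻¹ at e1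
    rw [← map_mul, ← map_mul, ← map_mul, ← map_mul] at e1
    have e2 := endH_injective e1
    calc a * (h⁻¹ * g) = h⁻¹ * (h * a * h⁻¹) * g := by group
      _ = h⁻¹ * (g * a * g⁻¹) * g := by rw [e2]
      _ = h⁻¹ * g * a := by group
  have hq : Nat.card (H ⧸ C) ≤ Nat.card (alg A →ₐ[ZMod p] alg A) := by
    refine Nat.card_le_card_of_injective (fun q => φ q.out) fun q q' e => ?_
    rw [← q.out_eq, ← q'.out_eq]
    exact (QuotientGroup.eq.2 (hker _ _ e)).symm
  have hfr : Module.finrank (ZMod p) (alg A) = Module.finrank (ZMod p) W := by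
    have h := card_alg hreg hAn hAc hW
    rw [Module.natCard_eq_pow_finrank (K := ZMod p) (V := alg A),
      Module.natCard_eq_pow_finrank (K := ZMod p) (V := W), Nat.card_zmod] at h
    exact Nat.pow_right_injective hp.out.two_le h
  rw [Subgroup.card_eq_card_quotient_mul_card_subgroup C]
  refine Nat.mul_le_mul_right _ (hq.trans ?_)
  rw [Nat.card_eq_fintype_card, ← hfr]
  exact AlgHom.card_le

/-! ### Nonabelian normal subgroups are irreducible -/

variable {N : Subgroup H}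

theorem irreducible_of_not_comm [Finite V] (hreg : Reg H) (hNn : N.Normal)
    (hna : ¬ IsMulCommutative N) {W : Submodule (ZMod p) V} (hW : Inv N W) (hne : W ≠ ⊥) :
    W = ⊤ := by
  by_contra htop
  obtain ⟨W₁, hle, hW₁⟩ := exists_irr_le hW hne
  have htop₁ : W₁ ≠ ⊤ := fun e => htop (eq_top_iff.2 (e ▸ hle))
  obtain ⟨U, hU, hd⟩ := exists_irr_disjoint hreg hNn hW₁ htop₁
  apply hna
  obtain ⟨a₀, ha₀, ha0⟩ := Submodule.exists_mem_ne_zero_of_ne_bot hW₁.2.1
  obtain ⟨b₀, hb₀, hb0⟩ := Submodule.exists_mem_ne_zero_of_ne_bot hU.2.1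
  have hdisj : ∀ x, x ∈ W₁ → x ∈ U → x = 0 := fun x h1 h2 =>
    eq_zero_of_inf hd h1 h2
  -- every pair of vectors is linked by an irreducible subspace
  have hlink : ∀ a ∈ W₁, ∀ b ∈ U, a ≠ 0 → b ≠ 0 → ∃ T, Irr N T ∧ T ≤ W₁ ⊔ U ∧ a + b ∈ T ∧
      (∀ x ∈ T, x ∈ W₁ → x = 0) ∧ (∀ x ∈ T, x ∈ U → x = 0) := by
    intro a ha b hb ha' hb'
    have hne' : a + b ≠ 0 := fun e => ha' (hdisj a ha (by
      rw [eq_neg_of_add_eq_zero_left e]; exact U.neg_mem hb))
    obtain ⟨T, hT, habT⟩ := exists_irr_mem hreg hNn hne'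
    have hsup : a + b ∈ W₁ ⊔ U := Submodule.add_mem_sup ha hb
    refine ⟨T, hT, ?_, habT, fun x hx hx1 => ?_, fun x hx hx1 => ?_⟩
    · rcases hT.2.2 _ inf_le_left (inv_inf hT.1 (inv_sup hW₁.1 hU.1)) with e | e
      · exact absurd (eq_zero_of_inf e habT hsup) hne'
      · exact e ▸ inf_le_right
    · by_contra hx0
      rw [Irr.eq_of_mem hT hW₁ hx0 hx hx1] at habT
      have h2 := W₁.sub_mem habT ha
      rw [add_sub_cancel_left] at h2
      exact hb' (hdisj b h2 hb)
    · by_contra hx0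
      rw [Irr.eq_of_mem hT hU hx0 hx hx1] at habT
      have h2 := U.sub_mem habT hb
      rw [add_sub_cancel_right] at h2
      exact ha' (hdisj a ha h2)
  -- hence the centralizer of `N` on `W₁` is transitive
  have htrans : ∀ a ∈ W₁, a ≠ 0 → ∃ ψ : Module.End (ZMod p) W₁,
      (∀ n ∈ N, ∀ (x : W₁) (y : W₁), (y : V) = endH H n x → (ψ y : V) = endH H n (ψ x)) ∧
      (ψ ⟨a₀, ha₀⟩ : V) = a := by
    intro a ha ha'
    obtain ⟨T₁, hT₁, hT₁le, hT₁m, hT₁W, hT₁U⟩ := hlink a₀ ha₀ b₀ hb₀ ha0 hb0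
    obtain ⟨T₂, hT₂, hT₂le, hT₂m, hT₂W, hT₂U⟩ := hlink a ha b₀ hb₀ ha' hb0
    -- pairs `(x, z)` that meet over a common vector of `U`
    let Γ : Submodule (ZMod p) (W₁ × W₁) :=
      { carrier := {q | ∃ y ∈ U, (q.1 : V) + y ∈ T₁ ∧ (q.2 : V) + y ∈ T₂}
        zero_mem' := ⟨0, U.zero_mem, by simp, by simp⟩
        add_mem' := by
          rintro q q' ⟨y, hy, h1, h2⟩ ⟨y', hy', h1', h2'⟩
          refine ⟨y + y', U.add_mem hy hy', ?_, ?_⟩
          · simpa [add_add_add_comm] using T₁.add_mem h1 h1'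
          · simpa [add_add_add_comm] using T₂.add_mem h2 h2'
        smul_mem' := by
          rintro c q ⟨y, hy, h1, h2⟩
          exact ⟨c • y, U.smul_mem c hy, by simpa [smul_add] using T₁.smul_mem c h1,
            by simpa [smul_add] using T₂.smul_mem c h2⟩ }
    have huniq : ∀ x z z', (x, z) ∈ Γ → (x, z') ∈ Γ → z = z' := by
      rintro x z z' ⟨y, hy, h1, h2⟩ ⟨y', hy', h1', h2'⟩
      have hy' : y = y' := by
        have h3 := T₁.sub_mem h1 h1'
        rw [add_sub_add_left_eq_sub] at h3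
        exact sub_eq_zero.1 (hT₁U _ h3 (U.sub_mem hy hy'))
      subst hy'
      have h3 := T₂.sub_mem h2 h2'
      rw [add_sub_add_right_eq_sub] at h3
      exact Subtype.ext (sub_eq_zero.1 (hT₂W _ h3 (W₁.sub_mem z.2 z'.2)))
    have hequi : ∀ n ∈ N, ∀ x z x' z' : W₁, (x' : V) = endH H n x → (z' : V) = endH H n z →
        (x, z) ∈ Γ → (x', z') ∈ Γ := by
      rintro n hn x z x' z' hx hz ⟨y, hy, h1, h2⟩
      refine ⟨_, hU.1 n hn y hy, ?_, ?_⟩
      · have := hT₁.1 n hn _ h1
        rw [map_add, ← endH_apply, ← hx] at this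
        exact this
      · have := hT₂.1 n hn _ h2
        rw [map_add, ← endH_apply, ← hz] at this
        exact this
    let P : Submodule (ZMod p) W₁ := Γ.map (LinearMap.fst (ZMod p) W₁ W₁)
    have hP : P = ⊤ := by
      have hinv : Inv N (P.map W₁.subtype) := by
        rintro n hn _ ⟨x, ⟨⟨x, z⟩, hq, rfl⟩, rfl⟩
        exact ⟨⟨_, hW₁.1 n hn _ x.2⟩, ⟨⟨_, ⟨_, hW₁.1 n hn _ z.2⟩⟩,
          hequi n hn x z _ _ rfl rfl hq, rfl⟩, rfl⟩
      rcases hW₁.2.2 _ (Submodule.map_subtype_le W₁ P) hinv with e | e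
      · refine absurd ?_ ha0
        have : a₀ ∈ P.map W₁.subtype :=
          ⟨⟨a₀, ha₀⟩, ⟨(⟨a₀, ha₀⟩, ⟨a, ha⟩), ⟨b₀, hb₀, hT₁m, hT₂m⟩, rfl⟩, rfl⟩
        rw [e] at this
        exact (Submodule.mem_bot _).1 this
      · refine Submodule.map_injective_of_injective W₁.injective_subtype (e.trans ?_)
        rw [Submodule.map_top, Submodule.range_subtype]
    have hex : ∀ x : W₁, ∃ z, (x, z) ∈ Γ := fun x => by
      obtain ⟨⟨x', z⟩, hq, e⟩ := (hP ▸ Submodule.mem_top : x ∈ P)
      exact ⟨z, (show x' = x from e) ▸ hq⟩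
    choose f hf using hex
    refine ⟨{ toFun := f
              map_add' := fun x y => huniq _ _ _ (hf (x + y)) (Γ.add_mem (hf x) (hf y))
              map_smul' := fun c x => huniq _ _ _ (hf (c • x)) (Γ.smul_mem c (hf x)) }, ?_, ?_⟩
    · intro n hn x y hy
      exact congrArg Subtype.val (huniq y (f y) ⟨_, hW₁.1 n hn _ (f x).2⟩ (hf y)
        (hequi n hn x (f x) _ _ hy rfl (hf x)))
    · exact congrArg Subtype.val
        (huniq ⟨a₀, ha₀⟩ (f _) ⟨a, ha⟩ (hf _) ⟨b₀, hb₀, hT₁m, hT₂m⟩)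
  haveI : Nontrivial W₁ := nontrivial_of_ne ⟨a₀, ha₀⟩ 0 fun e => ha0 (congrArg Subtype.val e)
  let res : N → Module.End (ZMod p) W₁ := fun n => (endH H n).restrict fun x hx => hW₁.1 n n.2 x hx
  have hirr : ∀ S : Submodule (ZMod p) W₁, (∀ s ∈ Set.range res, ∀ w ∈ S, s w ∈ S) →
      S = ⊥ ∨ S = ⊤ := by
    intro S hS
    have hinv : Inv N (S.map W₁.subtype) := by
      rintro n hn _ ⟨x, hx, rfl⟩
      exact ⟨res ⟨n, hn⟩ x, hS _ ⟨_, rfl⟩ x hx, rfl⟩
    refine (hW₁.2.2 _ (Submodule.map_subtype_le W₁ S) hinv).imp (fun e => ?_) fun e => ?_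
    · exact Submodule.map_injective_of_injective W₁.injective_subtype
        (e.trans (Submodule.map_bot _).symm)
    · refine Submodule.map_injective_of_injective W₁.injective_subtype (e.trans ?_)
      rw [Submodule.map_top, Submodule.range_subtype]
  refine ⟨⟨fun n m => Subtype.ext (eq_of_apply_eq hreg ha0 ?_)⟩⟩
  -- the images of `a₀` under `n` and `m` come from commuting maps
  obtain ⟨ψn, hψn, hψn0⟩ := htrans (endH H n a₀) (hW₁.1 n n.2 _ ha₀) (by simpa [endH_apply] using ha0)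
  obtain ⟨ψm, hψm, hψm0⟩ := htrans (endH H m a₀) (hW₁.1 m m.2 _ ha₀) (by simpa [endH_apply] using ha0)
  have hc : ∀ ψ : Module.End (ZMod p) W₁,
      (∀ k ∈ N, ∀ (x : W₁) (y : W₁), (y : V) = endH H k x → (ψ y : V) = endH H k (ψ x)) →
      ψ ∈ Subalgebra.centralizer (ZMod p) (Set.range res) := by
    intro ψ hψ
    rw [Subalgebra.mem_centralizer_iff]
    rintro _ ⟨k, rfl⟩
    refine LinearMap.ext fun x => Subtype.ext ?_
    exact (hψ k k.2 x (res k x) rfl).symm
  have hcomm := LinearMap.congr_fun (centralizer_comm _ hirr (hc _ hψn) (hc _ hψm)) ⟨a₀, ha₀⟩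
  have e1 : ∀ (k : N) (ψ : Module.End (ZMod p) W₁),
      (∀ j ∈ N, ∀ (x : W₁) (y : W₁), (y : V) = endH H j x → (ψ y : V) = endH H j (ψ x)) →
      ((ψ ⟨endH H k a₀, hW₁.1 k k.2 _ ha₀⟩ : W₁) : V) = endH H k (ψ ⟨a₀, ha₀⟩) :=
    fun k ψ hψ => hψ k k.2 _ _ rfl
  have hn' : ψn ⟨a₀, ha₀⟩ = ⟨endH H n a₀, hW₁.1 n n.2 _ ha₀⟩ := Subtype.ext hψn0
  have hm' : ψm ⟨a₀, ha₀⟩ = ⟨endH H m a₀, hW₁.1 m m.2 _ ha₀⟩ := Subtype.ext hψm0
  have h1 := congrArg Subtype.val hcomm
  simp only [Module.End.mul_apply] at h1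
  rw [hm', hn', e1 m ψn hψn, e1 n ψm hψm, hψn0, hψm0] at h1
  exact h1.symm

theorem centralizer_comm_of_not_comm [Finite V] [Nontrivial V] (hreg : Reg H) (hNn : N.Normal)
    (hna : ¬ IsMulCommutative N) : IsMulCommutative (Subgroup.centralizer (N : Set H)) := by
  have hc : ∀ c ∈ Subgroup.centralizer (N : Set H),
      endH H c ∈ Subalgebra.centralizer (ZMod p) (endH H '' (N : Set H)) := by
    intro c hc
    rw [Subalgebra.mem_centralizer_iff]
    rintro _ ⟨n, hn, rfl⟩
    rw [← map_mul, ← map_mul, Subgroup.mem_centralizer_iff.1 hc n hn]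
  refine ⟨⟨fun c d => Subtype.ext (endH_injective ?_)⟩⟩
  rw [Subgroup.coe_mul, Subgroup.coe_mul, map_mul, map_mul]
  refine centralizer_comm _ (fun U hU => or_iff_not_imp_left.2 fun hne => ?_) (hc _ c.2) (hc _ d.2)
  exact irreducible_of_not_comm hreg hNn hna (fun n hn v hv => hU _ ⟨n, hn, rfl⟩ v hv) hne

end Cfsg.Agent.Perm.NearField
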