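import Mathlib

/-!
# The automorphism group of the quaternion group of order eight has order 24
-/

set_option autoImplicit false

namespace Cfsg.Agent.Perm.AutQuaternion

/-- the possible images of the standard generators -/
def Good (p : QuaternionGroup 2 × QuaternionGroup 2) : Prop :=
  p.1 * p.1 = .a 2 ∧ p.2 * p.2 = .a 2 ∧ p.1 * p.2 ≠ p.2 * p.1

instance : DecidablePred Good := fun _ => inferInstanceAs (Decidable (_ ∧ _ ∧ _))

/-- the map with given images of the generators -/
def ext (p : QuaternionGroup 2 × QuaternionGroup 2) : QuaternionGroup 2 → QuaternionGroup 2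
  | .a i => p.1 ^ i.val
  | .xa i => p.2 * p.1 ^ i.val

theorem ext_mul : ∀ p, Good p → ∀ x y, ext p (x * y) = ext p x * ext p y := by decide +kernel

theorem ext_inj : ∀ p, Good p → ∀ x, ext p x = 1 → x = 1 := by decide +kernel

theorem two_unique : ∀ x : QuaternionGroup 2, x * x = 1 → x ≠ 1 → x = .a 2 := by decide +kernel

/-- the automorphism with given images -/
noncomputable def auto (p : QuaternionGroup 2 × QuaternionGroup 2) (h : Good p) :
    MulAut (QuaternionGroup 2) :=
  MulEquiv.ofBijective (MonoidHom.mk' (ext p) (ext_mul p h))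
    (Finite.injective_iff_bijective.1 ((injective_iff_map_eq_one _).2 (ext_inj p h)))

theorem good_image (φ : MulAut (QuaternionGroup 2)) : Good (φ (.a 1), φ (.xa 0)) := by
  have hz : φ (.a 2) = .a 2 := two_unique _
    (by rw [← map_mul, show QuaternionGroup.a 2 * QuaternionGroup.a 2 = (1 : QuaternionGroup 2) from
      by decide, map_one])
    (fun e => absurd ((MulEquiv.map_eq_one_iff φ).1 e) (by decide))
  refine ⟨?_, ?_, fun e => ?_⟩
  · rw [← map_mul, show QuaternionGroup.a 1 * QuaternionGroup.a 1 = (.a 2 : QuaternionGroup 2) from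
      by decide, hz]
  · rw [← map_mul, show QuaternionGroup.xa 0 * QuaternionGroup.xa 0 = (.a 2 : QuaternionGroup 2) from
      by decide, hz]
  · rw [← map_mul, ← map_mul] at e
    exact absurd (φ.injective e) (by decide)

theorem natCard_mulAut : Nat.card (MulAut (QuaternionGroup 2)) = 24 := by
  let e : MulAut (QuaternionGroup 2) ≃ {p // Good p} :=
    { toFun := fun φ => ⟨(φ (.a 1), φ (.xa 0)), good_image φ⟩
      invFun := fun p => auto p.1 p.2
      left_inv := fun φ => MulEquiv.ext fun x => by
        show ext (φ (.a 1), φ (.xa 0)) x = φ x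
        cases x with
        | a i => rw [ext, ← map_pow, QuaternionGroup.a_one_pow, ZMod.natCast_val, ZMod.cast_id]
        | xa i => rw [ext, ← map_pow, ← map_mul, QuaternionGroup.a_one_pow, ZMod.natCast_val,
            ZMod.cast_id, QuaternionGroup.xa_mul_a, zero_add]
      right_inv := fun p => Subtype.ext (Prod.ext
        (by show ext p.1 (.a 1) = _; exact pow_one _)
        (by show ext p.1 (.xa 0) = _; exact (congrArg _ (pow_zero _)).trans (mul_one _))) }
  rw [Nat.card_congr e, Nat.card_eq_fintype_card]
  decide +kernel

end Cfsg.Agent.Perm.AutQuaternion
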