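import Mathlib
import Cfsg.Agent.Lib.Perm.NearField
import Cfsg.Agent.Lib.CharTheory.BrauerSuzuki.Complement

/-!
Minimal nonabelian normal subgroups of a regular linear group in the solvable case: they are
quaternion of order 8, and force the dimension 2.
-/

set_option autoImplicit false

namespace Cfsg.Agent.Perm.NearField

variable {p : ℕ} [hp : Fact p.Prime] {V : Type*} [AddCommGroup V] [Module (ZMod p) V]
variable {H : Subgroup (V ≃ₗ[ZMod p] V)}

/-- An abelian subgroup is cyclic, normal or not. -/
theorem isCyclic_of_abelian [Finite V] [Nontrivial V] (hreg : Reg H) (K : Subgroup H)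
    (hK : IsMulCommutative K) : IsCyclic K := by
  haveI := finite_H (H := H)
  obtain ⟨W, -, hW⟩ := exists_irr_le (A := K) inv_top top_ne_bot
  haveI : Nontrivial W := Submodule.nontrivial_iff_ne_bot.2 hW.2.1
  let res : K →* Module.End (ZMod p) W :=
    { toFun := fun k => (endH H (k : H)).restrict fun x hx => hW.1 k k.2 x hx
      map_one' := LinearMap.ext fun x => Subtype.ext rfl
      map_mul' := fun a b => LinearMap.ext fun x => Subtype.ext rfl }
  have hirr : ∀ S : Submodule (ZMod p) W, (∀ s ∈ Set.range res, ∀ w ∈ S, s w ∈ S) →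
      S = ⊥ ∨ S = ⊤ := by
    intro S hS
    have hinv : Inv K (S.map W.subtype) := by
      rintro n hn _ ⟨x, hx, rfl⟩
      exact ⟨res ⟨n, hn⟩ x, hS _ ⟨_, rfl⟩ x hx, rfl⟩
    refine (hW.2.2 _ (Submodule.map_subtype_le W S) hinv).imp (fun e => ?_) fun e => ?_
    · exact Submodule.map_injective_of_injective W.injective_subtype
        (e.trans (Submodule.map_bot _).symm)
    · refine Submodule.map_injective_of_injective W.injective_subtype (e.trans ?_)
      rw [Submodule.map_top, Submodule.range_subtype]
  let C := Subalgebra.centralizer (ZMod p) (Set.range res)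
  have hmem : ∀ k, res k ∈ C := fun k => by
    rw [Subalgebra.mem_centralizer_iff]
    rintro _ ⟨l, rfl⟩
    rw [← map_mul, ← map_mul, hK.is_comm.comm]
  letI : CommRing C :=
    { (inferInstance : Ring C) with
      mul_comm := fun x y => Subtype.ext (centralizer_comm _ hirr x.2 y.2) }
  haveI : IsDomain C := by
    haveI : NoZeroDivisors C := ⟨fun {x y} hxy => or_iff_not_imp_left.2 fun hx => by
      refine Subtype.ext (LinearMap.ext fun w => ?_)
      have hw : (x : Module.End (ZMod p) W) ((y : Module.End (ZMod p) W) w) = 0 :=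
        LinearMap.congr_fun (congrArg Subtype.val hxy) w
      rcases hirr (LinearMap.ker (x : Module.End (ZMod p) W)) (fun s hs z hz => by
        have h' := LinearMap.congr_fun ((Subalgebra.mem_centralizer_iff _).1 x.2 s hs) z
        simp only [Module.End.mul_apply] at h'
        rw [LinearMap.mem_ker] at hz ⊢
        rw [← h', hz, map_zero]) with h | h
      · exact LinearMap.ker_eq_bot'.1 h _ hw
      · exact absurd (Subtype.ext (LinearMap.ker_eq_top.1 h)) hx⟩
    exact NoZeroDivisors.to_isDomain _
  refine isCyclic_of_subgroup_isDomain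
    ({ toFun := fun k => ⟨res k, hmem k⟩
       map_one' := Subtype.ext (map_one res)
       map_mul' := fun a b => Subtype.ext (map_mul res a b) } : K →* C) ?_
  intro a b e
  obtain ⟨w, hw, hw0⟩ := Submodule.exists_mem_ne_zero_of_ne_bot hW.2.1
  exact Subtype.ext (eq_of_apply_eq hreg hw0
    (congrArg Subtype.val (LinearMap.congr_fun (congrArg Subtype.val e) ⟨w, hw⟩)))

theorem involution_apply (hreg : Reg H) {h : H} (h1 : h ≠ 1) (h2 : h * h = 1) (v : V) :
    (h : V ≃ₗ[ZMod p] V) v = -v := by
  rw [eq_neg_iff_add_eq_zero]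
  by_contra hne
  refine h1 (eq_one_of_fix hreg hne ?_)
  have e : (h : V ≃ₗ[ZMod p] V) ((h : V ≃ₗ[ZMod p] V) v) = v := by
    rw [← endH_apply, ← endH_apply, ← Module.End.mul_apply, ← map_mul, h2, map_one,
      Module.End.one_apply]
  rw [map_add, e, add_comm]

theorem involution_endH (hreg : Reg H) {h : H} (h1 : h ≠ 1) (h2 : h * h = 1) :
    endH H h = -1 :=
  LinearMap.ext fun v => involution_apply hreg h1 h2 v

theorem ne_two_of_involution [Nontrivial V] (hreg : Reg H) {h : H} (h1 : h ≠ 1)
    (h2 : h * h = 1) : p ≠ 2 := by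
  rintro rfl
  obtain ⟨v, hv⟩ := exists_ne (0 : V)
  refine h1 (eq_one_of_fix hreg hv ?_)
  rw [involution_apply hreg h1 h2, eq_comm, eq_neg_iff_add_eq_zero, ← two_smul (ZMod 2),
    show (2 : ZMod 2) = 0 from rfl, zero_smul]

theorem le_of_abelian {A M : Subgroup H} (hAn : A.Normal) (hAc : IsMulCommutative A)
    (hAmax : ∀ B : Subgroup H, B.Normal → IsMulCommutative B → A ≤ B → B = A) (hMn : M.Normal)
    (hMc : IsMulCommutative M) (hMA : M ≤ Subgroup.centralizer (A : Set H)) : M ≤ A := by
  haveI := hAn
  haveI := hMn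
  have h : IsMulCommutative (A ⊔ M : Subgroup H) := by
    rw [← Subgroup.le_centralizer_iff_isMulCommutative]
    refine sup_le ?_ ?_ <;> rw [Subgroup.le_centralizer_iff] <;> refine sup_le ?_ ?_
    · exact Subgroup.le_centralizer_iff_isMulCommutative.2 hAc
    · exact hMA
    · exact Subgroup.le_centralizer_iff.1 hMA
    · exact Subgroup.le_centralizer_iff_isMulCommutative.2 hMc
  exact (hAmax _ inferInstance h le_sup_left) ▸ le_sup_right

section Minimal

variable {A N : Subgroup H}

/-- A solvable minimal nonabelian normal subgroup below the centralizer of a maximal abelian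
normal subgroup is quaternion of order 8. -/
theorem minimal_q8 [Finite V] [Nontrivial V] (hreg : Reg H) (hAn : A.Normal)
    (hAc : IsMulCommutative A)
    (hAmax : ∀ B : Subgroup H, B.Normal → IsMulCommutative B → A ≤ B → B = A)
    (hNn : N.Normal) (hNle : N ≤ Subgroup.centralizer (A : Set H)) (hNna : ¬ IsMulCommutative N)
    (hNmin : ∀ M : Subgroup H, M.Normal → M ≤ N → ¬ IsMulCommutative M → M = N)
    (hsolv : Group.IsSolvable N) : Nonempty (N ≃* QuaternionGroup 2) := by
  classical
  haveI := finite_H (H := H)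
  haveI := hNn
  haveI := hsolv
  have hcen : ∀ M : Subgroup H, M.Normal → M ≤ N → M ≠ N →
      M.subgroupOf N ≤ Subgroup.center N := by
    intro M hM hle hne x hx
    have hxA : (x : H) ∈ A := le_of_abelian hAn hAc hAmax hM
      (by_contra fun h => hne (hNmin M hM hle h)) (hle.trans hNle) hx
    exact Subgroup.mem_center_iff.2 fun y => Subtype.ext
      (Subgroup.mem_centralizer_iff.1 (hNle y.2) (x : H) hxA).symm
  have hcen' : ∀ K : Subgroup N, K.Characteristic → K ≠ ⊤ → K ≤ Subgroup.center N := by
    intro K hK hne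
    have h := hcen (K.map N.subtype) inferInstance (Subgroup.map_subtype_le K) fun e => hne
      (Subgroup.map_injective N.subtype_injective (e.trans (by
        rw [← MonoidHom.range_eq_map, Subgroup.range_subtype])))
    rwa [Subgroup.subgroupOf, Subgroup.comap_map_eq_self_of_injective N.subtype_injective] at h
  haveI : Nontrivial N := by
    by_contra h
    rw [not_nontrivial_iff_subsingleton] at h
    exact hNna ⟨⟨fun _ _ => Subsingleton.elim _ _⟩⟩
  haveI : Group.IsNilpotent N := by
    refine Subgroup.isNilpotent_of_ker_le_center (Abelianization.of (G := N)) ?_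
    rw [Abelianization.ker_of]
    exact hcen' _ inferInstance (IsSolvable.commutator_lt_top_of_nontrivial N).ne
  obtain ⟨r, hr, P, hP⟩ : ∃ r : ℕ, r.Prime ∧ ∃ P : Sylow r N, (P : Subgroup N) = ⊤ := by
    by_contra! hcon
    refine hNna ⟨⟨fun a b => ?_⟩⟩
    have htop : Subgroup.center N = ⊤ := by
      rw [← Subgroup.index_eq_one]
      by_contra hi
      obtain ⟨r, hr, hri⟩ := Nat.exists_prime_and_dvd hi
      haveI := Fact.mk hr
      obtain ⟨P⟩ : Nonempty (Sylow r N) := inferInstance
      have hle := hcen' P (P.characteristic_of_normal inferInstance) (hcon r hr P)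
      exact P.not_dvd_index (hri.trans (Subgroup.index_dvd_of_le hle))
    exact (Subgroup.mem_center_iff.1 (htop ▸ Subgroup.mem_top b : b ∈ Subgroup.center N) a)
  haveI := Fact.mk hr
  have hrg : IsPGroup r N := (P.2).of_equiv ((MulEquiv.subgroupCongr hP).trans Subgroup.topEquiv)
  obtain ⟨z, hz, hzo⟩ : ∃ z : N, z ∈ Subgroup.center N ∧ orderOf z = r := by
    have hd : r ∣ Nat.card (Subgroup.center N) := by
      haveI : Nontrivial (Subgroup.center N) := hrg.center_nontrivial
      obtain ⟨k, hk, hk'⟩ := (hrg.to_subgroup (Subgroup.center N)).nontrivial_iff_card.1 inferInstance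
      exact hk' ▸ dvd_pow_self r hk.ne'
    obtain ⟨z, hz⟩ := exists_prime_orderOf_dvd_card' r hd
    exact ⟨z, z.2, (Subgroup.orderOf_coe z).trans hz⟩
  have hmem : ∀ y : N, orderOf y = r → y ∈ Subgroup.zpowers z := by
    intro y hy
    set K : Subgroup H := Subgroup.closure {(z : H), (y : H)}
    have hc : (z : H) * y = y * z := congrArg Subtype.val (Subgroup.mem_center_iff.1 hz y).symm
    have hKc : IsMulCommutative K := Subgroup.isMulCommutative_closure (by
      rintro a (rfl | rfl) b (rfl | rfl)
      exacts [rfl, hc, hc.symm, rfl])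
    haveI : IsCyclic K := isCyclic_of_abelian hreg K hKc
    have hzK : (z : H) ∈ K := Subgroup.subset_closure (Or.inl rfl)
    have hyK : (y : H) ∈ K := Subgroup.subset_closure (Or.inr rfl)
    have h := Cfsg.Agent.CharTheory.BrauerSuzuki.subgroup_eq_of_card (Subgroup.zpowers (⟨z, hzK⟩ : K))
      (Subgroup.zpowers (⟨y, hyK⟩ : K)) (by
        simp only [Nat.card_zpowers, Subgroup.orderOf_mk, Subgroup.orderOf_coe, hzo, hy])
    have hy' : (⟨y, hyK⟩ : K) ∈ Subgroup.zpowers (⟨z, hzK⟩ : K) := h ▸ Subgroup.mem_zpowers _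
    obtain ⟨m, hm⟩ := hy'
    exact ⟨m, Subtype.ext (by simpa using congrArg Subtype.val hm)⟩
  have hall : ∀ S : Subgroup N, Nat.card S = r → S = Subgroup.zpowers z := by
    intro S hS
    refine Subgroup.eq_of_le_of_card_ge (fun y hy => ?_) (by rw [hS, Nat.card_zpowers, hzo])
    rcases (Nat.dvd_prime hr).1 (hS ▸ Subgroup.orderOf_dvd_natCard S hy) with h1 | h1
    · rw [orderOf_eq_one_iff.1 h1]; exact one_mem _
    · exact hmem y h1
  rcases Cfsg.Agent.PGroups.UniqueSubgroup.isCyclic_or_quaternion hrg
      (fun S T hS hT => (hall S hS).trans (hall T hT).symm) with h | ⟨hr2, n, ⟨e⟩⟩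
  · exact absurd (inferInstance : IsMulCommutative N) hNna
  subst hr2
  -- the squares are central
  have hsq : ∀ x : N, x ^ 2 ∈ Subgroup.center N := by
    have hcomm : commutator N ≤ Subgroup.center N :=
      hcen' _ inferInstance (IsSolvable.commutator_lt_top_of_nontrivial N).ne
    let M : Subgroup N :=
      { carrier := {x | x ^ 2 ∈ (A.subgroupOf N)}
        one_mem' := by simp
        mul_mem' := fun {x y} hx hy => by
          haveI := hAn
          have hab : ∀ a b : N, a * b * a⁻¹ * b⁻¹ ∈ A.subgroupOf N := by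
            intro a b
            refine le_of_abelian hAn hAc hAmax
              (M := (commutator N).map N.subtype) inferInstance ?_
              ((Subgroup.map_subtype_le _).trans hNle) ?_
            · refine ⟨⟨?_⟩⟩
              rintro ⟨_, u, hu, rfl⟩ ⟨_, w, hw, rfl⟩
              exact Subtype.ext (congrArg N.subtype (Subgroup.mem_center_iff.1 (hcomm hw) u))
            · exact ⟨_, Subgroup.commutator_mem_commutator (Subgroup.mem_top a)
                (Subgroup.mem_top b), rfl⟩
          show (x * y) ^ 2 ∈ A.subgroupOf N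
          have e1 : (x * y) ^ 2 = x ^ 2 * (x⁻¹ * y * x * y⁻¹) * y ^ 2 := by
            simp only [pow_two, mul_assoc, mul_inv_cancel_left, inv_mul_cancel_left]
          rw [e1]
          refine mul_mem (mul_mem hx ?_) hy
          simpa using hab x⁻¹ y
        inv_mem' := fun {x} hx => by
          show x⁻¹ ^ 2 ∈ A.subgroupOf N
          rw [inv_pow]; exact inv_mem hx }
    have hMA : ∀ x : N, (x : H) ∈ A → x ∈ M := fun x hx => pow_mem hx 2
    have hMchar : (M.map N.subtype).Normal := by
      refine ⟨fun m hm g => ?_⟩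
      obtain ⟨x, hx, rfl⟩ := hm
      refine ⟨⟨g * x * g⁻¹, hNn.conj_mem _ x.2 g⟩, ?_, rfl⟩
      show (⟨g * x * g⁻¹, hNn.conj_mem _ x.2 g⟩ : N) ^ 2 ∈ A.subgroupOf N
      rw [Subgroup.mem_subgroupOf, SubgroupClass.coe_pow, conj_pow]
      exact hAn.conj_mem _ hx g
    intro x
    have hxM : x ∈ M := by
      by_contra hxM
      have hne : M.map N.subtype ≠ N := fun e => hxM (by
        have : (x : H) ∈ M.map N.subtype := e.symm ▸ x.2
        obtain ⟨y, hy, hyx⟩ := this
        exact Subtype.ext hyx ▸ hy)
      have hA' : M.map N.subtype ≤ A := le_of_abelian hAn hAc hAmax hMchar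
        (by_contra fun h => hne (hNmin _ hMchar (Subgroup.map_subtype_le M) h))
        ((Subgroup.map_subtype_le M).trans hNle)
      obtain ⟨k, hk⟩ := hrg x
      -- the first power of `x` inside `A` forces `x` into `M`
      have key : ∀ k, ∀ y : N, y ^ 2 ^ k = 1 → (y : H) ∈ A := by
        intro k
        induction k with
        | zero => intro y hy; rw [pow_zero, pow_one] at hy; rw [hy]; exact one_mem A
        | succ k ih =>
          intro y hy
          rw [pow_succ', pow_mul] at hy
          exact hA' ⟨y, ih _ hy, rfl⟩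
      exact hxM (hMA x (key k x hk))
    have hxA : ((x ^ 2 : N) : H) ∈ A := hxM
    exact Subgroup.mem_center_iff.2 fun y => Subtype.ext
      (Subgroup.mem_centralizer_iff.1 (hNle y.2) _ hxA).symm
  have h4 := congrArg e (Subgroup.mem_center_iff.1 (hsq (e.symm (QuaternionGroup.a 1)))
    (e.symm (QuaternionGroup.xa 0)))
  simp only [map_mul, map_pow, MulEquiv.apply_symm_apply, pow_two, QuaternionGroup.a_mul_a,
    QuaternionGroup.xa_mul_a, QuaternionGroup.a_mul_xa, QuaternionGroup.xa.injEq] at h4
  have h4' : ((4 : ℕ) : ZMod (2 * 2 ^ n)) = 0 := by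
    push_cast; linear_combination h4
  have hdvd := Nat.le_of_dvd (by norm_num) ((ZMod.natCast_eq_zero_iff _ _).1 h4')
  have hn : n ≤ 1 := by
    by_contra hn
    have : 2 ^ 2 ≤ 2 ^ n := Nat.pow_le_pow_right (by norm_num) (by omega)
    omega
  interval_cases n
  · refine absurd ?_ hNna
    have hc : Nat.card N = 2 ^ 2 := by
      rw [Nat.card_congr e.toEquiv, Nat.card_eq_fintype_card, QuaternionGroup.card]
      norm_num
    exact IsPGroup.isMulCommutative_of_card_eq_prime_sq hc
  · exact ⟨e⟩

end Minimal

/-- A quaternion normal subgroup forces dimension at most 2. -/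
theorem finrank_le_two [Finite V] [Nontrivial V] (hreg : Reg H) {N : Subgroup H} (hNn : N.Normal)
    (e : N ≃* QuaternionGroup 2) :
    Module.finrank (ZMod p) V ≤ 2 ∧ p ≠ 2 := by
  classical
  set i : H := ((e.symm (QuaternionGroup.a 1) : N) : H) with hi
  set j : H := ((e.symm (QuaternionGroup.xa 0) : N) : H) with hj
  set z : H := ((e.symm (QuaternionGroup.a 2) : N) : H) with hz
  have hmul : ∀ a b : QuaternionGroup 2,
      ((e.symm (a * b) : N) : H) = (e.symm a : N) * (e.symm b : N) := fun a b => by
    rw [map_mul, Subgroup.coe_mul]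
  have hz1 : z ≠ 1 := by
    intro h
    have : e.symm (QuaternionGroup.a 2) = 1 := Subtype.ext h
    rw [MulEquiv.map_eq_one_iff] at this
    revert this; decide
  have hz2 : z * z = 1 := by
    rw [hz, ← hmul, show QuaternionGroup.a 2 * QuaternionGroup.a 2 = (1 : QuaternionGroup 2) by decide,
      map_one, Subgroup.coe_one]
  set I := endH H i
  set J := endH H j
  have hzE := involution_endH hreg hz1 hz2
  have hII : I * I = -1 := by
    rw [← map_mul, hi, ← hmul, show QuaternionGroup.a 1 * QuaternionGroup.a 1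
      = (QuaternionGroup.a 2 : QuaternionGroup 2) by decide]
    exact hzE
  have hJJ : J * J = -1 := by
    rw [← map_mul, hj, ← hmul, show QuaternionGroup.xa 0 * QuaternionGroup.xa 0
      = (QuaternionGroup.a 2 : QuaternionGroup 2) by decide]
    exact hzE
  have hJI : J * I = -(I * J) := by
    rw [← map_mul, hi, hj, ← hmul, show QuaternionGroup.xa 0 * QuaternionGroup.a 1
      = (QuaternionGroup.a 2 * (QuaternionGroup.a 1 * QuaternionGroup.xa 0) : QuaternionGroup 2)
        by decide, hmul, hmul, map_mul, map_mul, hzE, neg_one_mul]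
  have hp2 : p ≠ 2 := ne_two_of_involution hreg hz1 hz2
  refine ⟨?_, hp2⟩
  obtain ⟨x₀, y₀, hxy₀⟩ := ZMod.sq_add_sq p (-1)
  obtain ⟨x, y, hxy, hy⟩ : ∃ x y : ZMod p, x ^ 2 + y ^ 2 = -1 ∧ y ≠ 0 := by
    by_cases hy : y₀ = 0
    · refine ⟨y₀, x₀, by rw [add_comm, hxy₀], fun hx => ?_⟩
      rw [hx, hy] at hxy₀
      simp at hxy₀
    · exact ⟨x₀, y₀, hxy₀, hy⟩
  set T := x • I + y • J with hTdef
  have hT : T * T = 1 := by
    have h1 : T * T = (x ^ 2) • (I * I) + (x * y) • (I * J) + (x * y) • (J * I)
        + (y ^ 2) • (J * J) := by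
      simp only [hTdef, mul_add, add_mul, smul_mul_smul_comm, pow_two, mul_comm y x]
      abel
    rw [h1, hII, hJJ, hJI, smul_neg, smul_neg, smul_neg, add_neg_cancel_right, ← neg_add,
      ← add_smul, hxy, neg_smul, one_smul, neg_neg]
  obtain ⟨v₀, hv₀⟩ := exists_ne (0 : V)
  obtain ⟨v, c, hv, hTv⟩ : ∃ (v : V) (c : ZMod p), v ≠ 0 ∧ T v = c • v := by
    by_cases h : v₀ + T v₀ = 0
    · exact ⟨v₀, -1, hv₀, by rw [eq_neg_of_add_eq_zero_right h, neg_smul, one_smul]⟩
    · refine ⟨_, 1, h, ?_⟩
      rw [map_add, ← Module.End.mul_apply, hT, Module.End.one_apply, add_comm, one_smul]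
  set U : Submodule (ZMod p) V := Submodule.span (ZMod p) {v, I v}
  have hvU : v ∈ U := Submodule.subset_span (Or.inl rfl)
  have hIvU : I v ∈ U := Submodule.subset_span (Or.inr rfl)
  have hIU : ∀ u ∈ U, I u ∈ U := fun u hu => by
    refine (Submodule.span_le (p := U.comap I)).2 ?_ hu
    rintro w (rfl | rfl)
    · exact hIvU
    · show I (I v) ∈ U
      rw [← Module.End.mul_apply, hII, LinearMap.neg_apply, Module.End.one_apply]
      exact U.neg_mem hvU
  have hJv : J v ∈ U := by
    have h1 : y • J v = c • v - x • I v := by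
      rw [← hTv, hTdef, LinearMap.add_apply, LinearMap.smul_apply, LinearMap.smul_apply,
        add_sub_cancel_left]
    have := U.smul_mem y⁻¹ (h1 ▸ U.sub_mem (U.smul_mem c hvU) (U.smul_mem x hIvU) : y • J v ∈ U)
    rwa [inv_smul_smul₀ hy] at this
  have hJU : ∀ u ∈ U, J u ∈ U := fun u hu => by
    refine (Submodule.span_le (p := U.comap J)).2 ?_ hu
    rintro w (rfl | rfl)
    · exact hJv
    · show J (I v) ∈ U
      rw [← Module.End.mul_apply, hJI, LinearMap.neg_apply, Module.End.mul_apply]
      exact U.neg_mem (hIU _ hJv)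
  have hinv : Inv N U := by
    intro n hn u hu
    have hpow : ∀ k : ℕ, ∀ u ∈ U, endH H (i ^ k) u ∈ U := by
      intro k
      induction k with
      | zero => intro u hu; rwa [pow_zero, map_one]
      | succ k ih => intro u hu; rw [pow_succ, map_mul]; exact ih _ (hIU u hu)
    obtain ⟨k, hk⟩ : ∃ k : ℕ, n = i ^ k ∨ n = j * i ^ k := by
      rcases he : e ⟨n, hn⟩ with k | k
      all_goals
        refine ⟨k.val, ?_⟩
        have hn' : n = ((e.symm (e ⟨n, hn⟩) : N) : H) := by rw [MulEquiv.symm_apply_apply]
        rw [he] at hn'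
      · left
        rw [hn', hi, ← SubgroupClass.coe_pow, ← map_pow, QuaternionGroup.a_one_pow,
          ZMod.natCast_val, ZMod.cast_id]
      · right
        rw [hn', hi, hj, ← SubgroupClass.coe_pow, ← map_pow, ← hmul, QuaternionGroup.a_one_pow,
          ZMod.natCast_val, ZMod.cast_id, QuaternionGroup.xa_mul_a, zero_add]
    rcases hk with rfl | rfl
    · exact hpow k u hu
    · rw [← endH_apply, map_mul]
      exact hJU _ (hpow k u hu)
  have hna : ¬ IsMulCommutative N := by
    intro h
    have := congrArg e (h.is_comm.comm (e.symm (QuaternionGroup.a 1)) (e.symm (QuaternionGroup.xa 0)))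
    simp only [map_mul, MulEquiv.apply_symm_apply] at this
    revert this; decide
  have htop : U = ⊤ := irreducible_of_not_comm hreg hNn hna hinv
    (fun h => hv ((Submodule.mem_bot (ZMod p)).1 (h ▸ hvU)))
  rw [← finrank_top (R := ZMod p) (M := V), ← htop]
  have := finrank_span_finset_le_card (R := ZMod p) ({v, I v} : Finset V)
  rw [Set.finrank, Finset.coe_pair] at this
  exact this.trans Finset.card_le_two

end Cfsg.Agent.Perm.NearField
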