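import Mathlib
import Cfsg.Agent.Lib.Perm.NearFieldQuat
import Cfsg.Agent.Lib.Perm.Fpf.Main
import Cfsg.Agent.Lib.Perm.Fpf.AutBound

/-!
# Nonsolvable linear groups that are regular on the nonzero vectors
-/

set_option autoImplicit false

namespace Cfsg.Agent.Perm.NearField

open scoped MatrixGroups
open Fpf (Frame Tet Gold qf)

theorem sl25_central (A : SL(2, ZMod 5)) (hx : A * Fpf.genX = Fpf.genX * A)
    (hy : A * Fpf.genY = Fpf.genY * A) : A = 1 ∨ A = -1 := by
  have key : ∀ q ∈ Fpf.Ico.matList,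
      Fpf.Ico.mm q (0, -1, 1, 0) = Fpf.Ico.mm (0, -1, 1, 0) q →
      Fpf.Ico.mm q (0, -1, 1, -1) = Fpf.Ico.mm (0, -1, 1, -1) q →
      q = (1, 0, 0, 1) ∨ q = (-1, 0, 0, -1) := by decide +kernel
  have h1 := congrArg Fpf.quad hx
  have h2 := congrArg Fpf.quad hy
  simp only [Fpf.quad_mul, Fpf.quad_genX, Fpf.quad_genY] at h1 h2
  rcases key _ (Fpf.quad_mem A) h1 h2 with e | e
  · exact Or.inl (Fpf.quad_inj (e.trans Fpf.quad_one.symm))
  · exact Or.inr (Fpf.quad_inj (e.trans Fpf.quad_neg_one.symm))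

theorem orderOf_genX : orderOf Fpf.genX = 4 := by
  haveI : Fact (Nat.Prime 2) := ⟨Nat.prime_two⟩
  refine orderOf_eq_prime_pow (p := 2) (n := 1) ?_ ?_
  · intro h
    have := congrArg Fpf.quad h
    rw [pow_one, pow_two, Fpf.quad_mul, Fpf.quad_genX, Fpf.quad_one] at this
    revert this; decide +kernel
  · refine Fpf.quad_inj ?_
    rw [show (2 : ℕ) ^ (1 + 1) = 2 + 2 from rfl, pow_add, pow_two, Fpf.quad_mul, Fpf.quad_mul,
      Fpf.quad_genX, Fpf.quad_one]
    decide +kernel

theorem orderOf_neg_one : orderOf (-1 : SL(2, ZMod 5)) = 2 := by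
  haveI : Fact (Nat.Prime 2) := ⟨Nat.prime_two⟩
  refine orderOf_eq_prime ?_ fun h => absurd (congrArg Fpf.quad h) (by decide +kernel)
  refine Fpf.quad_inj ?_
  rw [pow_two, Fpf.quad_mul, Fpf.quad_neg_one, Fpf.quad_one]
  decide +kernel

/-- the numerical conditions leave three cases -/
theorem three_cases {p n f c k : ℕ} (hp : p.Prime) (hn : 2 * f ≤ n) (hn4 : n ≤ 4) (hf : 1 ≤ f)
    (hc : c ∣ p ^ f - 1) (hk : k = 60 ∨ k = 120) (hck : k * c = p ^ n - 1) (h4 : ¬ 4 ∣ c)
    (h2 : 2 ∣ c) (h3 : ¬ 3 ∣ c) (h5 : ¬ 5 ∣ c) :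
    n = 2 ∧ k = 60 ∧ ((p = 11 ∧ c = 2) ∨ (p = 29 ∧ c = 14) ∨ (p = 59 ∧ c = 58)) := by
  have hpp := hp.two_le
  have hcle : c ≤ p ^ f - 1 := Nat.le_of_dvd (by
    have : p ^ 1 ≤ p ^ f := Nat.pow_le_pow_right (by omega) hf
    rw [pow_one] at this
    omega) hc
  have hn2 : 2 ≤ n := by omega
  have hf2 : f ≤ 2 := by omega
  interval_cases n <;> interval_cases f <;> try omega
  · simp only [pow_one] at hcle hc
    have hsq : (p + 1) * (p - 1) = p ^ 2 - 1 := by
      rw [← Nat.sq_sub_sq, one_pow]
    have hpk : p + 1 ≤ k := by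
      by_contra hlt
      have h6 : k * c ≤ k * (p - 1) := Nat.mul_le_mul_left k hcle
      have h7 : k * (p - 1) < (p + 1) * (p - 1) :=
        Nat.mul_lt_mul_of_pos_right (by omega) (by omega)
      omega
    have hp119 : p ≤ 119 := by omega
    rcases hk with rfl | rfl <;> interval_cases p <;>
      first
      | omega
      | (norm_num at hp; done)
      | (norm_num at hck ⊢ <;> omega)
      | (obtain rfl : c = 14 := (by norm_num at hck ⊢; omega)
         norm_num at hc)
  · simp only [pow_one] at hcle hc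
    have hp10 : p ≤ 10 := by
      by_contra hlt
      have h6 : k * c ≤ 120 * p := Nat.mul_le_mul (by omega) (by omega)
      have h7 : 11 * 11 * p ≤ p * p * p := by gcongr <;> omega
      have h8 : p ^ 3 = p * p * p := by ring
      omega
    rcases hk with rfl | rfl <;> interval_cases p <;>
      first
      | omega
      | (norm_num at hp; done)
      | (norm_num at hck ⊢ <;> omega)
  · simp only [pow_one] at hcle hc
    have hp10 : p ≤ 10 := by
      by_contra hlt
      have h6 : k * c ≤ 120 * p := Nat.mul_le_mul (by omega) (by omega)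
      have h7 : 11 * 11 * p ≤ p * p * p := by gcongr <;> omega
      have h8 : p * p * p ≤ p * p * p * p := Nat.le_mul_of_pos_right _ (by omega)
      have h9 : p ^ 4 = p * p * p * p := by ring
      omega
    rcases hk with rfl | rfl <;> interval_cases p <;>
      first
      | omega
      | (norm_num at hp; done)
      | (norm_num at hck ⊢ <;> omega)
  · have hp10 : p ≤ 10 := by
      by_contra hlt
      have h6 : k * c ≤ 120 * p ^ 2 := Nat.mul_le_mul (by omega) (by omega)
      have h7 : 11 * 11 * (p * p) ≤ p * p * (p * p) := by gcongr <;> omega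
      have h8 : p ^ 2 = p * p := by ring
      have h9 : p ^ 4 = p * p * (p * p) := by ring
      have h10 : 1 ≤ p * p := Nat.mul_pos (by omega) (by omega)
      omega
    rcases hk with rfl | rfl <;> interval_cases p <;>
      first
      | omega
      | (norm_num at hp; done)
      | (norm_num at hck ⊢ <;> omega)

variable {p : ℕ} [hp : Fact p.Prime] {V : Type*} [AddCommGroup V] [Module (ZMod p) V]
variable {H : Subgroup (V ≃ₗ[ZMod p] V)}

/-- A nonsolvable group has a nontrivial perfect normal subgroup. -/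
theorem exists_perfect_normal {G : Type*} [Group G] [Finite G] (hns : ¬ Group.IsSolvable G) :
    ∃ L : Subgroup G, L.Normal ∧ Nontrivial L ∧ commutator L = ⊤ := by
  haveI : Finite (Subgroup G) := Finite.of_injective (fun L => (L : Set G)) SetLike.coe_injective
  obtain ⟨L, ⟨hLn, hLs⟩, hmin⟩ := wellFounded_lt.has_min
    {L : Subgroup G | L.Normal ∧ ¬ Group.IsSolvable L}
    ⟨⊤, inferInstance, fun h => hns (solvable_of_surjective
      (f := (Subgroup.topEquiv : (⊤ : Subgroup G) ≃* G).toMonoidHom) (MulEquiv.surjective _))⟩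
  haveI := hLn
  refine ⟨L, hLn, ?_, by_contra fun hne => hLs ?_⟩
  · by_contra hn
    rw [not_nontrivial_iff_subsingleton] at hn
    exact hLs inferInstance
  · set M := (commutator L).map L.subtype
    have hlt : M < L := lt_of_le_of_ne (Subgroup.map_subtype_le _) fun e => hne
      (Subgroup.map_injective L.subtype_injective (e.trans (by
        rw [← MonoidHom.range_eq_map, Subgroup.range_subtype])))
    haveI : Group.IsSolvable M := by_contra fun h => hmin M ⟨inferInstance, h⟩ hlt
    haveI : Group.IsSolvable (commutator L) :=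
      solvable_of_surjective (f := ((commutator L).equivMapOfInjective L.subtype
        L.subtype_injective).symm.toMonoidHom) (MulEquiv.surjective _)
    exact solvable_of_ker_le_range (commutator L).subtype (Abelianization.of (G := L))
      (by rw [Abelianization.ker_of, Subgroup.range_subtype])

section Perfect

variable [Finite V] [Nontrivial V] (hreg : Reg H) {L : Subgroup H} (hLn : L.Normal)
  [Nontrivial L] (hperf : commutator L = ⊤)

include hperf in
omit [Finite V] [Nontrivial V] in
theorem not_comm_of_perfect : ¬ IsMulCommutative L := by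
  intro h
  haveI := h
  obtain ⟨x, hx⟩ := exists_ne (1 : L)
  exact hx (Fpf.hom_eq_one_of_perfect hperf (MonoidHom.id L) x)

include hreg hperf in
theorem finrank_le_four (hLn : L.Normal) : Module.finrank (ZMod p) V ≤ 4 := by
  classical
  haveI := finite_H (H := H)
  let ρ := (endH H).comp L.subtype
  have hfix : ∀ g v, ρ g v = v → v ≠ 0 → g = 1 := fun g v e hv =>
    Subtype.ext (eq_one_of_fix hreg hv e)
  have hyp := Fpf.hyp_of_perfect ρ hfix hperf
  obtain ⟨a, gI, gJ, d, ω, T, ⟨hωm, hω, wd⟩, hgen⟩ := Fpf.exists_gold ρ hfix hperf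
  have F := T.frame
  set I := ρ gI
  set J := ρ gJ
  have hωI := Fpf.coeff_I hωm
  have hωJ := Fpf.coeff_J hωm
  have two : (2 : ZMod p) ≠ 0 := fun e => hyp.two_ne (by
    rw [← map_ofNat (algebraMap (ZMod p) (Module.End (ZMod p) V)) 2, e, map_zero])
  obtain ⟨x₀, y₀, hxy₀⟩ := ZMod.sq_add_sq p (-1)
  obtain ⟨x, y, hxy, hy⟩ : ∃ x y : ZMod p, x ^ 2 + y ^ 2 = -1 ∧ y ≠ 0 := by
    by_cases hy : y₀ = 0
    · refine ⟨y₀, x₀, by rw [add_comm, hxy₀], fun hx => ?_⟩
      rw [hx, hy] at hxy₀
      simp at hxy₀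
    · exact ⟨x₀, y₀, hxy₀, hy⟩
  set S := x • I + y • J with hSdef
  have hS : S * S = 1 := by
    have h1 : S * S = (x ^ 2) • (I * I) + (x * y) • (I * J) + (x * y) • (J * I)
        + (y ^ 2) • (J * J) := by
      simp only [hSdef, mul_add, add_mul, smul_mul_smul_comm, pow_two, mul_comm y x]
      abel
    rw [h1, F.II, F.JJ, F.JI, smul_neg, smul_neg, smul_neg, add_neg_cancel_right, ← neg_add,
      ← add_smul, hxy, neg_smul, one_smul, neg_neg]
  obtain ⟨v₀, hv₀⟩ := exists_ne (0 : V)
  obtain ⟨v, c, hv, hSv⟩ : ∃ (v : V) (c : ZMod p), v ≠ 0 ∧ S v = c • v := by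
    by_cases h : v₀ + S v₀ = 0
    · exact ⟨v₀, -1, hv₀, by rw [eq_neg_of_add_eq_zero_right h, neg_smul, one_smul]⟩
    · refine ⟨_, 1, h, ?_⟩
      rw [map_add, ← Module.End.mul_apply, hS, Module.End.one_apply, add_comm, one_smul]
  set W : Submodule (ZMod p) V := Submodule.span (ZMod p) {v, I v, ω v, ω (I v)} with hW
  have h0 : v ∈ W := Submodule.subset_span (Or.inl rfl)
  have h1 : I v ∈ W := Submodule.subset_span (Or.inr (Or.inl rfl))
  have h2 : ω v ∈ W := Submodule.subset_span (Or.inr (Or.inr (Or.inl rfl)))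
  have h3 : ω (I v) ∈ W := Submodule.subset_span (Or.inr (Or.inr (Or.inr rfl)))
  have hspan : ∀ X : Module.End (ZMod p) V, X v ∈ W → X (I v) ∈ W → X (ω v) ∈ W →
      X (ω (I v)) ∈ W → ∀ u ∈ W, X u ∈ W := by
    intro X e0 e1 e2 e3 u hu
    refine (Submodule.span_le (p := W.comap X)).2 ?_ hu
    rintro w (rfl | rfl | rfl | rfl) <;> assumption
  have hωW : ∀ u ∈ W, ω u ∈ W := hspan ω h2 h3
    (by rw [← Module.End.mul_apply, hω, LinearMap.add_apply, Module.End.one_apply]
        exact W.add_mem h2 h0)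
    (by rw [← Module.End.mul_apply, hω, LinearMap.add_apply, Module.End.one_apply]
        exact W.add_mem h3 h1)
  have hII : I (I v) = -v := by
    rw [← Module.End.mul_apply, F.II, LinearMap.neg_apply, Module.End.one_apply]
  have hIW : ∀ u ∈ W, I u ∈ W := hspan I h1 (hII ▸ W.neg_mem h0)
    (by rw [← Module.End.mul_apply, hωI, Module.End.mul_apply]; exact h3)
    (by rw [← Module.End.mul_apply, hωI, Module.End.mul_apply, hII, map_neg]; exact W.neg_mem h2)
  have hJv : J v ∈ W := by
    have e : y • J v = c • v - x • I v := by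
      rw [← hSv, hSdef, LinearMap.add_apply, LinearMap.smul_apply, LinearMap.smul_apply,
        add_sub_cancel_left]
    have := W.smul_mem y⁻¹ (e ▸ W.sub_mem (W.smul_mem c h0) (W.smul_mem x h1) : y • J v ∈ W)
    rwa [inv_smul_smul₀ hy] at this
  have hJI : J (I v) = -I (J v) := by
    rw [← Module.End.mul_apply, F.JI, LinearMap.neg_apply, Module.End.mul_apply]
  have hJW : ∀ u ∈ W, J u ∈ W := hspan J hJv (hJI ▸ W.neg_mem (hIW _ hJv))
    (by rw [← Module.End.mul_apply, hωJ, Module.End.mul_apply]; exact hωW _ hJv)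
    (by rw [← Module.End.mul_apply, hωJ, Module.End.mul_apply]
        exact hωW _ (hJI ▸ W.neg_mem (hIW _ hJv)))
  have hhalf : ∀ (g : L) (u : V), Fpf.w ρ g u ∈ W → u ∈ W → ρ g u ∈ W := by
    intro g u hg hu
    have e : (2 : ZMod p) • ρ g u = Fpf.w ρ g u - u := by
      rw [Fpf.w, LinearMap.add_apply, Module.End.one_apply, add_sub_cancel_right, two_mul,
        LinearMap.add_apply, two_smul]
    have := W.smul_mem (2 : ZMod p)⁻¹ (e ▸ W.sub_mem hg hu : (2 : ZMod p) • ρ g u ∈ W)
    rwa [inv_smul_smul₀ two] at this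
  let M : Submonoid L :=
    { carrier := {g | ∀ u ∈ W, ρ g u ∈ W}
      one_mem' := fun u hu => by rwa [map_one, Module.End.one_apply]
      mul_mem' := fun {g g'} hg hg' u hu => by
        rw [map_mul, Module.End.mul_apply]; exact hg _ (hg' u hu) }
  have hall : ∀ g : L, g ∈ M := by
    intro g
    have hg : g ∈ (Subgroup.closure ({gI, a, d} : Set L)).toSubmonoid := by rw [hgen]; trivial
    rw [Subgroup.closure_toSubmonoid_of_finite] at hg
    refine Submonoid.closure_le.2 ?_ hg
    rintro _ (rfl | rfl | rfl)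
    · exact hIW
    · intro u hu
      refine hhalf _ u ?_ hu
      rw [T.wa, LinearMap.add_apply, LinearMap.add_apply, Module.End.mul_apply]
      exact W.add_mem (W.add_mem (hIW u hu) (hJW u hu)) (hIW _ (hJW u hu))
    · intro u hu
      refine hhalf _ u ?_ hu
      rw [wd, qf]
      simp only [zero_mul, add_zero, zero_add, LinearMap.add_apply, Module.End.mul_apply,
        LinearMap.sub_apply, Module.End.one_apply]
      exact W.add_mem (hωW _ (hJW u hu))
        (W.sub_mem (hIW _ (hJW u hu)) (hωW _ (hIW _ (hJW u hu))))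
  have htop : W = ⊤ := irreducible_of_not_comm hreg hLn (not_comm_of_perfect hperf)
    (fun g hg u hu => hall ⟨g, hg⟩ u hu) (fun e => hv ((Submodule.mem_bot (ZMod p)).1 (e ▸ h0)))
  rw [← finrank_top (R := ZMod p) (M := V), ← htop, hW]
  have := finrank_span_finset_le_card (R := ZMod p) ({v, I v, ω v, ω (I v)} : Finset V)
  have hset : (({v, I v, ω v, ω (I v)} : Finset V) : Set V) = {v, I v, ω v, ω (I v)} := by simp
  rw [Set.finrank, hset] at this
  exact this.trans Finset.card_le_four

end Perfect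

/-- The insoluble linear groups that are regular on the nonzero vectors. -/
theorem nonsolvable_regular [Finite V] (hreg : Reg H) (hns : ¬ Group.IsSolvable H) :
    ∃ m : ℕ, ((Nat.card V = 121 ∧ m = 1) ∨ (Nat.card V = 841 ∧ m = 7) ∨
      (Nat.card V = 3481 ∧ m = 29)) ∧ Nonempty (H ≃* SL(2, ZMod 5) × Multiplicative (ZMod m)) := by
  classical
  haveI := finite_H (H := H)
  haveI : Nontrivial V := by
    by_contra hV
    rw [not_nontrivial_iff_subsingleton] at hV
    have : Subsingleton H := ⟨fun a b => Subtype.ext (LinearEquiv.ext fun _ => Subsingleton.elim _ _)⟩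
    exact hns inferInstance
  obtain ⟨L, hLn, hL, hperf⟩ := exists_perfect_normal hns
  haveI := hLn
  haveI := hL
  have hna : ¬ IsMulCommutative L := not_comm_of_perfect hperf
  obtain ⟨e⟩ := Fpf.iso_sl25 ((endH H).comp L.subtype)
    (fun g v hgv hv => Subtype.ext (eq_one_of_fix hreg hv hgv)) hperf
  have hcardL : Nat.card L = 120 := by rw [Nat.card_congr e.toEquiv, Fpf.card_sl25]
  set C := Subgroup.centralizer (L : Set H) with hC
  have hCc : IsMulCommutative C := centralizer_comm_of_not_comm hreg hLn hna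
  have hCn : C.Normal := inferInstance
  haveI hCcyc : IsCyclic C := isCyclic_of_comm hreg hCn hCc
  -- an irreducible subspace of `C`
  obtain ⟨W, -, hW⟩ := exists_irr_le (A := C) inv_top top_ne_bot
  have hWtop : W ≠ ⊤ := by
    intro hWt
    refine hna ⟨⟨fun a b => Subtype.ext (endH_injective ?_)⟩⟩
    rw [Subgroup.coe_mul, Subgroup.coe_mul, map_mul, map_mul]
    have hc : ∀ l ∈ L, endH H l ∈
        Subalgebra.centralizer (ZMod p) (endH H '' (C : Set H)) := fun l hl => by
      rw [Subalgebra.mem_centralizer_iff]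
      rintro _ ⟨x, hx, rfl⟩
      rw [← map_mul, ← map_mul, Subgroup.mem_centralizer_iff.1 hx l hl]
    refine centralizer_comm _ (fun U hU => ?_) (hc _ a.2) (hc _ b.2)
    exact (hW.2.2 U (hWt ▸ le_top) fun x hx v hv => hU _ ⟨x, hx, rfl⟩ v hv).imp id
      fun e => e.trans hWt
  have hf2 := two_mul_le hreg hCn hCc hW hWtop
  have hf1 : 1 ≤ Module.finrank (ZMod p) W := Submodule.one_le_finrank_iff.2 hW.2.1
  have hcd := card_dvd hreg hCn hCc hW
  have hn4 := finrank_le_four hreg hperf hLn
  -- the central involution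
  set z : L := e.symm (-1) with hz
  have hzo : orderOf z = 2 := by rw [hz, MulEquiv.orderOf_eq, orderOf_neg_one]
  have hzC : (z : H) ∈ C := by
    have h1 : (z : H) ≠ 1 := fun h => by
      rw [← Subgroup.orderOf_coe, h, orderOf_one] at hzo; omega
    have h2 : (z : H) * z = 1 := by
      rw [← pow_two, ← hzo, ← Subgroup.orderOf_coe, pow_orderOf_eq_one]
    rw [hC, Subgroup.mem_centralizer_iff]
    intro l _
    apply endH_injective
    rw [map_mul, map_mul, involution_endH hreg h1 h2, mul_neg_one, neg_one_mul]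
  have hinter : ∀ l : L, (l : H) ∈ C → l = 1 ∨ l = z := by
    intro l hl
    have hcom : ∀ g : SL(2, ZMod 5), e l * g = g * e l := fun g => by
      obtain ⟨m, rfl⟩ := e.surjective g
      rw [← map_mul, ← map_mul]
      exact congrArg e (Subtype.ext (Subgroup.mem_centralizer_iff.1 hl m m.2).symm)
    rcases sl25_central (e l) (hcom _) (hcom _) with h | h
    · exact Or.inl (e.map_eq_one_iff.1 h)
    · exact Or.inr (by rw [hz, ← h, MulEquiv.symm_apply_apply])
  have hsub : C.subgroupOf L = Subgroup.zpowers z := by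
    refine le_antisymm (fun l hl => ?_) ((Subgroup.zpowers_le).2 hzC)
    rcases hinter l hl with rfl | rfl
    · exact one_mem _
    · exact Subgroup.mem_zpowers _
  have h60 : 60 ∣ C.index := by
    have h := (C.subgroupOf L).index_mul_card
    rw [hcardL, hsub, Nat.card_zpowers, hzo, ← hsub] at h
    have : C.relIndex L = 60 := by
      show (C.subgroupOf L).index = 60
      omega
    exact this ▸ Subgroup.relIndex_dvd_index_of_normal C L
  have h120 : C.index ≤ 120 := by
    have hker : (MulAut.conjNormal : H →* MulAut L).ker = C := by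
      ext x
      rw [MonoidHom.mem_ker, hC, Subgroup.mem_centralizer_iff]
      refine ⟨fun h l hl => ?_, fun h => MulEquiv.ext fun l => Subtype.ext ?_⟩
      · have := congrArg Subtype.val (DFunLike.congr_fun h (⟨l, hl⟩ : L))
        rw [MulAut.conjNormal_apply] at this
        exact (mul_inv_eq_iff_eq_mul.1 this).symm
      · rw [MulAut.conjNormal_apply, ← h (l : H) l.2, mul_inv_cancel_right]
        rfl
    haveI := Fpf.finite_sl25
    have hfin : Finite (MulAut L) :=
      Finite.of_injective (fun φ : MulAut L => (φ : L → L)) DFunLike.coe_injective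
    rw [← hker, Subgroup.index_ker]
    refine (Subgroup.card_le_card_group _).trans ?_
    rw [Nat.card_congr (MulAut.congr e).toEquiv]
    exact Fpf.card_mulAut_le
  have hk : C.index = 60 ∨ C.index = 120 := by
    obtain ⟨j, hj⟩ := h60
    have : C.index ≠ 0 := Subgroup.index_ne_zero_of_finite
    omega
  have hC2 : 2 ∣ Nat.card C := by
    rw [← hzo, ← Subgroup.orderOf_coe]
    exact Subgroup.orderOf_dvd_natCard C hzC
  -- abelian subgroups are cyclic
  have hmiss : ∀ j, 2 < j → ∀ y : L, orderOf y = j → ¬ j ∣ Nat.card C := by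
    intro j hj y hy hjc
    obtain ⟨g, hg⟩ := IsCyclic.exists_ofOrder_eq_natCard (α := C)
    obtain ⟨x, hx⟩ : ∃ x : C, orderOf x = j :=
      ⟨g ^ (orderOf g / j), orderOf_pow_orderOf_div (orderOf_pos g).ne' (hg ▸ hjc)⟩
    set K : Subgroup H := Subgroup.closure {(x : H), (y : H)}
    have hcom : (x : H) * y = y * x := (Subgroup.mem_centralizer_iff.1 x.2 (y : H) y.2).symm
    have hKc : IsMulCommutative K := Subgroup.isMulCommutative_closure (by
      rintro a (rfl | rfl) b (rfl | rfl)
      exacts [rfl, hcom, hcom.symm, rfl])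
    haveI : IsCyclic K := isCyclic_of_abelian hreg K hKc
    have hxK : (x : H) ∈ K := Subgroup.subset_closure (Or.inl rfl)
    have hyK : (y : H) ∈ K := Subgroup.subset_closure (Or.inr rfl)
    have h := Cfsg.Agent.CharTheory.BrauerSuzuki.subgroup_eq_of_card
      (Subgroup.zpowers (⟨x, hxK⟩ : K)) (Subgroup.zpowers (⟨y, hyK⟩ : K)) (by
        simp only [Nat.card_zpowers, Subgroup.orderOf_mk, Subgroup.orderOf_coe, hx, hy])
    obtain ⟨i, hi⟩ := (h ▸ Subgroup.mem_zpowers _ :
      (⟨x, hxK⟩ : K) ∈ Subgroup.zpowers (⟨y, hyK⟩ : K))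
    have hxy : (x : H) = ((y ^ i : L) : H) := by
      rw [SubgroupClass.coe_zpow]; exact (congrArg Subtype.val hi).symm
    have hle : orderOf (y ^ i) ≤ 2 := by
      rcases hinter (y ^ i) (hxy ▸ x.2) with e' | e' <;> rw [e']
      · rw [orderOf_one]; omega
      · exact hzo.le
    rw [← Subgroup.orderOf_coe, ← hxy, Subgroup.orderOf_coe, hx] at hle
    omega
  have h3 : ¬ 3 ∣ Nat.card C := by
    haveI : Fact (Nat.Prime 3) := ⟨Nat.prime_three⟩
    obtain ⟨y, hy⟩ := exists_prime_orderOf_dvd_card' (G := L) 3 (by rw [hcardL]; norm_num)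
    exact hmiss 3 (by omega) y hy
  have h5 : ¬ 5 ∣ Nat.card C := by
    haveI : Fact (Nat.Prime 5) := ⟨by norm_num⟩
    obtain ⟨y, hy⟩ := exists_prime_orderOf_dvd_card' (G := L) 5 (by rw [hcardL]; norm_num)
    exact hmiss 5 (by omega) y hy
  have h4 : ¬ 4 ∣ Nat.card C :=
    hmiss 4 (by omega) (e.symm Fpf.genX) (by rw [MulEquiv.orderOf_eq, orderOf_genX])
  have hVcard : Nat.card V = p ^ Module.finrank (ZMod p) V := by
    rw [Module.natCard_eq_pow_finrank (K := ZMod p) (V := V), Nat.card_zmod]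
  have hHcard : C.index * Nat.card C = p ^ Module.finrank (ZMod p) V - 1 := by
    rw [C.index_mul_card, card_eq hreg, hVcard]
  obtain ⟨hn, hk60, hcases⟩ :=
    three_cases hp.out hf2 hn4 hf1 hcd hk hHcard h4 hC2 h3 h5
  -- the splitting
  obtain ⟨m, hm⟩ := hC2
  refine ⟨m, ?_, ?_⟩
  · rw [hVcard, hn]
    rcases hcases with ⟨rfl, hc⟩ | ⟨rfl, hc⟩ | ⟨rfl, hc⟩
    · exact Or.inl ⟨by norm_num, by omega⟩
    · exact Or.inr (Or.inl ⟨by norm_num, by omega⟩)
    · exact Or.inr (Or.inr ⟨by norm_num, by omega⟩)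
  have hmodd : ¬ 2 ∣ m := fun h => h4 (hm ▸ Nat.mul_dvd_mul_left 2 h)
  obtain ⟨g, hg⟩ := IsCyclic.exists_ofOrder_eq_natCard (α := C)
  have hgo : orderOf ((g : H) ^ 2) = m := by
    rw [orderOf_pow, Subgroup.orderOf_coe, hg, hm, Nat.gcd_mul_right_left, Nat.mul_div_cancel_left _ two_pos]
  set M := Subgroup.zpowers ((g : H) ^ 2) with hM
  have hMC : M ≤ C := Subgroup.zpowers_le.2 (pow_mem g.2 2)
  have hcomm : ∀ (l : L) (x : M), Commute (L.subtype l) (M.subtype x) := fun l x =>
    Subgroup.mem_centralizer_iff.1 (hMC x.2) (l : H) l.2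
  let f : L × M →* H := MonoidHom.noncommCoprod L.subtype M.subtype hcomm
  have hinj : Function.Injective f := by
    refine (injective_iff_map_eq_one _).2 fun ⟨l, x⟩ hlx => ?_
    have hlx' : (l : H) * (x : H) = 1 := hlx
    have hl : (l : H) ∈ C := by
      rw [eq_inv_of_mul_eq_one_left hlx']; exact inv_mem (hMC x.2)
    have hl1 : l = 1 := (hinter l hl).resolve_right fun hlz => hmodd (by
      have hxz : (z : H)⁻¹ = x := by
        rw [← hlz]; exact inv_eq_of_mul_eq_one_right hlx'
      have h2 : orderOf ((z : H)⁻¹) ∣ Nat.card M := hxz ▸ Subgroup.orderOf_dvd_natCard M x.2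
      rwa [orderOf_inv, Subgroup.orderOf_coe, hzo, hM, Nat.card_zpowers, hgo] at h2)
    subst hl1
    rw [Subgroup.coe_one, one_mul] at hlx'
    exact Prod.ext rfl (Subtype.ext hlx')
  have hcard : Nat.card (L × M) = Nat.card H := by
    rw [Nat.card_prod, hcardL, hM, Nat.card_zpowers, hgo, ← C.index_mul_card, hk60, hm]
    ring
  let E : L × M ≃* H := MulEquiv.ofBijective f ((Nat.bijective_iff_injective_and_card f).2 ⟨hinj, hcard⟩)
  have hcM : Nat.card M = m := by rw [hM, Nat.card_zpowers, hgo]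
  let e₂ : Multiplicative (ZMod m) ≃* M :=
    hcM ▸ zmodCyclicMulEquiv (G := M) inferInstance
  exact ⟨E.symm.trans (e.prodCongr e₂.symm)⟩

end Cfsg.Agent.Perm.NearField
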