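import Mathlib
import Cfsg.Agent.Lib.Perm.NearFieldQuat
import Cfsg.Agent.Lib.Perm.NonsolvableRegular
import Cfsg.Agent.Lib.Perm.AutQuaternion

/-!
# Regular linear groups of even order without noncentral elements of order three
-/

set_option autoImplicit false

namespace Cfsg.Agent.Perm.NearField

open Fpf (Ord3)

theorem index_two_of_two_group_quotient {G Q : Type*} [Group G] [Group Q] [Finite Q]
    (f : G →* Q) (hf : Function.Surjective f) (hQ : IsPGroup 2 Q) [Nontrivial Q] :
    ∃ N : Subgroup G, N.index = 2 := by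
  haveI : Fact (Nat.Prime 2) := ⟨Nat.prime_two⟩
  obtain ⟨k, hk0, hk⟩ := hQ.nontrivial_iff_card.1 inferInstance
  obtain ⟨K, hK⟩ := Sylow.exists_subgroup_card_pow_prime 2 (n := k - 1) (G := Q)
    (by rw [hk]; exact pow_dvd_pow 2 (Nat.sub_le k 1))
  refine ⟨K.comap f, ?_⟩
  rw [Subgroup.index_comap_of_surjective _ hf]
  have h := K.index_mul_card
  rw [hK, hk, show 2 ^ k = 2 * 2 ^ (k - 1) by rw [← pow_succ', Nat.sub_add_cancel hk0]] at h
  exact Nat.eq_of_mul_eq_mul_right (by positivity) h

theorem index_two_of_comm_quotient {G Q : Type*} [Group G] [Group Q] [Finite Q]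
    (f : G →* Q) (hf : Function.Surjective f) (hQ : ∀ x y : Q, x * y = y * x)
    (h2 : 2 ∣ Nat.card Q) : ∃ N : Subgroup G, N.index = 2 := by
  haveI : Fact (Nat.Prime 2) := ⟨Nat.prime_two⟩
  letI : CommGroup Q := { (inferInstance : Group Q) with mul_comm := hQ }
  obtain ⟨m, hm, hcard⟩ : ∃ m, Odd m ∧ Nat.card Q = 2 ^ (Nat.card Q).factorization 2 * m :=
    ⟨_, Nat.not_even_iff_odd.1 fun h => Nat.not_dvd_ordCompl Nat.prime_two Nat.card_pos.ne' h.two_dvd,
      (Nat.ordProj_mul_ordCompl_eq_self _ 2).symm⟩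
  let g : Q →* Q := powMonoidHom m
  haveI : Nontrivial g.range := by
    obtain ⟨t, ht⟩ := exists_prime_orderOf_dvd_card' (G := Q) 2 h2
    refine ⟨⟨⟨g t, t, rfl⟩, 1, fun e => ?_⟩⟩
    have h1 : t ^ m = 1 := congrArg Subtype.val e
    have := orderOf_dvd_of_pow_eq_one h1
    rw [ht] at this
    exact Nat.not_even_iff_odd.2 hm (even_iff_two_dvd.2 this)
  refine index_two_of_two_group_quotient (g.rangeRestrict.comp f)
    (g.rangeRestrict_surjective.comp hf) fun x => ⟨(Nat.card Q).factorization 2, ?_⟩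
  obtain ⟨_, y, rfl⟩ := x
  refine Subtype.ext ?_
  show (y ^ m) ^ 2 ^ (Nat.card Q).factorization 2 = 1
  rw [← pow_mul, mul_comm, ← hcard, pow_card_eq_one']

theorem index_two_of_cyclic {G : Type*} [Group G] [Finite G] (h2 : 2 ∣ Nat.card G)
    (P : Sylow 2 G) (hP : IsCyclic (P : Subgroup G)) : ∃ N : Subgroup G, N.index = 2 := by
  haveI : Fact (Nat.Prime 2) := ⟨Nat.prime_two⟩
  have hle := hP.normalizer_le_centralizer (P := P) ((Nat.minFac_eq_two_iff _).2 h2)
  set τ := MonoidHom.transferSylow P hle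
  have hodd : ¬ 2 ∣ Nat.card τ.ker := MonoidHom.not_dvd_card_ker_transferSylow P hle
  haveI : Nontrivial τ.range := by
    rw [Subgroup.nontrivial_iff_ne_bot]
    intro e
    rw [MonoidHom.range_eq_bot_iff] at e
    apply hodd
    rw [show τ.ker = ⊤ from MonoidHom.ker_eq_top_iff.2 e, Subgroup.card_top]
    exact h2
  exact index_two_of_two_group_quotient τ.rangeRestrict τ.rangeRestrict_surjective
    (P.2.to_subgroup _)

variable {p : ℕ} [hp : Fact p.Prime] {V : Type*} [AddCommGroup V] [Module (ZMod p) V]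
variable {H : Subgroup (V ≃ₗ[ZMod p] V)}

/-- no noncentral elements of order three leaves room for a subgroup of index two -/
theorem exists_index_two [Finite V] [Nontrivial V] (hreg : Reg H) (h2 : 2 ∣ Nat.card H)
    (hc : ∀ g : H, Ord3 g → g ∈ Subgroup.center H) : ∃ N : Subgroup H, N.index = 2 := by
  classical
  haveI := finite_H (H := H)
  haveI : Fact (Nat.Prime 2) := ⟨Nat.prime_two⟩
  haveI : Fact (Nat.Prime 3) := ⟨Nat.prime_three⟩
  -- the group is solvable
  haveI hsolv : Group.IsSolvable H := by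
    by_contra hns
    obtain ⟨L, -, hLnt, hperf⟩ := exists_perfect_normal hns
    obtain ⟨a, b, ha, -, hab⟩ := Fpf.exists_pair ((endH H).comp L.subtype)
      (fun g v e hv => Subtype.ext (eq_one_of_fix hreg hv e)) hperf
    refine hab (Subtype.ext ?_)
    exact (Subgroup.mem_center_iff.1 (hc (a : H)
      ⟨by rw [← SubgroupClass.coe_pow, ha.1, Subgroup.coe_one], fun e => ha.2 (Subtype.ext e)⟩)
      (b : H)).symm
  -- a maximal abelian normal subgroup
  haveI : Finite (Subgroup H) := Finite.of_injective (fun L => (L : Set H)) SetLike.coe_injective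
  obtain ⟨A, ⟨hAn, hAc⟩, hmax⟩ := wellFounded_gt.has_min
    {B : Subgroup H | B.Normal ∧ IsMulCommutative B} ⟨⊥, inferInstance, inferInstance⟩
  have hAmax : ∀ B : Subgroup H, B.Normal → IsMulCommutative B → A ≤ B → B = A :=
    fun B hB hBc hle => (hle.eq_or_lt.resolve_right fun h => hmax B ⟨hB, hBc⟩ h).symm
  haveI := hAn
  haveI : IsCyclic A := isCyclic_of_abelian hreg A hAc
  by_cases hCA : Subgroup.centralizer (A : Set H) = A
  · let f : H →* MulAut A := MulAut.conjNormal
    have hker : f.ker = A := by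
      refine le_antisymm (fun g hg => ?_) fun g hg => ?_
      · rw [← hCA, Subgroup.mem_centralizer_iff]
        intro a ha
        have e := congrArg Subtype.val (DFunLike.congr_fun (MonoidHom.mem_ker.1 hg) (⟨a, ha⟩ : A))
        rw [MulAut.conjNormal_apply] at e
        exact (mul_inv_eq_iff_eq_mul.1 e).symm
      · refine MonoidHom.mem_ker.2 (MulEquiv.ext fun a => Subtype.ext ?_)
        rw [MulAut.conjNormal_apply, congrArg Subtype.val (hAc.is_comm.comm (⟨g, hg⟩ : A) a) |>
          fun e => (mul_inv_eq_iff_eq_mul.2 e : g * (a : H) * g⁻¹ = a)]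
        rfl
    haveI := Fpf.mulAut_comm A
    rcases Nat.even_or_odd (Nat.card f.range) with he | ho
    · exact index_two_of_comm_quotient f.rangeRestrict f.rangeRestrict_surjective
        (fun x y => Subtype.ext (IsMulCommutative.is_comm.comm (x : MulAut A) y)) he.two_dvd
    · obtain ⟨P⟩ : Nonempty (Sylow 2 H) := inferInstance
      refine index_two_of_cyclic h2 P ?_
      have hPA : (P : Subgroup H) ≤ A := by
        intro x hx
        rw [← hker, MonoidHom.mem_ker, ← orderOf_eq_one_iff]
        obtain ⟨k, hk⟩ := IsPGroup.iff_orderOf.1 P.2 ⟨x, hx⟩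
        rw [Subgroup.orderOf_mk] at hk
        have h1 : orderOf (f x) ∣ 2 ^ k := hk ▸ orderOf_map_dvd f x
        have h3 : orderOf (f x) ∣ Nat.card f.range :=
          Subgroup.orderOf_dvd_natCard _ ⟨x, rfl⟩
        exact Nat.eq_one_of_dvd_coprimes
          (Nat.Coprime.pow_left k (Nat.coprime_two_left.2 ho)) h1 h3
      exact isCyclic_of_injective (Subgroup.inclusion hPA) (Subgroup.inclusion_injective hPA)
  -- a normal quaternion subgroup
  obtain ⟨N, ⟨hNn, hNle, hNna⟩, hNmin⟩ := wellFounded_lt.has_min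
    {M : Subgroup H | M.Normal ∧ M ≤ Subgroup.centralizer (A : Set H) ∧ ¬ IsMulCommutative M}
    ⟨_, inferInstance, le_rfl, fun h => hCA (hAmax _ inferInstance h
      (Subgroup.le_centralizer_iff_isMulCommutative.2 hAc))⟩
  obtain ⟨e⟩ := minimal_q8 hreg hAn hAc hAmax hNn hNle hNna
    (fun M hM hle hna => hle.eq_or_lt.resolve_right fun h => hNmin M ⟨hM, hle.trans hNle, hna⟩ h)
    inferInstance
  obtain ⟨hfr, -⟩ := finrank_le_two hreg hNn e
  have hfr2 : Module.finrank (ZMod p) V = 2 := by
    have h1 : 0 < Module.finrank (ZMod p) V := Module.finrank_pos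
    by_contra hne
    apply hNna
    have h1' : Module.finrank (ZMod p) V = 1 := by omega
    obtain ⟨v, hv, hspan⟩ := finrank_eq_one_iff'.1 h1'
    refine ⟨⟨fun x y => Subtype.ext (eq_of_apply_eq hreg hv ?_)⟩⟩
    obtain ⟨cx, hcx⟩ := hspan (endH H (x : H) v)
    obtain ⟨cy, hcy⟩ := hspan (endH H (y : H) v)
    show endH H ((x : H) * y) v = endH H ((y : H) * x) v
    rw [map_mul, map_mul, Module.End.mul_apply, Module.End.mul_apply, ← hcx, ← hcy, map_smul,
      map_smul, ← hcx, ← hcy, smul_comm]
  have hcardH : Nat.card H = p ^ 2 - 1 := by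
    rw [card_eq hreg, Module.natCard_eq_pow_finrank (K := ZMod p) (V := V), Nat.card_zmod, hfr2]
  haveI := hNn
  set C := Subgroup.centralizer (N : Set H)
  have hCc : IsMulCommutative C := centralizer_comm_of_not_comm hreg hNn hNna
  -- the centralizer is scalar
  obtain ⟨W, -, hW⟩ := exists_irr_le (A := C) inv_top top_ne_bot
  have hWtop : W ≠ ⊤ := by
    intro hWtop
    apply hNna
    refine ⟨⟨fun x y => Subtype.ext (endH_injective ?_)⟩⟩
    rw [Subgroup.coe_mul, Subgroup.coe_mul, map_mul, map_mul]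
    have hm : ∀ z ∈ N, endH H z ∈ Subalgebra.centralizer (ZMod p) (endH H '' (C : Set H)) := by
      intro z hz
      rw [Subalgebra.mem_centralizer_iff]
      rintro _ ⟨c, hc', rfl⟩
      rw [← map_mul, ← map_mul, Subgroup.mem_centralizer_iff.1 hc' z hz]
    refine centralizer_comm _ (fun U hU => ?_) (hm _ x.2) (hm _ y.2)
    have := hW.2.2 U (hWtop ▸ le_top) (fun c hc' v hv => hU _ ⟨c, hc', rfl⟩ v hv)
    rwa [hWtop] at this
  have hcdvd : Nat.card C ∣ p - 1 := by
    have h1 := two_mul_le hreg inferInstance hCc hW hWtop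
    haveI : Nontrivial W := Submodule.nontrivial_iff_ne_bot.2 hW.2.1
    have h3 : 0 < Module.finrank (ZMod p) W := Module.finrank_pos
    have h4 := card_dvd hreg inferInstance hCc hW
    rw [show Module.finrank (ZMod p) W = 1 by omega, pow_one] at h4
    exact h4
  let f : H →* MulAut N := MulAut.conjNormal
  have hker : f.ker = C := by
    ext g
    rw [MonoidHom.mem_ker, Subgroup.mem_centralizer_iff]
    constructor
    · intro hg a ha
      have e := congrArg Subtype.val (DFunLike.congr_fun hg (⟨a, ha⟩ : N))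
      rw [MulAut.conjNormal_apply] at e
      exact (mul_inv_eq_iff_eq_mul.1 e).symm
    · intro hg
      refine MulEquiv.ext fun a => Subtype.ext ?_
      rw [MulAut.conjNormal_apply]
      exact mul_inv_eq_iff_eq_mul.2 (hg a a.2).symm
  have hm24 : Nat.card f.range ∣ 24 := by
    rw [← AutQuaternion.natCard_mulAut, ← Nat.card_congr (MulAut.congr e).toEquiv]
    exact Subgroup.card_subgroup_dvd_card _
  have hmc : Nat.card f.range * Nat.card C = p ^ 2 - 1 := by
    rw [← hcardH, ← C.index_mul_card, ← hker, Subgroup.index_ker]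
  by_cases h3 : 3 ∣ Nat.card f.range
  · exfalso
    obtain ⟨g, hg⟩ := exists_prime_orderOf_dvd_card' (G := H) 3
      (h3.trans (Subgroup.card_range_dvd f))
    have hgC : g ∈ C := by
      have := hc g ⟨by rw [← hg, pow_orderOf_eq_one], fun e => by simp [e] at hg⟩
      exact Subgroup.mem_centralizer_iff.2 fun a _ => (Subgroup.mem_center_iff.1 this a)
    have h3c : 3 ∣ Nat.card C := hg ▸ Subgroup.orderOf_dvd_natCard C hgC
    obtain ⟨k, hk⟩ := hcdvd
    have hp1 := hp.out.one_lt
    have hprod : p ^ 2 - 1 = (p + 1) * (p - 1) := by rw [← Nat.sq_sub_sq, one_pow]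
    have h9 : 9 ∣ p ^ 2 - 1 := hmc ▸ Nat.mul_dvd_mul h3 h3c
    have hdiv : p + 1 ∣ 24 := by
      refine dvd_trans ⟨k, ?_⟩ hm24
      refine Nat.eq_of_mul_eq_mul_right (Nat.card_pos (α := C)) ?_
      rw [hmc, hprod, hk]
      ring
    have hle := Nat.le_of_dvd (by norm_num) hdiv
    have hp23 : p ≤ 23 := by omega
    interval_cases p <;> first
      | (norm_num at hdiv; done)
      | (norm_num at h9; done)
      | (norm_num at hp; done)
  · -- the image is a two-group
    haveI : Nontrivial f.range := by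
      rw [Subgroup.nontrivial_iff_ne_bot]
      intro hbot
      rw [MonoidHom.range_eq_bot_iff] at hbot
      apply hNna
      have hNC : N ≤ C := by
        rw [← hker, show f.ker = ⊤ from MonoidHom.ker_eq_top_iff.2 hbot]; exact le_top
      exact Subgroup.le_centralizer_iff_isMulCommutative.1 hNC
    refine index_two_of_two_group_quotient f.rangeRestrict f.rangeRestrict_surjective ?_
    have h8 : Nat.card f.range ∣ 2 ^ 3 := by
      have hcop : Nat.Coprime (Nat.card f.range) 3 :=
        (Nat.prime_three.coprime_iff_not_dvd.2 h3).symm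
      exact hcop.dvd_of_dvd_mul_right (show Nat.card f.range ∣ 2 ^ 3 * 3 from hm24)
    obtain ⟨j, -, hj⟩ := (Nat.dvd_prime_pow Nat.prime_two).1 h8
    exact IsPGroup.of_card hj

end Cfsg.Agent.Perm.NearField
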