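import Mathlib
import Cfsg.Agent.Lib.Perm.NearFieldTwoIndex
import Cfsg.Agent.Lib.Perm.Zassenhaus.Field
import Cfsg.Agent.Lib.PLocal.QuaternionSection
import Cfsg.Agent.S0685
import Cfsg.Agent.S0687
import Cfsg.Agent.S3742

/-!
# Solvable linear groups regular on the nonzero vectors: semilinearity and subgroups of index two
-/

set_option autoImplicit false

namespace Cfsg.Agent.Perm.NearField

open scoped Pointwise

abbrev SL23' := Matrix.SpecialLinearGroup (Fin 2) (ZMod 3)

/-- the kernel of conjugation on a normal subgroup is its centralizer -/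
theorem ker_conjNormal {G : Type*} [Group G] (N : Subgroup G) [N.Normal] :
    (MulAut.conjNormal (H := N)).ker = Subgroup.centralizer (N : Set G) := by
  ext g
  rw [MonoidHom.mem_ker, Subgroup.mem_centralizer_iff]
  constructor
  · intro hg a ha
    have e := congrArg Subtype.val (DFunLike.congr_fun hg (⟨a, ha⟩ : N))
    rw [MulAut.conjNormal_apply] at e
    exact (mul_inv_eq_iff_eq_mul.1 e).symm
  · intro hg
    refine MulEquiv.ext fun a => Subtype.ext ?_
    rw [MulAut.conjNormal_apply]
    exact mul_inv_eq_iff_eq_mul.2 (hg a a.2).symm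

variable {p : ℕ} [hp : Fact p.Prime] {V : Type*} [AddCommGroup V] [Module (ZMod p) V]
variable {H : Subgroup (V ≃ₗ[ZMod p] V)}

/-- a commutative centralizer of a normal cyclic subgroup leaves room for index two -/
theorem index_two_of_comm_centralizer [Finite V] [Nontrivial V] (hreg : Reg H)
    (h2 : 2 ∣ Nat.card H) {A : Subgroup H} (hAn : A.Normal) (hAcy : IsCyclic A)
    (hC : IsMulCommutative (Subgroup.centralizer (A : Set H))) :
    ∃ N : Subgroup H, N.index = 2 := by
  haveI := finite_H (H := H)
  haveI : Fact (Nat.Prime 2) := ⟨Nat.prime_two⟩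
  haveI := hAn
  haveI := hAcy
  let f : H →* MulAut A := MulAut.conjNormal
  have hker : f.ker = Subgroup.centralizer (A : Set H) := ker_conjNormal A
  haveI := Fpf.mulAut_comm A
  rcases Nat.even_or_odd (Nat.card f.range) with he | ho
  · exact index_two_of_comm_quotient f.rangeRestrict f.rangeRestrict_surjective
      (fun x y => Subtype.ext (IsMulCommutative.is_comm.comm (x : MulAut A) y)) he.two_dvd
  · obtain ⟨P⟩ : Nonempty (Sylow 2 H) := inferInstance
    refine index_two_of_cyclic h2 P ?_
    haveI := isCyclic_of_abelian hreg _ hC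
    have hPA : (P : Subgroup H) ≤ Subgroup.centralizer (A : Set H) := by
      intro x hx
      rw [← hker, MonoidHom.mem_ker, ← orderOf_eq_one_iff]
      obtain ⟨k, hk⟩ := IsPGroup.iff_orderOf.1 P.2 ⟨x, hx⟩
      rw [Subgroup.orderOf_mk] at hk
      have h1 : orderOf (f x) ∣ 2 ^ k := hk ▸ orderOf_map_dvd f x
      have h3 : orderOf (f x) ∣ Nat.card f.range :=
        Subgroup.orderOf_dvd_natCard _ ⟨x, rfl⟩
      exact Nat.eq_one_of_dvd_coprimes
        (Nat.Coprime.pow_left k (Nat.coprime_two_left.2 ho)) h1 h3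
    exact isCyclic_of_injective (Subgroup.inclusion hPA) (Subgroup.inclusion_injective hPA)

/-- a normal commutative irreducible subgroup makes the group semilinear -/
theorem semilinear_of_irr [Finite V] [Nontrivial V] (hreg : Reg H) {A : Subgroup H}
    (hAn : A.Normal) (hAc : IsMulCommutative A) (hirr : Irr A ⊤) :
    (∃ (F : Type) (_ : Field F) (_ : Fintype F) (e : V ≃+ F),
      ∀ h : H, ∃ (a : F) (σ : F ≃+* F), ∀ v : V, e ((h : V ≃ₗ[ZMod p] V) v) = a * σ (e v)) ∧
    IsMulCommutative (Subgroup.centralizer (A : Set H)) := by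
  classical
  haveI := finite_end (p := p) (V := V)
  obtain ⟨v₀, hv₀⟩ := exists_ne (0 : V)
  letI : CommRing (alg A) :=
    { (inferInstance : Ring (alg A)) with
      mul_comm := fun x y => Subtype.ext (alg_comm hAc x.2 y.2) }
  haveI : IsDomain (alg A) := alg_isDomain hreg hAn hAc
  have := Fintype.ofFinite (alg A)
  letI : Field (alg A) := Fintype.fieldOfDomain (alg A)
  let φ : alg A →+ V := AddMonoidHom.mk' (fun r => (r : Module.End (ZMod p) V) v₀) fun r s => rfl
  have hφ : Function.Bijective φ := by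
    rw [Nat.bijective_iff_injective_and_card]
    refine ⟨fun r s e => ?_, ?_⟩
    · have e' : (r.1 - s.1) v₀ = 0 := by rw [LinearMap.sub_apply, sub_eq_zero]; exact e
      by_contra hne
      exact hv₀ (alg_injective hreg hAn hAc ((alg A).sub_mem r.2 s.2)
        (sub_ne_zero.2 fun h => hne (Subtype.ext h)) e')
    · rw [card_alg hreg hAn hAc hirr]
      exact Nat.card_congr (Equiv.Set.univ V)
  refine ⟨?_, ?_⟩
  · have hmem : ∀ (h : H) (r : Module.End (ZMod p) V), r ∈ alg A →
        endH H h * r * endH H h⁻¹ ∈ alg A := by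
      intro h r hr
      induction hr using Algebra.adjoin_induction with
      | mem x hx =>
        obtain ⟨a, ha, rfl⟩ := hx
        rw [← map_mul, ← map_mul]
        exact alg_mem _ (hAn.conj_mem a ha h)
      | algebraMap c =>
        rw [← Algebra.commutes, mul_assoc, ← map_mul, mul_inv_cancel, map_one, mul_one]
        exact (alg A).algebraMap_mem c
      | add x y _ _ hx hy => rw [mul_add, add_mul]; exact add_mem hx hy
      | mul x y _ _ hx hy =>
        convert mul_mem hx hy using 1
        have e : endH H h⁻¹ * endH H h = 1 := by rw [← map_mul, inv_mul_cancel, map_one]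
        simp only [mul_assoc]
        rw [← mul_assoc (endH H h⁻¹) (endH H h), e, one_mul]
    let c : H → (alg A →+* alg A) := fun h =>
      { toFun := fun r => ⟨_, hmem h r r.2⟩
        map_one' := Subtype.ext (by simp [← map_mul])
        map_zero' := Subtype.ext (by simp)
        map_add' := fun r s => Subtype.ext (by simp [mul_add, add_mul])
        map_mul' := fun r s => Subtype.ext (by
          have e : endH H h⁻¹ * endH H h = 1 := by rw [← map_mul, inv_mul_cancel, map_one]
          simp only [Subalgebra.coe_mul, mul_assoc]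
          rw [← mul_assoc (endH H h⁻¹) (endH H h), e, one_mul]) }
    obtain ⟨K, iK, iK', ⟨ε⟩⟩ := Zassenhaus.exists_small_copy (alg A)
    let e : V ≃+ K := (AddEquiv.ofBijective φ hφ).symm.trans ε.symm.toAddEquiv
    refine ⟨K, iK, iK', e, fun h => ?_⟩
    obtain ⟨s, hs⟩ := hφ.2 ((h : V ≃ₗ[ZMod p] V) v₀)
    have hσ : Function.Bijective (c h) := Finite.injective_iff_bijective.1 (c h).injective
    refine ⟨ε.symm s, (ε.trans (RingEquiv.ofBijective (c h) hσ)).trans ε.symm, fun v => ?_⟩
    obtain ⟨r, rfl⟩ := hφ.2 v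
    have h1 : (h : V ≃ₗ[ZMod p] V) (φ r) = φ (s * c h r) := by
      have e1 : φ (s * c h r) = φ (c h r * s) := by rw [mul_comm]
      rw [e1]
      show endH H h ((r : Module.End (ZMod p) V) v₀)
        = (endH H h * (r : Module.End (ZMod p) V) * endH H h⁻¹) ((s : Module.End (ZMod p) V) v₀)
      rw [show (s : Module.End (ZMod p) V) v₀ = (h : V ≃ₗ[ZMod p] V) v₀ from hs,
        Module.End.mul_apply, Module.End.mul_apply, ← endH_apply, ← Module.End.mul_apply (endH H h⁻¹),
        ← map_mul, inv_mul_cancel, map_one, Module.End.one_apply]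
    have he : ∀ x : alg A, e (φ x) = ε.symm x := fun x => by
      show ε.symm ((AddEquiv.ofBijective φ hφ).symm (φ x)) = _
      rw [show (AddEquiv.ofBijective φ hφ).symm (φ x) = x from
        (AddEquiv.ofBijective φ hφ).symm_apply_apply x]
    rw [h1, he, he, map_mul]
    show _ = ε.symm s * ε.symm (c h (ε (ε.symm r)))
    rw [RingEquiv.apply_symm_apply]
  · have hrep : ∀ z ∈ Subgroup.centralizer (A : Set H), endH H z ∈ alg A := by
      intro z hz
      obtain ⟨r, hr⟩ := hφ.2 (endH H z v₀)
      have hcomm : ∀ t ∈ alg A, endH H z * t = t * endH H z := by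
        intro t ht
        have : t ∈ Subalgebra.centralizer (ZMod p) {endH H z} := by
          refine Algebra.adjoin_le ?_ ht
          rintro _ ⟨a, ha, rfl⟩
          rw [SetLike.mem_coe, Subalgebra.mem_centralizer_iff]
          rintro g rfl
          rw [← map_mul, ← map_mul, Subgroup.mem_centralizer_iff.1 hz a ha]
        exact Subalgebra.mem_centralizer_iff (ZMod p) |>.1 this _ rfl
      have : endH H z = (r : Module.End (ZMod p) V) := by
        refine LinearMap.ext fun v => ?_
        obtain ⟨t, rfl⟩ := hφ.2 v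
        show endH H z ((t : Module.End (ZMod p) V) v₀) = (r : Module.End (ZMod p) V) ((t : Module.End (ZMod p) V) v₀)
        rw [← Module.End.mul_apply, hcomm t t.2, Module.End.mul_apply,
          ← Module.End.mul_apply (r : Module.End (ZMod p) V), alg_comm hAc r.2 t.2, Module.End.mul_apply]
        exact congrArg _ hr.symm
      rw [this]
      exact r.2
    exact ⟨⟨fun x y => Subtype.ext (endH_injective (by
      rw [Subgroup.coe_mul, Subgroup.coe_mul, map_mul, map_mul]
      exact alg_comm hAc (hrep x x.2) (hrep y y.2)))⟩⟩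

open QuaternionGroup in
/-- a group of order 24 with a normal quaternion subgroup moved by an element of order three -/
theorem sl23_of_q8 {G : Type*} [Group G] [Finite G] (N : Subgroup G) [N.Normal]
    (e : N ≃* QuaternionGroup 2) (hG : Nat.card G = 24) (g : G) (hg : orderOf g = 3)
    (hne : MulAut.conjNormal (H := N) g ≠ 1) : Nonempty (G ≃* SL23') := by
  set ψ : Subgroup.zpowers g →* MulAut (QuaternionGroup 2) :=
    ((MulAut.congr e).toMonoidHom.comp (MulAut.conjNormal (H := N))).comp
      (Subgroup.zpowers g).subtype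
  set φ : MulAut (QuaternionGroup 2) := ψ ⟨g, Subgroup.mem_zpowers g⟩ with hφ
  have hgo : orderOf (⟨g, Subgroup.mem_zpowers g⟩ : Subgroup.zpowers g) = 3 := by
    rw [Subgroup.orderOf_mk, hg]
  have hφdvd : orderOf φ ∣ 3 := hgo ▸ orderOf_map_dvd ψ _
  have hφne : φ ≠ 1 := fun h => hne ((MulEquiv.map_eq_one_iff (MulAut.congr e)).1 h)
  obtain ⟨c, hc, hconj⟩ := PLocal.QuaternionSection.q8_aut φ
    ((by decide : Odd 3).of_dvd_nat hφdvd) hφne
  have hk : ∀ (j : ℕ) x, c ^ j * PLocal.QuaternionSection.q8Hom x * (c ^ j)⁻¹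
      = PLocal.QuaternionSection.q8Hom ((φ ^ j) x) := by
    intro j
    induction j with
    | zero => simp
    | succ j ih =>
      intro x
      rw [pow_succ', pow_succ' φ, MulAut.mul_apply, ← hconj, ← ih]
      group
  have hgen : ∀ x : Subgroup.zpowers g, x ∈ Subgroup.zpowers ⟨g, Subgroup.mem_zpowers g⟩ := by
    rintro ⟨x, j, rfl⟩
    exact ⟨j, Subtype.ext (by simp)⟩
  have hcord : orderOf c ∣ orderOf (⟨g, Subgroup.mem_zpowers g⟩ : Subgroup.zpowers g) :=
    (orderOf_dvd_of_pow_eq_one hc).trans (dvd_of_eq hgo.symm)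
  set χ : Subgroup.zpowers g →* SL23' := monoidHomOfForallMemZpowers hgen hcord
  have hχ : χ ⟨g, Subgroup.mem_zpowers g⟩ = c := monoidHomOfForallMemZpowers_apply_gen hgen hcord
  let ι : QuaternionGroup 2 ⋊[ψ] Subgroup.zpowers g →* G :=
    SemidirectProduct.lift (N.subtype.comp e.symm.toMonoidHom) (Subgroup.zpowers g).subtype
      (fun x => by
        ext u
        simp only [ψ, MonoidHom.comp_apply, MulEquiv.coe_toMonoidHom, MulAut.congr_apply,
          MulEquiv.trans_apply, MulEquiv.symm_apply_apply, Subgroup.subtype_apply,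
          MulAut.conj_apply, MulAut.conjNormal_apply])
  let σ : QuaternionGroup 2 ⋊[ψ] Subgroup.zpowers g →* SL23' :=
    SemidirectProduct.lift PLocal.QuaternionSection.q8Hom χ (fun x => by
      obtain ⟨j, rfl⟩ := (mem_powers_iff_mem_zpowers).mpr (hgen x)
      ext u : 1
      simp only [MonoidHom.comp_apply, MulEquiv.coe_toMonoidHom]
      rw [map_pow ψ, map_pow χ, hχ, MulAut.conj_apply]
      exact (hk j u).symm)
  haveI : Finite (QuaternionGroup 2 ⋊[ψ] Subgroup.zpowers g) :=
    Finite.of_equiv _ SemidirectProduct.equivProd.symm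
  have hcard : Nat.card (QuaternionGroup 2 ⋊[ψ] Subgroup.zpowers g) = 24 := by
    rw [SemidirectProduct.card, Nat.card_zpowers, hg, Nat.card_eq_fintype_card, QuaternionGroup.card]
  have h8 : Nat.card N = 8 := by
    rw [Nat.card_congr e.toEquiv, Nat.card_eq_fintype_card, QuaternionGroup.card]
  have hι : Function.Bijective ι := by
    rw [Nat.bijective_iff_injective_and_card]
    refine ⟨?_, by rw [hcard, hG]⟩
    rw [injective_iff_map_eq_one]
    intro q hq
    have h1 : ((e.symm q.left : N) : G) * (q.right : G) = 1 := hq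
    have hmem : (q.right : G) ∈ N := by
      rw [eq_inv_of_mul_eq_one_right h1]
      exact N.inv_mem (e.symm q.left).2
    have hr : (q.right : G) = 1 := by
      rw [← orderOf_eq_one_iff]
      refine Nat.eq_one_of_dvd_coprimes (by norm_num : Nat.Coprime 8 3) ?_ ?_
      · rw [← h8]
        exact Subgroup.orderOf_dvd_natCard N hmem
      · rw [← hg, ← Nat.card_zpowers g]
        exact Subgroup.orderOf_dvd_natCard _ q.right.2
    rw [hr, mul_one] at h1
    refine SemidirectProduct.ext ?_ (Subtype.ext hr)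
    rwa [OneMemClass.coe_eq_one, MulEquiv.map_eq_one_iff] at h1
  have hσ : Function.Bijective σ := by
    have hc24 : Nat.card SL23' = 24 := by
      rw [Nat.card_eq_fintype_card]
      decide +kernel
    rw [Nat.bijective_iff_surjective_and_card]
    refine ⟨?_, by rw [hcard, hc24]⟩
    rw [← MonoidHom.range_eq_top]
    have hcne : c ≠ 1 := by
      intro h
      apply hφne
      ext x
      have := hconj x
      rw [h, inv_one, one_mul, mul_one] at this
      exact (PLocal.QuaternionSection.q8Hom_injective this).symm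
    have : Fact (Nat.Prime 3) := ⟨Nat.prime_three⟩
    have h3r : 3 ∣ Nat.card σ.range := by
      have hd : orderOf c ∣ Nat.card σ.range := by
        rw [← hχ]
        exact Subgroup.orderOf_dvd_natCard _ ⟨SemidirectProduct.inr ⟨g, Subgroup.mem_zpowers g⟩,
          SemidirectProduct.lift_inr _ _ _ _⟩
      rwa [orderOf_eq_prime hc hcne] at hd
    have h8r : 8 ∣ Nat.card σ.range := by
      have h := Subgroup.card_dvd_of_le (show PLocal.QuaternionSection.q8Hom.range ≤ σ.range by
        rintro _ ⟨u, rfl⟩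
        exact ⟨SemidirectProduct.inl u, SemidirectProduct.lift_inl _ _ _ _⟩)
      rwa [← Nat.card_congr (MonoidHom.ofInjective
        PLocal.QuaternionSection.q8Hom_injective).toEquiv,
        Nat.card_eq_fintype_card, QuaternionGroup.card] at h
    refine Subgroup.eq_top_of_le_card _ (le_of_eq_of_le hc24
      (Nat.le_of_dvd Nat.card_pos ((show Nat.Coprime 8 3 by norm_num).mul_dvd_of_dvd_of_dvd h8r h3r)))
  exact ⟨(MulEquiv.ofBijective ι hι).symm.trans (MulEquiv.ofBijective σ hσ)⟩

/-- a subgroup of index two, or one of the two exceptional groups -/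
theorem index_two_or_exceptional [Finite V] [Nontrivial V] (hreg : Reg H)
    (hsolv : Group.IsSolvable H) (hp2 : p ≠ 2) :
    (∃ N : Subgroup H, N.index = 2) ∨
      (Nat.card V = 25 ∧ Nonempty (H ≃* SL23')) ∨
      (Nat.card V = 121 ∧ Nonempty (H ≃* SL23' × Multiplicative (ZMod 5))) := by
  classical
  haveI := finite_H (H := H)
  haveI := hsolv
  have h2 : 2 ∣ Nat.card H := by
    rw [card_eq hreg, Module.natCard_eq_pow_finrank (K := ZMod p) (V := V), Nat.card_zmod]
    obtain ⟨k, hk⟩ := (hp.out.odd_of_ne_two hp2).pow (n := Module.finrank (ZMod p) V)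
    exact ⟨k, by omega⟩
  by_cases hI : ∀ A : Subgroup H, A.Normal → IsCyclic A → ∃ W : Submodule (ZMod p) V,
      W ≠ ⊥ ∧ W ≠ ⊤ ∧ ∀ a ∈ A, ∀ v ∈ W, ((a : H) : V ≃ₗ[ZMod p] V) v ∈ W
  swap
  · push Not at hI
    obtain ⟨A, hAn, hAcy, hA⟩ := hI
    haveI := hAcy
    have hirr : Irr A (⊤ : Submodule (ZMod p) V) :=
      ⟨inv_top, top_ne_bot, fun W _ hW => or_iff_not_imp_left.2 fun h0 => by
        by_contra htop
        obtain ⟨a, ha, v, hv, hav⟩ := hA W h0 htop
        exact hav (hW a ha v hv)⟩
    exact Or.inl (index_two_of_comm_centralizer hreg h2 hAn hAcy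
      (semilinear_of_irr hreg hAn inferInstance hirr).2)
  obtain ⟨A, ⟨hAn, hAc⟩, hAmax'⟩ := wellFounded_gt.has_min
    {A : Subgroup H | A.Normal ∧ IsMulCommutative A} ⟨⊥, inferInstance, inferInstance⟩
  have hAmax : ∀ B : Subgroup H, B.Normal → IsMulCommutative B → A ≤ B → B = A :=
    fun B hB hBc hle => (hle.eq_or_lt.resolve_right (hAmax' B ⟨hB, hBc⟩)).symm
  have hcyc := isCyclic_of_comm hreg hAn hAc
  obtain ⟨W₀, hW₀, hW₀t, hW₀i⟩ := hI A hAn hcyc
  obtain ⟨W, hle, hW⟩ := exists_irr_le (A := A) hW₀i hW₀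
  have hWt : W ≠ ⊤ := fun e => hW₀t (eq_top_iff.2 (e ▸ hle))
  obtain ⟨-, hna⟩ := S0685.result H hreg hI A hAn hAc hAmax
  haveI := hAn
  obtain ⟨N, ⟨hNn, hNle, hNna⟩, hNmin'⟩ := wellFounded_lt.has_min
    {N : Subgroup H | N.Normal ∧ N ≤ Subgroup.centralizer (A : Set H) ∧ ¬ IsMulCommutative N}
    ⟨_, inferInstance, le_rfl, hna⟩
  have hNmin : ∀ M : Subgroup H, M.Normal → M ≤ N → ¬ IsMulCommutative M → M = N :=
    fun M hM hle hMna => hle.eq_or_lt.resolve_right (hNmin' M ⟨hM, hle.trans hNle, hMna⟩)
  obtain ⟨e⟩ := minimal_q8 hreg hAn hAc hAmax hNn hNle hNna hNmin inferInstance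
  obtain ⟨hfr, -⟩ := finrank_le_two hreg hNn e
  have hk : 0 < Module.finrank (ZMod p) W := by
    haveI : Nontrivial W := Submodule.nontrivial_iff_ne_bot.2 hW.2.1
    exact Module.finrank_pos
  have h2k := two_mul_le hreg hAn hAc hW hWt
  have hk1 : Module.finrank (ZMod p) W = 1 := by omega
  have hn : Module.finrank (ZMod p) V = 2 := by omega
  have hV : Nat.card V = p ^ 2 := by
    rw [Module.natCard_eq_pow_finrank (K := ZMod p) (V := V), hn, Nat.card_zmod]
  have hA : Nat.card A ∣ p - 1 := by
    simpa [hk1] using card_dvd hreg hAn hAc hW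
  have hCA : Subgroup.centralizer (N : Set H) = A := (S0687.result H hreg hI A hAn hAc hAmax
    N hNn hNle hNna hNmin).2
  haveI := hNn
  let f : H →* MulAut N := MulAut.conjNormal
  have hker : f.ker = A := (ker_conjNormal N).trans hCA
  have hH : Nat.card H = p ^ 2 - 1 := by rw [card_eq hreg, hV]
  obtain ⟨Φ⟩ := S3742.result
  have h24 : Nat.card (MulAut N) = 24 := by
    rw [← AutQuaternion.natCard_mulAut, Nat.card_congr (MulAut.congr e).toEquiv]
  haveI : Finite (MulAut N) := Nat.finite_of_card_ne_zero (by rw [h24]; norm_num)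
  have hmc : Nat.card f.range * Nat.card A = p ^ 2 - 1 := by
    rw [← hH, ← A.index_mul_card, ← hker, Subgroup.index_ker]
  have hm24 : Nat.card f.range ∣ 24 := h24 ▸ Subgroup.card_subgroup_dvd_card _
  haveI : Nontrivial f.range := by
    rw [Subgroup.nontrivial_iff_ne_bot]
    intro hbot
    rw [MonoidHom.range_eq_bot_iff] at hbot
    apply hNna
    have hNC : N ≤ Subgroup.centralizer (N : Set H) := by
      rw [hCA, ← hker, show f.ker = ⊤ from MonoidHom.ker_eq_top_iff.2 hbot]; exact le_top
    exact Subgroup.le_centralizer_iff_isMulCommutative.1 hNC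
  by_cases h3 : 3 ∣ Nat.card f.range
  swap
  · refine Or.inl (index_two_of_two_group_quotient f.rangeRestrict f.rangeRestrict_surjective ?_)
    have h8 : Nat.card f.range ∣ 2 ^ 3 := by
      have hcop : Nat.Coprime (Nat.card f.range) 3 :=
        (Nat.prime_three.coprime_iff_not_dvd.2 h3).symm
      exact hcop.dvd_of_dvd_mul_right (show Nat.card f.range ∣ 2 ^ 3 * 3 from hm24)
    obtain ⟨j, -, hj⟩ := (Nat.dvd_prime_pow Nat.prime_two).1 h8
    exact IsPGroup.of_card hj
  -- the inner automorphisms of the quaternion group give a subgroup of order four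
  have h4 : 4 ∣ Nat.card f.range := by
    let r : N →* f.range := f.rangeRestrict.comp N.subtype
    have hz : ∀ x : N, x ∈ r.ker ↔ x ∈ Subgroup.center N := by
      intro x
      rw [MonoidHom.mem_ker, Subgroup.mem_center_iff]
      constructor
      · intro hx y
        have e1 := congrArg Subtype.val (DFunLike.congr_fun (congrArg Subtype.val hx) y)
        exact Subtype.ext (mul_inv_eq_iff_eq_mul.1 e1).symm
      · intro hx
        refine Subtype.ext (MulEquiv.ext fun y => Subtype.ext ?_)
        exact mul_inv_eq_iff_eq_mul.2 (congrArg Subtype.val (hx y)).symm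
    have hc2 : Nat.card (Subgroup.center N) = 2 := by
      rw [Nat.card_congr (Subgroup.centerCongr e).toEquiv, Nat.card_eq_fintype_card]
      decide +kernel
    have h8 : Nat.card N = 8 := by
      rw [Nat.card_congr e.toEquiv, Nat.card_eq_fintype_card, QuaternionGroup.card]
    have hr : Nat.card r.range * 2 = 8 := by
      rw [← hc2, ← h8, show Subgroup.center N = r.ker from Subgroup.ext fun x => (hz x).symm,
        ← Subgroup.index_ker, Subgroup.index_mul_card]
    have := Subgroup.card_subgroup_dvd_card r.range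
    rwa [show Nat.card r.range = 4 by omega] at this
  have h12 : 12 ∣ Nat.card f.range := (show Nat.Coprime 4 3 by norm_num).mul_dvd_of_dvd_of_dvd h4 h3
  by_cases hfull : Nat.card f.range = 24
  · left
    have hsurj : Function.Surjective f := MonoidHom.range_eq_top.1
      (Subgroup.eq_top_of_card_eq _ (by rw [hfull, h24]))
    let s : H →* ℤˣ := Equiv.Perm.sign.comp
      ((Φ.toMonoidHom.comp (MulAut.congr e).toMonoidHom).comp f)
    have hs : Function.Surjective s :=
      fun u => by
        obtain ⟨q, rfl⟩ := Equiv.Perm.sign_surjective (Fin 4) u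
        obtain ⟨r, rfl⟩ := Φ.surjective q
        obtain ⟨t, rfl⟩ := (MulAut.congr e).surjective r
        obtain ⟨h, rfl⟩ := hsurj t
        exact ⟨h, rfl⟩
    refine ⟨s.ker, ?_⟩
    rw [Subgroup.index_ker, MonoidHom.range_eq_top.2 hs, Subgroup.card_top, Nat.card_eq_fintype_card]
    decide
  right
  have hr12 : Nat.card f.range = 12 := by
    obtain ⟨m, hm⟩ := h12
    have hle := Nat.le_of_dvd (by norm_num) hm24
    have : 0 < Nat.card f.range := Nat.card_pos
    omega
  have hp1 := hp.out.two_le
  have hsq : p ^ 2 - 1 = (p + 1) * (p - 1) := by rw [← Nat.sq_sub_sq, one_pow]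
  have hdiv : p + 1 ∣ 12 := by
    obtain ⟨k, hk⟩ := hA
    refine ⟨k, Nat.eq_of_mul_eq_mul_right (Nat.card_pos (α := A)) ?_⟩
    rw [← hr12, hmc, hsq, hk]
    ring
  have hp11 : p ≤ 11 := by have := Nat.le_of_dvd (by norm_num) hdiv; omega
  have hp511 : p = 5 ∨ p = 11 := by
    by_contra hne
    push Not at hne
    rw [hr12] at hmc
    interval_cases p <;> first
      | omega
      | (norm_num at hdiv; done)
      | (norm_num at hmc; omega)
      | (norm_num at hp; done)
  obtain ⟨g, hg⟩ := @exists_prime_orderOf_dvd_card' H _ _ 3 ⟨Nat.prime_three⟩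
    ((h3.trans (Subgroup.card_range_dvd f)))
  have h3A : ¬ 3 ∣ Nat.card A := by
    rcases hp511 with rfl | rfl <;> rw [hr12] at hmc <;> norm_num at hmc <;> omega
  have hgne : f g ≠ 1 := fun h => h3A (hg ▸ Subgroup.orderOf_dvd_natCard A (hker ▸ h : g ∈ A))
  -- the quaternion group and the element of order three
  set K : Subgroup H := N ⊔ Subgroup.zpowers g with hK
  have hgK : g ∈ K := Subgroup.mem_sup_right (Subgroup.mem_zpowers g)
  have hNK : N ≤ K := le_sup_left
  have h8 : Nat.card N = 8 := by
    rw [Nat.card_congr e.toEquiv, Nat.card_eq_fintype_card, QuaternionGroup.card]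
  have hK24 : Nat.card K = 24 := by
    have hd : Disjoint N (Subgroup.zpowers g) := by
      rw [disjoint_iff, ← Subgroup.card_eq_one]
      refine Nat.eq_one_of_dvd_coprimes (by norm_num : Nat.Coprime 8 3)
        (h8 ▸ Subgroup.card_dvd_of_le inf_le_left) ?_
      rw [← hg, ← Nat.card_zpowers g]
      exact Subgroup.card_dvd_of_le inf_le_right
    have h1 : (↑K : Set H) = (N : Set H) * (Subgroup.zpowers g : Set H) := by
      rw [hK, Subgroup.normal_mul]
    have hbij : Function.Injective fun x : N × Subgroup.zpowers g => (x.1 : H) * (x.2 : H) :=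
      Subgroup.mul_injective_of_disjoint hd
    rw [← SetLike.coe_sort_coe, h1]
    have hrange : ((N : Set H) * (Subgroup.zpowers g : Set H)) =
        Set.range fun x : N × Subgroup.zpowers g => (x.1 : H) * (x.2 : H) := by
      ext x
      simp only [Set.mem_mul, Set.mem_range, Prod.exists, Subtype.exists, SetLike.mem_coe,
        exists_prop]
    rw [hrange, Nat.card_congr (Equiv.ofInjective _ hbij).symm, Nat.card_prod, h8,
      Nat.card_zpowers, hg]
  haveI : (N.subgroupOf K).Normal := hNn.subgroupOf K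
  have hne' : MulAut.conjNormal (H := N.subgroupOf K) (⟨g, hgK⟩ : K) ≠ 1 := by
    intro h
    refine hgne (MulEquiv.ext fun x => Subtype.ext ?_)
    have := congrArg (fun y : N.subgroupOf K => ((y : K) : H))
      (DFunLike.congr_fun h ⟨⟨x, hNK x.2⟩, x.2⟩)
    simpa [f, MulAut.conjNormal_apply] using this
  obtain ⟨iK⟩ := sl23_of_q8 (N.subgroupOf K)
    ((Subgroup.subgroupOfEquivOfLe hNK).trans e) hK24 ⟨g, hgK⟩ (by rw [Subgroup.orderOf_mk, hg]) hne'
  rcases hp511 with rfl | rfl
  · left
    have hKtop : K = ⊤ := Subgroup.eq_top_of_card_eq _ (by rw [hK24, hH]; norm_num)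
    exact ⟨by rw [hV]; norm_num,
      ⟨((MulEquiv.subgroupCongr hKtop).trans Subgroup.topEquiv).symm.trans iK⟩⟩
  right
  rw [hr12] at hmc
  have hA10 : Nat.card A = 10 := by norm_num at hmc; omega
  obtain ⟨z, hz⟩ := @exists_prime_orderOf_dvd_card' A _ _ 5 ⟨by norm_num⟩ (by rw [hA10]; norm_num)
  have hzH : orderOf (z : H) = 5 := by rw [Subgroup.orderOf_coe, hz]
  -- the group of order 24 centralizes the elements of `A`
  haveI := hcyc
  have hKA : K ≤ Subgroup.centralizer (A : Set H) := by
    refine sup_le hNle ?_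
    rw [Subgroup.zpowers_le, ← ker_conjNormal A, MonoidHom.mem_ker, ← orderOf_eq_one_iff]
    refine Nat.eq_one_of_dvd_coprimes (by norm_num : Nat.Coprime 3 4)
      (hg ▸ orderOf_map_dvd _ g) ?_
    refine orderOf_dvd_natCard (G := MulAut A) _ |>.trans ?_
    rw [IsCyclic.card_mulAut, hA10]
    decide
  have hcomm : ∀ k : K, ∀ y : Subgroup.zpowers (z : H), Commute (k : H) (y : H) := fun k y =>
    (Subgroup.mem_centralizer_iff.1 (hKA k.2) (y : H)
      ((Subgroup.zpowers_le.2 z.2) y.2)).symm
  let m : K × Subgroup.zpowers (z : H) →* H :=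
    MonoidHom.noncommCoprod K.subtype (Subgroup.zpowers (z : H)).subtype hcomm
  have hm : Function.Bijective m := by
    rw [Nat.bijective_iff_injective_and_card]
    refine ⟨?_, by rw [Nat.card_prod, hK24, Nat.card_zpowers, hzH, hH]; norm_num⟩
    rw [injective_iff_map_eq_one]
    rintro ⟨k, y⟩ hky
    have h1 : (k : H) * (y : H) = 1 := hky
    have hk1 : (k : H) = 1 := by
      rw [← orderOf_eq_one_iff]
      refine Nat.eq_one_of_dvd_coprimes (by norm_num : Nat.Coprime 24 5)
        (hK24 ▸ Subgroup.orderOf_dvd_natCard K k.2) ?_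
      rw [eq_inv_of_mul_eq_one_left h1, orderOf_inv, ← hzH, ← Nat.card_zpowers (z : H)]
      exact Subgroup.orderOf_dvd_natCard _ y.2
    rw [hk1, one_mul] at h1
    exact Prod.ext (Subtype.ext hk1) (Subtype.ext h1)
  refine ⟨by rw [hV]; norm_num, ⟨(MulEquiv.ofBijective m hm).symm.trans (MulEquiv.prodCongr iK ?_)⟩⟩
  exact mulEquivOfCyclicCardEq (by rw [Nat.card_zpowers, hzH, Nat.card_congr Multiplicative.toAdd,
    Nat.card_zmod])

end Cfsg.Agent.Perm.NearField
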