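import Mathlib
import Cfsg.Agent.Lib.Perm.Basic

/-! Transitive groups of prime degree: Burnside's theorem, by Peter Müller's polynomial argument. -/

set_option autoImplicit false

namespace Cfsg.Agent.Perm.PrimeDegree

open Polynomial

variable {p : ℕ} [hp : Fact p.Prime]

theorem eval_shift_sum (D : Finset (ZMod p)) (h : (ZMod p)[X]) (x : ZMod p) {N : ℕ}
    (hN : h.natDegree < N) :
    ∑ d ∈ D, h.eval (x + d) =
      ∑ j ∈ Finset.range N, (∑ d ∈ D, d ^ j) * (hasseDeriv j h).eval x := by
  have h1 : ∀ d, h.eval (x + d) = ∑ j ∈ Finset.range N, (hasseDeriv j h).eval x * d ^ j := by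
    intro d
    rw [show h.eval (x + d) = (taylor x h).eval d by rw [taylor_eval, add_comm],
      eval_eq_sum_range' (by rwa [natDegree_taylor])]
    simp only [taylor_coeff]
  simp only [h1]
  rw [Finset.sum_comm]
  refine Finset.sum_congr rfl fun j _ => ?_
  rw [Finset.sum_mul]
  exact Finset.sum_congr rfl fun d _ => mul_comm _ _

theorem eq_zero_of_eval (Q : (ZMod p)[X]) (hd : Q.natDegree < p) (h : ∀ x, Q.eval x = 0) :
    Q = 0 := by
  by_contra hQ
  have h1 := Polynomial.card_roots' Q
  have h2 : (Finset.univ : Finset (ZMod p)) ⊆ Q.roots.toFinset := fun x _ => by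
    simp [Polynomial.mem_roots hQ, h x]
  have h3 := (Finset.card_le_card h2).trans (Multiset.toFinset_card_le _)
  rw [Finset.card_univ, ZMod.card] at h3
  omega

/-- If the power sums of `D` vanish below `m` and not at `m`, a polynomial of degree `e ≥ m` (with
`e < p`) has a shift-sum defect of degree exactly `e - m`. -/
theorem defect {D : Finset (ZMod p)} {m : ℕ} (hm : 1 ≤ m)
    (hlow : ∀ j, 1 ≤ j → j < m → ∑ d ∈ D, d ^ j = 0) (hne : ∑ d ∈ D, d ^ m ≠ 0)
    (h : (ZMod p)[X]) (hme : m ≤ h.natDegree) (hep : h.natDegree < p) :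
    ∃ Q : (ZMod p)[X], Q.natDegree = h.natDegree - m ∧ Q ≠ 0 ∧
      ∀ x, ∑ d ∈ D, h.eval (x + d) = (D.card : ZMod p) * h.eval x + Q.eval x := by
  set e := h.natDegree with he
  set s : ℕ → ZMod p := fun j => ∑ d ∈ D, d ^ j with hs
  let Q : (ZMod p)[X] := ∑ j ∈ Finset.Icc m e, C (s j) * hasseDeriv j h
  have hdeg : Q.natDegree ≤ e - m := by
    refine natDegree_sum_le_of_forall_le _ _ fun j hj => ?_
    refine (natDegree_C_mul_le _ _).trans ?_
    refine (natDegree_hasseDeriv_le h j).trans ?_
    rw [Finset.mem_Icc] at hj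
    omega
  have hcoeff : Q.coeff (e - m) ≠ 0 := by
    rw [finset_sum_coeff, Finset.sum_eq_single m]
    · rw [coeff_C_mul, hasseDeriv_coeff, Nat.sub_add_cancel hme]
      refine mul_ne_zero hne (mul_ne_zero ?_ ?_)
      · rw [Ne, CharP.cast_eq_zero_iff (ZMod p) p]
        intro hdvd
        have h1 : p ∣ e.factorial := by
          rw [← Nat.choose_mul_factorial_mul_factorial hme]
          exact (hdvd.mul_right _).mul_right _
        have := hp.out.dvd_factorial.1 h1
        omega
      · rw [he, coeff_natDegree, leadingCoeff_ne_zero]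
        intro h0
        rw [h0, natDegree_zero] at he
        omega
    · intro j hj hjm
      rw [Finset.mem_Icc] at hj
      rw [coeff_C_mul, coeff_eq_zero_of_natDegree_lt, mul_zero]
      refine lt_of_le_of_lt (natDegree_hasseDeriv_le h j) ?_
      omega
    · intro hh
      exact absurd (Finset.mem_Icc.2 ⟨le_rfl, hme⟩) hh
  refine ⟨Q, le_antisymm hdeg (le_natDegree_of_ne_zero hcoeff), fun hh => hcoeff (by rw [hh, coeff_zero]),
    fun x => ?_⟩
  rw [eval_shift_sum D h x (Nat.lt_succ_self e), Finset.range_eq_Ico,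
    Finset.sum_eq_sum_Ico_succ_bot (Nat.succ_pos e)]
  congr 1
  · simp
  · rw [eval_finsetSum]
    rw [← Finset.Ico_succ_right_eq_Icc] 
    rw [← Finset.sum_Ico_consecutive _ hm (Nat.le_succ_of_le hme),
      Finset.sum_eq_zero (s := Finset.Ico 1 m), zero_add]
    · exact Finset.sum_congr rfl fun j _ => by rw [eval_mul, eval_C]
    · intro j hj
      rw [Finset.mem_Ico] at hj
      rw [hlow j hj.1 hj.2, zero_mul]

/-- Müller's lemma: a permutation of `ZMod p` preserving a small non-trivial set of differences is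
affine. -/
theorem affine_of_preserves (D : Finset (ZMod p)) (h0 : (0 : ZMod p) ∉ D) (hne : D.Nonempty)
    (hsmall : 2 * D.card < p) (f : ZMod p → ZMod p) (hf : Function.Bijective f)
    (hD : ∀ x, D.image (fun d => f (x + d) - f x) = D) :
    ∃ a b : ZMod p, a ≠ 0 ∧ ∀ x, f x = a * x + b := by
  classical
  set s : ℕ → ZMod p := fun j => ∑ d ∈ D, d ^ j with hs
  have hex : ∃ m, 1 ≤ m ∧ m ≤ D.card ∧ s m ≠ 0 := by
    by_contra hcon
    push Not at hcon
    obtain ⟨u, hu⟩ := hne
    let q : (ZMod p)[X] := Lagrange.interpolate (insert 0 D) id (fun d => if d = u then 1 else 0)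
    have hqd : q.natDegree ≤ D.card := by
      have h1 := Lagrange.degree_interpolate_lt (s := insert (0 : ZMod p) D) (v := id)
        (fun d => if d = u then (1 : ZMod p) else 0) (fun x _ y _ hxy => hxy)
      rw [Finset.card_insert_of_notMem h0] at h1
      by_cases hq : q = 0
      · simp [hq]
      · exact Nat.lt_succ_iff.1 ((natDegree_lt_iff_degree_lt hq).2 h1)
    have hqe : ∀ d ∈ insert (0 : ZMod p) D, q.eval d = if d = u then 1 else 0 := fun d hd =>
      Lagrange.eval_interpolate_at_node (v := id) _ (fun x _ y _ hxy => hxy) hd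
    have hsum : ∑ d ∈ D, q.eval d = 1 := by
      rw [Finset.sum_congr rfl (fun d hd => hqe d (Finset.mem_insert_of_mem hd)), Finset.sum_ite_eq',
        if_pos hu]
    have hq0 : q.coeff 0 = 0 := by
      rw [coeff_zero_eq_eval_zero, hqe 0 (Finset.mem_insert_self 0 D), if_neg]
      exact fun e => h0 (e ▸ hu)
    rw [Finset.sum_congr rfl (fun d _ => eval_eq_sum_range' (Nat.lt_succ_of_le hqd) d),
      Finset.sum_comm, Finset.sum_eq_zero] at hsum
    · exact zero_ne_one hsum
    · intro j hj
      rw [Finset.mem_range] at hj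
      rw [← Finset.mul_sum]
      rcases Nat.eq_zero_or_pos j with rfl | hj0
      · rw [hq0, zero_mul]
      · rw [show ∑ d ∈ D, d ^ j = 0 from hcon j hj0 (by omega), mul_zero]
  obtain ⟨hm1, hmD, hsm⟩ := Nat.find_spec hex
  set m := Nat.find hex with hmdef
  have hlow : ∀ j, 1 ≤ j → j < m → ∑ d ∈ D, d ^ j = 0 := by
    intro j h1 h2
    by_contra hcon
    exact Nat.find_min hex h2 ⟨h1, by omega, hcon⟩
  -- the shift sums of the powers of f
  have hpow : ∀ i x, ∑ d ∈ D, f (x + d) ^ i =
      ∑ j ∈ Finset.range (i + 1), (i.choose j : ZMod p) * s j * f x ^ (i - j) := by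
    intro i x
    have hinj : Set.InjOn (fun d => f (x + d) - f x) (D : Set (ZMod p)) := fun d _ d' _ hdd => by
      simpa using hf.injective (sub_left_inj.1 hdd)
    calc ∑ d ∈ D, f (x + d) ^ i = ∑ d ∈ D, (f x + d) ^ i := by
          conv_rhs => rw [← hD x]
          rw [Finset.sum_image hinj]
          simp
      _ = ∑ d ∈ D, ∑ j ∈ Finset.range (i + 1), d ^ j * f x ^ (i - j) * (i.choose j : ZMod p) :=
          Finset.sum_congr rfl fun d _ => by rw [add_comm, add_pow]
      _ = _ := by
          rw [Finset.sum_comm]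
          refine Finset.sum_congr rfl fun j _ => ?_
          rw [hs, Finset.mul_sum, Finset.sum_mul]
          exact Finset.sum_congr rfl fun d _ => by ring
  have hlowi : ∀ i, i < m → ∀ x, ∑ d ∈ D, f (x + d) ^ i = (D.card : ZMod p) * f x ^ i := by
    intro i hi x
    rw [hpow, Finset.sum_eq_single 0]
    · simp [hs]
    · intro j hj hj0
      rw [Finset.mem_range] at hj
      rw [show s j = 0 from hlow j (by omega) (by omega), mul_zero, zero_mul]
    · simp
  have htop : ∀ x, ∑ d ∈ D, f (x + d) ^ m = (D.card : ZMod p) * f x ^ m + s m := by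
    intro x
    rw [hpow, Finset.sum_range_succ, Finset.sum_eq_single 0]
    · simp [hs]
    · intro j hj hj0
      rw [Finset.mem_range] at hj
      rw [show s j = 0 from hlow j (by omega) hj, mul_zero, zero_mul]
    · intro h; simp at h; omega
  -- f as a polynomial
  let P : (ZMod p)[X] := Lagrange.interpolate Finset.univ id f
  have hPf : ∀ x, P.eval x = f x := fun x =>
    Lagrange.eval_interpolate_at_node (v := id) _ (fun x _ y _ hxy => hxy) (Finset.mem_univ x)
  have hp2 := hp.out.two_le
  have hPd : P.natDegree < p := by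
    have h1 := Lagrange.degree_interpolate_lt (s := (Finset.univ : Finset (ZMod p))) (v := id) f
      (fun x _ y _ hxy => hxy)
    rw [Finset.card_univ, ZMod.card] at h1
    by_cases hP : P = 0
    · rw [hP]; simp; omega
    · exact (natDegree_lt_iff_degree_lt hP).2 h1
  have hn1 : 1 ≤ P.natDegree := by
    by_contra hn
    have h1 := eq_C_of_natDegree_eq_zero (by omega : P.natDegree = 0)
    have := hf.injective (show f 0 = f 1 by rw [← hPf, ← hPf, h1]; simp)
    exact zero_ne_one this
  have hsmallpow : ∀ i, i < m → i * P.natDegree < p → i * P.natDegree < m := by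
    intro i hi hip
    by_contra hge
    push Not at hge
    rw [← natDegree_pow] at hge hip
    obtain ⟨Q, hQd, hQ0, hQ⟩ := defect hm1 hlow hsm (P ^ i) hge hip
    refine hQ0 (eq_zero_of_eval Q (by omega) fun x => ?_)
    have h1 := hQ x
    simp only [eval_pow, hPf] at h1
    rw [hlowi i hi x] at h1
    simpa using h1.symm
  have hexact : m * P.natDegree < p → m * P.natDegree = m := by
    intro hmp
    by_contra hne'
    have hgt : m < m * P.natDegree := lt_of_le_of_ne (Nat.le_mul_of_pos_right _ hn1) (Ne.symm hne')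
    rw [← natDegree_pow] at hgt hmp
    obtain ⟨Q, hQd, hQ0, hQ⟩ := defect hm1 hlow hsm (P ^ m) hgt.le hmp
    have h1 : Q - C (s m) = 0 := eq_zero_of_eval _ (by rw [natDegree_sub_C]; omega) fun x => by
      have h2 := hQ x
      simp only [eval_pow, hPf] at h2
      rw [htop x] at h2
      simp only [eval_sub, eval_C, sub_eq_zero]
      exact (add_left_cancel h2).symm
    rw [sub_eq_zero] at h1
    rw [h1, natDegree_C] at hQd
    omega
  have hn : P.natDegree = 1 := by
    by_cases hm : m = 1
    · have := hexact (by rw [hm, one_mul]; exact hPd)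
      rwa [hm, one_mul] at this
    · have hn : P.natDegree < m := by
        simpa using hsmallpow 1 (by omega) (by simpa using hPd)
      have hall : ∀ i, i < m → i * P.natDegree < m := by
        intro i
        induction i with
        | zero => intro h; simpa using by omega
        | succ i ih =>
          intro hi
          have h1 := ih (by omega)
          refine hsmallpow _ hi ?_
          rw [Nat.succ_mul]
          omega
      have h1 := hall (m - 1) (by omega)
      by_contra hn2
      have : (m - 1) * 2 ≤ (m - 1) * P.natDegree := Nat.mul_le_mul_left _ (by omega)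
      omega
  obtain ⟨a, ha, b, hb⟩ := natDegree_eq_one.1 hn
  exact ⟨a, b, ha, fun x => by rw [← hPf, ← hb]; simp⟩

/-- A transitive group of prime degree contains a full cycle. -/
theorem exists_coord {α : Type*} [Finite α] (hα : Nat.card α = p)
    (G : Subgroup (Equiv.Perm α)) [MulAction.IsPretransitive G α] :
    ∃ (e : ZMod p ≃ α) (t : G), orderOf t = p ∧ ∀ k, t • e k = e (k + 1) := by
  obtain ⟨a⟩ : Nonempty α := (Nat.card_pos_iff.1 (by rw [hα]; exact hp.out.pos)).1
  obtain ⟨P⟩ : Nonempty (Sylow p G) := inferInstance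
  have hP := Cfsg.Agent.Perm.Basic.sylow_isPretransitive (f := 1) (by rw [hα, pow_one]) P
  have hdvd : p ∣ Nat.card G := by
    have := (MulAction.stabilizer G a).index_dvd_card
    rwa [MulAction.index_stabilizer_of_transitive, hα] at this
  obtain ⟨t, ht⟩ := exists_prime_orderOf_dvd_card' (G := G) p hdvd
  obtain ⟨u, hu⟩ : ∃ u : α, t • u ≠ u := by
    by_contra hh
    push Not at hh
    have : t = 1 := Subtype.ext (Equiv.ext hh)
    simp [this] at ht
    exact hp.out.ne_one ht.symm
  let f : ZMod p → α := fun k => t ^ k.val • u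
  have hpow : ∀ i : ℕ, t ^ i • u = f (i : ZMod p) := fun i => by
    show _ = t ^ (i : ZMod p).val • u
    rw [ZMod.val_natCast, ← ht, pow_mod_orderOf]
  have hfix : ∀ i : ℕ, t ^ i • u = u → p ∣ i := by
    intro i hi
    by_contra hnd
    have hcop : Nat.Coprime i (orderOf t) := by
      rw [ht]; exact (hp.out.coprime_iff_not_dvd.2 hnd).symm
    obtain ⟨j, hj⟩ := exists_pow_eq_self_of_coprime hcop
    apply hu
    have : ∀ k : ℕ, (t ^ i) ^ k • u = u := by
      intro k
      induction k with
      | zero => rw [pow_zero, one_smul]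
      | succ k ih => rw [pow_succ, mul_smul, hi, ih]
    have h1 := this j
    rwa [hj] at h1
  have hinj : Function.Injective f := by
    intro k l hkl
    simp only [f] at hkl
    wlog hle : k.val ≤ l.val generalizing k l
    · exact (this hkl.symm (le_of_not_ge hle)).symm
    obtain ⟨i, hi⟩ := Nat.exists_eq_add_of_le hle
    rw [hi, pow_add, mul_smul] at hkl
    have := Nat.eq_zero_of_dvd_of_lt (hfix i (MulAction.injective _ hkl).symm)
      (by have := l.val_lt; omega)
    exact ZMod.val_injective p (by omega)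
  refine ⟨Equiv.ofBijective f ((Nat.bijective_iff_injective_and_card f).2
    ⟨hinj, by rw [hα, Nat.card_zmod]⟩), t, ht, fun k => ?_⟩
  show t • f k = f (k + 1)
  rw [show f k = t ^ k.val • u from rfl, ← mul_smul, ← pow_succ', hpow]
  simp

/-- Burnside: a transitive group of prime degree is 2-transitive or affine. -/
theorem two_transitive_or_affine {α : Type*} [Finite α]
    (G : Subgroup (Equiv.Perm α)) [MulAction.IsPretransitive G α]
    (e : ZMod p ≃ α) (t : G) (ht : ∀ k, t • e k = e (k + 1)) :
    MulAction.IsMultiplyPretransitive G α 2 ∨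
      ∀ g : G, ∃ a b : ZMod p, a ≠ 0 ∧ ∀ k, g • e k = e (a * k + b) := by
  classical
  by_cases h2 : MulAction.IsMultiplyPretransitive G α 2
  · exact Or.inl h2
  right
  have htn : ∀ (n : ℕ) k, t ^ n • e k = e (k + n) := by
    intro n
    induction n with
    | zero => intro k; simp
    | succ n ih =>
      intro k
      rw [pow_succ, mul_smul, ht, ih]
      congr 1
      push_cast; ring
  have hshift : ∀ c : ZMod p, ∃ g : G, ∀ k, g • e k = e (k + c) := fun c =>
    ⟨t ^ c.val, fun k => by rw [htn, ZMod.natCast_zmod_val]⟩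
  let R : ZMod p → ZMod p → Prop := fun x y => ∃ g : G, g • e 0 = e x ∧ g • e 1 = e y
  let D : Finset (ZMod p) := Finset.univ.filter fun d => R 0 d
  have hR : ∀ x y, R x y ↔ y - x ∈ D := by
    intro x y
    simp only [D, Finset.mem_filter, Finset.mem_univ, true_and]
    constructor
    · rintro ⟨g, h0, h1⟩
      obtain ⟨c, hc⟩ := hshift (-x)
      exact ⟨c * g, by rw [mul_smul, h0, hc, add_neg_cancel], by rw [mul_smul, h1, hc, sub_eq_add_neg]⟩
    · rintro ⟨g, h0, h1⟩
      obtain ⟨c, hc⟩ := hshift x
      exact ⟨c * g, by rw [mul_smul, h0, hc, zero_add], by rw [mul_smul, h1, hc, sub_add_cancel]⟩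
  have h0D : (0 : ZMod p) ∉ D := by
    simp only [D, Finset.mem_filter, Finset.mem_univ, true_and]
    rintro ⟨g, h0, h1⟩
    exact zero_ne_one (e.injective (MulAction.injective g (h0.trans h1.symm)))
  have h1D : (1 : ZMod p) ∈ D := by
    simp only [D, Finset.mem_filter, Finset.mem_univ, true_and]
    exact ⟨1, one_smul _ _, one_smul _ _⟩
  let D' : Finset (ZMod p) := (Finset.univ.erase 0) \ D
  have hD'ne : D'.Nonempty := by
    by_contra hcon
    rw [Finset.not_nonempty_iff_eq_empty, Finset.sdiff_eq_empty_iff_subset] at hcon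
    apply h2
    rw [MulAction.is_two_pretransitive_iff]
    intro a b c d hab hcd
    have key : ∀ x y : α, x ≠ y → ∃ g : G, g • e 0 = x ∧ g • e 1 = y := by
      intro x y hxy
      have hne : e.symm y - e.symm x ≠ 0 := fun hh => hxy (e.symm.injective (sub_eq_zero.1 hh).symm)
      have := (hR (e.symm x) (e.symm y)).2 (hcon (Finset.mem_erase.2 ⟨hne, Finset.mem_univ _⟩))
      simpa [R] using this
    obtain ⟨g, g0, g1⟩ := key a b hab
    obtain ⟨k, k0, k1⟩ := key c d hcd
    exact ⟨k * g⁻¹, by rw [mul_smul, ← g0, inv_smul_smul, k0], by rw [mul_smul, ← g1, inv_smul_smul, k1]⟩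
  intro g
  let f : ZMod p → ZMod p := fun k => e.symm (g • e k)
  have hef : ∀ k, e (f k) = g • e k := fun k => e.apply_symm_apply _
  have hf : Function.Bijective f := e.symm.bijective.comp ((MulAction.bijective g).comp e.bijective)
  have hpres : ∀ x d, d ∈ D → f (x + d) - f x ∈ D := by
    intro x d hd
    obtain ⟨k, k0, k1⟩ := (hR x (x + d)).2 (by rwa [add_sub_cancel_left])
    exact (hR _ _).1 ⟨g * k, by rw [mul_smul, k0, hef], by rw [mul_smul, k1, hef]⟩
  have himg : ∀ (E : Finset (ZMod p)), (∀ x d, d ∈ E → f (x + d) - f x ∈ E) →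
      ∀ x, E.image (fun d => f (x + d) - f x) = E := by
    intro E hE x
    refine Finset.eq_of_subset_of_card_le ?_ ?_
    · intro z hz
      obtain ⟨d, hd, rfl⟩ := Finset.mem_image.1 hz
      exact hE x d hd
    · rw [Finset.card_image_of_injective]
      intro d d' hdd
      simpa using hf.injective (sub_left_inj.1 hdd)
  have hpres' : ∀ x d, d ∈ D' → f (x + d) - f x ∈ D' := by
    intro x d hd
    simp only [D', Finset.mem_sdiff, Finset.mem_erase, Finset.mem_univ, and_true] at hd ⊢
    refine ⟨fun hh => hd.1 (by simpa using hf.injective (sub_eq_zero.1 hh)), fun hh => ?_⟩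
    rw [← himg D hpres x, Finset.mem_image] at hh
    obtain ⟨d', hd', hdd⟩ := hh
    have : d' = d := by simpa using hf.injective (sub_left_inj.1 hdd)
    exact hd.2 (this ▸ hd')
  have hcard : D.card + D'.card + 1 = p := by
    have h1 : D ⊆ Finset.univ.erase 0 := fun d hd =>
      Finset.mem_erase.2 ⟨fun e => h0D (e ▸ hd), Finset.mem_univ _⟩
    rw [add_comm D.card, Finset.card_sdiff_add_card_eq_card h1,
      Finset.card_erase_of_mem (Finset.mem_univ _), Finset.card_univ, ZMod.card]
    have := hp.out.pos; omega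
  obtain ⟨a, b, ha, hab⟩ : ∃ a b : ZMod p, a ≠ 0 ∧ ∀ x, f x = a * x + b := by
    by_cases hsmall : 2 * D.card < p
    · exact affine_of_preserves D h0D ⟨1, h1D⟩ hsmall f hf (himg D hpres)
    · exact affine_of_preserves D' (by simp [D']) hD'ne (by omega) f hf (himg D' hpres')
  exact ⟨a, b, ha, fun k => by rw [← hef, hab]⟩

/-- An affine group of prime degree is solvable. -/
theorem isSolvable_of_affine {α : Type*} (G : Subgroup (Equiv.Perm α)) (e : ZMod p ≃ α)
    (h : ∀ g : G, ∃ a b : ZMod p, a ≠ 0 ∧ ∀ k, g • e k = e (a * k + b)) :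
    Group.IsSolvable G := by
  choose a b ha hab using h
  have huniq : ∀ (g : G) (a' b' : ZMod p), (∀ k, g • e k = e (a' * k + b')) →
      a g = a' ∧ b g = b' := by
    intro g a' b' h'
    have h0 := e.injective ((hab g 0).symm.trans (h' 0))
    have h1 := e.injective ((hab g 1).symm.trans (h' 1))
    simp at h0 h1
    exact ⟨by rw [h0] at h1; exact add_right_cancel h1, h0⟩
  have hmul : ∀ g h : G, a (g * h) = a g * a h := fun g h =>
    (huniq (g * h) (a g * a h) (a g * b h + b g) (fun k => by
      rw [mul_smul, hab, hab]; congr 1; ring)).1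
  have hone : a 1 = 1 := (huniq 1 1 0 (fun k => by simp)).1
  let φ : G →* (ZMod p)ˣ :=
    MonoidHom.mk' (fun g => Units.mk0 (a g) (ha g)) fun g h => Units.ext (hmul g h)
  let _ : CommGroup φ.ker :=
    { (inferInstance : Group φ.ker) with
      mul_comm := fun x y => by
        have hx : a (x : G) = 1 := congrArg Units.val x.2
        have hy : a (y : G) = 1 := congrArg Units.val y.2
        refine Subtype.ext (Subtype.ext (Equiv.ext fun z => ?_))
        obtain ⟨k, rfl⟩ := e.surjective z
        show ((x : G) * y) • e k = ((y : G) * x) • e k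
        rw [mul_smul, mul_smul, hab, hab, hab, hab, hx, hy]
        congr 1
        ring }
  have h1 : Group.IsSolvable φ.ker := Group.isSolvable_of_comm fun x y => mul_comm x y
  exact Group.isSolvable_of_ker_le_range φ.ker.subtype φ (le_of_eq φ.ker.range_subtype.symm)

end Cfsg.Agent.Perm.PrimeDegree
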