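import Mathlib

/-! Realising prescribed maps in multiply transitive groups. -/

set_option autoImplicit false

namespace Cfsg.Agent.Perm.Agree

open MulAction

/-- In a `k`-transitive group every injection of at most `k` points is realised. -/
theorem exists_smul_eq {G : Type*} [Group G] {α : Type*} [MulAction G α] [Finite α] {k : ℕ}
    (hkn : k ≤ Nat.card α) (hG : IsMultiplyPretransitive G α k) (T : Finset α) (hT : T.card ≤ k)
    (f : α → α) (hf : Set.InjOn f (T : Set α)) : ∃ g : G, ∀ a ∈ T, g • a = f a := by
  have h1 : IsMultiplyPretransitive G α T.card := isMultiplyPretransitive_of_le hT hkn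
  let e : Fin T.card ↪ α := T.equivFin.symm.toEmbedding.trans (Function.Embedding.subtype _)
  let e' : Fin T.card ↪ α := ⟨fun i => f (e i), fun i j hij =>
    e.injective (hf (T.equivFin.symm i).2 (T.equivFin.symm j).2 hij)⟩
  obtain ⟨g, hg⟩ := h1.exists_smul_eq e e'
  refine ⟨g, fun a ha => ?_⟩
  have h2 : e (T.equivFin ⟨a, ha⟩) = a := by simp [e]
  have h3 := congrArg (fun u : Fin T.card ↪ α => u (T.equivFin ⟨a, ha⟩)) hg
  rw [← h2]
  exact h3

/-- A non-trivial normal subgroup of a symmetric group of degree at least 5 contains the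
alternating group. -/
theorem alternatingGroup_le_of_normal {α : Type*} [Fintype α] [DecidableEq α]
    (hα : 5 ≤ Fintype.card α) (N : Subgroup (Equiv.Perm α)) [hN : N.Normal] (h : N ≠ ⊥) :
    alternatingGroup α ≤ N := by
  have hs := alternatingGroup.isSimpleGroup (α := α) (by rw [Nat.card_eq_fintype_card]; exact hα)
  have hn : (N.subgroupOf (alternatingGroup α)).Normal := hN.subgroupOf _
  rcases hs.eq_bot_or_eq_top_of_normal _ hn with hbot | htop
  · exfalso
    obtain ⟨g, hg, hg1⟩ := (Subgroup.bot_or_exists_ne_one N).resolve_left h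
    obtain ⟨x, hx⟩ : ∃ x, g x ≠ x := by
      by_contra hh
      push Not at hh
      exact hg1 (Equiv.ext hh)
    obtain ⟨y, hyx, hygx⟩ : ∃ y, y ≠ x ∧ y ≠ g x := by
      by_contra hh
      push Not at hh
      have : (Finset.univ : Finset α) ⊆ {x, g x} := fun y _ => by
        by_cases hy : y = x
        · simp [hy]
        · simp [hh y hy]
      have := (Finset.card_le_card this).trans Finset.card_le_two
      rw [Finset.card_univ] at this
      omega
    let s := Equiv.swap x y
    let c := g * s * g⁻¹ * s⁻¹
    have hcN : c ∈ N := by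
      have h1 := hN.conj_mem _ (inv_mem hg) s
      have h2 : c = g * (s * g⁻¹ * s⁻¹) := by simp only [c, mul_assoc]
      rw [h2]; exact mul_mem hg h1
    have hcA : c ∈ alternatingGroup α := by
      simp only [c, Equiv.Perm.mem_alternatingGroup, map_mul, map_inv]
      rw [mul_right_comm (Equiv.Perm.sign g) (Equiv.Perm.sign s), mul_inv_cancel, one_mul,
        mul_inv_cancel]
    have hc1 : c = 1 := by
      have : (⟨c, hcA⟩ : alternatingGroup α) ∈ N.subgroupOf (alternatingGroup α) := hcN
      rw [hbot, Subgroup.mem_bot] at this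
      exact congrArg Subtype.val this
    have hcomm : g * s = s * g := mul_inv_eq_iff_eq_mul.1 (mul_inv_eq_one.1 hc1)
    have h3 : g (s x) = s (g x) := congrArg (fun σ : Equiv.Perm α => σ x) hcomm
    simp only [s, Equiv.swap_apply_left, Equiv.swap_apply_of_ne_of_ne hx hygx.symm] at h3
    exact hyx (g.injective h3)
  · exact Subgroup.subgroupOf_eq_top.1 htop

end Cfsg.Agent.Perm.Agree
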