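import Mathlib
import Cfsg.Agent.Lib.Perm.Basic

/-! The centraliser of a transitive permutation group is semiregular. -/

set_option autoImplicit false

namespace Cfsg.Agent.Perm.CentralizerTransitive

open MulAction

variable {α : Type*}

/-- A permutation commuting with a transitive group and fixing a point is trivial. -/
theorem eq_one_of_comm_fix {G : Subgroup (Equiv.Perm α)} (M : Subgroup G)
    (htrans : IsPretransitive M α) {c : Equiv.Perm α}
    (hc : ∀ m : G, m ∈ M → (m : Equiv.Perm α) * c = c * m) {a : α} (ha : c a = a) : c = 1 := by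
  refine Equiv.ext fun x => ?_
  obtain ⟨m, rfl⟩ := exists_smul_eq M a x
  show c (((m : G) : Equiv.Perm α) a) = ((m : G) : Equiv.Perm α) a
  have h := congrArg (fun σ : Equiv.Perm α => σ a) (hc m m.2)
  simp only [Equiv.Perm.coe_mul, Function.comp_apply] at h
  rw [← h, ha]

/-- An element of `G` commuting with a transitive subgroup and fixing a point is trivial. -/
theorem eq_one_of_comm_fix' {G : Subgroup (Equiv.Perm α)} (M : Subgroup G)
    (htrans : IsPretransitive M α) {c : G}
    (hc : ∀ m : G, m ∈ M → m * c = c * m) {a : α} (ha : c • a = a) : c = 1 := by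
  refine Subtype.ext (eq_one_of_comm_fix M htrans (fun m hm => ?_) ha)
  exact congrArg Subtype.val (hc m hm)

/-- Semiregularity of a subgroup commuting with a transitive one. -/
theorem stabilizer_eq_bot_of_comm {G : Subgroup (Equiv.Perm α)} (M N : Subgroup G)
    (htrans : IsPretransitive M α) (hc : ∀ m n : G, m ∈ M → n ∈ N → m * n = n * m) (a : α) :
    stabilizer N a = ⊥ := by
  refine (Subgroup.eq_bot_iff_forall _).2 fun n hn => ?_
  exact Subtype.ext (eq_one_of_comm_fix' M htrans (fun m hm => hc m n hm n.2) hn)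

/-- The centraliser of a transitive group is contained in every transitive subgroup that it
contains. -/
theorem centralizer_eq_of_comm {G : Subgroup (Equiv.Perm α)} (M N : Subgroup G)
    (hMt : IsPretransitive M α) (hNt : IsPretransitive N α)
    (hc : ∀ m n : G, m ∈ M → n ∈ N → m * n = n * m) [Nonempty α] :
    Subgroup.centralizer ((M.map G.subtype : Subgroup (Equiv.Perm α)) : Set (Equiv.Perm α)) =
      N.map G.subtype := by
  obtain ⟨a⟩ := ‹Nonempty α›
  refine le_antisymm (fun c hcm => ?_) ?_
  · rw [Subgroup.mem_centralizer_iff] at hcm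
    have hcm' : ∀ m : G, m ∈ M → (m : Equiv.Perm α) * c = c * m :=
      fun m hm => hcm _ ⟨m, hm, rfl⟩
    obtain ⟨n, hn⟩ := exists_smul_eq N a (c a)
    have h1 : (((n : G) : Equiv.Perm α))⁻¹ * c = 1 := by
      refine eq_one_of_comm_fix M hMt (fun m hm => ?_) (a := a) ?_
      · have h2 : (m : Equiv.Perm α) * ((n : G) : Equiv.Perm α) =
            ((n : G) : Equiv.Perm α) * (m : Equiv.Perm α) :=
          congrArg Subtype.val (hc m n hm n.2)
        have h3 : (m : Equiv.Perm α) * (((n : G) : Equiv.Perm α))⁻¹ =
            (((n : G) : Equiv.Perm α))⁻¹ * (m : Equiv.Perm α) :=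
          (Commute.inv_right h2).eq
        rw [← mul_assoc, h3, mul_assoc, hcm' m hm, mul_assoc]
      · show (((n : G) : Equiv.Perm α))⁻¹ (c a) = a
        rw [← hn]
        exact (((n : G) : Equiv.Perm α)).symm_apply_apply a
    rw [inv_mul_eq_one] at h1
    exact ⟨n, n.2, h1⟩
  · rintro _ ⟨n, hn, rfl⟩
    rw [Subgroup.mem_centralizer_iff]
    rintro _ ⟨m, hm, rfl⟩
    exact congrArg Subtype.val (hc m n hm hn)

end Cfsg.Agent.Perm.CentralizerTransitive
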