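import Mathlib

/-!
# Search data for the transitive groups of degree eleven

A word is a list of pairs `(a, b)`; a letter stands for `z ↦ g (a z + b)`, where `g` is given by the
table `t`.  A pair of a word and a point is a witness for `t` if the point lies in a cycle of
length seven of the word.
-/

set_option autoImplicit false

namespace Cfsg.Agent.Perm.Degree11

/-- A word: its letters and a point. -/
abbrev Wit := List (ℕ × ℕ) × ℕ

/-- The value of a word at a point, for the table `t`. -/
def ev (t : List ℕ) (w : List (ℕ × ℕ)) (x : ℕ) : ℕ :=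
  w.foldl (fun y p => t.getD ((p.1 * y + p.2) % 11) 0) x

/-- The point of the witness has period seven. -/
def hit (t : List ℕ) (q : Wit) : Bool :=
  !(ev t q.1 q.2).beq q.2 && ((ev t q.1)^[7] q.2).beq q.2

/-- Some witness works for the table. -/
def good (W : List Wit) (t : List ℕ) : Bool := W.any (hit t)

/-- The table of the map given by a list of pairs, fixing all other points. -/
def tab (l : List (ℕ × ℕ)) : List ℕ :=
  (List.range 11).map fun x => (l.lookup x).getD x

/-- The multipliers of the even affine maps. -/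
def squares : List ℕ := [1, 3, 4, 5, 9]

/-- All multipliers. -/
def multipliers : List ℕ := [1, 2, 3, 4, 5, 6, 7, 8, 9, 10]

/-- Witnesses for the double transpositions. -/
def witDT : List Wit := [
    ([(1, 10)], 0),
    ([(9, 5)], 6),
    ([(9, 7), (4, 2), (1, 4)], 4),
    ([(9, 6), (5, 4)], 5),
    ([(4, 9), (9, 0)], 8),
    ([(9, 7)], 4),
    ([(4, 6), (5, 8)], 3),
    ([(4, 8), (3, 1)], 0),
    ([(3, 7), (1, 7)], 3)]

/-- Witnesses for the double three-cycles. -/
def witTC : List Wit := [
    ([(9, 0), (5, 0)], 5),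
    ([(1, 10)], 6),
    ([(1, 3)], 4),
    ([(9, 9)], 6),
    ([(3, 7), (4, 5)], 2),
    ([(9, 10)], 6),
    ([(1, 9)], 1),
    ([(5, 8)], 5),
    ([(3, 6)], 6),
    ([(4, 6)], 4),
    ([(5, 3)], 5),
    ([(1, 7)], 10),
    ([(3, 4)], 6),
    ([(5, 2)], 8),
    ([(4, 0)], 8),
    ([(4, 3), (3, 2)], 8),
    ([(4, 9), (5, 0)], 0),
    ([(3, 5)], 1),
    ([(4, 8)], 3),
    ([(3, 10)], 7),
    ([(4, 9), (1, 8)], 6),
    ([(4, 2), (9, 3)], 3),
    ([(9, 10), (1, 1)], 7),
    ([(1, 7), (5, 9)], 6),
    ([(1, 9), (1, 10)], 8),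
    ([(4, 9), (1, 6)], 1),
    ([(9, 7)], 10),
    ([(4, 6), (9, 7)], 6),
    ([(9, 0), (9, 1)], 3),
    ([(1, 10), (5, 10), (9, 5)], 10),
    ([(5, 2), (3, 7)], 8)]

/-- Witnesses for the quadruple transpositions. -/
def witQT : List Wit := [
    ([(10, 2)], 2),
    ([(10, 0)], 1),
    ([(10, 6)], 3),
    ([(10, 7)], 9),
    ([(10, 4)], 2),
    ([(10, 3)], 7),
    ([(10, 8)], 4),
    ([(6, 1), (2, 9)], 9),
    ([(6, 6), (2, 10)], 10),
    ([(8, 8)], 10),
    ([(3, 3)], 2),
    ([(10, 1)], 6),
    ([(10, 9)], 10),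
    ([(6, 4)], 2),
    ([(8, 1)], 9),
    ([(1, 2), (6, 1)], 10),
    ([(7, 6)], 7),
    ([(6, 2), (10, 0)], 5),
    ([(9, 3)], 0),
    ([(3, 5), (8, 7)], 8),
    ([(8, 3)], 3),
    ([(6, 2)], 6),
    ([(3, 6)], 10),
    ([(9, 0), (5, 5), (4, 0), (3, 7)], 7)]

theorem witDT_ok : witDT.all (fun q => q.1.all (fun p => squares.contains p.1) && q.2 < 11) = true := by
  decide +kernel

theorem witTC_ok : witTC.all (fun q => q.1.all (fun p => squares.contains p.1) && q.2 < 11) = true := by
  decide +kernel

theorem witQT_ok :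
    witQT.all (fun q => q.1.all (fun p => multipliers.contains p.1) && q.2 < 11) = true := by
  decide +kernel

/-- Quantification over the points that are at least `lo` and not in `avoid`. -/
def allPts (lo : ℕ) (avoid : List ℕ) (P : ℕ → Bool) : Bool :=
  (List.range 11).all fun x => x < lo || avoid.contains x || P x

theorem allPts_apply {lo : ℕ} {avoid : List ℕ} {P : ℕ → Bool} (h : allPts lo avoid P = true)
    (x : ℕ) (hx : x < 11) (hlo : lo ≤ x) (hav : x ∉ avoid) : P x = true := by
  have h' := List.all_eq_true.1 h x (List.mem_range.2 hx)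
  simpa [not_lt.2 hlo, hav] using h'

/-- The search over all double transpositions. -/
def checkDT : Bool :=
  [1, 2].all fun b =>
    allPts 1 [b] fun c => allPts (c + 1) [b] fun d =>
      good witDT (tab [(0, b), (b, 0), (c, d), (d, c)])

/-- The search over all double three-cycles. -/
def checkTC : Bool :=
  [1, 2].all fun b =>
    allPts 1 [b] fun c => allPts 1 [b, c] fun d => allPts (d + 1) [b, c] fun e =>
      allPts (d + 1) [b, c, e] fun f =>
        good witTC (tab [(0, b), (b, c), (c, 0), (d, e), (e, f), (f, d)])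

/-- The search over all quadruple transpositions. -/
def checkQT : Bool :=
  allPts 2 [] fun c => allPts (c + 1) [] fun d =>
    allPts (c + 1) [d] fun e => allPts (e + 1) [d] fun f =>
      allPts (e + 1) [d, f] fun h => allPts (h + 1) [d, f] fun k =>
        good witQT (tab [(0, 1), (1, 0), (c, d), (d, c), (e, f), (f, e), (h, k), (k, h)])

theorem checkDT_true : checkDT = true := by decide +kernel

theorem checkTC_true : checkTC = true := by decide +kernel

theorem checkQT_true : checkQT = true := by decide +kernel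

end Cfsg.Agent.Perm.Degree11
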