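import Mathlib
import Cfsg.Agent.Lib.Perm.Degree11Data

/-!
# Excluded cycle types in the groups of degree eleven

If a group of permutations of `ZMod 11` contains the translations and the affine maps with square
multiplier, and has no element of order divisible by `7`, then it contains no double transposition
and no double three-cycle.  If it contains all affine maps it contains no quadruple transposition.
-/

set_option autoImplicit false

namespace Cfsg.Agent.Perm.Degree11

open Equiv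

local instance factOneLtEleven : Fact (1 < 11) := ⟨by norm_num⟩

/-- `K` contains all affine maps with multiplier in the list `al`. -/
def HasAff (K : Subgroup (Perm (ZMod 11))) (al : List ℕ) : Prop :=
  ∀ a ∈ al, ∀ b : ZMod 11, ∃ u ∈ K, ∀ z : ZMod 11, u z = (a : ZMod 11) * z + b

theorem exists_word (K : Subgroup (Perm (ZMod 11))) {al : List ℕ} (hK : HasAff K al)
    {g : Perm (ZMod 11)} (hg : g ∈ K) (t : List ℕ)
    (ht : ∀ z : ZMod 11, (g z).val = t.getD z.val 0) (w : List (ℕ × ℕ))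
    (hw : ∀ p ∈ w, p.1 ∈ al) :
    ∃ h ∈ K, ∀ z : ZMod 11, (h z).val = ev t w z.val := by
  induction w with
  | nil => exact ⟨1, K.one_mem, fun z => rfl⟩
  | cons p w ih =>
    obtain ⟨h, hh, heq⟩ := ih fun q hq => hw q (List.mem_cons_of_mem p hq)
    obtain ⟨u, hu, hueq⟩ := hK p.1 (hw p List.mem_cons_self) (p.2 : ZMod 11)
    refine ⟨h * g * u, K.mul_mem (K.mul_mem hh hg) hu, fun z => ?_⟩
    rw [Perm.mul_apply, Perm.mul_apply, heq, ht, hueq, ev, ev, List.foldl_cons]
    congr 2
    rw [show (p.1 : ZMod 11) * z + (p.2 : ZMod 11) = ((p.1 * z.val + p.2 : ℕ) : ZMod 11) by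
      push_cast [ZMod.natCast_zmod_val]
      rfl, ZMod.val_natCast]

theorem seven_dvd_of_good (K : Subgroup (Perm (ZMod 11))) {al : List ℕ} (hK : HasAff K al)
    {g : Perm (ZMod 11)} (hg : g ∈ K) (t : List ℕ)
    (ht : ∀ z : ZMod 11, (g z).val = t.getD z.val 0) {W : List Wit}
    (hW : W.all (fun q => q.1.all (fun p => al.contains p.1) && q.2 < 11) = true)
    (hgood : good W t = true) : ∃ h ∈ K, 7 ∣ orderOf h := by
  obtain ⟨q, hq, hhit⟩ := List.any_eq_true.1 hgood
  have hq' := List.all_eq_true.1 hW q hq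
  simp only [Bool.and_eq_true, List.all_eq_true, List.contains_iff_mem, decide_eq_true_eq] at hq'
  obtain ⟨h, hh, heq⟩ := exists_word K hK hg t ht q.1 hq'.1
  refine ⟨h, hh, ?_⟩
  simp only [hit, Bool.and_eq_true, Bool.not_eq_true', Nat.beq_eq, ← Bool.not_eq_true] at hhit
  let x : ZMod 11 := (q.2 : ZMod 11)
  have hx : x.val = q.2 := by rw [ZMod.val_natCast, Nat.mod_eq_of_lt hq'.2]
  have hiter : ∀ n : ℕ, ((h ^ n) x).val = (ev t q.1)^[n] q.2 := by
    intro n
    induction n with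
    | zero => simpa using hx
    | succ n ih => rw [pow_succ', Perm.mul_apply, heq, ih, Function.iterate_succ_apply']
  have h1 : h x ≠ x := fun hc => hhit.1 (by rw [← hx, ← heq, hc])
  have h7 : (h ^ 7) x = x := ZMod.val_injective 11 ((hiter 7).trans (hhit.2.trans hx.symm))
  by_contra hnd
  obtain ⟨m, hm⟩ := exists_pow_eq_self_of_coprime (x := h)
    (((by norm_num : Nat.Prime 7).coprime_iff_not_dvd.2 hnd))
  have : ∀ k : ℕ, ((h ^ 7) ^ k) x = x := by
    intro k
    induction k with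
    | zero => rfl
    | succ k ih => rw [pow_succ, Perm.mul_apply, h7, ih]
  exact h1 (by have h2 := this m; rwa [hm] at h2)

theorem tab_spec (g : Perm (ZMod 11)) (l : List (ℕ × ℕ))
    (hl : ∀ p ∈ l, ∀ z : ZMod 11, z.val = p.1 → (g z).val = p.2)
    (hsupp : ∀ z : ZMod 11, g z ≠ z → ∃ p ∈ l, z.val = p.1) (z : ZMod 11) :
    (g z).val = (tab l).getD z.val 0 := by
  have hz : z.val < 11 := z.val_lt
  rw [tab, List.getD_eq_getElem _ _ (by simpa using hz), List.getElem_map, List.getElem_range]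
  cases hlook : l.lookup z.val with
  | none =>
    rw [Option.getD_none]
    by_contra hne
    obtain ⟨p, hp, hzp⟩ := hsupp z fun hc => hne (by rw [hc])
    have := List.lookup_eq_none_iff.1 hlook p hp
    simp [hzp] at this
  | some v =>
    rw [Option.getD_some]
    obtain ⟨l₁, l₂, hl', -⟩ := List.lookup_eq_some_iff.1 hlook
    exact hl (z.val, v) (by rw [hl']; simp) z rfl

theorem exists_square_normal : ∀ d : ZMod 11, d ≠ 0 →
    ∃ a ∈ squares, (a : ZMod 11) * d = 1 ∨ (a : ZMod 11) * d = 2 := by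
  decide +kernel

theorem exists_mul_eq_one : ∀ d : ZMod 11, d ≠ 0 → ∃ a ∈ multipliers, (a : ZMod 11) * d = 1 := by
  decide +kernel

/-- Move a pair `x₀ ↦ g x₀` to `0 ↦ a (g x₀ - x₀)`. -/
theorem exists_conj (K : Subgroup (Perm (ZMod 11))) {al : List ℕ} (hK : HasAff K al)
    {g : Perm (ZMod 11)} (hg : g ∈ K) (x₀ : ZMod 11) {a : ℕ} (ha : a ∈ al) :
    ∃ u ∈ K, u * g * u⁻¹ ∈ K ∧ (u * g * u⁻¹) 0 = (a : ZMod 11) * (g x₀ - x₀) := by
  obtain ⟨u, hu, hueq⟩ := hK a ha (-((a : ZMod 11) * x₀))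
  refine ⟨u, hu, K.mul_mem (K.mul_mem hu hg) (K.inv_mem hu), ?_⟩
  have h0 : u⁻¹ 0 = x₀ := by
    rw [Perm.inv_eq_iff_eq, hueq]
    ring
  rw [Perm.mul_apply, Perm.mul_apply, h0, hueq]
  ring

theorem eq_insert_four {α : Type*} [DecidableEq α] (s : Finset α) (hs : s.card = 4) {a b c d : α}
    (ha : a ∈ s) (hb : b ∈ s) (hc : c ∈ s) (hd : d ∈ s) (h : [a, b, c, d].Nodup) :
    ∀ z ∈ s, z ∈ [a, b, c, d] := by
  have heq : [a, b, c, d].toFinset = s := by
    refine Finset.eq_of_subset_of_card_le ?_ (by rw [List.toFinset_card_of_nodup h, hs]; rfl)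
    intro z hz
    simp only [List.mem_toFinset, List.mem_cons, List.not_mem_nil, or_false] at hz
    rcases hz with rfl | rfl | rfl | rfl <;> assumption
  intro z hz
  rwa [← heq, List.mem_toFinset] at hz

theorem subset_list {α : Type*} [DecidableEq α] (s : Finset α) (l : List α) (hl : ∀ z ∈ l, z ∈ s)
    (h : l.Nodup) (hs : s.card ≤ l.length) : ∀ z ∈ s, z ∈ l := by
  have heq : l.toFinset = s :=
    Finset.eq_of_subset_of_card_le (fun z hz => hl z (List.mem_toFinset.1 hz))
      (by rwa [List.toFinset_card_of_nodup h])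
  intro z hz
  rwa [← heq, List.mem_toFinset] at hz

theorem exists_outside {α : Type*} [DecidableEq α] (s : Finset α) (f : α → ℕ) (l : List α)
    (hs : l.length < s.card) :
    ∃ c ∈ s, c ∉ l ∧ ∀ z ∈ s, z ∉ l → f c ≤ f z := by
  have hne : (s \ l.toFinset).Nonempty := by
    rw [← Finset.card_pos]
    have h1 := Finset.le_card_sdiff l.toFinset s
    have h2 := List.toFinset_card_le l
    omega
  obtain ⟨c, hc, hmin⟩ := Finset.exists_min_image (s \ l.toFinset) f hne
  simp only [Finset.mem_sdiff, List.mem_toFinset] at hc hmin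
  exact ⟨c, hc.1, hc.2, fun z hz hzl => hmin z ⟨hz, hzl⟩⟩

theorem val_ne {x y : ZMod 11} (h : x ≠ y) : x.val ≠ y.val := fun hc => h (ZMod.val_injective 11 hc)

/-- No double transposition. -/
theorem seven_of_doubleTransposition (K : Subgroup (Perm (ZMod 11))) (hK : HasAff K squares)
    {g : Perm (ZMod 11)} (hg : g ∈ K) (h2 : g * g = 1) (hsupp : g.support.card = 4) :
    ∃ h ∈ K, 7 ∣ orderOf h := by
  obtain ⟨x₀, hx₀⟩ : g.support.Nonempty := Finset.card_pos.1 (by omega)
  obtain ⟨a, ha, hab⟩ := exists_square_normal (g x₀ - x₀)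
    (sub_ne_zero.2 (Perm.mem_support.1 hx₀))
  obtain ⟨u, -, hk, hb0⟩ := exists_conj K hK hg x₀ ha
  have hinv : ∀ z, (u * g * u⁻¹) ((u * g * u⁻¹) z) = z := by
    intro z
    rw [← Perm.mul_apply, show u * g * u⁻¹ * (u * g * u⁻¹) = u * (g * g) * u⁻¹ by group, h2,
      mul_one, mul_inv_cancel, Perm.one_apply]
  have hcard : (u * g * u⁻¹).support.card = 4 := by rw [Perm.card_support_conj, hsupp]
  obtain ⟨k, hkdef⟩ : ∃ k, k = u * g * u⁻¹ := ⟨_, rfl⟩
  rw [← hkdef] at hk hb0 hinv hcard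
  obtain ⟨b, hb, hbv⟩ : ∃ b, k 0 = b ∧ (b.val = 1 ∨ b.val = 2) := by
    refine ⟨k 0, rfl, ?_⟩
    rcases hab with hh | hh <;> rw [hb0, hh]
    · exact Or.inl (ZMod.val_one 11)
    · exact Or.inr rfl
  have hb0' : k b = 0 := by rw [← hb, hinv]
  have hbne : b ≠ 0 := fun hc => by
    rw [hc, ZMod.val_zero] at hbv
    omega
  have hm : ∀ z, z ∈ k.support → k z ∈ k.support := fun z hz => Perm.apply_mem_support.2 hz
  have h0s : (0 : ZMod 11) ∈ k.support := Perm.mem_support.2 (by rw [hb]; exact hbne)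
  have hbs : b ∈ k.support := hb ▸ hm 0 h0s
  obtain ⟨c, hcs, hcl, hcmin⟩ := exists_outside k.support ZMod.val [0, b]
    (by simp only [List.length_cons, List.length_nil]; omega)
  simp only [List.mem_cons, List.not_mem_nil, or_false, not_or] at hcl hcmin
  obtain ⟨d, hd⟩ : ∃ d, k c = d := ⟨_, rfl⟩
  have hds : d ∈ k.support := hd ▸ hm c hcs
  have hdc : d ≠ c := hd ▸ Perm.mem_support.1 hcs
  have hd0 : d ≠ 0 := fun hc => hcl.2 (by rw [← hb, ← hc, ← hd, hinv])
  have hdb : d ≠ b := fun hc => hcl.1 (k.injective (by rw [hd, hc, hb]))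
  have hle := hcmin d hds ⟨hd0, hdb⟩
  have hnodup : [0, b, c, d].Nodup := by
    simp [List.nodup_cons, hbne.symm, Ne.symm hcl.1, Ne.symm hcl.2, hd0.symm, hdb.symm, hdc.symm]
  have hall := eq_insert_four k.support hcard h0s hbs hcs hds hnodup
  refine seven_dvd_of_good K hK hk (tab [(0, b.val), (b.val, 0), (c.val, d.val), (d.val, c.val)])
    (tab_spec k _ ?_ ?_) witDT_ok ?_
  · intro p hp z hz
    simp only [List.mem_cons, List.not_mem_nil, or_false] at hp
    rcases hp with rfl | rfl | rfl | rfl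
    · rw [(ZMod.val_eq_zero z).1 hz, hb]
    · rw [ZMod.val_injective 11 hz, hb0', ZMod.val_zero]
    · rw [ZMod.val_injective 11 hz, hd]
    · rw [ZMod.val_injective 11 hz, ← hd, hinv]
  · intro z hz
    have := hall z (Perm.mem_support.2 hz)
    simp only [List.mem_cons, List.not_mem_nil, or_false] at this
    rcases this with rfl | rfl | rfl | rfl <;> simp
  · have h := checkDT_true
    rw [checkDT, List.all_eq_true] at h
    have hc0 := val_ne hcl.1
    rw [ZMod.val_zero] at hc0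
    have hdc' := val_ne hdc
    exact allPts_apply (allPts_apply (h b.val (by simp [hbv])) c.val c.val_lt (by omega)
      (by simpa using val_ne hcl.2)) d.val d.val_lt (by omega) (by simpa using val_ne hdb)

/-- No double three-cycle. -/
theorem seven_of_doubleThreeCycle (K : Subgroup (Perm (ZMod 11))) (hK : HasAff K squares)
    {g : Perm (ZMod 11)} (hg : g ∈ K) (h3 : g * g * g = 1) (hsupp : g.support.card = 6) :
    ∃ h ∈ K, 7 ∣ orderOf h := by
  obtain ⟨x₀, hx₀⟩ : g.support.Nonempty := Finset.card_pos.1 (by omega)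
  obtain ⟨a, ha, hab⟩ := exists_square_normal (g x₀ - x₀)
    (sub_ne_zero.2 (Perm.mem_support.1 hx₀))
  obtain ⟨u, -, hk, hb0⟩ := exists_conj K hK hg x₀ ha
  have hthree : ∀ z, (u * g * u⁻¹) ((u * g * u⁻¹) ((u * g * u⁻¹) z)) = z := by
    intro z
    rw [← Perm.mul_apply, ← Perm.mul_apply,
      show u * g * u⁻¹ * (u * g * u⁻¹) * (u * g * u⁻¹) = u * (g * g * g) * u⁻¹ by group, h3,
      mul_one, mul_inv_cancel, Perm.one_apply]
  have hcard : (u * g * u⁻¹).support.card = 6 := by rw [Perm.card_support_conj, hsupp]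
  obtain ⟨k, hkdef⟩ : ∃ k, k = u * g * u⁻¹ := ⟨_, rfl⟩
  rw [← hkdef] at hk hb0 hthree hcard
  obtain ⟨b, hb, hbv⟩ : ∃ b, k 0 = b ∧ (b.val = 1 ∨ b.val = 2) := by
    refine ⟨k 0, rfl, ?_⟩
    rcases hab with hh | hh <;> rw [hb0, hh]
    · exact Or.inl (ZMod.val_one 11)
    · exact Or.inr rfl
  obtain ⟨c, hc⟩ : ∃ c, k b = c := ⟨_, rfl⟩
  have hc0 : k c = 0 := by rw [← hc, ← hb, hthree]
  have hbne : b ≠ 0 := fun hh => by
    rw [hh, ZMod.val_zero] at hbv
    omega
  have hm : ∀ z, z ∈ k.support → k z ∈ k.support := fun z hz => Perm.apply_mem_support.2 hz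
  have h0s : (0 : ZMod 11) ∈ k.support := Perm.mem_support.2 (by rw [hb]; exact hbne)
  have hbs : b ∈ k.support := hb ▸ hm 0 h0s
  have hcs : c ∈ k.support := hc ▸ hm b hbs
  have hcb : c ≠ b := hc ▸ Perm.mem_support.1 hbs
  have hc0' : c ≠ 0 := fun hh => hbne (by rw [← hb, ← hh, hc0, hh])
  obtain ⟨d, hds, hdl, hdmin⟩ := exists_outside k.support ZMod.val [0, b, c]
    (by simp only [List.length_cons, List.length_nil]; omega)
  simp only [List.mem_cons, List.not_mem_nil, or_false, not_or] at hdl hdmin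
  have hout : ∀ z, z ≠ 0 → z ≠ b → z ≠ c → k z ≠ 0 ∧ k z ≠ b ∧ k z ≠ c := fun z z0 zb zc =>
    ⟨fun hh => zc (k.injective (hh.trans hc0.symm)), fun hh => z0 (k.injective (hh.trans hb.symm)),
      fun hh => zb (k.injective (hh.trans hc.symm))⟩
  obtain ⟨e, he⟩ : ∃ e, k d = e := ⟨_, rfl⟩
  obtain ⟨f, hf⟩ : ∃ f, k e = f := ⟨_, rfl⟩
  have hes : e ∈ k.support := he ▸ hm d hds
  have hfs : f ∈ k.support := hf ▸ hm e hes
  obtain ⟨e0, eb, ec⟩ := he ▸ hout d hdl.1 hdl.2.1 hdl.2.2
  obtain ⟨f0, fb, fc⟩ := hf ▸ hout e e0 eb ec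
  have hed : e ≠ d := he ▸ Perm.mem_support.1 hds
  have hfe : f ≠ e := hf ▸ Perm.mem_support.1 hes
  have hfd : f ≠ d := fun hh => hed (by
    have := hthree d
    rw [he, hf, hh, he] at this
    exact this)
  have hle := hdmin e hes ⟨e0, eb, ec⟩
  have hle' := hdmin f hfs ⟨f0, fb, fc⟩
  have hnodup : [0, b, c, d, e, f].Nodup := by
    simp [List.nodup_cons, hbne.symm, hc0'.symm, hcb.symm, Ne.symm hdl.1, Ne.symm hdl.2.1,
      Ne.symm hdl.2.2, e0.symm, eb.symm, ec.symm, f0.symm, fb.symm, fc.symm, hed.symm, hfd.symm,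
      hfe.symm]
  have hall := subset_list k.support [0, b, c, d, e, f] (by
    intro z hz
    simp only [List.mem_cons, List.not_mem_nil, or_false] at hz
    rcases hz with rfl | rfl | rfl | rfl | rfl | rfl <;> assumption) hnodup (by rw [hcard]; rfl)
  refine seven_dvd_of_good K hK hk
    (tab [(0, b.val), (b.val, c.val), (c.val, 0), (d.val, e.val), (e.val, f.val), (f.val, d.val)])
    (tab_spec k _ ?_ ?_) witTC_ok ?_
  · intro p hp z hz
    simp only [List.mem_cons, List.not_mem_nil, or_false] at hp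
    rcases hp with rfl | rfl | rfl | rfl | rfl | rfl
    · rw [(ZMod.val_eq_zero z).1 hz, hb]
    · rw [ZMod.val_injective 11 hz, hc]
    · rw [ZMod.val_injective 11 hz, hc0, ZMod.val_zero]
    · rw [ZMod.val_injective 11 hz, he]
    · rw [ZMod.val_injective 11 hz, hf]
    · rw [ZMod.val_injective 11 hz, ← hf, ← he, hthree]
  · intro z hz
    have := hall z (Perm.mem_support.2 hz)
    simp only [List.mem_cons, List.not_mem_nil, or_false] at this
    rcases this with rfl | rfl | rfl | rfl | rfl | rfl <;> simp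
  · have h := checkTC_true
    rw [checkTC, List.all_eq_true] at h
    have h1 := val_ne hc0'
    have h2 := val_ne hdl.1
    rw [ZMod.val_zero] at h1 h2
    have h3 := val_ne hed
    have h4 := val_ne hfd
    exact allPts_apply (allPts_apply (allPts_apply (allPts_apply (h b.val (by simp [hbv])) c.val
      c.val_lt (by omega) (by simpa using val_ne hcb)) d.val d.val_lt (by omega)
      (by simp [val_ne hdl.2.1, val_ne hdl.2.2])) e.val e.val_lt (by omega)
      (by simp [val_ne eb, val_ne ec])) f.val f.val_lt (by omega)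
      (by simp [val_ne fb, val_ne fc, val_ne hfe])

/-- With all affine maps there is no quadruple transposition. -/
theorem seven_of_quadTransposition (K : Subgroup (Perm (ZMod 11))) (hK : HasAff K multipliers)
    {g : Perm (ZMod 11)} (hg : g ∈ K) (h2 : g * g = 1) (hsupp : g.support.card = 8) :
    ∃ h ∈ K, 7 ∣ orderOf h := by
  obtain ⟨x₀, hx₀⟩ : g.support.Nonempty := Finset.card_pos.1 (by omega)
  obtain ⟨a, ha, hab⟩ := exists_mul_eq_one (g x₀ - x₀) (sub_ne_zero.2 (Perm.mem_support.1 hx₀))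
  obtain ⟨u, -, hk, hb0⟩ := exists_conj K hK hg x₀ ha
  have hinv : ∀ z, (u * g * u⁻¹) ((u * g * u⁻¹) z) = z := by
    intro z
    rw [← Perm.mul_apply, show u * g * u⁻¹ * (u * g * u⁻¹) = u * (g * g) * u⁻¹ by group, h2,
      mul_one, mul_inv_cancel, Perm.one_apply]
  have hcard : (u * g * u⁻¹).support.card = 8 := by rw [Perm.card_support_conj, hsupp]
  obtain ⟨k, hkdef⟩ : ∃ k, k = u * g * u⁻¹ := ⟨_, rfl⟩
  rw [← hkdef] at hk hb0 hinv hcard
  rw [hab] at hb0
  have h1v : (1 : ZMod 11).val = 1 := ZMod.val_one 11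
  have hm : ∀ z, z ∈ k.support → k z ∈ k.support := fun z hz => Perm.apply_mem_support.2 hz
  have h0s : (0 : ZMod 11) ∈ k.support := Perm.mem_support.2 (by rw [hb0]; exact one_ne_zero)
  have h1s : (1 : ZMod 11) ∈ k.support := hb0 ▸ hm 0 h0s
  have h10 : k 1 = 0 := by rw [← hb0, hinv]
  -- the partner of a point outside a union of transpositions is outside too
  have hout : ∀ (l : List (ZMod 11)), (∀ z ∈ l, k z ∈ l) → ∀ z, z ∉ l → k z ∉ l := by
    intro l hl z hz hh
    exact hz (by rw [← hinv z]; exact hl _ hh)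
  have l1 : ∀ z ∈ ([0, 1] : List (ZMod 11)), k z ∈ ([0, 1] : List (ZMod 11)) := by
    intro z hz
    simp only [List.mem_cons, List.not_mem_nil, or_false] at hz
    rcases hz with rfl | rfl <;> simp [hb0, h10]
  obtain ⟨c, hcs, hcl, hcmin⟩ := exists_outside k.support ZMod.val [0, 1]
    (by simp only [List.length_cons, List.length_nil]; omega)
  obtain ⟨d, hd⟩ : ∃ d, k c = d := ⟨_, rfl⟩
  have hd' : k d = c := by rw [← hd, hinv]
  have hdl := hd ▸ hout _ l1 c hcl
  have hcd : d ≠ c := hd ▸ Perm.mem_support.1 hcs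
  have hds : d ∈ k.support := hd ▸ hm c hcs
  have l2 : ∀ z ∈ [0, 1, c, d], k z ∈ [0, 1, c, d] := by
    intro z hz
    simp only [List.mem_cons, List.not_mem_nil, or_false] at hz
    rcases hz with rfl | rfl | rfl | rfl <;> simp [hb0, h10, hd, hd']
  obtain ⟨e, hes, hel, hemin⟩ := exists_outside k.support ZMod.val [0, 1, c, d]
    (by simp only [List.length_cons, List.length_nil]; omega)
  obtain ⟨f, hf⟩ : ∃ f, k e = f := ⟨_, rfl⟩
  have hf' : k f = e := by rw [← hf, hinv]
  have hfl := hf ▸ hout _ l2 e hel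
  have hef : f ≠ e := hf ▸ Perm.mem_support.1 hes
  have hfs : f ∈ k.support := hf ▸ hm e hes
  have l3 : ∀ z ∈ [0, 1, c, d, e, f], k z ∈ [0, 1, c, d, e, f] := by
    intro z hz
    simp only [List.mem_cons, List.not_mem_nil, or_false] at hz
    rcases hz with rfl | rfl | rfl | rfl | rfl | rfl <;> simp [hb0, h10, hd, hd', hf, hf']
  obtain ⟨h, hhs, hhl, hhmin⟩ := exists_outside k.support ZMod.val [0, 1, c, d, e, f]
    (by simp only [List.length_cons, List.length_nil]; omega)
  obtain ⟨j, hj⟩ : ∃ j, k h = j := ⟨_, rfl⟩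
  have hj' : k j = h := by rw [← hj, hinv]
  have hjl := hj ▸ hout _ l3 h hhl
  have hhj : j ≠ h := hj ▸ Perm.mem_support.1 hhs
  have hjs : j ∈ k.support := hj ▸ hm h hhs
  have o1 := hcmin d hds hdl
  have o2 := hcmin e hes (fun hh => hel (List.mem_append_left [c, d] hh))
  have o3 := hemin f hfs hfl
  have o4 := hemin h hhs (fun hh => hhl (List.mem_append_left [e, f] hh))
  have o5 := hhmin j hjs hjl
  simp only [List.mem_cons, List.not_mem_nil, or_false, not_or] at hcl hdl hel hfl hhl hjl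
  have v1 := val_ne hcd
  have v2 := val_ne hel.2.2.1
  have v3 := val_ne hef
  have v4 := val_ne hhl.2.2.2.2.1
  have v5 := val_ne hhj
  have v6 := val_ne hcl.1
  have v7 := val_ne hcl.2
  rw [ZMod.val_zero] at v6
  rw [h1v] at v7
  have hnodup : [0, 1, c, d, e, f, h, j].Nodup := by
    simp [List.nodup_cons, zero_ne_one, Ne.symm hcl.1, Ne.symm hcl.2, Ne.symm hdl.1, Ne.symm hdl.2, hcd.symm,
      Ne.symm hel.1, Ne.symm hel.2.1, Ne.symm hel.2.2.1, Ne.symm hel.2.2.2, Ne.symm hfl.1,
      Ne.symm hfl.2.1, Ne.symm hfl.2.2.1, Ne.symm hfl.2.2.2, hef.symm, Ne.symm hhl.1,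
      Ne.symm hhl.2.1, Ne.symm hhl.2.2.1, Ne.symm hhl.2.2.2.1, Ne.symm hhl.2.2.2.2.1,
      Ne.symm hhl.2.2.2.2.2, Ne.symm hjl.1, Ne.symm hjl.2.1, Ne.symm hjl.2.2.1,
      Ne.symm hjl.2.2.2.1, Ne.symm hjl.2.2.2.2.1, Ne.symm hjl.2.2.2.2.2, hhj.symm]
  have hall := subset_list k.support [0, 1, c, d, e, f, h, j] (by
    intro z hz
    simp only [List.mem_cons, List.not_mem_nil, or_false] at hz
    rcases hz with rfl | rfl | rfl | rfl | rfl | rfl | rfl | rfl <;> assumption) hnodup
    (by rw [hcard]; rfl)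
  refine seven_dvd_of_good K hK hk
    (tab [(0, 1), (1, 0), (c.val, d.val), (d.val, c.val), (e.val, f.val), (f.val, e.val),
      (h.val, j.val), (j.val, h.val)]) (tab_spec k _ ?_ ?_) witQT_ok ?_
  · intro p hp z hz
    simp only [List.mem_cons, List.not_mem_nil, or_false] at hp
    rcases hp with rfl | rfl | rfl | rfl | rfl | rfl | rfl | rfl
    · rw [(ZMod.val_eq_zero z).1 hz, hb0, h1v]
    · rw [ZMod.val_injective 11 (hz.trans h1v.symm), h10, ZMod.val_zero]
    · rw [ZMod.val_injective 11 hz, hd]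
    · rw [ZMod.val_injective 11 hz, hd']
    · rw [ZMod.val_injective 11 hz, hf]
    · rw [ZMod.val_injective 11 hz, hf']
    · rw [ZMod.val_injective 11 hz, hj]
    · rw [ZMod.val_injective 11 hz, hj']
  · intro z hz
    have := hall z (Perm.mem_support.2 hz)
    simp only [List.mem_cons, List.not_mem_nil, or_false] at this
    rcases this with rfl | rfl | rfl | rfl | rfl | rfl | rfl | rfl <;> simp [h1v]
  · exact allPts_apply (allPts_apply (allPts_apply (allPts_apply (allPts_apply (allPts_apply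
      checkQT_true c.val c.val_lt (by omega) (by simp)) d.val d.val_lt (by omega) (by simp))
      e.val e.val_lt (by omega) (by simp [val_ne hel.2.2.2]))
      f.val f.val_lt (by omega) (by simp [val_ne hfl.2.2.2]))
      h.val h.val_lt (by omega) (by simp [val_ne hhl.2.2.2.1, val_ne hhl.2.2.2.2.2]))
      j.val j.val_lt (by omega) (by simp [val_ne hjl.2.2.2.1, val_ne hjl.2.2.2.2.2])

end Cfsg.Agent.Perm.Degree11
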