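import Mathlib
import Cfsg.Agent.Lib.Perm.PrimeDegree

/-! Groups of prime degree with a Sylow normaliser of even order. -/

set_option autoImplicit false

namespace Cfsg.Agent.Perm.EvenNormalizer

open scoped Nat

variable {p : ℕ} [hp : Fact p.Prime]

/-- A Sylow `p`-subgroup of a transitive group of degree `p` is generated by any element of
order `p`. -/
theorem sylow_eq_zpowers {α : Type*} [Finite α] (hα : Nat.card α = p)
    (G : Subgroup (Equiv.Perm α)) {t : G} (ht : orderOf t = p) :
    ∃ Q : Sylow p G, (Q : Subgroup G) = Subgroup.zpowers t := by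
  obtain ⟨Q, hQ⟩ := (IsPGroup.of_card (G := Subgroup.zpowers t) (p := p) (n := 1)
    (by rw [Nat.card_zpowers, ht, pow_one])).exists_le_sylow
  refine ⟨Q, (Subgroup.eq_of_le_of_card_ge hQ ?_).symm⟩
  rw [Nat.card_zpowers, ht]
  obtain ⟨n, hn⟩ := IsPGroup.iff_card.1 Q.isPGroup'
  have h1 : p ^ n ∣ p ! := by
    have h0 : Nat.card (Q : Subgroup G) ∣ (Nat.card α) ! := by
      rw [← Nat.card_perm]
      exact (Subgroup.card_subgroup_dvd_card _).trans (Subgroup.card_subgroup_dvd_card G)
    rw [hα, hn] at h0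
    exact h0
  rcases Nat.lt_or_ge n 2 with h | h
  · rw [hn]
    exact (Nat.pow_le_pow_right hp.out.pos (by omega : n ≤ 1)).trans (pow_one p).le
  · exfalso
    have h2 : p ^ 2 ∣ p ! := (pow_dvd_pow p h).trans h1
    obtain ⟨m, hm⟩ : ∃ m, p = m + 1 := ⟨p - 1, by have := hp.out.pos; omega⟩
    rw [pow_two] at h2
    nth_rewrite 3 [hm] at h2
    rw [Nat.factorial_succ, ← hm] at h2
    have h3 := Nat.dvd_of_mul_dvd_mul_left hp.out.pos h2
    rw [hp.out.dvd_factorial] at h3
    omega

/-- Coordinates in which an involution normalising the Sylow subgroup is `k ↦ -k`. -/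
theorem exists_coord_neg {α : Type*} [Finite α] (hα : Nat.card α = p) (hp2 : p ≠ 2)
    (G : Subgroup (Equiv.Perm α)) [MulAction.IsPretransitive G α] (P : Sylow p G)
    (heven : Even (Nat.card (Subgroup.normalizer ((P : Subgroup G) : Set G)))) :
    ∃ (e : ZMod p ≃ α) (t h : G), orderOf t = p ∧ (∀ k, t • e k = e (k + 1)) ∧
      ∀ k, h • e k = e (-k) := by
  obtain ⟨e, t, hto, ht⟩ := Cfsg.Agent.Perm.PrimeDegree.exists_coord (p := p) hα G
  obtain ⟨Q, hQ⟩ := sylow_eq_zpowers hα G hto
  have heven' : Even (Nat.card (Subgroup.normalizer ((Q : Subgroup G) : Set G))) := by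
    have h1 := (Subgroup.normalizer ((P : Subgroup G) : Set G)).card_mul_index
    have h2 := (Subgroup.normalizer ((Q : Subgroup G) : Set G)).card_mul_index
    have e1 : Nat.card (Sylow p G) = (Subgroup.normalizer ((P : Subgroup G) : Set G)).index :=
      P.card_eq_index_normalizer
    have e2 : Nat.card (Sylow p G) = (Subgroup.normalizer ((Q : Subgroup G) : Set G)).index :=
      Q.card_eq_index_normalizer
    rw [← e1] at h1
    rw [← e2, ← h1] at h2
    rwa [Nat.eq_of_mul_eq_mul_right Nat.card_pos h2]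
  haveI : Fact (Nat.Prime 2) := ⟨Nat.prime_two⟩
  obtain ⟨⟨h, hh⟩, ho⟩ := exists_prime_orderOf_dvd_card' 2 (even_iff_two_dvd.1 heven')
  rw [Subgroup.orderOf_mk] at ho
  have htk : ∀ (n : ℕ) (k : ZMod p), (t ^ n) • e k = e (k + n) := by
    intro n
    induction n with
    | zero => simp
    | succ n ih =>
      intro k
      rw [pow_succ', mul_smul, ih, ht, Nat.cast_succ, add_assoc]
  have hmem : h * t * h⁻¹ ∈ Subgroup.zpowers t := by
    rw [← hQ]
    exact (Subgroup.mem_normalizer_iff.1 hh t).1 (hQ ▸ Subgroup.mem_zpowers t)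
  obtain ⟨n, hn⟩ : ∃ n : ℕ, t ^ n = h * t * h⁻¹ :=
    (isOfFinOrder_of_finite t).mem_powers_iff_mem_zpowers.2 hmem
  set b : ZMod p := e.symm (h • e 0) with hb
  have haff : ∀ k : ZMod p, h • e k = e ((n : ZMod p) * k + b) := by
    intro k
    have key : ∀ m : ℕ, h • e (m : ZMod p) = e ((n : ZMod p) * m + b) := by
      intro m
      induction m with
      | zero => simp [hb]
      | succ m ih =>
        rw [Nat.cast_succ, ← ht, ← mul_smul, show h * t = t ^ n * h by rw [hn]; group, mul_smul, ih,
          htk]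
        congr 1
        ring
    have := key k.val
    rwa [ZMod.natCast_rightInverse k] at this
  have hhh : ∀ k, h • h • e k = e k := fun k => by
    rw [← mul_smul, ← pow_two, ← ho, pow_orderOf_eq_one, one_smul]
  have h0 := e.injective ((congrArg (h • ·) (haff 0)).symm.trans (hhh 0) |> fun x => (haff _).symm.trans x)
  have h1 := e.injective ((congrArg (h • ·) (haff 1)).symm.trans (hhh 1) |> fun x => (haff _).symm.trans x)
  have hn1 : (n : ZMod p) * n = 1 := by linear_combination h1 - h0
  have h2 : (2 : ZMod p) ≠ 0 := by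
    intro h
    have : ((2 : ℕ) : ZMod p) = 0 := by exact_mod_cast h
    rw [ZMod.natCast_eq_zero_iff] at this
    exact hp2 ((Nat.prime_dvd_prime_iff_eq hp.out Nat.prime_two).1 this)
  rcases mul_self_eq_one_iff.1 hn1 with hn' | hn'
  · exfalso
    simp only [hn', one_mul, mul_zero, zero_add] at haff h0
    have hb0 : b = 0 := (mul_eq_zero.1 (by linear_combination h0 : (2 : ZMod p) * b = 0)).resolve_left h2
    have h1' : h = 1 := by
      refine Subtype.ext (Equiv.ext fun x => ?_)
      obtain ⟨k, rfl⟩ := e.surjective x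
      show h • e k = e k
      rw [haff, hb0, add_zero]
    rw [h1', orderOf_one] at ho
    omega
  · simp only [hn', neg_one_mul] at haff
    refine ⟨(Equiv.addRight (b / 2)).trans e, t, h, hto, fun k => ?_, fun k => ?_⟩
    · show t • e (k + b / 2) = e (k + 1 + b / 2)
      rw [ht]
      congr 1
      ring
    · show h • e (k + b / 2) = e (-k + b / 2)
      rw [haff]
      congr 1
      field_simp
      ring

end Cfsg.Agent.Perm.EvenNormalizer
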