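import Mathlib
import Cfsg.Agent.Lib.Perm.Sharp
import Cfsg.Agent.S0695
import Cfsg.Agent.S0696

/-! Normal subgroups of multiply primitive groups. -/

set_option autoImplicit false

namespace Cfsg.Agent.Perm.NormalPrimitive

open MulAction

/-- A faithful `k`-transitive action with `n ≤ k + 1` is that of the symmetric group. -/
theorem card_eq_factorial {G : Type*} [Group G] {X : Type*} [Fintype X] [MulAction G X]
    [FaithfulSMul G X] {k : ℕ} (hkX : k ≤ Fintype.card X) (h : IsMultiplyPretransitive G X k)
    (hn : Fintype.card X ≤ k + 1) : Nat.card G = (Fintype.card X).factorial := by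
  classical
  have hnk : IsMultiplyPretransitive G X (Fintype.card X - 1) :=
    isMultiplyPretransitive_of_le' (n := k) (by omega)
      (by rw [ENat.card_eq_coe_fintype_card]; exact_mod_cast hkX)
  let G' : Subgroup (Equiv.Perm X) := (toPermHom G X).range
  let φ : G → G' := (toPermHom G X).rangeRestrict
  let f : X →ₑ[φ] X := { toFun := id, map_smul' := fun g x => rfl }
  have : IsPretransitive G (Fin (Fintype.card X - 1) ↪ X) := hnk
  have h' : IsMultiplyPretransitive G' X (Nat.card X - 1) := by
    rw [Nat.card_eq_fintype_card]
    exact IsPretransitive.of_embedding (f := f) Function.surjective_id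
  have htop := Equiv.Perm.eq_top_of_isMultiplyPretransitive h'
  rw [Nat.card_eq_of_bijective _ (⟨(MonoidHom.rangeRestrict_injective_iff).2 toPerm_injective,
    (toPermHom G X).rangeRestrict_surjective⟩ : Function.Bijective φ)]
  show Nat.card G' = _
  rw [htop, Subgroup.card_top, Nat.card_perm, Nat.card_eq_fintype_card]

/-- A non-trivial normal subgroup of a faithful quasiprimitive group is transitive. -/
theorem isPretransitive_of_normal {G : Type*} [Group G] {X : Type*} [MulAction G X]
    [FaithfulSMul G X] (h : IsQuasiPreprimitive G X) (H : Subgroup G) [H.Normal] (hH : H ≠ ⊥) :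
    IsPretransitive H X := by
  refine h.isPretransitive_of_normal fun hfix => hH ((Subgroup.eq_bot_iff_forall _).2 fun g hg => ?_)
  refine FaithfulSMul.eq_of_smul_eq_smul (α := X) fun x => ?_
  rw [one_smul]
  exact (hfix ▸ Set.mem_univ x : x ∈ fixedPoints H X) ⟨g, hg⟩

theorem faithful_ofStabilizer {G : Type*} [Group G] {X : Type*} [MulAction G X]
    [FaithfulSMul G X] (a : X) :
    FaithfulSMul (stabilizer G a) (SubMulAction.ofStabilizer G a) := by
  refine ⟨fun {g h} hgh => Subtype.ext (FaithfulSMul.eq_of_smul_eq_smul (α := X) fun x => ?_)⟩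
  by_cases hx : x = a
  · subst hx
    rw [mem_stabilizer_iff.1 g.2, mem_stabilizer_iff.1 h.2]
  · exact congrArg Subtype.val (hgh ⟨x, (SubMulAction.mem_ofStabilizer_iff G a).2 hx⟩)

/-- Transitivity of a point stabiliser, computed inside the stabiliser of a bigger group. -/
theorem isMultiplyPretransitive_succ {G : Type*} [Group G] {X : Type*} [MulAction G X]
    (H : Subgroup G) (hH : IsPretransitive H X) (a : X) {j : ℕ}
    (h : IsMultiplyPretransitive (H.subgroupOf (stabilizer G a))
      (SubMulAction.ofStabilizer G a) j) : IsMultiplyPretransitive H X (j + 1) := by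
  let φ : H.subgroupOf (stabilizer G a) → stabilizer H a := fun g =>
    ⟨⟨((g : stabilizer G a) : G), g.2⟩, (g : stabilizer G a).2⟩
  let f : SubMulAction.ofStabilizer G a →ₑ[φ] SubMulAction.ofStabilizer H a :=
    { toFun := fun x => ⟨x, (SubMulAction.mem_ofStabilizer_iff H a).2
        (SubMulAction.neq_of_mem_ofStabilizer G a)⟩
      map_smul' := fun g x => rfl }
  have hf : Function.Surjective f := fun x =>
    ⟨⟨x, (SubMulAction.mem_ofStabilizer_iff G a).2 (SubMulAction.neq_of_mem_ofStabilizer H a)⟩,
      rfl⟩
  have : IsPretransitive (H.subgroupOf (stabilizer G a))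
    (Fin j ↪ SubMulAction.ofStabilizer G a) := h
  exact (SubMulAction.ofStabilizer.isMultiplyPretransitive (a := a)).2
    (IsPretransitive.of_embedding (f := f) hf)

/-- Normal subgroups of multiply primitive groups that are not regular are as transitive as the
group, unless the group is the symmetric group. -/
theorem isMultiplyPretransitive_of_normal : ∀ k : ℕ, 1 ≤ k → ∀ (G : Type*) [Group G] (X : Type*)
    [Fintype X] [MulAction G X] [FaithfulSMul G X], k ≤ Fintype.card X →
    IsMultiplyPreprimitive G X k → Nat.card G ≠ (Fintype.card X).factorial →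
    ∀ H : Subgroup G, H.Normal → H ≠ ⊥ → (∃ a : X, stabilizer H a ≠ ⊥) →
    IsMultiplyPretransitive H X k := by
  intro k
  induction k with
  | zero => intro h; omega
  | succ k ih =>
    intro _ G _ X _ _ _ hkX hG hcard H hHn hH hnr
    classical
    have hcle : ((k + 1 : ℕ) : ℕ∞) ≤ ENat.card X := by
      rw [ENat.card_eq_coe_fintype_card]; exact_mod_cast hkX
    have h1 : IsPreprimitive G X :=
      is_one_preprimitive_iff (M := G) (α := X) |>.1
        (isMultiplyPreprimitive_of_le G X hG (by omega) hcle)
    have hHt : IsPretransitive H X := isPretransitive_of_normal inferInstance H hH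
    rcases Nat.eq_zero_or_pos k with rfl | hk
    · exact is_one_pretransitive_iff.2 hHt
    obtain ⟨a, ha⟩ := hnr
    set S := stabilizer G a with hS
    set X' := SubMulAction.ofStabilizer G a
    have := Fintype.ofFinite X'
    have : FaithfulSMul S X' := faithful_ofStabilizer a
    have hX' : Fintype.card X' + 1 = Fintype.card X := by
      rw [← Nat.card_eq_fintype_card, ← Nat.card_eq_fintype_card,
        SubMulAction.nat_card_ofStabilizer_add_one_eq]
    have hGa : IsMultiplyPreprimitive S X' k := by
      have : IsMultiplyPreprimitive G X k.succ := hG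
      exact isMultiplyPreprimitive_ofStabilizer G X (n := k) (a := a)
    have hcS : Nat.card S ≠ (Fintype.card X').factorial := by
      intro hc
      apply hcard
      have h2 := S.card_mul_index
      rw [hS, index_stabilizer_of_transitive, ← hS, hc, Nat.card_eq_fintype_card, ← hX'] at h2
      rw [← h2, ← hX', Nat.factorial_succ, mul_comm]
    set K : Subgroup S := H.subgroupOf S
    have hK : K ≠ ⊥ := by
      intro hK
      apply ha
      refine (Subgroup.eq_bot_iff_forall _).2 fun g hg => ?_
      have : (⟨(g : G), hg⟩ : S) ∈ K := g.2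
      rw [hK, Subgroup.mem_bot] at this
      exact Subtype.ext (congrArg Subtype.val this :)
    have hcle' : (k : ℕ∞) ≤ ENat.card X' := by
      rw [ENat.card_eq_coe_fintype_card]; exact_mod_cast (by omega : k ≤ Fintype.card X')
    have hS1 : IsPreprimitive S X' :=
      is_one_preprimitive_iff (M := S) (α := X') |>.1
        (isMultiplyPreprimitive_of_le S X' hGa (by omega) hcle')
    have hKt : IsPretransitive K X' := isPretransitive_of_normal inferInstance K hK
    by_cases hnr' : ∃ b : X', stabilizer K b ≠ ⊥
    · exact isMultiplyPretransitive_succ H hHt a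
        (ih hk S X' (by omega) hGa hcS K inferInstance hK hnr')
    push Not at hnr'
    rcases Nat.lt_or_ge k 2 with hk2 | hk2
    · have : k = 1 := by omega
      subst this
      exact isMultiplyPretransitive_succ H hHt a (is_one_pretransitive_iff.2 hKt)
    exfalso
    have h2 : IsMultiplyPreprimitive S X' 2 :=
      isMultiplyPreprimitive_of_le S X' hGa hk2 hcle'
    have hn : Fintype.card X ≠ 4 := fun h4 =>
      hcard (card_eq_factorial hkX hG.isMultiplyPretransitive (by omega))
    rcases S0695.result (by omega) h2 K hKt hnr' with h | ⟨-, -, m, hm⟩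
    · omega
    rcases Nat.lt_or_ge k 3 with hk3 | hk3
    · -- the subgroup is sharply 2-transitive
      have hn3 : Fintype.card X ≠ 3 := fun h3 =>
        hcard (card_eq_factorial hkX hG.isMultiplyPretransitive (by omega))
      have : Nontrivial X := Fintype.one_lt_card_iff_nontrivial.1 (by omega)
      have hH2 : IsMultiplyPretransitive H X 2 :=
        isMultiplyPretransitive_succ H hHt a (is_one_pretransitive_iff.2 hKt)
      have hsharp : ∀ x : Fin 2 ↪ X, stabilizer H x = ⊥ := by
        intro x
        refine (Cfsg.Agent.Perm.Sharp.stabilizer_embedding_eq_bot_iff x).2 ?_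
        intro g hg
        obtain ⟨t, ht⟩ := exists_smul_eq H a (x 0)
        have hc : (t⁻¹ * g * t) • a = a := by
          rw [mul_smul, mul_smul, ht, hg 0, inv_smul_eq_iff, ht]
        have hne : t⁻¹ • x 1 ≠ a := by
          rw [Ne, inv_smul_eq_iff, ht]
          exact fun h => absurd (x.injective h) (by decide)
        let b : X' := ⟨t⁻¹ • x 1, (SubMulAction.mem_ofStabilizer_iff G a).2 hne⟩
        let u : K := ⟨⟨((t⁻¹ * g * t : H) : G), hc⟩, (t⁻¹ * g * t).2⟩
        have hu : u ∈ stabilizer K b := by
          rw [mem_stabilizer_iff]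
          apply Subtype.ext
          show (t⁻¹ * g * t) • t⁻¹ • x 1 = t⁻¹ • x 1
          rw [← mul_smul, mul_assoc, mul_inv_cancel, mul_one, mul_smul, hg 1]
        rw [hnr' b, Subgroup.mem_bot] at hu
        have h3 : t⁻¹ * g * t = 1 := Subtype.ext (congrArg (fun u : K => ((u : S) : G)) hu)
        calc g = t * (t⁻¹ * g * t) * t⁻¹ := by group
          _ = 1 := by rw [h3]; group
      obtain ⟨T, hTn, -, hTt, hTreg, hTchar, -⟩ :=
        Cfsg.Agent.Perm.Sharp.exists_kernel hH2 hsharp
      have hTG : (T.map H.subtype).Normal := by
        refine ⟨fun x hx g => ?_⟩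
        obtain ⟨t, ht, rfl⟩ := hx
        refine ⟨⟨g * t * g⁻¹, hHn.conj_mem _ t.2 g⟩, ?_, rfl⟩
        show _ ∈ T
        rw [hTchar]
        rcases (hTchar t).1 ht with rfl | ht'
        · exact Or.inl (Subtype.ext (by simp))
        · refine Or.inr fun y hy => ht' (g⁻¹ • y) ?_
          show (t : G) • g⁻¹ • y = g⁻¹ • y
          have hy' : (g * t * g⁻¹) • y = y := hy
          rw [mul_smul, mul_smul] at hy'
          rw [eq_inv_smul_iff]
          exact hy'
      have hTt' : IsPretransitive (T.map H.subtype) X := by
        refine ⟨fun x y => ?_⟩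
        obtain ⟨t, ht⟩ := exists_smul_eq T x y
        exact ⟨⟨((t : H) : G), ⟨t, t.2, rfl⟩⟩, ht⟩
      have hTreg' : ∀ x : X, stabilizer (T.map H.subtype) x = ⊥ := by
        intro x
        refine (Subgroup.eq_bot_iff_forall _).2 fun g hg => ?_
        obtain ⟨t, ht, htg⟩ := g.2
        have hmem : (⟨t, ht⟩ : T) ∈ stabilizer T x := by
          rw [mem_stabilizer_iff]
          show (t : G) • x = x
          rw [show (t : G) = (g : G) from htg]
          exact hg
        rw [hTreg x, Subgroup.mem_bot] at hmem
        apply Subtype.ext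
        rw [← htg]
        exact congrArg (fun u : T => ((u : H) : G)) hmem
      have h3 : IsMultiplyPreprimitive G X 3 :=
        isMultiplyPreprimitive_of_le G X hG (by omega) hcle
      rcases S0696.result (by omega) h3 (T.map H.subtype) hTt' hTreg' with h | h
      · exact hn3 h
      · exact hn h
    · have h3 : IsMultiplyPreprimitive S X' 3 :=
        isMultiplyPreprimitive_of_le S X' hGa hk3 hcle'
      rcases S0696.result (by omega) h3 K hKt hnr' with h | h
      · omega
      · exact hcard (card_eq_factorial hkX hG.isMultiplyPretransitive (by omega))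

end Cfsg.Agent.Perm.NormalPrimitive
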