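import Mathlib
import Cfsg.Agent.Lib.Perm.EvenNormalizer
import Cfsg.Agent.Lib.Perm.NormalPrimitive
import Cfsg.Agent.Lib.Perm.CentralizerTransitive
import Cfsg.Agent.S0675
import Cfsg.Agent.S0676
import Cfsg.Agent.Lib.Hall.MinimalNormal

/-! Transitive groups of degree seven. -/

set_option autoImplicit false

namespace Cfsg.Agent.Perm.Degree7

theorem sign_neg : Equiv.Perm.sign (Equiv.neg (ZMod 7)) = -1 := by
  rw [show (Equiv.neg (ZMod 7)) = Equiv.swap 1 6 * Equiv.swap 2 5 * Equiv.swap 3 4 by decide,
    Equiv.Perm.sign_mul, Equiv.Perm.sign_mul, Equiv.Perm.sign_swap (by decide),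
    Equiv.Perm.sign_swap (by decide), Equiv.Perm.sign_swap (by decide)]
  decide

variable {α : Type*} [Fintype α] [DecidableEq α]

/-- In a group of degree 7 the normaliser of a transitive cyclic subgroup of order 7 has order
`7 d` with `d ∣ 6`, and is the centraliser only if `d = 1`. -/
theorem card_normalizer (hα : Fintype.card α = 7) (G : Subgroup (Equiv.Perm α))
    [MulAction.IsPretransitive G α] :
    ∃ (e : ZMod 7 ≃ α) (t : G), orderOf t = 7 ∧ (∀ k, t • e k = e (k + 1)) ∧
      ∃ Q : Sylow 7 G, (Q : Subgroup G) = Subgroup.zpowers t ∧ ∃ d, d ∣ 6 ∧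
        Nat.card (Subgroup.normalizer ((Q : Subgroup G) : Set G)) = 7 * d ∧
        (d = 1 → Subgroup.normalizer ((Q : Subgroup G) : Set G) ≤
          Subgroup.centralizer ((Q : Subgroup G) : Set G)) := by
  classical
  haveI : Fact (Nat.Prime 7) := ⟨by norm_num⟩
  have hαn : Nat.card α = 7 := by rw [Nat.card_eq_fintype_card, hα]
  obtain ⟨e, t, hto, ht⟩ := Cfsg.Agent.Perm.PrimeDegree.exists_coord (p := 7) hαn G
  obtain ⟨Q, hQ⟩ := Cfsg.Agent.Perm.EvenNormalizer.sylow_eq_zpowers hαn G hto
  refine ⟨e, t, hto, ht, Q, hQ, ?_⟩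
  set N := Subgroup.normalizer ((Q : Subgroup G) : Set G)
  have htn : ∀ (n : ℕ) (k : ZMod 7), (t ^ n) • e k = e (k + n) := by
    intro n
    induction n with
    | zero => simp
    | succ n ih =>
      intro k
      rw [pow_succ', mul_smul, ih, ht, Nat.cast_succ, add_assoc]
  have haff : ∀ g : N, ∃ a b : ZMod 7, ∀ k, (g : G) • e k = e (a * k + b) := by
    intro g
    have hmem : (g : G) * t * (g : G)⁻¹ ∈ Subgroup.zpowers t := by
      rw [← hQ]
      exact (Subgroup.mem_normalizer_iff.1 g.2 t).1 (hQ ▸ Subgroup.mem_zpowers t)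
    obtain ⟨n, hn⟩ : ∃ n : ℕ, t ^ n = (g : G) * t * (g : G)⁻¹ :=
      (isOfFinOrder_of_finite t).mem_powers_iff_mem_zpowers.2 hmem
    refine ⟨n, e.symm ((g : G) • e 0), fun k => ?_⟩
    have key : ∀ m : ℕ, (g : G) • e (m : ZMod 7) = e ((n : ZMod 7) * m + e.symm ((g : G) • e 0)) := by
      intro m
      induction m with
      | zero => simp
      | succ m ih =>
        rw [Nat.cast_succ, ← ht, ← mul_smul, show (g : G) * t = t ^ n * g by rw [hn]; group,
          mul_smul, ih, htn]
        congr 1
        ring
    have := key k.val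
    rwa [ZMod.natCast_rightInverse k] at this
  choose a b hab using haff
  have ha : ∀ g, a g ≠ 0 := by
    intro g h0
    have h1 := (hab g 0).trans ((by rw [h0, zero_mul, zero_mul] : e (a g * 0 + b g) =
      e (a g * 1 + b g)).trans (hab g 1).symm)
    exact zero_ne_one (e.injective (MulAction.injective (g : G) h1))
  have hmul : ∀ x y : N, a (x * y) = a x * a y := by
    intro x y
    have h1 := hab (x * y) 1
    have h0 := hab (x * y) 0
    rw [Subgroup.coe_mul, mul_smul, hab y, hab x] at h1 h0
    have h1' := e.injective h1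
    have h0' := e.injective h0
    linear_combination -h1' + h0'
  let χ : N →* (ZMod 7)ˣ := MonoidHom.mk' (fun g => Units.mk0 (a g) (ha g))
    fun x y => Units.ext (hmul x y)
  have hker : χ.ker = (Subgroup.zpowers t).subgroupOf N := by
    ext g
    rw [MonoidHom.mem_ker, Subgroup.mem_subgroupOf, Units.ext_iff]
    constructor
    · intro h1
      have h1' : a g = 1 := h1
      rw [show (g : G) = t ^ (b g).val from Subtype.ext (Equiv.ext fun z => by
        obtain ⟨k, rfl⟩ := e.surjective z
        show (g : G) • e k = t ^ (b g).val • e k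
        rw [hab, h1', one_mul, htn, ZMod.natCast_rightInverse])]
      exact Subgroup.npow_mem_zpowers t _
    · intro h
      obtain ⟨n, hn⟩ := (isOfFinOrder_of_finite t).mem_powers_iff_mem_zpowers.2 h
      have e1 : ∀ k, e (a g * k + b g) = e (k + n) := fun k => by
        rw [← hab, ← hn]
        exact htn n k
      have h0 := e.injective (e1 0)
      have h1 := e.injective (e1 1)
      show a g = 1
      linear_combination h1 - h0
  have hle : Subgroup.zpowers t ≤ N := hQ ▸ Subgroup.le_normalizer
  have hcard : Nat.card N = 7 * Nat.card χ.range := by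
    rw [← χ.ker.card_mul_index, Subgroup.index_ker, hker,
      Nat.card_congr (Subgroup.subgroupOfEquivOfLe hle).toEquiv, Nat.card_zpowers, hto]
  refine ⟨Nat.card χ.range, ?_, hcard, fun hd => ?_⟩
  · refine (Subgroup.card_subgroup_dvd_card χ.range).trans ?_
    rw [Nat.card_units, Nat.card_zmod]
  · have hNQ : N = Subgroup.zpowers t := by
      refine (Subgroup.eq_of_le_of_card_ge hle ?_).symm
      rw [hcard, hd, Nat.card_zpowers, hto]
    rw [hNQ, hQ]
    exact Subgroup.le_centralizer (Subgroup.zpowers t)

/-- An `n`-transitive group has order divisible by the descending factorial. -/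
theorem descFactorial_dvd {G : Type*} [Group G] [MulAction G α] (n : ℕ)
    (h : MulAction.IsMultiplyPretransitive G α n) (hn : n ≤ Fintype.card α) :
    (Fintype.card α).descFactorial n ∣ Nat.card G := by
  haveI : MulAction.IsPretransitive G (Fin n ↪ α) := h
  obtain ⟨z⟩ : Nonempty (Fin n ↪ α) :=
    Function.Embedding.nonempty_of_card_le (by rwa [Fintype.card_fin])
  have h' := (MulAction.stabilizer G z).index_mul_card
  rw [MulAction.index_stabilizer_of_transitive, Nat.card_eq_fintype_card (α := Fin n ↪ α),
    Fintype.card_embedding_eq, Fintype.card_fin] at h'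
  exact ⟨_, h'.symm⟩

/-- A non-solvable transitive group of even permutations of degree 7 has order 168 or 2520. -/
theorem card_of_le_alternating (hα : Fintype.card α = 7) (G : Subgroup (Equiv.Perm α))
    [MulAction.IsPretransitive G α] (hG : ¬ Group.IsSolvable G) (hA : G ≤ alternatingGroup α) :
    Nat.card G = 168 ∨ Nat.card G = 2520 := by
  classical
  haveI : Fact (Nat.Prime 7) := ⟨by norm_num⟩
  have hαn : Nat.card α = 7 := by rw [Nat.card_eq_fintype_card, hα]
  obtain ⟨e, t, hto, ht, Q, hQ, d, hd6, hN, hd1⟩ := card_normalizer hα G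
  haveI : Nontrivial α := Fintype.one_lt_card_iff_nontrivial.1 (by omega)
  have hGA : Nat.card G ∣ 2520 := by
    refine (Subgroup.card_dvd_of_le hA).trans ?_
    rw [nat_card_alternatingGroup, hαn]
    decide
  have h2 : MulAction.IsMultiplyPretransitive G α 2 :=
    (S0675.result (by rw [hα]; norm_num) G).resolve_left hG
  have h42 : 42 ∣ Nat.card G := by
    have h := descFactorial_dvd 2 h2 (by rw [hα]; norm_num)
    rwa [hα, show (7 : ℕ).descFactorial 2 = 42 by decide] at h
  -- `d` is odd
  have hdodd : ¬ 2 ∣ d := by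
    intro h2d
    obtain ⟨e', t', h, -, -, hh⟩ := Cfsg.Agent.Perm.EvenNormalizer.exists_coord_neg hαn
      (by norm_num) G Q (by rw [hN]; exact even_iff_two_dvd.2 (h2d.mul_left 7))
    have hsign : Equiv.Perm.sign (h : Equiv.Perm α) = -1 := by
      rw [show (h : Equiv.Perm α) = e'.permCongr (Equiv.neg (ZMod 7)) from Equiv.ext fun x => by
        obtain ⟨k, rfl⟩ := e'.surjective x
        rw [Equiv.permCongr_apply, Equiv.symm_apply_apply]
        exact hh k, Equiv.Perm.sign_permCongr, sign_neg]
    have h1 : Equiv.Perm.sign (h : Equiv.Perm α) = 1 := hA h.2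
    rw [hsign] at h1
    exact absurd h1 (by decide)
  have hd3 : d = 3 := by
    have : d ≤ 6 := Nat.le_of_dvd (by norm_num) hd6
    rcases (by interval_cases d <;> simp_all : d = 1 ∨ d = 3) with h | h
    · exfalso
      subst h
      have hP := hd1 rfl
      have hc := MonoidHom.ker_transferSylow_isComplement' Q hP
      set K := (MonoidHom.transferSylow Q hP).ker
      haveI hprim : MulAction.IsPreprimitive G α :=
        MulAction.IsPreprimitive.of_prime_card (by rw [hαn]; norm_num)
      have hKne : K ≠ ⊥ := by
        intro hK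
        rw [hK, Subgroup.isComplement'_bot_left] at hc
        have h7 : Nat.card G = 7 := by
          rw [← Subgroup.card_top, ← hc, hQ, Nat.card_zpowers, hto]
        rw [h7] at h42
        omega
      have hKt := Cfsg.Agent.Perm.NormalPrimitive.isPretransitive_of_normal
        (inferInstance : MulAction.IsQuasiPreprimitive G α) K hKne
      have h7K : 7 ∣ Nat.card K := by
        have h' := (MulAction.stabilizer K (e 0)).index_mul_card
        rw [MulAction.index_stabilizer_of_transitive, hαn] at h'
        exact ⟨_, h'.symm⟩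
      have hm := hc.card_mul
      rw [hQ, Nat.card_zpowers, hto] at hm
      have h49 : 7 * 7 ∣ 2520 := (by rw [← hm]; exact Nat.mul_dvd_mul_right h7K 7 :
        7 * 7 ∣ Nat.card G).trans hGA
      omega
    · exact h
  subst hd3
  have hmod : Nat.card (Sylow 7 G) % 7 = 1 := card_sylow_modEq_one 7 G
  have hcard : Nat.card G = Nat.card (Sylow 7 G) * 21 := by
    rw [← (Subgroup.normalizer ((Q : Subgroup G) : Set G)).index_mul_card, hN,
      show (Subgroup.normalizer ((Q : Subgroup G) : Set G)).index = Nat.card (Sylow 7 G) from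
        Q.card_eq_index_normalizer.symm]
  rw [hcard] at hGA h42 ⊢
  have hle : Nat.card (Sylow 7 G) ≤ 120 := by
    have := Nat.le_of_dvd (by norm_num) hGA
    omega
  generalize Nat.card (Sylow 7 G) = n at hmod hGA h42 hle ⊢
  interval_cases n <;> omega

/-- A normal subgroup of index at most four of a non-solvable group is non-solvable. -/
theorem not_solvable_of_index {G : Type*} [Group G] [Finite G] (N : Subgroup G) [N.Normal]
    (hG : ¬ Group.IsSolvable G) (hi : N.index ∣ 4) : ¬ Group.IsSolvable N := by
  intro hN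
  apply hG
  haveI : Fact (Nat.Prime 2) := ⟨Nat.prime_two⟩
  obtain ⟨j, hj, hji⟩ := (Nat.dvd_prime_pow Nat.prime_two (m := 2)).1 (by simpa using hi)
  haveI : Group.IsNilpotent (G ⧸ N) :=
    (IsPGroup.of_card (p := 2) (n := j) (show Nat.card (G ⧸ N) = 2 ^ j from hji)).isNilpotent
  haveI : Group.IsSolvable (G ⧸ N) := inferInstance
  exact solvable_of_ker_le_range N.subtype (QuotientGroup.mk' N) (by simp)

theorem restrict (hα : Fintype.card α = 7) (G : Subgroup (Equiv.Perm α))
    [MulAction.IsPretransitive G α] (hG : ¬ Group.IsSolvable G) (N : Subgroup G) [N.Normal]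
    (hi : N.index ∣ 4) :
    MulAction.IsPretransitive (N.map G.subtype) α ∧ ¬ Group.IsSolvable (N.map G.subtype) ∧
      Nat.card (N.map G.subtype) = Nat.card N := by
  have hns := not_solvable_of_index N hG hi
  haveI hprim : MulAction.IsPreprimitive G α :=
    MulAction.IsPreprimitive.of_prime_card (by rw [Nat.card_eq_fintype_card, hα]; norm_num)
  have hne : N ≠ ⊥ := by
    rintro rfl
    exact hns inferInstance
  have ht := Cfsg.Agent.Perm.NormalPrimitive.isPretransitive_of_normal
    (inferInstance : MulAction.IsQuasiPreprimitive G α) N hne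
  let φ := N.equivMapOfInjective G.subtype G.subtype_injective
  refine ⟨⟨fun x y => ?_⟩, fun h => hns ?_, (Nat.card_congr φ.toEquiv).symm⟩
  · obtain ⟨g, hg⟩ := MulAction.exists_smul_eq N x y
    exact ⟨φ g, hg⟩
  · exact solvable_of_solvable_injective (f := φ.toMonoidHom) φ.injective

/-- A non-solvable transitive group of degree 7 not containing the alternating group has order 168
and is simple. -/
theorem main (hα : Fintype.card α = 7) (G : Subgroup (Equiv.Perm α))
    [MulAction.IsPretransitive G α] (hG : ¬ Group.IsSolvable G) (hA : ¬ alternatingGroup α ≤ G) :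
    Nat.card G = 168 ∧ IsSimpleGroup G := by
  classical
  haveI : Fact (Nat.Prime 7) := ⟨by norm_num⟩
  have hαn : Nat.card α = 7 := by rw [Nat.card_eq_fintype_card, hα]
  haveI : Nontrivial α := Fintype.one_lt_card_iff_nontrivial.1 (by omega)
  have hA' : Nat.card (alternatingGroup α) = 2520 := by
    rw [nat_card_alternatingGroup, hαn]
    decide
  have hsub : ∀ H : Subgroup (Equiv.Perm α), MulAction.IsPretransitive H α → ¬ Group.IsSolvable H →
      H ≤ alternatingGroup α → H ≤ G → Nat.card H = 168 := by
    intro H hHt hHs hHA hHG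
    rcases card_of_le_alternating hα H hHs hHA with h | h
    · exact h
    · exfalso
      apply hA
      rw [← Subgroup.eq_of_le_of_card_ge hHA (by rw [hA', h])]
      exact hHG
  have hle : G ≤ alternatingGroup α := by
    by_contra hnot
    let N : Subgroup G := (alternatingGroup α).subgroupOf G
    have hi : N.index = 2 := by
      obtain ⟨g, hg, hgA⟩ := SetLike.not_le_iff_exists.1 hnot
      rw [Subgroup.index_eq_two_iff]
      refine ⟨⟨g, hg⟩, fun u => ?_⟩
      simp only [N, Subgroup.mem_subgroupOf, Equiv.Perm.mem_alternatingGroup, Subgroup.coe_mul,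
        Equiv.Perm.sign_mul]
      rw [Equiv.Perm.mem_alternatingGroup] at hgA
      rcases Int.units_eq_one_or (Equiv.Perm.sign (u : Equiv.Perm α)) with h | h <;>
        rcases Int.units_eq_one_or (Equiv.Perm.sign g) with h' | h' <;> simp_all
    haveI : N.Normal := Subgroup.normal_of_index_eq_two hi
    obtain ⟨ht, hs, hc⟩ := restrict hα G hG N (by rw [hi]; norm_num)
    have h168 := hsub _ ht hs (by
      rintro _ ⟨x, hx, rfl⟩
      exact hx) (Subgroup.map_subtype_le N)
    rw [hc] at h168
    have h336 : Nat.card G = 336 := by rw [← N.card_mul_index, h168, hi]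
    obtain ⟨e, t, -, -, Q, -, d, hd, hN, -⟩ := card_normalizer hα G
    have hmod : Nat.card (Sylow 7 G) % 7 = 1 := card_sylow_modEq_one 7 G
    have hmul : Nat.card (Sylow 7 G) * (7 * d) = 336 := by
      rw [← h336, ← (Subgroup.normalizer ((Q : Subgroup G) : Set G)).index_mul_card, hN,
        show (Subgroup.normalizer ((Q : Subgroup G) : Set G)).index = Nat.card (Sylow 7 G) from
          Q.card_eq_index_normalizer.symm]
    have heven : Even d := by
      rw [even_iff_two_dvd]
      have hd' : d ≤ 6 := Nat.le_of_dvd (by norm_num) hd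
      generalize Nat.card (Sylow 7 G) = n at hmod hmul
      interval_cases d <;> omega
    have h3 : MulAction.IsMultiplyPretransitive G α 3 :=
      S0676.result hα G hG Q (by rw [hN]; exact heven.mul_left 7)
    have h := descFactorial_dvd 3 h3 (by rw [hα]; norm_num)
    rw [hα, show (7 : ℕ).descFactorial 3 = 210 by decide, h336] at h
    omega
  have hcard := hsub G inferInstance hG hle le_rfl
  refine ⟨hcard, ?_⟩
  haveI : Nontrivial G := Finite.one_lt_card_iff_nontrivial.1 (by omega)
  refine { eq_bot_or_eq_top_of_normal := fun N hN => ?_ }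
  by_cases hne : N = ⊥
  · exact Or.inl hne
  right
  haveI hprim : MulAction.IsPreprimitive G α :=
    MulAction.IsPreprimitive.of_prime_card (by rw [hαn]; norm_num)
  haveI := hN
  have hNt := Cfsg.Agent.Perm.NormalPrimitive.isPretransitive_of_normal
    (inferInstance : MulAction.IsQuasiPreprimitive G α) N hne
  obtain ⟨e, t, hto, -, Q, hQ, d, hd, hNd, -⟩ := card_normalizer hα G
  by_cases hsol : Group.IsSolvable N
  · exfalso
    -- a minimal normal subgroup inside `N` would be the Sylow subgroup of order 7
    obtain ⟨A, hAn, hAN, hA0, hAmin⟩ := Cfsg.Agent.Hall.exists_minimal_normal N hne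
    haveI := hAn
    haveI : Group.IsSolvable A :=
      solvable_of_solvable_injective (f := Subgroup.inclusion hAN) (Subgroup.inclusion_injective hAN)
    haveI hAc : IsMulCommutative A := Cfsg.Agent.Hall.minimal_normal_isMulCommutative hAmin
    have hAt := Cfsg.Agent.Perm.NormalPrimitive.isPretransitive_of_normal
      (inferInstance : MulAction.IsQuasiPreprimitive G α) A hA0
    have hc : ∀ m n : G, m ∈ A → n ∈ A → m * n = n * m := fun m n hm hn =>
      congrArg Subtype.val (hAc.is_comm.comm ⟨m, hm⟩ ⟨n, hn⟩)
    have hA7 : Nat.card A = 7 := by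
      rw [Cfsg.Agent.Perm.Basic.card_eq_of_regular A hAt
        (Cfsg.Agent.Perm.CentralizerTransitive.stabilizer_eq_bot_of_comm A A hAt hc) (e 0), hαn]
    obtain ⟨P, hP⟩ := (IsPGroup.of_card (p := 7) (n := 1) (G := A) (by rw [hA7, pow_one])).exists_le_sylow
    obtain ⟨g, hg⟩ := MulAction.exists_smul_eq G P Q
    have hPc : Nat.card (P : Subgroup G) = 7 := by
      refine (P.card_eq_multiplicity.trans Q.card_eq_multiplicity.symm).trans ?_
      rw [hQ, Nat.card_zpowers, hto]
    have hPA : A = (P : Subgroup G) := Subgroup.eq_of_le_of_card_ge hP (by rw [hA7, hPc])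
    have hQA : (Q : Subgroup G) = A := by
      haveI : (P : Subgroup G).Normal := hPA ▸ hAn
      rw [← hg, Sylow.smul_eq_of_normal, ← hPA]
    have hNtop : Subgroup.normalizer ((Q : Subgroup G) : Set G) = ⊤ := by
      rw [hQA]
      exact Subgroup.normalizer_eq_top_iff.2 hAn
    rw [hNtop, Subgroup.card_top, hcard] at hNd
    have := Nat.le_of_dvd (by norm_num) hd
    omega
  · have hc := hsub _ (⟨fun x y => by
      obtain ⟨g, hg⟩ := MulAction.exists_smul_eq N x y
      exact ⟨N.equivMapOfInjective G.subtype G.subtype_injective g, hg⟩⟩) (fun h => hsol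
        (solvable_of_solvable_injective (f := (N.equivMapOfInjective G.subtype G.subtype_injective).toMonoidHom)
          (N.equivMapOfInjective G.subtype G.subtype_injective).injective))
      ((Subgroup.map_subtype_le N).trans hle) (Subgroup.map_subtype_le N)
    rw [← Nat.card_congr (N.equivMapOfInjective G.subtype G.subtype_injective).toEquiv] at hc
    exact Subgroup.eq_top_of_card_eq N (hc.trans hcard.symm)

end Cfsg.Agent.Perm.Degree7
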