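import Mathlib
import Cfsg.Agent.Lib.Perm.Degree11Cycles
import Cfsg.Agent.Lib.Perm.Degree7
import Cfsg.Agent.S0713

/-!
# Transitive groups of degree eleven
-/

set_option autoImplicit false

namespace Cfsg.Agent.Perm.Degree11

open Equiv

local instance factPrimeEleven : Fact (Nat.Prime 11) := ⟨by norm_num⟩

local instance factOneLtEleven' : Fact (1 < 11) := ⟨by norm_num⟩

local notation "P11" => Equiv.Perm (ZMod 11)

local notation "A11" => alternatingGroup (ZMod 11)

/-- The translation by one. -/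
abbrev shift : P11 := Equiv.addRight 1

/-- Multiplication by a unit. -/
def mu : (ZMod 11)ˣ →* P11 := MulAction.toPermHom (ZMod 11)ˣ (ZMod 11)

theorem mu_apply (a : (ZMod 11)ˣ) (z : ZMod 11) : mu a z = (a : ZMod 11) * z := rfl

theorem shift_pow (n : ℕ) (z : ZMod 11) : (shift ^ n) z = z + n := by
  induction n with
  | zero => simp
  | succ n ih =>
    rw [pow_succ', Perm.mul_apply, ih, Nat.cast_succ, ← add_assoc]
    rfl

theorem orderOf_shift : orderOf shift = 11 := by
  refine orderOf_eq_prime (Equiv.ext fun z => ?_) fun h => ?_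
  · rw [shift_pow, show ((11 : ℕ) : ZMod 11) = 0 from ZMod.natCast_self 11, add_zero]
    rfl
  · have := Equiv.congr_fun h 0
    simp at this

theorem sign_shift : Perm.sign shift = 1 := by decide +kernel

theorem card_A11 : Nat.card A11 = 19958400 := by
  rw [nat_card_alternatingGroup, Nat.card_zmod]
  decide

theorem not_dvd_121 : ¬ 121 ∣ Nat.card P11 := by
  rw [Nat.card_perm, Nat.card_zmod]
  decide

/-- A group containing the translations is transitive, hence primitive. -/
theorem isPreprimitive {K : Subgroup P11} (ht : shift ∈ K) :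
    MulAction.IsPreprimitive K (ZMod 11) := by
  haveI : MulAction.IsPretransitive K (ZMod 11) := ⟨fun x y =>
    ⟨⟨shift ^ (y - x).val, K.pow_mem ht _⟩, by
      show (shift ^ (y - x).val) x = y
      rw [shift_pow, ZMod.natCast_zmod_val, add_sub_cancel]⟩⟩
  exact MulAction.IsPreprimitive.of_prime_card (by rw [Nat.card_zmod]; norm_num)

/-- No short cycles of prime length. -/
theorem no_cycle {G : Subgroup P11} (ht : shift ∈ G) (hA : ¬ A11 ≤ G) {g : P11} (hg : g ∈ G)
    {p : ℕ} (hp : p.Prime) (hp8 : p ≤ 8) (hgp : orderOf g = p) (hsupp : g.support.card < 2 * p) :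
    False := by
  have hc : g.IsCycle :=
    Perm.isCycle_of_prime_order (by rw [hgp]; exact hp) (by rw [hgp]; exact hsupp)
  exact hA (Cfsg.Agent.S0713.result G (isPreprimitive ht) hp (by rw [ZMod.card]; norm_num)
    (by rw [ZMod.card]; omega) hc (by rw [← hc.orderOf, hgp]) hg)

theorem not_seven {G : Subgroup P11} (ht : shift ∈ G) (hA : ¬ A11 ≤ G) {g : P11} (hg : g ∈ G) :
    ¬ 7 ∣ orderOf g := by
  intro h
  haveI : Fact (Nat.Prime 7) := ⟨by norm_num⟩
  obtain ⟨m, hm⟩ := h
  have hord : orderOf (g ^ m) = 7 := by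
    rw [orderOf_pow, hm, Nat.gcd_eq_right (Dvd.intro_left 7 rfl),
      Nat.mul_div_cancel _ (Nat.pos_of_ne_zero ?_)]
    rintro rfl
    exact (orderOf_pos g).ne' hm
  refine no_cycle ht hA (G.pow_mem hg m) (by norm_num) (by norm_num) hord ?_
  exact lt_of_le_of_lt (Finset.card_le_univ _) (by rw [ZMod.card]; norm_num)

/-- The support of an element of prime order. -/
theorem support_mod {g : P11} {p : ℕ} [Fact p.Prime] (hg : g ^ p = 1) :
    g.support.card % p = 0 := by
  have h := Perm.card_compl_support_modEq (n := 1) (σ := g) (p := p) (by rwa [pow_one])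
  have h2 := Finset.card_compl_add_card g.support
  have h3 : g.support.card ≤ Fintype.card (ZMod 11) := Finset.card_le_univ _
  have h4 : g.supportᶜ.card + g.support.card ≡ g.supportᶜ.card + 0 [MOD p] := by
    rw [h2, add_zero]
    exact h.symm
  have h5 := Nat.ModEq.add_left_cancel' _ h4
  rw [Nat.ModEq, Nat.zero_mod] at h5
  exact h5

theorem sign_of_involution {g : P11} (hg : orderOf g = 2) :
    Perm.sign g = (-1) ^ (g.support.card / 2) := by
  obtain ⟨n, hn⟩ := Perm.cycleType_prime_order (by rw [hg]; norm_num : (orderOf g).Prime)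
  rw [hg] at hn
  have hs : g.support.card = 2 * (n + 1) := by
    rw [← Perm.sum_cycleType, hn, Multiset.sum_replicate, smul_eq_mul, mul_comm]
  rw [Perm.sign_of_cycleType, hn, Multiset.sum_replicate, Multiset.card_replicate, smul_eq_mul, hs,
    Nat.mul_div_cancel_left _ (by norm_num : 0 < 2)]
  rw [show (n + 1) * 2 + (n + 1) = 2 * (n + 1) + (n + 1) by ring, pow_add,
    Even.neg_one_pow ⟨n + 1, by ring⟩, one_mul]

/-- The squares are the kernel of the fifth power map. -/
theorem pow_five_of_even {a : (ZMod 11)ˣ} (h : Perm.sign (mu a) = 1) : a ^ 5 = 1 := by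
  have key : ∀ a : (ZMod 11)ˣ, ∃ k : Fin 10, a = (Units.mk0 (2 : ZMod 11) (by decide)) ^ (k : ℕ) := by
    decide +kernel
  obtain ⟨k, hk⟩ := key a
  have h2 : Perm.sign (mu (Units.mk0 (2 : ZMod 11) (by decide))) = -1 := by decide +kernel
  rw [hk, map_pow, map_pow, h2] at h
  have hev : Even (k : ℕ) := by
    by_contra hodd
    rw [Nat.not_even_iff_odd] at hodd
    rw [hodd.neg_one_pow] at h
    exact absurd h (by decide)
  obtain ⟨j, hj⟩ := hev
  rw [hk, ← pow_mul, hj, show (j + j) * 5 = 10 * j by ring, pow_mul,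
    show (Units.mk0 (2 : ZMod 11) (by decide)) ^ 10 = 1 by decide +kernel, one_pow]

theorem sign_mu_of_pow_five {a : (ZMod 11)ˣ} (h : a ^ 5 = 1) : Perm.sign (mu a) = 1 := by
  rcases Int.units_eq_one_or (Perm.sign (mu a)) with h1 | h1
  · exact h1
  · exfalso
    have h2 : Perm.sign (mu a) ^ 5 = 1 := by rw [← map_pow, ← map_pow, h, map_one, map_one]
    rw [h1] at h2
    exact absurd h2 (by decide)

/-- An element that normalises the translations is affine. -/
theorem exists_affine {K : Subgroup P11} (ht : shift ∈ K) {g : P11} (hg : g ∈ K)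
    (hn : g * shift * g⁻¹ ∈ Subgroup.zpowers shift) :
    ∃ (a : (ZMod 11)ˣ) (b : ZMod 11), mu a ∈ K ∧ ∀ z, g z = (a : ZMod 11) * z + b := by
  obtain ⟨n, hn'⟩ : ∃ n : ℕ, shift ^ n = g * shift * g⁻¹ :=
    (isOfFinOrder_of_finite shift).mem_powers_iff_mem_zpowers.2 hn
  have key : ∀ m : ℕ, g (m : ZMod 11) = (n : ZMod 11) * m + g 0 := by
    intro m
    induction m with
    | zero => simp
    | succ m ih =>
      have h1 : g (shift (m : ZMod 11)) = (shift ^ n) (g (m : ZMod 11)) := by
        rw [hn']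
        simp [Perm.mul_apply]
      rw [Equiv.coe_addRight, shift_pow, ih] at h1
      rw [Nat.cast_succ, h1]
      ring
  have key' : ∀ z, g z = (n : ZMod 11) * z + g 0 := fun z => by
    have := key z.val
    rwa [ZMod.natCast_zmod_val] at this
  have hn0 : (n : ZMod 11) ≠ 0 := fun h0 => by
    have h1 := key' 1
    rw [h0, zero_mul, zero_add] at h1
    exact one_ne_zero (g.injective h1)
  refine ⟨Units.mk0 _ hn0, g 0, ?_, key'⟩
  have : mu (Units.mk0 _ hn0) = shift ^ (-(g 0)).val * g := Equiv.ext fun z => by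
    rw [mu_apply, Perm.mul_apply, shift_pow, ZMod.natCast_zmod_val, key', Units.val_mk0]
    ring
  rw [this]
  exact K.mul_mem (K.pow_mem ht _) hg

theorem sylow_eq_zpowers {K : Subgroup P11} (ht : shift ∈ K) :
    ∃ Q : Sylow 11 K, (Q : Subgroup K) = Subgroup.zpowers ⟨shift, ht⟩ := by
  haveI := (isPreprimitive ht).toIsPretransitive
  exact Cfsg.Agent.Perm.EvenNormalizer.sylow_eq_zpowers (by rw [Nat.card_zmod]) K
    (t := ⟨shift, ht⟩) ((Subgroup.orderOf_mk shift ht).trans orderOf_shift)

theorem zpowers_of_card_eleven {K : Subgroup P11} (ht : shift ∈ K) (h : Nat.card K = 11) :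
    K = Subgroup.zpowers shift :=
  (Subgroup.eq_of_le_of_card_ge (Subgroup.zpowers_le.2 ht)
    (by rw [h, Nat.card_zpowers, orderOf_shift])).symm

theorem mem_zpowers_coe {K : Subgroup P11} (ht : shift ∈ K) (x : K) :
    x ∈ Subgroup.zpowers (⟨shift, ht⟩ : K) ↔ (x : P11) ∈ Subgroup.zpowers shift := by
  constructor
  · rintro ⟨n, rfl⟩
    exact ⟨n, by simp⟩
  · rintro ⟨n, hn⟩
    exact ⟨n, Subtype.ext (by simpa using hn)⟩

/-- The normaliser of the Sylow 11-subgroup in a group of even permutations has order 55. -/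
theorem card_normalizer {K : Subgroup P11} (hKA : K ≤ A11) (ht : shift ∈ K)
    (h11 : Nat.card K ≠ 11) :
    (∀ a : (ZMod 11)ˣ, a ^ 5 = 1 → mu a ∈ K) ∧ ∃ Q : Sylow 11 K,
      (Q : Subgroup K) = Subgroup.zpowers ⟨shift, ht⟩ ∧
        Nat.card (Subgroup.normalizer ((Q : Subgroup K) : Set K)) = 55 := by
  classical
  obtain ⟨Q, hQ⟩ := sylow_eq_zpowers ht
  set t : K := ⟨shift, ht⟩
  set S : Subgroup (ZMod 11)ˣ := K.comap mu with hS
  have hS5 : ∀ a ∈ S, a ^ 5 = 1 := fun a ha =>
    pow_five_of_even (Perm.mem_alternatingGroup.1 (hKA ha))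
  set N := Subgroup.normalizer ((Q : Subgroup K) : Set K)
  have haff : ∀ g : N, ∃ (a : (ZMod 11)ˣ) (b : ZMod 11), mu a ∈ K ∧
      ∀ z, ((g : K) : P11) z = (a : ZMod 11) * z + b := by
    intro g
    refine exists_affine ht (g : K).2 ?_
    have hmem : (g : K) * t * (g : K)⁻¹ ∈ Subgroup.zpowers t := by
      rw [← hQ]
      exact (Subgroup.mem_normalizer_iff.1 g.2 t).1 (hQ ▸ Subgroup.mem_zpowers t)
    have := (mem_zpowers_coe ht _).1 hmem
    simpa [t] using this
  choose a b ha hab using haff
  -- the normaliser is in bijection with the admissible pairs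
  let f : N → S × ZMod 11 := fun g => (⟨a g, ha g⟩, b g)
  have hf : Function.Bijective f := by
    refine ⟨fun g g' h => ?_, ?_⟩
    · have h1 : a g = a g' := congrArg (fun q : S × ZMod 11 => (q.1 : (ZMod 11)ˣ)) h
      have h2 : b g = b g' := congrArg Prod.snd h
      exact Subtype.ext (Subtype.ext (Equiv.ext fun z => by rw [hab, hab, h1, h2]))
    · rintro ⟨⟨c, hc⟩, d⟩
      let g : K := ⟨shift ^ d.val * mu c, K.mul_mem (K.pow_mem ht _) hc⟩
      have hgz : ∀ z, (g : P11) z = (c : ZMod 11) * z + d := fun z => by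
        show (shift ^ d.val * mu c) z = _
        rw [Perm.mul_apply, shift_pow, mu_apply, ZMod.natCast_zmod_val]
      have hgN : g ∈ N := by
        have hconj : g * t * g⁻¹ = t ^ (c : ZMod 11).val := by
          rw [mul_inv_eq_iff_eq_mul]
          refine Subtype.ext (Equiv.ext fun z => ?_)
          simp only [Subgroup.coe_mul, SubgroupClass.coe_pow, Perm.mul_apply, t, shift_pow,
            ZMod.natCast_zmod_val, hgz, Equiv.coe_addRight]
          ring
        show g ∈ Subgroup.normalizer ((Q : Subgroup K) : Set K)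
        rw [hQ]
        refine Subgroup.mem_normalizer_fintype ?_
        rintro _ ⟨i, rfl⟩
        show g * t ^ i * g⁻¹ ∈ _
        rw [← conj_zpow, hconj]
        exact Subgroup.zpow_mem _ (Subgroup.npow_mem_zpowers t _) i
      refine ⟨⟨g, hgN⟩, ?_⟩
      have h0 := (hab ⟨g, hgN⟩ 0).symm.trans (hgz 0)
      have h1 := (hab ⟨g, hgN⟩ 1).symm.trans (hgz 1)
      simp only [f, Prod.mk.injEq, Subtype.mk.injEq]
      rw [mul_zero, mul_zero, zero_add, zero_add] at h0
      rw [h0, mul_one, mul_one, add_right_cancel_iff] at h1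
      exact ⟨Subtype.ext (Units.ext h1), h0⟩
  have hN : Nat.card N = Nat.card S * 11 := by
    rw [Nat.card_eq_of_bijective f hf, Nat.card_prod, Nat.card_zmod]
  -- the squares
  let Q5 : Subgroup (ZMod 11)ˣ := (powMonoidHom 5 : (ZMod 11)ˣ →* (ZMod 11)ˣ).ker
  have hQ5 : Nat.card Q5 = 5 := by
    rw [Nat.card_eq_fintype_card]
    decide +kernel
  have hSle : S ≤ Q5 := fun x hx => MonoidHom.mem_ker.2 (hS5 x hx)
  rcases ((Nat.dvd_prime (by norm_num : Nat.Prime 5)).1
      (hQ5 ▸ Subgroup.card_dvd_of_le hSle)) with h1 | h5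
  · exfalso
    rw [h1, one_mul] at hN
    have hNQ : N = Subgroup.zpowers t := by
      refine (Subgroup.eq_of_le_of_card_ge (hQ ▸ Subgroup.le_normalizer) ?_).symm
      rw [hN, Nat.card_zpowers, ← Subgroup.orderOf_coe t, orderOf_shift]
    have hP : N ≤ Subgroup.centralizer ((Q : Subgroup K) : Set K) := by
      rw [hNQ, hQ]
      exact Subgroup.le_centralizer (Subgroup.zpowers t)
    have hc := MonoidHom.ker_transferSylow_isComplement' Q hP
    set M := (MonoidHom.transferSylow Q hP).ker
    have hQc : Nat.card (Q : Subgroup K) = 11 := by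
      rw [hQ, Nat.card_zpowers, ← Subgroup.orderOf_coe t, orderOf_shift]
    have hM : M ≠ ⊥ := by
      intro hM
      rw [hM, Subgroup.isComplement'_bot_left] at hc
      exact h11 (by rw [← Subgroup.card_top, ← hc, hQc])
    haveI := isPreprimitive ht
    have hMt := Cfsg.Agent.Perm.NormalPrimitive.isPretransitive_of_normal
      (inferInstance : MulAction.IsQuasiPreprimitive K (ZMod 11)) M hM
    have h11M : 11 ∣ Nat.card M := by
      have h' := (MulAction.stabilizer M (0 : ZMod 11)).index_mul_card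
      rw [MulAction.index_stabilizer_of_transitive, Nat.card_zmod] at h'
      exact ⟨_, h'.symm⟩
    have hm := hc.card_mul
    rw [hQc] at hm
    apply not_dvd_121
    have h121 : 11 * 11 ∣ Nat.card K := hm ▸ Nat.mul_dvd_mul_right h11M 11
    exact h121.trans (Subgroup.card_subgroup_dvd_card K)
  · refine ⟨fun c hc => ?_, Q, hQ, by rw [hN, h5]⟩
    have : S = Q5 := Subgroup.eq_of_le_of_card_ge hSle (by rw [h5, hQ5])
    show c ∈ S
    rw [this]
    exact MonoidHom.mem_ker.2 hc

theorem hasAff_squares {K : Subgroup P11} (ht : shift ∈ K)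
    (hsq : ∀ a : (ZMod 11)ˣ, a ^ 5 = 1 → mu a ∈ K) : HasAff K squares := by
  intro a ha b
  have key : ∀ a ∈ squares, ((a : ℕ) : ZMod 11) ≠ 0 ∧ (a : ZMod 11) ^ 5 = 1 := by decide +kernel
  refine ⟨shift ^ b.val * mu (Units.mk0 _ (key a ha).1),
    K.mul_mem (K.pow_mem ht _) (hsq _ (Units.ext (by simpa using (key a ha).2))), fun z => ?_⟩
  rw [Perm.mul_apply, shift_pow, mu_apply, ZMod.natCast_zmod_val, Units.val_mk0]

theorem hasAff_all {K : Subgroup P11} (ht : shift ∈ K) (hall : ∀ a : (ZMod 11)ˣ, mu a ∈ K) :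
    HasAff K multipliers := by
  intro a ha b
  have key : ∀ a ∈ multipliers, ((a : ℕ) : ZMod 11) ≠ 0 := by decide +kernel
  refine ⟨shift ^ b.val * mu (Units.mk0 _ (key a ha)), K.mul_mem (K.pow_mem ht _) (hall _),
    fun z => ?_⟩
  rw [Perm.mul_apply, shift_pow, mu_apply, ZMod.natCast_zmod_val, Units.val_mk0]

/-- The hypotheses shared by the groups of even permutations considered below. -/
structure Small (K : Subgroup P11) : Prop where
  le_alt : K ≤ A11
  shift_mem : shift ∈ K
  card_ne : Nat.card K ≠ 11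
  not_alt : ¬ A11 ≤ K

namespace Small

variable {K : Subgroup P11}

theorem involution (hK : Small K) {g : P11} (hg : g ∈ K) (h2 : orderOf g = 2) :
    g.support.card = 8 := by
  have hgg : g ^ 2 = 1 := h2 ▸ pow_orderOf_eq_one g
  haveI : Fact (Nat.Prime 2) := ⟨Nat.prime_two⟩
  have hmod := support_mod hgg
  have hle : g.support.card ≤ 11 := (Finset.card_le_univ _).trans (le_of_eq (ZMod.card 11))
  have hsign : Perm.sign g = 1 := hK.le_alt hg
  rw [sign_of_involution h2] at hsign
  have hne : g.support.card ≠ 0 := by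
    intro h0
    rw [Perm.card_support_eq_zero] at h0
    rw [h0, orderOf_one] at h2
    norm_num at h2
  have h4 : g.support.card ≠ 4 := by
    intro h4
    obtain ⟨h, hh, h7⟩ := seven_of_doubleTransposition K
      (hasAff_squares hK.shift_mem (card_normalizer hK.le_alt hK.shift_mem hK.card_ne).1) hg
      (by rw [← pow_two]; exact hgg) h4
    exact not_seven hK.shift_mem hK.not_alt hh h7
  generalize g.support.card = n at hmod hle hsign hne h4 ⊢
  interval_cases n <;> first | omega | exact absurd hsign (by decide)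

theorem order_three (hK : Small K) {g : P11} (hg : g ∈ K) (h3 : orderOf g = 3) :
    g.support.card = 9 := by
  have hggg : g ^ 3 = 1 := h3 ▸ pow_orderOf_eq_one g
  haveI : Fact (Nat.Prime 3) := ⟨Nat.prime_three⟩
  have hmod := support_mod hggg
  have hle : g.support.card ≤ 11 := (Finset.card_le_univ _).trans (le_of_eq (ZMod.card 11))
  have hlarge : 6 ≤ g.support.card := by
    by_contra h
    exact no_cycle hK.shift_mem hK.not_alt hg Nat.prime_three (by norm_num) h3 (by omega)
  have h6 : g.support.card ≠ 6 := by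
    intro h6
    obtain ⟨h, hh, h7⟩ := seven_of_doubleThreeCycle K
      (hasAff_squares hK.shift_mem (card_normalizer hK.le_alt hK.shift_mem hK.card_ne).1) hg
      (by rw [← pow_three']; exact hggg) h6
    exact not_seven hK.shift_mem hK.not_alt hh h7
  omega

theorem order_five (hK : Small K) {g : P11} (hg : g ∈ K) (h5 : orderOf g = 5) :
    g.support.card = 10 := by
  haveI : Fact (Nat.Prime 5) := ⟨by norm_num⟩
  have hmod := support_mod (h5 ▸ pow_orderOf_eq_one g : g ^ 5 = 1)
  have hle : g.support.card ≤ 11 := (Finset.card_le_univ _).trans (le_of_eq (ZMod.card 11))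
  have hlarge : 10 ≤ g.support.card := by
    by_contra h
    exact no_cycle hK.shift_mem hK.not_alt hg (by norm_num) (by norm_num) h5 (by omega)
  omega

/-- No nontrivial element fixes four points. -/
theorem eq_one_of_fix (hK : Small K) {g : P11} (hg : g ∈ K) (h : g.support.card ≤ 7) : g = 1 := by
  by_contra hne
  obtain ⟨p, hp, hpd⟩ := Nat.exists_prime_and_dvd (show orderOf g ≠ 1 from
    fun h1 => hne (orderOf_eq_one_iff.1 h1))
  have hm : orderOf (g ^ (orderOf g / p)) = p := orderOf_pow_orderOf_div (orderOf_pos g).ne' hpd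
  set x := g ^ (orderOf g / p)
  have hx : x ∈ K := K.pow_mem hg _
  have hs : x.support.card ≤ 7 := (Finset.card_le_card (Perm.support_pow_le g _)).trans h
  have hp8 : p ≤ 7 := by
    by_contra hp8
    haveI : Fact p.Prime := ⟨hp⟩
    have hmod := support_mod (hm ▸ pow_orderOf_eq_one x : x ^ p = 1)
    rw [Nat.mod_eq_of_lt (by omega), Perm.card_support_eq_zero] at hmod
    rw [hmod, orderOf_one] at hm
    exact hp.ne_one hm.symm
  rcases (by interval_cases p <;> simp_all (config := { decide := true }) [Nat.not_prime_zero, Nat.not_prime_one] <;>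
      norm_num at hp : p = 2 ∨ p = 3 ∨ p = 5 ∨ p = 7) with rfl | rfl | rfl | rfl
  · have := hK.involution hx hm; omega
  · have := hK.order_three hx hm; omega
  · have := hK.order_five hx hm; omega
  · exact not_seven hK.shift_mem hK.not_alt hx (by rw [hm])

/-- An orbit count for a subgroup of prime power order all of whose nontrivial elements have the
same number of fixed points. -/
theorem orbit_count (P : Subgroup P11) (c : ℕ)
    (hc : ∀ g ∈ P, g ≠ 1 → 11 - g.support.card = c) :
    Nat.card P ∣ 11 + (Nat.card P - 1) * c := by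
  classical
  have h := MulAction.sum_card_fixedBy_eq_card_orbits_mul_card_group P (ZMod 11)
  have hfix : ∀ g : P, Fintype.card (MulAction.fixedBy (ZMod 11) g) =
      11 - (g : P11).support.card := by
    intro g
    rw [← Nat.card_eq_fintype_card, Nat.card_coe_set_eq,
      show MulAction.fixedBy (ZMod 11) g = ((g : P11).supportᶜ : Finset _) by
        ext z
        simp [MulAction.mem_fixedBy, Subgroup.smul_def],
      Set.ncard_coe_finset, Finset.card_compl, ZMod.card]
  rw [Finset.sum_congr rfl fun g _ => hfix g, ← Finset.sum_erase_add _ _ (Finset.mem_univ (1 : P)),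
    Finset.sum_congr rfl fun (g : P) hg => hc (g : P11) g.prop
      (fun h1 => (Finset.mem_erase.1 hg).1 (Subtype.ext h1)),
    Finset.sum_const, Finset.card_erase_of_mem (Finset.mem_univ _), Finset.card_univ] at h
  rw [Nat.card_eq_fintype_card]
  refine Dvd.intro_left _ (h.symm.trans ?_)
  simp [smul_eq_mul, add_comm]

theorem not_dvd_27 (hK : Small K) : ¬ 27 ∣ Nat.card K := by
  intro h
  haveI : Fact (Nat.Prime 3) := ⟨Nat.prime_three⟩
  obtain ⟨P, hP⟩ := Sylow.exists_subgroup_card_pow_prime 3 (n := 3) (G := K) (by simpa using h)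
  have hc : Nat.card (P.map K.subtype) = 27 := by
    rw [Subgroup.card_map_of_injective K.subtype_injective, hP]
    norm_num
  have h2 := orbit_count (P.map K.subtype) 2 ?_
  · rw [hc] at h2
    norm_num at h2
  rintro g hg hne
  obtain ⟨j, hj, hord⟩ := (Nat.dvd_prime_pow Nat.prime_three (m := 3)).1
    (show orderOf g ∣ 3 ^ 3 by
      rw [show 3 ^ 3 = Nat.card (P.map K.subtype) by rw [hc]; norm_num]
      exact (Subgroup.orderOf_mk g hg) ▸ orderOf_dvd_natCard _)
  have hj0 : j ≠ 0 := fun h0 => hne (orderOf_eq_one_iff.1 (by rw [hord, h0, pow_zero]))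
  have hgK : g ∈ K := Subgroup.map_subtype_le P hg
  have hx : orderOf (g ^ (3 ^ (j - 1))) = 3 := by
    have h' := orderOf_pow_orderOf_div (orderOf_pos g).ne'
      (show 3 ∣ orderOf g by rw [hord]; exact dvd_pow_self 3 hj0)
    rwa [hord, show 3 ^ j / 3 = 3 ^ (j - 1) from by
      obtain ⟨i, rfl⟩ := Nat.exists_eq_succ_of_ne_zero hj0
      rw [pow_succ, Nat.mul_div_cancel _ (by norm_num), Nat.succ_sub_one]] at h'
  have h9 := hK.order_three (K.pow_mem hgK _) hx
  have hle : 9 ≤ g.support.card := h9.symm.trans_le (Finset.card_le_card (Perm.support_pow_le g _))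
  have hmod : g.support.card % 3 = 0 := by
    have h' := Perm.card_compl_support_modEq (n := j) (σ := g) (p := 3)
      (by rw [← hord]; exact pow_orderOf_eq_one g)
    rw [Finset.card_compl, ZMod.card, Nat.ModEq] at h'
    have := Finset.card_le_univ g.support
    rw [ZMod.card] at this
    omega
  have : g.support.card ≤ 11 := (Finset.card_le_univ _).trans (le_of_eq (ZMod.card 11))
  omega

theorem not_dvd_25 (hK : Small K) : ¬ 25 ∣ Nat.card K := by
  intro h
  haveI : Fact (Nat.Prime 5) := ⟨by norm_num⟩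
  obtain ⟨P, hP⟩ := Sylow.exists_subgroup_card_pow_prime 5 (n := 2) (G := K) (by simpa using h)
  have hc : Nat.card (P.map K.subtype) = 25 := by
    rw [Subgroup.card_map_of_injective K.subtype_injective, hP]
    norm_num
  have h2 := orbit_count (P.map K.subtype) 1 ?_
  · rw [hc] at h2
    norm_num at h2
  rintro g hg hne
  obtain ⟨j, hj, hord⟩ := (Nat.dvd_prime_pow (by norm_num : Nat.Prime 5) (m := 2)).1
    (show orderOf g ∣ 5 ^ 2 by
      rw [show 5 ^ 2 = Nat.card (P.map K.subtype) by rw [hc]; norm_num]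
      exact (Subgroup.orderOf_mk g hg) ▸ orderOf_dvd_natCard _)
  have hj0 : j ≠ 0 := fun h0 => hne (orderOf_eq_one_iff.1 (by rw [hord, h0, pow_zero]))
  have hgK : g ∈ K := Subgroup.map_subtype_le P hg
  have hx : orderOf (g ^ (5 ^ (j - 1))) = 5 := by
    have h' := orderOf_pow_orderOf_div (orderOf_pos g).ne'
      (show 5 ∣ orderOf g by rw [hord]; exact dvd_pow_self 5 hj0)
    rwa [hord, show 5 ^ j / 5 = 5 ^ (j - 1) from by
      obtain ⟨i, rfl⟩ := Nat.exists_eq_succ_of_ne_zero hj0
      rw [pow_succ, Nat.mul_div_cancel _ (by norm_num), Nat.succ_sub_one]] at h'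
  have h10 := hK.order_five (K.pow_mem hgK _) hx
  have hle : 10 ≤ g.support.card := h10.symm.trans_le (Finset.card_le_card (Perm.support_pow_le g _))
  have hmod : g.support.card % 5 = 0 := by
    have h' := Perm.card_compl_support_modEq (n := j) (σ := g) (p := 5)
      (by rw [← hord]; exact pow_orderOf_eq_one g)
    rw [Finset.card_compl, ZMod.card, Nat.ModEq] at h'
    have := Finset.card_le_univ g.support
    rw [ZMod.card] at this
    omega
  have : g.support.card ≤ 11 := (Finset.card_le_univ _).trans (le_of_eq (ZMod.card 11))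
  omega

theorem not_dvd_7 (hK : Small K) : ¬ 7 ∣ Nat.card K := by
  intro h
  haveI : Fact (Nat.Prime 7) := ⟨by norm_num⟩
  obtain ⟨g, hg⟩ := exists_prime_orderOf_dvd_card' 7 h
  exact not_seven hK.shift_mem hK.not_alt g.2 (by rw [Subgroup.orderOf_coe, hg])

/-- The possible orders. -/
theorem card_cases (hK : Small K) :
    ∃ n ∈ [1, 12, 144], Nat.card K = 55 * n ∧ Nat.card (Sylow 11 K) = n := by
  obtain ⟨-, Q, -, hN⟩ := card_normalizer hK.le_alt hK.shift_mem hK.card_ne
  have hcard : Nat.card K = 55 * Nat.card (Sylow 11 K) := by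
    rw [← (Subgroup.normalizer ((Q : Subgroup K) : Set K)).card_mul_index, hN]
    congr 1
    exact Q.card_eq_index_normalizer.symm
  have hmod : Nat.card (Sylow 11 K) % 11 = 1 := card_sylow_modEq_one 11 K
  refine ⟨_, ?_, hcard, rfl⟩
  have hd := Subgroup.card_dvd_of_le hK.le_alt
  rw [card_A11] at hd
  have h7 := hK.not_dvd_7
  have h25 := hK.not_dvd_25
  have h27 := hK.not_dvd_27
  rw [hcard] at hd h7 h25 h27
  generalize Nat.card (Sylow 11 K) = n at hd h7 h25 h27 hmod ⊢
  have hn : n ∣ 128 * 81 := by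
    have hn0 : n ∣ 128 * 81 * (5 * 7) :=
      Nat.dvd_of_mul_dvd_mul_left (by norm_num : 0 < 55)
        (by rwa [show 55 * (128 * 81 * (5 * 7)) = 19958400 by norm_num])
    have c5 : Nat.Coprime n 5 := ((by norm_num : Nat.Prime 5).coprime_iff_not_dvd.2 fun h =>
      h25 (show 5 * 5 ∣ 55 * n from Nat.mul_dvd_mul (by norm_num) h)).symm
    have c7 : Nat.Coprime n 7 := ((by norm_num : Nat.Prime 7).coprime_iff_not_dvd.2 fun h =>
      h7 (h.mul_left 55)).symm
    exact (c5.mul_right c7).dvd_of_dvd_mul_right hn0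
  obtain ⟨u, v, hu, hv, rfl⟩ := exists_dvd_and_dvd_of_dvd_mul hn
  have hu' := Nat.mem_divisors.2 ⟨hu, by norm_num⟩
  have hv' := Nat.mem_divisors.2 ⟨hv, by norm_num⟩
  have key : ∀ u ∈ Nat.divisors 128, ∀ v ∈ Nat.divisors 81, (u * v) % 11 = 1 →
      ¬ 27 ∣ u * v → u * v ∈ [1, 12, 144] := by
    decide +kernel
  exact key u hu' v hv' hmod fun h => h27 (h.mul_left 55)

theorem card_of_not_solvable (hK : Small K) (hs : ¬ Group.IsSolvable K) :
    Nat.card K = 660 ∨ Nat.card K = 7920 := by
  obtain ⟨n, hn, hcard, hsy⟩ := hK.card_cases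
  simp only [List.mem_cons, List.not_mem_nil, or_false] at hn
  rcases hn with rfl | rfl | rfl
  · exfalso
    apply hs
    obtain ⟨-, Q, hQ, hN⟩ := card_normalizer hK.le_alt hK.shift_mem hK.card_ne
    refine Cfsg.Agent.Perm.PrimeDegree.isSolvable_of_affine K (Equiv.refl (ZMod 11)) fun g => ?_
    have hg : g ∈ Subgroup.normalizer ((Q : Subgroup K) : Set K) := by
      rw [Subgroup.eq_top_of_card_eq _ (hN.trans (by rw [hcard, mul_one]))]
      trivial
    have hmem : g * ⟨shift, hK.shift_mem⟩ * g⁻¹ ∈ Subgroup.zpowers (⟨shift, hK.shift_mem⟩ : K) := by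
      rw [← hQ]
      exact (Subgroup.mem_normalizer_iff.1 hg _).1 (hQ ▸ Subgroup.mem_zpowers _)
    obtain ⟨a, b, -, hab⟩ := exists_affine hK.shift_mem g.2 ((mem_zpowers_coe _ _).1 hmem)
    exact ⟨a, b, a.ne_zero, hab⟩
  · exact Or.inl hcard
  · exact Or.inr hcard

end Small

theorem mem_of_normal {K : Subgroup P11} (ht : shift ∈ K) (M : Subgroup K) [M.Normal]
    (hM : M ≠ ⊥) : (⟨shift, ht⟩ : K) ∈ M := by
  haveI := isPreprimitive ht
  have hMt := Cfsg.Agent.Perm.NormalPrimitive.isPretransitive_of_normal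
    (inferInstance : MulAction.IsQuasiPreprimitive K (ZMod 11)) M hM
  have h11 : 11 ∣ Nat.card M := by
    have h' := (MulAction.stabilizer M (0 : ZMod 11)).index_mul_card
    rw [MulAction.index_stabilizer_of_transitive, Nat.card_zmod] at h'
    exact ⟨_, h'.symm⟩
  obtain ⟨Q, hQ⟩ := sylow_eq_zpowers ht
  obtain ⟨x, hx⟩ := exists_prime_orderOf_dvd_card' (G := M) 11 h11
  have hx' : orderOf (x : K) = 11 := by rw [Subgroup.orderOf_coe, hx]
  obtain ⟨R, hR⟩ := (IsPGroup.of_card (p := 11) (n := 1) (G := Subgroup.zpowers (x : K))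
    (by rw [Nat.card_zpowers, hx', pow_one])).exists_le_sylow
  have hRc : Nat.card (R : Subgroup K) = 11 := by
    refine (R.card_eq_multiplicity.trans Q.card_eq_multiplicity.symm).trans ?_
    rw [hQ, Nat.card_zpowers, ← Subgroup.orderOf_coe (⟨shift, ht⟩ : K), orderOf_shift]
  have hRM : (R : Subgroup K) ≤ M := by
    rw [← Subgroup.eq_of_le_of_card_ge hR (by rw [hRc, Nat.card_zpowers, hx'])]
    exact Subgroup.zpowers_le.2 x.2
  obtain ⟨g, hg⟩ := MulAction.exists_smul_eq K R Q
  have hmem : (⟨shift, ht⟩ : K) ∈ (Q : Subgroup K) := hQ ▸ Subgroup.mem_zpowers _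
  rw [← hg, Sylow.coe_subgroup_smul, Subgroup.mem_pointwise_smul_iff_inv_smul_mem] at hmem
  have := (‹M.Normal›).conj_mem _ (hRM hmem) g
  simpa [MulAut.smul_def, mul_assoc] using this

/-- The group of order 660 is simple. -/
theorem isSimpleGroup_of_card {K : Subgroup P11} (hK : Small K) (h : Nat.card K = 660) :
    IsSimpleGroup K := by
  haveI : Nontrivial K := Finite.one_lt_card_iff_nontrivial.1 (by omega)
  refine { eq_bot_or_eq_top_of_normal := fun M hMn => ?_ }
  by_cases hne : M = ⊥
  · exact Or.inl hne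
  right
  haveI := hMn
  have htM := mem_of_normal hK.shift_mem M hne
  set L := M.map K.subtype
  have hL : Nat.card L = Nat.card M := Subgroup.card_map_of_injective K.subtype_injective
  have htL : shift ∈ L := ⟨_, htM, rfl⟩
  have hd : Nat.card L ∣ 660 := by rw [hL, ← h]; exact M.card_subgroup_dvd_card
  -- the translations are not normal in `K`
  have hnot : ∀ R : Subgroup L, R.Normal → Nat.card R = 11 →
      (⟨shift, htL⟩ : L) ∈ R → Nat.card (Sylow 11 L) = 1 → False := by
    intro R hRn hRc hRt hone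
    obtain ⟨n, hn, hcard, hsy⟩ := hK.card_cases
    obtain ⟨Q, hQ⟩ := sylow_eq_zpowers hK.shift_mem
    -- every conjugate of the translation lies in the Sylow subgroup of `L`
    have hnormal : Subgroup.normalizer ((Q : Subgroup K) : Set K) = ⊤ := by
      rw [eq_top_iff]
      intro g _
      rw [hQ]
      refine Subgroup.mem_normalizer_fintype ?_
      rintro _ ⟨i, rfl⟩
      show g * (⟨shift, hK.shift_mem⟩ : K) ^ i * g⁻¹ ∈ _
      rw [← conj_zpow]
      refine Subgroup.zpow_mem _ ?_ i
      rw [mem_zpowers_coe]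
      have hgM := hMn.conj_mem _ htM g
      set y : L := ⟨((g * ⟨shift, hK.shift_mem⟩ * g⁻¹ : K) : P11), ⟨_, hgM, rfl⟩⟩
      haveI := hRn
      have hy : orderOf y = 11 := by
        rw [← Subgroup.orderOf_coe]
        exact (MulEquiv.orderOf_eq (MulAut.conj (g : P11)) shift).trans orderOf_shift
      obtain ⟨S, hS⟩ := (IsPGroup.of_card (p := 11) (n := 1) (G := Subgroup.zpowers y)
        (by rw [Nat.card_zpowers, hy, pow_one])).exists_le_sylow
      obtain ⟨S', hS'⟩ := (IsPGroup.of_card (p := 11) (n := 1) (G := R)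
        (by rw [hRc, pow_one])).exists_le_sylow
      obtain ⟨Q', hQ'⟩ := sylow_eq_zpowers htL
      haveI : Subsingleton (Sylow 11 L) := (Nat.card_eq_one_iff_unique.1 hone).1
      have hyQ : y ∈ (Q' : Subgroup L) := by
        rw [← Subsingleton.elim S Q']
        exact hS (Subgroup.mem_zpowers y)
      rw [hQ', mem_zpowers_coe] at hyQ
      exact hyQ
    have : Nat.card (Sylow 11 K) = (Subgroup.normalizer ((Q : Subgroup K) : Set K)).index :=
      Q.card_eq_index_normalizer
    rw [hnormal, Subgroup.index_top, hsy] at this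
    rw [hcard, this] at h
    norm_num at h
  by_cases h11 : Nat.card L = 11
  · exfalso
    refine hnot ⊤ inferInstance (by rw [Subgroup.card_top, h11]) trivial ?_
    obtain ⟨Q', hQ'⟩ := sylow_eq_zpowers htL
    refine Q'.card_eq_index_normalizer.trans ?_
    show (Subgroup.normalizer ((Q' : Subgroup L) : Set L)).index = 1
    rw [Subgroup.index_eq_one]
    have : (Q' : Subgroup L) = ⊤ := Subgroup.eq_top_of_card_eq _ (by
      rw [hQ', Nat.card_zpowers, ← Subgroup.orderOf_coe, orderOf_shift, h11])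
    rw [this]
    exact Subgroup.normalizer_eq_top_iff.2 inferInstance
  · have hLs : Small L := ⟨(Subgroup.map_subtype_le M).trans hK.le_alt, htL, h11,
      fun hA => hK.not_alt (hA.trans (Subgroup.map_subtype_le M))⟩
    obtain ⟨n, hn, hcard, hsy⟩ := hLs.card_cases
    simp only [List.mem_cons, List.not_mem_nil, or_false] at hn
    rcases hn with rfl | rfl | rfl
    · exfalso
      obtain ⟨-, Q', hQ', hN⟩ := card_normalizer hLs.le_alt htL h11
      haveI : (Q' : Subgroup L).Normal := Subgroup.normalizer_eq_top_iff.1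
        (Subgroup.eq_top_of_card_eq _ (hN.trans (by rw [hcard, mul_one])))
      exact hnot Q' inferInstance (by
        rw [hQ', Nat.card_zpowers, ← Subgroup.orderOf_coe, orderOf_shift])
        (hQ' ▸ Subgroup.mem_zpowers _) hsy
    · exact Subgroup.eq_top_of_card_eq M (by rw [← hL, hcard, h])
    · rw [hcard] at hd
      norm_num at hd

/-- A non-solvable group containing the translations and not the alternating group consists of even
permutations. -/
theorem le_alt {G : Subgroup P11} (ht : shift ∈ G) (hs : ¬ Group.IsSolvable G) (hA : ¬ A11 ≤ G) :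
    G ≤ A11 := by
  classical
  by_contra hnot
  obtain ⟨g, hg, hgA⟩ := SetLike.not_le_iff_exists.1 hnot
  rw [Perm.mem_alternatingGroup] at hgA
  let N : Subgroup G := (A11).subgroupOf G
  have hi : N.index = 2 := by
    rw [Subgroup.index_eq_two_iff]
    refine ⟨⟨g, hg⟩, fun u => ?_⟩
    simp only [N, Subgroup.mem_subgroupOf, Perm.mem_alternatingGroup, Subgroup.coe_mul,
      Perm.sign_mul]
    rcases Int.units_eq_one_or (Perm.sign (u : P11)) with h | h <;>
      rcases Int.units_eq_one_or (Perm.sign g) with h' | h' <;> simp_all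
  haveI : N.Normal := Subgroup.normal_of_index_eq_two hi
  set H := G ⊓ A11 with hH
  have hNs : ¬ Group.IsSolvable H := fun h =>
    Cfsg.Agent.Perm.Degree7.not_solvable_of_index N hs (by rw [hi]; norm_num)
      (solvable_of_solvable_injective
        (f := ({ toFun := fun x => ⟨((x : G) : P11), ⟨(x : G).2, x.2⟩⟩,
                 map_one' := rfl, map_mul' := fun _ _ => rfl } : N →* H))
        (fun x y h => Subtype.ext (Subtype.ext (congrArg (fun q : H => (q : P11)) h))))
  have htH : shift ∈ H := ⟨ht, sign_shift⟩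
  have h11 : Nat.card H ≠ 11 := fun h => hNs
    ((zpowers_of_card_eleven htH h).symm ▸ (inferInstance : Group.IsSolvable (Subgroup.zpowers shift)))
  have hHs : Small H := ⟨inf_le_right, htH, h11, fun h => hA (h.trans inf_le_left)⟩
  obtain ⟨Q, hQ⟩ := sylow_eq_zpowers htH
  -- an odd element normalising the translations
  have hmemH : g * shift * g⁻¹ ∈ H := ⟨G.mul_mem (G.mul_mem hg ht) (G.inv_mem hg), by
    simp [Perm.mem_alternatingGroup, sign_shift]⟩
  set y : H := ⟨_, hmemH⟩
  have hy : orderOf y = 11 := by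
    rw [← Subgroup.orderOf_coe]
    exact (MulEquiv.orderOf_eq (MulAut.conj g) shift).trans orderOf_shift
  obtain ⟨R, hR⟩ := (IsPGroup.of_card (p := 11) (n := 1) (G := Subgroup.zpowers y)
    (by rw [Nat.card_zpowers, hy, pow_one])).exists_le_sylow
  obtain ⟨k, hk⟩ := MulAction.exists_smul_eq H R Q
  have hconj : k * y * k⁻¹ ∈ Subgroup.zpowers (⟨shift, htH⟩ : H) := by
    rw [← hQ, ← hk, Sylow.coe_subgroup_smul, Subgroup.mem_pointwise_smul_iff_inv_smul_mem]
    simpa [MulAut.smul_def, mul_assoc] using hR (Subgroup.mem_zpowers y)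
  rw [mem_zpowers_coe] at hconj
  obtain ⟨a, b, haG, hab⟩ := exists_affine ht (G.mul_mem k.2.1 hg) (by
    simpa [y, mul_assoc] using hconj)
  have hodd : Perm.sign (mu a) ≠ 1 := by
    intro h1
    have heq : (k : P11) * g = shift ^ b.val * mu a := Equiv.ext fun z => by
      rw [hab, Perm.mul_apply (f := shift ^ b.val), shift_pow, mu_apply, ZMod.natCast_zmod_val]
    have := congrArg Perm.sign heq
    rw [map_mul, map_mul, map_pow, sign_shift, one_pow, one_mul, h1,
      show Perm.sign (k : P11) = 1 from k.2.2, one_mul] at this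
    exact hgA this
  have ha5 : a ^ 5 ≠ 1 := fun h => hodd (sign_mu_of_pow_five h)
  obtain ⟨hsq, -⟩ := card_normalizer hHs.le_alt htH h11
  have hall : ∀ c : (ZMod 11)ˣ, mu c ∈ G := by
    intro c
    by_cases hc : c ^ 5 = 1
    · exact (hsq c hc).1
    · have h10 : ∀ x : (ZMod 11)ˣ, x ^ 5 = 1 ∨ x ^ 5 = -1 := by decide +kernel
      have : (c * a⁻¹) ^ 5 = 1 := by
        rw [mul_pow, inv_pow, (h10 c).resolve_left hc, (h10 a).resolve_left ha5, mul_inv_cancel]
      have h' := G.mul_mem (hsq _ this).1 haG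
      rwa [← map_mul, inv_mul_cancel_right] at h'
  have h2 : 2 ∣ Nat.card H := by
    rcases hHs.card_of_not_solvable hNs with h | h <;> rw [h] <;> norm_num
  haveI : Fact (Nat.Prime 2) := ⟨Nat.prime_two⟩
  obtain ⟨x, hx⟩ := exists_prime_orderOf_dvd_card' 2 h2
  have hx' : orderOf (x : P11) = 2 := by rw [Subgroup.orderOf_coe, hx]
  obtain ⟨h, hh, h7⟩ := seven_of_quadTransposition G (hasAff_all ht hall) x.2.1
    (by rw [← pow_two]; exact hx' ▸ pow_orderOf_eq_one _) (hHs.involution x.2 hx')
  exact not_seven ht hA hh h7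

/-- A non-solvable group of degree eleven containing the translations and not the alternating
group. -/
theorem main {G : Subgroup P11} (ht : shift ∈ G) (hs : ¬ Group.IsSolvable G) (hA : ¬ A11 ≤ G) :
    Small G ∧ ((Nat.card G = 660 ∧ IsSimpleGroup G) ∨ Nat.card G = 7920) := by
  have h11 : Nat.card G ≠ 11 := fun h => hs
    ((zpowers_of_card_eleven ht h).symm ▸ (inferInstance : Group.IsSolvable (Subgroup.zpowers shift)))
  have hK : Small G := ⟨le_alt ht hs hA, ht, h11, hA⟩
  refine ⟨hK, ?_⟩
  rcases hK.card_of_not_solvable hs with h | h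
  · exact Or.inl ⟨h, isSimpleGroup_of_card hK h⟩
  · exact Or.inr h

end Cfsg.Agent.Perm.Degree11
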