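import Mathlib
import Cfsg.Agent.Lib.Perm.Degree11
import Cfsg.Agent.Lib.Hall.MinimalNormal
import Cfsg.Agent.Lib.Perm.CentralizerTransitive

/-!
# The group of order 7920 on eleven points is simple
-/

set_option autoImplicit false

namespace Cfsg.Agent.Perm.Degree11

local notation "P11" => Equiv.Perm (ZMod 11)

local instance factPrimeEleven' : Fact (Nat.Prime 11) := ⟨by norm_num⟩

theorem not_solvable_of_card {K : Subgroup P11} (ht : shift ∈ K) (hcard : 110 < Nat.card K) :
    ¬ Group.IsSolvable K := by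
  intro hs
  haveI : Nontrivial K := Finite.one_lt_card_iff_nontrivial.1 (by omega)
  obtain ⟨A, hAn, -, hA0, hAmin⟩ := Cfsg.Agent.Hall.exists_minimal_normal (⊤ : Subgroup K) top_ne_bot
  haveI := hAn
  haveI hAc : IsMulCommutative A := Cfsg.Agent.Hall.minimal_normal_isMulCommutative hAmin
  have htA := mem_of_normal ht A hA0
  haveI := isPreprimitive ht
  have hAt := Cfsg.Agent.Perm.NormalPrimitive.isPretransitive_of_normal
    (inferInstance : MulAction.IsQuasiPreprimitive K (ZMod 11)) A hA0
  have hA11 : Nat.card A = 11 := by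
    rw [Cfsg.Agent.Perm.Basic.card_eq_of_regular A hAt
      (Cfsg.Agent.Perm.CentralizerTransitive.stabilizer_eq_bot_of_comm A A hAt
        (fun m n hm hn => congrArg Subtype.val (hAc.is_comm.comm ⟨m, hm⟩ ⟨n, hn⟩))) 0,
      Nat.card_zmod]
  set t : K := ⟨shift, ht⟩
  have hAeq : Subgroup.zpowers t = A := Subgroup.eq_of_le_of_card_ge (Subgroup.zpowers_le.2 htA)
    (by rw [hA11, Nat.card_zpowers, ← Subgroup.orderOf_coe t, orderOf_shift])
  have haff : ∀ g : K, ∃ q : (ZMod 11)ˣ × ZMod 11, ∀ z, (g : P11) z = (q.1 : ZMod 11) * z + q.2 := by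
    intro g
    have hmem := hAn.conj_mem _ htA g
    rw [← hAeq, mem_zpowers_coe] at hmem
    obtain ⟨a, b, -, hab⟩ := exists_affine ht g.2 hmem
    exact ⟨(a, b), hab⟩
  choose q hq using haff
  have hle := Nat.card_le_card_of_injective q fun g h hgh =>
    Subtype.ext (Equiv.ext fun z => by rw [hq, hq, hgh])
  rw [Nat.card_prod, Nat.card_units, Nat.card_zmod] at hle
  omega

theorem isSimpleGroup_of_card_7920 {K : Subgroup P11} (ht : shift ∈ K) (h : Nat.card K = 7920) :
    IsSimpleGroup K := by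
  have hns := not_solvable_of_card ht (by omega)
  have hA : ¬ alternatingGroup (ZMod 11) ≤ K := fun hle => by
    have := Nat.le_of_dvd Nat.card_pos (Subgroup.card_dvd_of_le hle)
    rw [card_A11, h] at this
    omega
  obtain ⟨hK, -⟩ := main ht hns hA
  haveI : Nontrivial K := Finite.one_lt_card_iff_nontrivial.1 (by omega)
  refine { eq_bot_or_eq_top_of_normal := fun M hMn => ?_ }
  by_cases hne : M = ⊥
  · exact Or.inl hne
  right
  haveI := hMn
  have htM := mem_of_normal ht M hne
  set L := M.map K.subtype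
  have htL : shift ∈ L := ⟨_, htM, rfl⟩
  have hLK : L ≤ K := Subgroup.map_subtype_le M
  set t : K := ⟨shift, ht⟩
  obtain ⟨Q, hQ⟩ := sylow_eq_zpowers ht
  obtain ⟨-, Q', hQ', hN'⟩ := card_normalizer hK.le_alt ht hK.card_ne
  set N := Subgroup.normalizer ((Subgroup.zpowers t : Subgroup K) : Set K)
  have hN : Nat.card N = 55 := by rw [hQ'] at hN'; exact hN'
  have haff : ∀ g ∈ N, ∃ (a : (ZMod 11)ˣ) (b : ZMod 11), mu a ∈ K ∧
      ∀ z, ((g : K) : P11) z = (a : ZMod 11) * z + b := fun g hg =>
    exists_affine ht g.2 ((mem_zpowers_coe ht _).1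
      ((Subgroup.mem_normalizer_iff.1 hg t).1 (Subgroup.mem_zpowers t)))
  by_cases h11 : Nat.card L = 11
  · -- the translations would be normal
    exfalso
    have hMc : Nat.card M = 11 := (Subgroup.card_map_of_injective K.subtype_injective).symm.trans h11
    have hMeq : Subgroup.zpowers t = M := Subgroup.eq_of_le_of_card_ge (Subgroup.zpowers_le.2 htM)
      (by rw [hMc, Nat.card_zpowers, ← Subgroup.orderOf_coe t, orderOf_shift])
    have hNtop : N = ⊤ := by
      show Subgroup.normalizer ((Subgroup.zpowers t : Subgroup K) : Set K) = ⊤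
      rw [hMeq]
      exact Subgroup.normalizer_eq_top_iff.2 hMn
    rw [hNtop, Subgroup.card_top, h] at hN
    omega
  · obtain ⟨hsq, -⟩ := card_normalizer (hLK.trans hK.le_alt) htL h11
    have hNM : N ≤ M := by
      intro g hg
      obtain ⟨a, b, ha, hab⟩ := haff g hg
      have ha5 : a ^ 5 = 1 := pow_five_of_even (Equiv.Perm.mem_alternatingGroup.1 (hK.le_alt ha))
      have hgL : (g : P11) ∈ L := by
        rw [show (g : P11) = shift ^ b.val * mu a from Equiv.ext fun z => by
          rw [hab, Equiv.Perm.mul_apply, shift_pow, mu_apply, ZMod.natCast_zmod_val]]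
        exact L.mul_mem (L.pow_mem htL _) (hsq a ha5)
      obtain ⟨g', hg', hgg⟩ := hgL
      rwa [← Subtype.ext hgg]
    rw [eq_top_iff]
    intro g _
    -- Frattini argument
    have hy : g * t * g⁻¹ ∈ M := hMn.conj_mem _ htM g
    let y : L := ⟨_, ⟨_, hy, rfl⟩⟩
    obtain ⟨R, hR⟩ := sylow_eq_zpowers htL
    have hyo : orderOf y = 11 := by
      rw [← Subgroup.orderOf_coe]
      exact (MulEquiv.orderOf_eq (MulAut.conj (g : P11)) shift).trans orderOf_shift
    obtain ⟨S, hS⟩ := (IsPGroup.of_card (p := 11) (n := 1) (G := Subgroup.zpowers y)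
      (by rw [Nat.card_zpowers, hyo, pow_one])).exists_le_sylow
    obtain ⟨k, hk⟩ := MulAction.exists_smul_eq L S R
    have hconj : k * y * k⁻¹ ∈ Subgroup.zpowers (⟨shift, htL⟩ : L) := by
      rw [← hR, ← hk, Sylow.coe_subgroup_smul, Subgroup.mem_pointwise_smul_iff_inv_smul_mem]
      simpa [MulAut.smul_def, mul_assoc] using hS (Subgroup.mem_zpowers y)
    rw [mem_zpowers_coe] at hconj
    obtain ⟨k', hk', hkk⟩ := k.2
    have hmemN : k' * g ∈ N := by
      refine Subgroup.mem_normalizer_fintype ?_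
      rintro _ ⟨i, rfl⟩
      show k' * g * t ^ i * (k' * g)⁻¹ ∈ _
      rw [← conj_zpow]
      refine Subgroup.zpow_mem _ ?_ i
      rw [mem_zpowers_coe]
      have : ((k' * g * t * (k' * g)⁻¹ : K) : P11) = ((k * y * k⁻¹ : L) : P11) := by
        simp [y, t, ← hkk, mul_assoc]
      rw [this]
      exact hconj
    simpa using M.mul_mem (M.inv_mem hk') (hNM hmemN)

end Cfsg.Agent.Perm.Degree11
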