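/-
Subgroups of small index in symmetric groups.
-/
import Mathlib

set_option autoImplicit false
set_option linter.style.haveILetI false

namespace Cfsg.Agent.Perm.IndexDegree

open Equiv MulAction
local notation:10000 n "!" => Nat.factorial n

variable {Ω : Type*} [Fintype Ω] [DecidableEq Ω]

theorem eq_one_of_central (h3 : 3 ≤ Fintype.card Ω) {z : Perm Ω} (hz : ∀ g : Perm Ω, g * z = z * g) : z = 1 := by
  ext a
  rw [Perm.one_apply]
  by_contra hne
  obtain ⟨c, -, hc⟩ := Finset.exists_mem_notMem_of_card_lt_card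
    (show ({a, z a} : Finset Ω).card < (Finset.univ : Finset Ω).card by
      rw [Finset.card_univ]; exact lt_of_le_of_lt Finset.card_le_two h3)
  simp only [Finset.mem_insert, Finset.mem_singleton, not_or] at hc
  have h := Perm.ext_iff.1 (hz (swap (z a) c)) a
  rw [Perm.mul_apply, Perm.mul_apply, swap_apply_left, swap_apply_of_ne_of_ne (fun h' => hne h'.symm)
    (fun h' => hc.1 h'.symm)] at h
  exact hc.2 h

theorem normal_cases (h5 : 5 ≤ Fintype.card Ω) (N : Subgroup (Perm Ω)) [hN : N.Normal] :
    N = ⊥ ∨ alternatingGroup Ω ≤ N := by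
  rcases alternatingGroup.normal_subgroup_eq_bot_or_eq_top (α := Ω) (by rwa [Nat.card_eq_fintype_card])
      (N := N.subgroupOf (alternatingGroup Ω)) with h | h
  · left
    refine (Subgroup.eq_bot_iff_forall _).2 fun z hz => eq_one_of_central (by omega) fun g => ?_
    have hc : g * z * g⁻¹ * z⁻¹ ∈ N := mul_mem (hN.conj_mem z hz g) (inv_mem hz)
    have hA : g * z * g⁻¹ * z⁻¹ ∈ alternatingGroup Ω := by
      simp [Perm.mem_alternatingGroup, mul_comm (Perm.sign g), mul_assoc]
    have h1 : g * z * g⁻¹ * z⁻¹ = 1 :=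
      congrArg Subtype.val ((Subgroup.eq_bot_iff_forall _).1 h ⟨_, hA⟩ hc)
    rw [mul_inv_eq_one, mul_inv_eq_iff_eq_mul] at h1
    exact h1
  · exact Or.inr (Subgroup.subgroupOf_eq_top.1 h)

theorem eq_of_alternating_le {H : Subgroup (Perm Ω)} (h : alternatingGroup Ω ≤ H) :
    H = alternatingGroup Ω ∨ H = ⊤ := by
  by_cases hall : ∀ x ∈ H, Perm.sign x = 1
  · exact Or.inl (le_antisymm (fun x hx => Perm.mem_alternatingGroup.2 (hall x hx)) h)
  · push Not at hall
    obtain ⟨s, hs, hs1⟩ := hall
    refine Or.inr (eq_top_iff.2 fun x _ => ?_)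
    by_cases hx : Perm.sign x = 1
    · exact h (Perm.mem_alternatingGroup.2 hx)
    · have h1 := Int.units_ne_iff_eq_neg.1 hs1
      have h2 := Int.units_ne_iff_eq_neg.1 hx
      have : x * s⁻¹ ∈ H := h (by simp [Perm.mem_alternatingGroup, h1, h2])
      simpa using mul_mem this hs

theorem index_ge (h4 : Fintype.card Ω ≠ 4) {H : Subgroup (Perm Ω)} (hH : H ≠ ⊤)
    (hA : H ≠ alternatingGroup Ω) : Fintype.card Ω ≤ H.index := by
  have h2 : 2 ≤ H.index := by
    have h0 : H.index ≠ 0 := Subgroup.index_ne_zero_of_finite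
    have h1 : H.index ≠ 1 := fun h => hH (Subgroup.index_eq_one.1 h)
    omega
  by_contra hlt
  push Not at hlt
  rcases Nat.lt_or_ge (Fintype.card Ω) 5 with h5 | h5
  · have h3 : H.index = 2 := by omega
    exact hA (Perm.eq_alternatingGroup_of_index_eq_two h3)
  rcases normal_cases h5 H.normalCore with h | h
  · have hinj : Function.Injective (MulAction.toPermHom (Perm Ω) (Perm Ω ⧸ H)) := by
      rw [← MonoidHom.ker_eq_bot_iff, ← Subgroup.normalCore_eq_ker, h]
    have hle := Nat.card_le_card_of_injective _ hinj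
    rw [Nat.card_perm, Nat.card_perm, ← Subgroup.index_eq_card, Nat.card_eq_fintype_card] at hle
    exact absurd ((Nat.factorial_lt (by omega)).2 hlt) (not_lt.2 hle)
  · rcases eq_of_alternating_le (h.trans H.normalCore_le) with h' | h'
    · exact hA h'
    · exact hH h'

theorem two_pow_factorial_lt (j : ℕ) : 2 ^ (j + 4) * (j + 4)! < 2 * (2 * j + 6)! := by
  induction j with
  | zero => decide
  | succ j ih =>
    rw [show j + 1 + 4 = (j + 4) + 1 by omega, show 2 * (j + 1) + 6 = (2 * j + 6) + 1 + 1 by omega,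
      pow_succ, Nat.factorial_succ, Nat.factorial_succ (2 * j + 6 + 1), Nat.factorial_succ (2 * j + 6)]
    calc 2 ^ (j + 4) * 2 * ((j + 4 + 1) * (j + 4)!) = (2 * (j + 5)) * (2 ^ (j + 4) * (j + 4)!) := by ring
      _ < (2 * (j + 5)) * (2 * (2 * j + 6)!) := Nat.mul_lt_mul_of_pos_left ih (by omega)
      _ ≤ ((2 * j + 6 + 1 + 1) * (2 * j + 6 + 1)) * (2 * (2 * j + 6)!) := by
          refine Nat.mul_le_mul_right _ ?_
          nlinarith
      _ = 2 * ((2 * j + 6 + 1 + 1) * ((2 * j + 6 + 1) * (2 * j + 6)!)) := by ring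

theorem count_eq_one {n k : ℕ} (hk : 1 ≤ k) (hkn : 2 * k ≤ n) (h6 : n ≠ 6)
    (h : (n - 2 * k)! * 2 ^ k * k ! = (n - 2)! * 2) : k = 1 := by
  obtain ⟨m, rfl⟩ := Nat.exists_eq_add_of_le hkn
  rw [Nat.add_sub_cancel_left] at h
  have hm := Nat.factorial_pos m
  rcases (show k = 1 ∨ k = 2 ∨ k = 3 ∨ 4 ≤ k by omega) with rfl | rfl | rfl | h4
  · rfl
  · have h2 : Nat.factorial 2 = 2 := rfl
    rw [h2, show 2 * 2 + m - 2 = m + 1 + 1 by omega, Nat.factorial_succ, Nat.factorial_succ] at h
    have h1 : (m + 1 + 1) * (m + 1) = 4 := by nlinarith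
    rcases Nat.lt_or_ge m 2 with hm2 | hm2
    · interval_cases m <;> omega
    · nlinarith
  · have h2 : Nat.factorial 3 = 6 := rfl
    rw [h2, show 2 * 3 + m - 2 = m + 1 + 1 + 1 + 1 by omega, Nat.factorial_succ, Nat.factorial_succ,
      Nat.factorial_succ, Nat.factorial_succ] at h
    have h1 : (m + 1 + 1 + 1 + 1) * (m + 1 + 1 + 1) * (m + 1 + 1) * (m + 1) = 24 := by nlinarith
    rcases Nat.lt_or_ge m 1 with hm1 | hm1
    · omega
    · have : 5 * 4 * 3 * 2 ≤ (m + 1 + 1 + 1 + 1) * (m + 1 + 1 + 1) * (m + 1 + 1) * (m + 1) := by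
        gcongr <;> omega
      omega
  · obtain ⟨j, rfl⟩ := Nat.exists_eq_add_of_le' h4
    exfalso
    have h1 : (2 * j + 6)! * m ! ≤ (2 * (j + 4) + m - 2)! := by
      rw [show 2 * (j + 4) + m - 2 = 2 * j + 6 + m by omega]
      exact Nat.le_of_dvd (Nat.factorial_pos _) (Nat.factorial_mul_factorial_dvd_factorial_add _ _)
    have h2 := Nat.mul_lt_mul_of_pos_left (two_pow_factorial_lt j) hm
    nlinarith

/-- Off degree six automorphisms of the symmetric group send transpositions to transpositions. -/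
theorem isSwap_map (h6 : Fintype.card Ω ≠ 6) (φ : Perm Ω ≃* Perm Ω) {t : Perm Ω} (ht : t.IsSwap) :
    (φ t).IsSwap := by
  rw [← Perm.card_support_eq_two] at ht ⊢
  have ht' : t.cycleType = {2} := by
    rw [(Perm.card_support_eq_two.1 ht).isCycle.cycleType, ht]
  have h2 : t ^ 2 = 1 := by
    haveI : Fact (Nat.Prime 2) := ⟨Nat.prime_two⟩
    exact Perm.pow_prime_eq_one_iff.2 fun c hc => by rw [ht'] at hc; simpa using hc
  haveI : Fact (Nat.Prime 2) := ⟨Nat.prime_two⟩
  have hφ : (φ t).cycleType = Multiset.replicate (φ t).cycleType.card 2 :=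
    Perm.cycleType_of_pow_prime_eq_one (by rw [← map_pow, h2, map_one])
  set k := (φ t).cycleType.card with hk
  have hcen : Nat.card (Subgroup.centralizer ({t} : Set (Perm Ω))) =
      Nat.card (Subgroup.centralizer ({φ t} : Set (Perm Ω))) :=
    Nat.card_congr (φ.toEquiv.subtypeEquiv fun x => by
      simp only [Subgroup.mem_centralizer_singleton_iff, MulEquiv.toEquiv_eq_coe, EquivLike.coe_coe,
        ← map_mul, φ.injective.eq_iff])
  rw [Perm.nat_card_centralizer, Perm.nat_card_centralizer, ht', hφ] at hcen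
  have hk1 : 1 ≤ k := by
    rcases Nat.eq_zero_or_pos k with h0 | h0
    · exfalso
      have h1 : φ t = 1 := by
        rw [← Perm.cycleType_eq_zero, hφ, h0, Multiset.replicate_zero]
      rw [map_eq_one_iff φ φ.injective] at h1
      rw [h1, Perm.support_one, Finset.card_empty] at ht
      omega
    · exact h0
  have hsum : 2 * k ≤ Fintype.card Ω := by
    have := Finset.card_le_univ (φ t).support
    rw [← Perm.sum_cycleType, hφ, Multiset.sum_replicate, smul_eq_mul] at this
    omega
  simp only [Multiset.sum_singleton, Multiset.prod_singleton, Multiset.toFinset_singleton,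
    Finset.prod_singleton, Multiset.count_singleton_self, Nat.factorial_one, mul_one,
    Multiset.sum_replicate, Multiset.prod_replicate, smul_eq_mul] at hcen
  rw [Multiset.toFinset_replicate, if_neg (by omega), Finset.prod_singleton, Multiset.count_replicate_self,
    mul_comm k 2] at hcen
  rw [← Perm.sum_cycleType, hφ, count_eq_one hk1 hsum h6 hcen.symm]
  rfl

theorem two_le_choose_gt {n k : ℕ} (hk : 2 ≤ k) (hkn : k + 2 ≤ n) : n < n.choose k := by
  have key : ∀ j, 2 ≤ j → 2 * j ≤ n → n < n.choose j := by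
    intro j hj
    induction j, hj using Nat.le_induction with
    | base =>
      intro h4
      rw [Nat.choose_two_right]
      have : (n + 1) * 2 ≤ n * (n - 1) := by
        obtain ⟨m, rfl⟩ := Nat.exists_eq_add_of_le h4
        rw [show 2 * 2 + m - 1 = m + 3 by omega]
        nlinarith
      omega
    | succ j _ ih =>
      intro h
      exact (ih (by omega)).trans_le (Nat.choose_le_succ_of_lt_half_left (by omega))
  by_cases h : 2 * k ≤ n
  · exact key k hk h
  · rw [← Nat.choose_symm (show k ≤ n by omega)]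
    exact key (n - k) (by omega) (by omega)

theorem le_stabilizer_of_invariant {H : Subgroup (Perm Ω)} {O : Set Ω}
    (hinv : ∀ h ∈ H, ∀ x ∈ O, h x ∈ O) {k : ℕ} (hk : O.ncard = k) :
    (Fintype.card Ω).choose k ∣ H.index := by
  classical
  let s : Set.powersetCard Ω k := ⟨O.toFinset, by
    simp [Set.powersetCard, ← hk, Set.ncard_eq_toFinset_card']⟩
  have hle : H ≤ stabilizer (Perm Ω) s := by
    intro h hh
    rw [mem_stabilizer_iff]
    refine Subtype.ext (Finset.eq_of_subset_of_card_le ?_ ?_)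
    · intro x hx
      simp only [Set.powersetCard.coe_smul, Finset.mem_smul_finset] at hx
      obtain ⟨y, hy, rfl⟩ := hx
      simp only [s, Set.mem_toFinset] at hy ⊢
      exact hinv h hh y hy
    · simp
  haveI : IsPretransitive (Perm Ω) (Set.powersetCard Ω k) := Set.powersetCard.isPretransitive
  have h1 := index_stabilizer_of_transitive (Perm Ω) s
  rw [Set.powersetCard.card, Nat.card_eq_fintype_card] at h1
  exact h1 ▸ Subgroup.index_dvd_of_le hle

/-- A subgroup of index the degree, given by an automorphism preserving transpositions. -/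
theorem eq_stabilizer_of_aut {H : Subgroup (Perm Ω)} (h3 : 3 ≤ Fintype.card Ω) (hH : H.index = Fintype.card Ω)
    (φ : Perm Ω ≃* Perm Ω) (hsw : ∀ t : Perm Ω, t.IsSwap → (φ t).IsSwap)
    (hsw' : ∀ t : Perm Ω, t.IsSwap → (φ.symm t).IsSwap) (x0 : Ω) (hmemH : ∀ g, g ∈ H ↔ φ g x0 = x0) :
    ∃ x : Ω, H = stabilizer (Perm Ω) x := by
  classical
  set n := Fintype.card Ω with hn
  obtain ⟨a⟩ : Nonempty Ω := Fintype.card_pos_iff.1 (by omega)
  have hn0 : n ≠ 0 := by omega
  have hstab : ∀ b : Ω, (stabilizer (Perm Ω) b).index = n := fun b => by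
    rw [index_stabilizer_of_transitive, Nat.card_eq_fintype_card]
  have hfix : ∀ b : Ω, H ≤ stabilizer (Perm Ω) b → H = stabilizer (Perm Ω) b := fun b hb => by
    refine le_antisymm hb ((Subgroup.relIndex_eq_one).1 ?_)
    have h1 := Subgroup.relIndex_mul_index hb
    rw [hstab, hH] at h1
    exact (mul_eq_right₀ hn0).1 h1
  -- generated by transpositions
  set S : Set (Perm Ω) := {t | t.IsSwap ∧ φ t x0 = x0} with hS
  have hgen : H = Subgroup.closure S := by
    refine le_antisymm (fun g hg => ?_) ((Subgroup.closure_le _).2 fun t ht => (hmemH t).2 ht.2)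
    have h1 : φ g ∈ Subgroup.closure (φ '' S) := by
      rw [_root_.mem_closure_isSwap (fun y hy => by obtain ⟨t, ht, rfl⟩ := hy; exact hsw _ ht.1)]
      refine ⟨Set.toFinite _, fun x => ?_⟩
      by_cases hx : φ g x = x
      · rw [hx]; exact mem_orbit_self x
      · have h0 : φ g x0 = x0 := (hmemH g).1 hg
        have hxne : x ≠ x0 := fun h => hx (h ▸ h0)
        have hgne : φ g x ≠ x0 := fun h => hxne ((φ g).injective (h.trans h0.symm))
        refine mem_orbit_iff.2 ⟨⟨swap x (φ g x), Subgroup.subset_closure ⟨φ.symm (swap x (φ g x)), ⟨?_, ?_⟩, φ.apply_symm_apply _⟩⟩, ?_⟩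
        · exact hsw' _ ⟨x, _, Ne.symm hx, rfl⟩
        · rw [φ.apply_symm_apply, swap_apply_of_ne_of_ne hxne.symm hgne.symm]
        · exact swap_apply_left x (φ g x)
    rw [show φ '' S = φ.toMonoidHom '' S from rfl, ← MonoidHom.map_closure] at h1
    obtain ⟨y, hy, hyg⟩ := h1
    exact φ.injective hyg ▸ hy
  have hnotr : ¬ IsPretransitive H Ω := by
    intro hp
    haveI : IsPretransitive (Subgroup.closure S) Ω := hgen ▸ hp
    have htop := _root_.closure_of_isSwap_of_isPretransitive (S := S) (fun s hs => hs.1)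
    rw [← hgen] at htop
    rw [htop, Subgroup.index_top] at hH
    omega
  set O := orbit H a with hO
  have hinv : ∀ h ∈ H, ∀ x ∈ O, h x ∈ O := fun h hh x hx => mem_orbit_of_mem_orbit (⟨h, hh⟩ : H) hx
  have hinv' : ∀ h ∈ H, ∀ x ∈ Oᶜ, h x ∈ Oᶜ := fun h hh x hx hm => hx (by
    have := hinv h⁻¹ (inv_mem hh) _ hm
    simpa using this)
  have hOne : O ≠ Set.univ := fun h => hnotr (isPretransitive_iff_orbit_eq_univ a |>.2 h)
  have hk := Nat.le_of_dvd (by omega) (hH ▸ le_stabilizer_of_invariant hinv (k := O.ncard) rfl)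
  have hpos : 0 < O.ncard := (Set.ncard_pos (Set.toFinite _)).2 ⟨a, mem_orbit_self a⟩
  have hsum : O.ncard + Oᶜ.ncard = n := by
    rw [hn, ← Nat.card_eq_fintype_card, Set.ncard_add_ncard_compl]
  have hpos' : 0 < Oᶜ.ncard := (Set.ncard_pos (Set.toFinite _)).2 (Set.nonempty_compl.2 hOne)
  by_cases h2 : 2 ≤ O.ncard ∧ O.ncard + 2 ≤ n
  · exact absurd (two_le_choose_gt h2.1 h2.2) (not_lt.2 hk)
  rcases (show O.ncard = 1 ∨ Oᶜ.ncard = 1 by omega) with h | h
  all_goals
    obtain ⟨b, hb⟩ := Set.ncard_eq_one.1 h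
    refine ⟨b, hfix b fun g hg => mem_stabilizer_iff.2 ?_⟩
  · have := hinv g hg b (by rw [hb]; rfl)
    rw [hb] at this; exact this
  · have := hinv' g hg b (by rw [hb]; rfl)
    rw [hb] at this; exact this


theorem eq_stabilizer_of_index (h6 : Fintype.card Ω ≠ 6) (H : Subgroup (Perm Ω))
    (hH : H.index = Fintype.card Ω) : ∃ x : Ω, H = stabilizer (Perm Ω) x := by
  classical
  set n := Fintype.card Ω with hn
  have hn0 : n ≠ 0 := hH ▸ Subgroup.index_ne_zero_of_finite
  obtain ⟨a⟩ : Nonempty Ω := Fintype.card_pos_iff.1 (by omega)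
  have hcardH : Nat.card H * n = n ! := by
    rw [← hH, Subgroup.card_mul_index, Nat.card_perm, Nat.card_eq_fintype_card, hH]
  have hstab : ∀ b : Ω, (stabilizer (Perm Ω) b).index = n := fun b => by
    rw [index_stabilizer_of_transitive, Nat.card_eq_fintype_card]
  have hfix : ∀ b : Ω, H ≤ stabilizer (Perm Ω) b → H = stabilizer (Perm Ω) b := fun b hb => by
    refine le_antisymm hb ((Subgroup.relIndex_eq_one).1 ?_)
    have h1 := Subgroup.relIndex_mul_index hb
    rw [hstab, hH] at h1
    exact (mul_eq_right₀ hn0).1 h1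
  rcases Nat.lt_or_ge n 3 with h3 | h3
  · refine ⟨a, hfix a fun h hh => ?_⟩
    have hc : Nat.card H = 1 := by
      obtain h | h : n = 1 ∨ n = 2 := by omega
      · rw [h, show Nat.factorial 1 = 1 from rfl] at hcardH; omega
      · rw [h, show Nat.factorial 2 = 2 from rfl] at hcardH; omega
    rw [Subgroup.eq_bot_of_card_eq H hc, Subgroup.mem_bot] at hh
    rw [hh]; exact one_mem _
  -- faithful action on the cosets
  have hcore : H.normalCore = ⊥ := by
    set N := H.normalCore with hN
    rcases Nat.lt_or_ge n 5 with h5 | h5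
    · refine (Subgroup.eq_bot_iff_forall _).2 fun z hz => eq_one_of_central h3 fun g => ?_
      have hdvd : Nat.card N ∣ Nat.card H := Subgroup.card_dvd_of_le H.normalCore_le
      have hHc : n = 3 ∧ Nat.card H = 2 ∨ n = 4 ∧ Nat.card H = 6 := by
        obtain h | h : n = 3 ∨ n = 4 := by omega
        all_goals rw [h] at hcardH
        · rw [show Nat.factorial 3 = 6 from rfl] at hcardH
          exact Or.inl ⟨h, by omega⟩
        · rw [show Nat.factorial 4 = 24 from rfl] at hcardH
          exact Or.inr ⟨h, by omega⟩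
      have hle : Nat.card N ≤ 2 := by
        rcases hHc with ⟨-, h⟩ | ⟨h4, h⟩
        · exact Nat.le_of_dvd (by norm_num) (h ▸ hdvd)
        · rw [h] at hdvd
          have : Nat.card N ∈ Nat.divisors 6 := Nat.mem_divisors.2 ⟨hdvd, by norm_num⟩
          rw [show Nat.divisors 6 = {1, 2, 3, 6} by decide] at this
          simp only [Finset.mem_insert, Finset.mem_singleton] at this
          by_contra hgt
          haveI : Fact (Nat.Prime 3) := ⟨Nat.prime_three⟩
          obtain ⟨y, hy⟩ := exists_prime_orderOf_dvd_card' (G := N) 3 (by omega)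
          rw [← Subgroup.orderOf_coe] at hy
          have hy1 : (y : Perm Ω).IsThreeCycle := by
            obtain ⟨j, hj⟩ := Perm.cycleType_prime_order (hy ▸ Nat.prime_three)
            have hs := Finset.card_le_univ (y : Perm Ω).support
            rw [← Perm.sum_cycleType, hj, hy, Multiset.sum_replicate, smul_eq_mul, ← hn, h4] at hs
            obtain rfl : j = 0 := by omega
            rw [Perm.IsThreeCycle, hj, hy]; rfl
          have hall : {σ : Perm Ω | σ.IsThreeCycle} ⊆ (N : Set (Perm Ω)) := by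
            intro σ hσ
            obtain ⟨c, rfl⟩ := isConj_iff.1 (Perm.isConj_of_cycleType_eq (hy1.trans hσ.symm) : IsConj (y : Perm Ω) σ)
            exact H.normalCore_normal.conj_mem _ y.2 c
          have hA := (Perm.closure_three_cycles_eq_alternating (α := Ω)) ▸ (Subgroup.closure_le _).2 hall
          haveI : Nontrivial Ω := Fintype.one_lt_card_iff_nontrivial.1 (by omega)
          have h12 := Subgroup.card_dvd_of_le (hA.trans H.normalCore_le)
          have := two_mul_nat_card_alternatingGroup (α := Ω)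
          rw [Nat.card_perm, show Nat.card Ω = 4 by rw [Nat.card_eq_fintype_card, ← hn, h4]] at this
          rw [show Nat.factorial 4 = 24 from rfl] at this
          rw [h] at h12
          have := Nat.le_of_dvd (by norm_num) h12
          omega
      by_cases hz1 : z = 1
      · subst hz1; simp
      have h1 : g * z * g⁻¹ = z := by
        by_contra hne
        have hg1 : g * z * g⁻¹ ≠ 1 := fun h => hz1 (by simpa [mul_inv_eq_one] using h)
        have hsub : ({1, z, g * z * g⁻¹} : Set (Perm Ω)) ⊆ (N : Set (Perm Ω)) := by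
          rintro x (rfl | rfl | rfl)
          · exact one_mem N
          · exact hz
          · exact H.normalCore_normal.conj_mem z hz g
        have h2 := Set.ncard_le_ncard hsub (Set.toFinite _)
        rw [Set.ncard_eq_three.2 ⟨1, z, g * z * g⁻¹, Ne.symm hz1, Ne.symm hg1, Ne.symm hne, rfl⟩,
          show (N : Set (Perm Ω)).ncard = Nat.card N from (Nat.card_coe_set_eq _).symm] at h2
        omega
      exact mul_inv_eq_iff_eq_mul.1 h1
    · rcases normal_cases h5 N with h | h
      · exact h
      · exfalso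
        haveI : Nontrivial Ω := Fintype.one_lt_card_iff_nontrivial.1 (by omega)
        have := Nat.le_of_dvd (by norm_num) (alternatingGroup.index_eq_two (α := Ω) ▸
          Subgroup.index_dvd_of_le (h.trans H.normalCore_le))
        omega
  obtain ⟨e⟩ : Nonempty ((Perm Ω ⧸ H) ≃ Ω) :=
    ⟨(Finite.equivFinOfCardEq (by rw [← Subgroup.index_eq_card, hH])).trans (Fintype.equivFin Ω).symm⟩
  set f : Perm Ω →* Perm Ω :=
    e.permCongrHom.toMonoidHom.comp (MulAction.toPermHom (Perm Ω) (Perm Ω ⧸ H)) with hf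
  have hinj : Function.Injective f := by
    refine (e.permCongrHom.injective).comp ?_
    rw [← MonoidHom.ker_eq_bot_iff, ← Subgroup.normalCore_eq_ker, hcore]
  let φ : Perm Ω ≃* Perm Ω := MulEquiv.ofBijective f (Finite.injective_iff_bijective.1 hinj)
  set x0 : Ω := e ((1 : Perm Ω) : Perm Ω ⧸ H) with hx0
  have hmemH : ∀ g, g ∈ H ↔ φ g x0 = x0 := by
    intro g
    show _ ↔ e (g • e.symm x0) = x0
    rw [hx0, e.symm_apply_apply, e.apply_eq_iff_eq, MulAction.Quotient.smul_coe, smul_eq_mul, mul_one,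
      QuotientGroup.eq, mul_one, inv_mem_iff]
  exact eq_stabilizer_of_aut h3 hH φ (fun _ ht => isSwap_map h6 φ ht) (fun _ ht => isSwap_map h6 φ.symm ht) x0 hmemH

end Cfsg.Agent.Perm.IndexDegree
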