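/-
Subgroups of index six in the symmetric group of degree six.
-/
import Mathlib
import Cfsg.Agent.Lib.Perm.IndexDegree

set_option autoImplicit false
set_option linter.style.haveILetI false

namespace Cfsg.Agent.Perm.IndexSix

open Equiv MulAction Cfsg.Agent.Perm.IndexDegree
open scoped Pointwise

variable {Ω : Type*} [Fintype Ω] [DecidableEq Ω]

theorem core_eq_bot (h6 : Fintype.card Ω = 6) {H : Subgroup (Perm Ω)} (hH : H.index = 6) :
    H.normalCore = ⊥ := by
  rcases normal_cases (by omega) H.normalCore with h | h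
  · exact h
  · exfalso
    haveI : Nontrivial Ω := Fintype.one_lt_card_iff_nontrivial.1 (by omega)
    have h1 := Nat.le_of_dvd (by norm_num) (alternatingGroup.index_eq_two (α := Ω) ▸
      Subgroup.index_dvd_of_le (h.trans H.normalCore_le))
    omega

theorem exists_aut (h6 : Fintype.card Ω = 6) {H : Subgroup (Perm Ω)} (hH : H.index = 6) :
    ∃ (φ : Perm Ω ≃* Perm Ω) (x : Ω), ∀ g, g ∈ H ↔ φ g x = x := by
  obtain ⟨e⟩ : Nonempty ((Perm Ω ⧸ H) ≃ Ω) :=
    ⟨(Finite.equivFinOfCardEq (by rw [← Subgroup.index_eq_card, hH])).trans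
      ((Fintype.equivFin Ω).trans (finCongr h6)).symm⟩
  set f : Perm Ω →* Perm Ω :=
    e.permCongrHom.toMonoidHom.comp (MulAction.toPermHom (Perm Ω) (Perm Ω ⧸ H)) with hf
  have hinj : Function.Injective f := by
    refine (e.permCongrHom.injective).comp ?_
    rw [← MonoidHom.ker_eq_bot_iff, ← Subgroup.normalCore_eq_ker, core_eq_bot h6 hH]
  refine ⟨MulEquiv.ofBijective f (Finite.injective_iff_bijective.1 hinj), e ((1 : Perm Ω) : Perm Ω ⧸ H),
    fun g => ?_⟩
  show _ ↔ e (g • e.symm (e ((1 : Perm Ω) : Perm Ω ⧸ H))) = e ((1 : Perm Ω) : Perm Ω ⧸ H)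
  rw [e.symm_apply_apply, e.apply_eq_iff_eq, MulAction.Quotient.smul_coe, smul_eq_mul, mul_one,
    QuotientGroup.eq, mul_one, inv_mem_iff]

/-- Transpositions go to transpositions or to products of three. -/
theorem cases_map (h6 : Fintype.card Ω = 6) (φ : Perm Ω ≃* Perm Ω) {t : Perm Ω}
    (ht : t.cycleType = {2} ∨ t.cycleType = {2, 2, 2}) :
    (φ t).cycleType = {2} ∨ (φ t).cycleType = {2, 2, 2} := by
  haveI : Fact (Nat.Prime 2) := ⟨Nat.prime_two⟩
  have h2 : t ^ 2 = 1 :=
    Perm.pow_prime_eq_one_iff.2 fun c hc => by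
      rcases ht with h | h <;> rw [h] at hc <;> simpa using hc
  have hφ : (φ t).cycleType = Multiset.replicate (φ t).cycleType.card 2 :=
    Perm.cycleType_of_pow_prime_eq_one (by rw [← map_pow, h2, map_one])
  set k := (φ t).cycleType.card with hk
  have hcen : Nat.card (Subgroup.centralizer ({t} : Set (Perm Ω))) =
      Nat.card (Subgroup.centralizer ({φ t} : Set (Perm Ω))) :=
    Nat.card_congr (φ.toEquiv.subtypeEquiv fun x => by
      simp only [Subgroup.mem_centralizer_singleton_iff, MulEquiv.toEquiv_eq_coe, EquivLike.coe_coe,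
        ← map_mul, φ.injective.eq_iff])
  have h48 : Nat.card (Subgroup.centralizer ({t} : Set (Perm Ω))) = 48 := by
    rcases ht with h | h <;> rw [Perm.nat_card_centralizer, h, h6] <;> rfl
  rw [h48, Perm.nat_card_centralizer, hφ, h6] at hcen
  have hsum : 2 * k ≤ 6 := by
    have := Finset.card_le_univ (φ t).support
    rw [← Perm.sum_cycleType, hφ, Multiset.sum_replicate, smul_eq_mul, h6] at this
    omega
  rcases (show k = 0 ∨ k = 1 ∨ k = 2 ∨ k = 3 by omega) with h | h | h | h <;> rw [h] at hcen hφ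
  · exfalso; revert hcen; decide
  · exact Or.inl hφ
  · exfalso; revert hcen; decide
  · exact Or.inr hφ

theorem cycleType_swap {t : Perm Ω} (ht : t.IsSwap) : t.cycleType = {2} := by
  rw [ht.isCycle.cycleType, Perm.card_support_eq_two.2 ht]

theorem isSwap_of_cycleType {t : Perm Ω} (ht : t.cycleType = {2}) : t.IsSwap := by
  rw [← Perm.card_support_eq_two, ← Perm.sum_cycleType, ht]
  rfl

theorem triple_ne : ({2} : Multiset ℕ) ≠ {2, 2, 2} := by decide

theorem isSwap_map_iff (φ : Perm Ω ≃* Perm Ω) {s t : Perm Ω} (h : s.cycleType = t.cycleType) :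
    (φ s).cycleType = (φ t).cycleType :=
  Perm.isConj_iff_cycleType_eq.1 (φ.toMonoidHom.map_isConj (Perm.isConj_iff_cycleType_eq.2 h))

/-- An automorphism preserves transpositions as soon as it does so for one of them. -/
def Pres (φ : Perm Ω ≃* Perm Ω) : Prop := ∀ t : Perm Ω, t.IsSwap → (φ t).IsSwap

theorem exotic_map (h6 : Fintype.card Ω = 6) {φ : Perm Ω ≃* Perm Ω} (h : ¬ Pres φ) {t : Perm Ω}
    (ht : t.IsSwap) : (φ t).cycleType = {2, 2, 2} := by
  simp only [Pres, not_forall] at h
  obtain ⟨s, hs, hns⟩ := h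
  refine (cases_map h6 φ (Or.inl (cycleType_swap ht))).resolve_left fun h1 => hns (isSwap_of_cycleType ?_)
  rw [← h1]
  exact isSwap_map_iff φ ((cycleType_swap hs).trans (cycleType_swap ht).symm)

theorem Pres.symm (h6 : Fintype.card Ω = 6) {φ : Perm Ω ≃* Perm Ω} (h : Pres φ) : Pres φ.symm := by
  intro t ht
  refine isSwap_of_cycleType ((cases_map h6 φ.symm (Or.inl (cycleType_swap ht))).resolve_right fun h1 => ?_)
  have h2 := isSwap_map_iff φ.symm ((cycleType_swap (h t ht)).trans (cycleType_swap ht).symm)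
  rw [φ.symm_apply_apply, h1, cycleType_swap ht] at h2
  exact triple_ne h2

theorem pres_trans (h6 : Fintype.card Ω = 6) {φ ψ : Perm Ω ≃* Perm Ω} (hφ : ¬ Pres φ) (hψ : ¬ Pres ψ) :
    Pres (φ.symm.trans ψ) := by
  intro t ht
  show (ψ (φ.symm t)).IsSwap
  have hu : (φ.symm t).cycleType = {2, 2, 2} :=
    (cases_map h6 φ.symm (Or.inl (cycleType_swap ht))).resolve_left fun h1 => by
      have h2 := exotic_map h6 hφ (isSwap_of_cycleType h1)
      rw [φ.apply_symm_apply, cycleType_swap ht] at h2
      exact triple_ne h2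
  refine isSwap_of_cycleType ((cases_map h6 ψ (Or.inr hu)).resolve_right fun h1 => ?_)
  have h2 := exotic_map h6 hψ ht
  have h3 := isSwap_map_iff ψ.symm (h1.trans h2.symm)
  rw [ψ.symm_apply_apply, ψ.symm_apply_apply, hu, cycleType_swap ht] at h3
  exact triple_ne h3.symm

theorem stabilizer_map_conj (g : Perm Ω) (a : Ω) :
    (stabilizer (Perm Ω) a).map (MulAut.conj g).toMonoidHom = stabilizer (Perm Ω) (g a) := by
  rw [← Perm.smul_def, stabilizer_smul_eq_stabilizer_map_conj]

omit [DecidableEq Ω] in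
theorem exists_transitive (h6 : Fintype.card Ω = 6) :
    ∃ H : Subgroup (Perm Ω), H.index = 6 ∧ ∀ a b : Ω, ∃ h ∈ H, h a = b := by
  haveI : Fact (Nat.Prime 5) := ⟨by norm_num⟩
  have hPerm : Nat.card (Perm (Fin 5)) = 120 := by
    rw [Nat.card_perm, Nat.card_eq_fintype_card, Fintype.card_fin]; rfl
  obtain ⟨P⟩ : Nonempty (Sylow 5 (Perm (Fin 5))) := inferInstance
  have hPcard : Nat.card P = 5 := by
    rw [P.card_eq_multiplicity, hPerm]
    have h : (120 : ℕ).factorization 5 = 1 := by
      refine le_antisymm ?_ ((Nat.Prime.dvd_iff_one_le_factorization (by norm_num) (by norm_num)).1 (by norm_num))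
      by_contra hc
      have h25 : 5 ^ 2 ∣ 120 :=
        ((Nat.Prime.pow_dvd_iff_le_factorization (by norm_num) (by norm_num)).2 (by omega))
      norm_num at h25
    rw [h, pow_one]
  have hPidx : P.index = 24 := by
    have := Subgroup.card_mul_index (P : Subgroup (Perm (Fin 5)))
    rw [hPerm, hPcard] at this
    omega
  have hdvd := P.card_dvd_index
  rw [hPidx] at hdvd
  have hmod := card_sylow_modEq_one 5 (Perm (Fin 5))
  have hne1 : Nat.card (Sylow 5 (Perm (Fin 5))) ≠ 1 := by
    intro h1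
    haveI : Subsingleton (Sylow 5 (Perm (Fin 5))) := (Nat.card_eq_one_iff_unique.1 h1).1
    haveI : (P : Subgroup (Perm (Fin 5))).Normal := P.normal_of_subsingleton
    rcases normal_cases (by simp) (P : Subgroup (Perm (Fin 5))) with h | h
    · rw [show Nat.card P = Nat.card (P : Subgroup (Perm (Fin 5))) from rfl, h, Subgroup.card_bot] at hPcard
      omega
    · have h3 := Subgroup.card_dvd_of_le h
      have h4 := two_mul_nat_card_alternatingGroup (α := Fin 5)
      rw [hPerm] at h4
      rw [show Nat.card (P : Subgroup (Perm (Fin 5))) = 5 from hPcard] at h3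
      have := Nat.le_of_dvd (by norm_num) h3
      omega
  have hn6 : Nat.card (Sylow 5 (Perm (Fin 5))) = 6 := by
    have hle := Nat.le_of_dvd (by norm_num) hdvd
    have hpos : 0 < Nat.card (Sylow 5 (Perm (Fin 5))) := Nat.card_pos
    rw [Nat.ModEq] at hmod
    generalize Nat.card (Sylow 5 (Perm (Fin 5))) = N at *
    interval_cases N <;> omega
  obtain ⟨e⟩ : Nonempty (Sylow 5 (Perm (Fin 5)) ≃ Ω) :=
    ⟨(Finite.equivFinOfCardEq hn6).trans ((Fintype.equivFin Ω).trans (finCongr h6)).symm⟩
  set f : Perm (Fin 5) →* Perm Ω :=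
    e.permCongrHom.toMonoidHom.comp (MulAction.toPermHom (Perm (Fin 5)) (Sylow 5 (Perm (Fin 5)))) with hf
  have htrans : ∀ a b : Ω, ∃ h ∈ f.range, h a = b := fun a b => by
    obtain ⟨g, hg⟩ := MulAction.exists_smul_eq (Perm (Fin 5)) (e.symm a) (e.symm b)
    refine ⟨f g, ⟨g, rfl⟩, ?_⟩
    show e (g • e.symm a) = b
    rw [hg, e.apply_symm_apply]
  refine ⟨f.range, ?_, htrans⟩
  have hker : f.ker = ⊥ := by
    rcases normal_cases (by simp) f.ker with h | h
    · exact h
    · exfalso
      have h1 : f.ker.index ≤ 2 := Nat.le_of_dvd (by norm_num)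
        (alternatingGroup.index_eq_two (α := Fin 5) ▸ Subgroup.index_dvd_of_le h)
      rw [Subgroup.index_ker] at h1
      obtain ⟨a⟩ : Nonempty Ω := Fintype.card_pos_iff.1 (by omega)
      have h2 : Nat.card Ω ≤ Nat.card f.range :=
        Nat.card_le_card_of_surjective (fun h : f.range => (h : Perm Ω) a) fun b => by
          obtain ⟨h, hh, hab⟩ := htrans a b; exact ⟨⟨h, hh⟩, hab⟩
      rw [Nat.card_eq_fintype_card, h6] at h2
      omega
  have h2 := Subgroup.card_mul_index f.range
  rw [← Nat.card_congr (MonoidHom.ofInjective ((MonoidHom.ker_eq_bot_iff f).1 hker)).toEquiv, hPerm,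
    Nat.card_perm, Nat.card_eq_fintype_card, h6, show Nat.factorial 6 = 720 from rfl] at h2
  omega

theorem not_conj_stabilizer (h6 : Fintype.card Ω = 6) {H : Subgroup (Perm Ω)}
    (ht : ∀ a b : Ω, ∃ h ∈ H, h a = b) (z : Ω) : H ≠ stabilizer (Perm Ω) z := by
  intro h
  obtain ⟨b, hb⟩ : ∃ b, b ≠ z := Fintype.exists_ne_of_one_lt_card (by omega) z
  obtain ⟨g, hg, hgb⟩ := ht z b
  rw [h, mem_stabilizer_iff, Perm.smul_def] at hg
  exact hb (hgb ▸ hg)

/-- The two classes. -/
theorem two_classes (h6 : Fintype.card Ω = 6) {H₂ : Subgroup (Perm Ω)} (hH₂ : H₂.index = 6)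
    (ht : ∀ a b : Ω, ∃ h ∈ H₂, h a = b) {H : Subgroup (Perm Ω)} (hH : H.index = 6) :
    (∃ z : Ω, H = stabilizer (Perm Ω) z) ∨ ∃ g : Perm Ω, H₂.map (MulAut.conj g).toMonoidHom = H := by
  obtain ⟨φ, x, hφ⟩ := exists_aut h6 hH
  obtain ⟨φ₂, x₂, hφ₂⟩ := exists_aut h6 hH₂
  by_cases hP : Pres φ
  · exact Or.inl (eq_stabilizer_of_aut (by omega) (h6 ▸ hH) φ hP (Pres.symm h6 hP) x hφ)
  right
  have hP₂ : ¬ Pres φ₂ := fun hP₂ => by
    obtain ⟨z, hz⟩ := eq_stabilizer_of_aut (by omega) (h6 ▸ hH₂) φ₂ hP₂ (Pres.symm h6 hP₂) x₂ hφ₂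
    exact not_conj_stabilizer h6 ht z hz
  set θ : Perm Ω ≃* Perm Ω := φ.symm.trans φ₂ with hθ
  have hθP : Pres θ := pres_trans h6 hP hP₂
  set K : Subgroup (Perm Ω) := H₂.map φ.toMonoidHom with hK
  have hKidx : K.index = Fintype.card Ω := by
    rw [hK, h6]
    exact (Subgroup.index_map_equiv H₂ φ).trans hH₂
  obtain ⟨z, hz⟩ := eq_stabilizer_of_aut (by omega) hKidx θ hθP (Pres.symm h6 hθP) x₂ (fun g => by
    rw [hK, Subgroup.mem_map_equiv, hφ₂]; rfl)
  refine ⟨φ.symm (swap x z), ?_⟩
  ext g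
  rw [Subgroup.mem_map_equiv, MulAut.conj_symm_apply, hφ]
  have h1 : ∀ y, y ∈ H₂ ↔ φ y z = z := fun y => by
    rw [← Perm.smul_def, ← mem_stabilizer_iff, ← hz, hK]
    exact (Subgroup.mem_map_iff_mem φ.injective).symm
  rw [h1, map_mul, map_mul, map_inv, φ.apply_symm_apply, Perm.mul_apply, Perm.mul_apply,
    swap_inv, swap_apply_right]
  constructor
  · intro h
    apply (swap x z).injective
    rw [h, swap_apply_left]
  · intro h
    rw [h, swap_apply_left]

theorem mulEquiv_perm_five (h6 : Fintype.card Ω = 6) {H : Subgroup (Perm Ω)} (hH : H.index = 6) :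
    Nonempty (H ≃* Perm (Fin 5)) := by
  obtain ⟨φ, x, hφ⟩ := exists_aut h6 hH
  have hmap : H.map φ.toMonoidHom = stabilizer (Perm Ω) x := by
    ext g
    rw [Subgroup.mem_map_equiv, hφ, φ.apply_symm_apply, mem_stabilizer_iff, Perm.smul_def]
  have hc : Fintype.card {y // y ≠ x} = 5 := by
    rw [Fintype.card_subtype_compl, Fintype.card_subtype_eq, h6]
  let E : stabilizer (Perm Ω) x ≃* Perm {y // y ≠ x} :=
    { toFun := fun g => (g : Perm Ω).subtypePerm fun y => by
        have hg : (g : Perm Ω) x = x := g.2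
        constructor
        · exact fun h h' => h (by rw [h', hg])
        · exact fun h h' => h ((g : Perm Ω).injective (h'.trans hg.symm))
      invFun := fun p => ⟨Perm.ofSubtype p, Perm.ofSubtype_apply_of_not_mem p (by simp)⟩
      left_inv := fun g => Subtype.ext (Perm.ofSubtype_subtypePerm _ fun y hy h => hy (by
        rw [h]; exact g.2))
      right_inv := fun p => Perm.subtypePerm_ofSubtype p
      map_mul' := fun g h => rfl }
  exact ⟨((H.equivMapOfInjective φ.toMonoidHom φ.injective).trans (MulEquiv.subgroupCongr hmap)).trans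
    (E.trans ((Fintype.equivFinOfCardEq hc).permCongrHom))⟩

set_option maxHeartbeats 400000 in
theorem natCard_eq_twelve (h6 : Fintype.card Ω = 6) :
    Nat.card {H : Subgroup (Perm Ω) // H.index = 6} = 12 := by
  classical
  obtain ⟨H₂, hH₂, ht⟩ := exists_transitive h6
  have hN : (Subgroup.normalizer (H₂ : Set (Perm Ω))).index = 6 := by
    set N := Subgroup.normalizer (H₂ : Set (Perm Ω)) with hNdef
    have hle : H₂ ≤ N := Subgroup.le_normalizer
    have hdvd : N.index ∣ 6 := hH₂ ▸ Subgroup.index_dvd_of_le hle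
    haveI : Nontrivial Ω := Fintype.one_lt_card_iff_nontrivial.1 (by omega)
    have hnetop : N ≠ ⊤ := fun h => by
      have hn : H₂.Normal := Subgroup.normalizer_eq_top_iff.1 h
      have h1 := core_eq_bot h6 hH₂
      rw [Subgroup.normalCore_eq_self H₂] at h1
      rw [h1, Subgroup.index_bot, Nat.card_perm, Nat.card_eq_fintype_card, h6] at hH₂
      exact absurd hH₂ (by decide)
    have hneA : N ≠ alternatingGroup Ω := fun h => by
      have hn : (H₂.subgroupOf N).Normal := Subgroup.normal_in_normalizer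
      have hA : H₂ ≤ alternatingGroup Ω := h ▸ hle
      rw [h] at hn
      have h3 := Subgroup.relIndex_mul_index hA
      rw [alternatingGroup.index_eq_two, hH₂] at h3
      rcases alternatingGroup.normal_subgroup_eq_bot_or_eq_top (α := Ω) (by rw [Nat.card_eq_fintype_card]; omega)
          (N := H₂.subgroupOf (alternatingGroup Ω)) with h' | h'
      · rw [Subgroup.relIndex, h', Subgroup.index_bot] at h3
        have h4 := two_mul_nat_card_alternatingGroup (α := Ω)
        rw [Nat.card_perm, show Nat.card Ω = 6 by rw [Nat.card_eq_fintype_card, h6],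
          show Nat.factorial 6 = 720 from rfl] at h4
        omega
      · rw [Subgroup.relIndex, h', Subgroup.index_top] at h3
        omega
    have hge := index_ge (by omega) hnetop hneA
    rw [h6] at hge
    exact le_antisymm (Nat.le_of_dvd (by norm_num) hdvd) hge
  have hsmul : ∀ g : ConjAct (Perm Ω),
      g • H₂ = H₂.map (MulAut.conj (ConjAct.ofConjAct g)).toMonoidHom := fun g => Subgroup.ext fun x => by
    rw [Subgroup.mem_pointwise_smul_iff_inv_smul_mem, ConjAct.smul_def, Subgroup.mem_map_equiv,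
      MulAut.conj_symm_apply, ConjAct.ofConjAct_inv, inv_inv]
  have hset : {H : Subgroup (Perm Ω) | H.index = 6} =
      Set.range (fun z : Ω => stabilizer (Perm Ω) z) ∪
        MulAction.orbit (ConjAct (Perm Ω)) H₂ := by
    ext H
    constructor
    · intro hH
      rcases two_classes h6 hH₂ ht hH with ⟨z, rfl⟩ | ⟨g, rfl⟩
      · exact Or.inl ⟨z, rfl⟩
      · exact Or.inr ⟨ConjAct.toConjAct g, by simp only [hsmul, ConjAct.ofConjAct_toConjAct]⟩
    · rintro (⟨z, rfl⟩ | ⟨g, rfl⟩)
      · show (stabilizer (Perm Ω) z).index = 6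
        rw [index_stabilizer_of_transitive, Nat.card_eq_fintype_card, h6]
      · simp only [Set.mem_ofPred_eq, hsmul]
        exact (Subgroup.index_map_of_bijective (f := (MulAut.conj (ConjAct.ofConjAct g)).toMonoidHom)
          (MulEquiv.bijective (MulAut.conj (ConjAct.ofConjAct g))) H₂).trans hH₂
  have hdisj : Disjoint (Set.range (fun z : Ω => stabilizer (Perm Ω) z))
      (MulAction.orbit (ConjAct (Perm Ω)) H₂) := by
    rw [Set.disjoint_left]
    rintro _ ⟨z, rfl⟩ ⟨g, hg⟩
    have h1 : H₂.map (MulAut.conj (ConjAct.ofConjAct g)).toMonoidHom = stabilizer (Perm Ω) z :=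
      (hsmul g).symm.trans hg
    obtain ⟨w, hw⟩ : ∃ w, ConjAct.ofConjAct g w = z := ⟨_, (ConjAct.ofConjAct g).apply_symm_apply z⟩
    rw [← hw, ← stabilizer_map_conj] at h1
    exact not_conj_stabilizer h6 ht w (Subgroup.map_injective (MulEquiv.injective _) h1)
  have horb : (MulAction.orbit (ConjAct (Perm Ω)) H₂).ncard = 6 := by
    rw [← MulAction.index_stabilizer, ← hN, show stabilizer (ConjAct (Perm Ω)) H₂ =
      (Subgroup.normalizer (H₂ : Set (Perm Ω))).comap
        (ConjAct.ofConjAct : ConjAct (Perm Ω) ≃* Perm Ω).toMonoidHom from ?_]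
    · exact Subgroup.index_comap_of_surjective _ ConjAct.ofConjAct.surjective
    ext g
    rw [Subgroup.mem_comap, mem_stabilizer_iff, SetLike.ext_iff, Subgroup.mem_normalizer_iff]
    constructor
    · intro h x
      have h2 := h (ConjAct.ofConjAct g * x * (ConjAct.ofConjAct g)⁻¹)
      rw [Subgroup.mem_pointwise_smul_iff_inv_smul_mem, ConjAct.smul_def] at h2
      simpa [mul_assoc] using h2
    · intro h x
      rw [Subgroup.mem_pointwise_smul_iff_inv_smul_mem, ConjAct.smul_def, h]
      simp [mul_assoc]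
  have hrange : (Set.range (fun z : Ω => stabilizer (Perm Ω) z)).ncard = 6 := by
    rw [Set.ncard_range_of_injective, Nat.card_eq_fintype_card, h6]
    intro z w h
    by_contra hne
    obtain ⟨c, -, hc⟩ := Finset.exists_mem_notMem_of_card_lt_card
      (show ({z, w} : Finset Ω).card < (Finset.univ : Finset Ω).card by
        rw [Finset.card_univ, h6]; exact lt_of_le_of_lt Finset.card_le_two (by norm_num))
    simp only [Finset.mem_insert, Finset.mem_singleton, not_or] at hc
    have h1 : swap w c ∈ stabilizer (Perm Ω) z :=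
      mem_stabilizer_iff.2 (swap_apply_of_ne_of_ne hne (Ne.symm hc.1))
    rw [show stabilizer (Perm Ω) z = stabilizer (Perm Ω) w from h, mem_stabilizer_iff, Perm.smul_def,
      swap_apply_left] at h1
    exact hc.2 h1
  rw [show Nat.card {H : Subgroup (Perm Ω) // H.index = 6} = {H : Subgroup (Perm Ω) | H.index = 6}.ncard from
    Nat.card_coe_set_eq _, hset, Set.ncard_union_eq hdisj, hrange, horb]

end Cfsg.Agent.Perm.IndexSix
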