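import Mathlib
import Cfsg.Agent.Lib.Components.Basic
import Cfsg.Agent.Lib.Components.Fitting
import Cfsg.Agent.S1265
import Cfsg.Agent.S4291

/-!
# Permutation groups with a 3-cycle and quasisimple generalized Fitting subgroup

Such a group has generalized Fitting subgroup the alternating group of a point set, and all its
3-cycles are supported on that set.
-/

namespace Cfsg.Agent.Perm.ThreeCycleFStar

open Equiv MulAction Subgroup
open scoped Pointwise Classical

variable {α : Type*} [Fintype α] [DecidableEq α] (H : Subgroup (Perm α))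

noncomputable local instance fintypeSet (s : Set α) : Fintype s :=
  @Subtype.fintype α (Membership.mem s) (fun _ => Classical.propDecidable _) _

theorem isSolvable_perm_of_card_le_four {β : Type*} [Finite β] (h : Nat.card β ≤ 4) :
    Group.IsSolvable (Perm β) := by
  haveI := Fintype.ofFinite β
  obtain ⟨ι⟩ : Nonempty (β ↪ Fin 4) := Function.Embedding.nonempty_of_card_le (by
    rw [← Nat.card_eq_fintype_card, Fintype.card_fin]; exact h)
  haveI := Cfsg.Agent.S4291.isSolvable_perm_four
  exact solvable_of_solvable_injective (Perm.viaEmbeddingHom_injective ι)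

/-- The subgroup of `H` generated by its 3-cycles. -/
def N : Subgroup H := closure {t : H | (t : Perm α).IsThreeCycle}

instance : (N H).Normal := by
  have h : (N H) = normalClosure {t : H | (t : Perm α).IsThreeCycle} := by
    refine le_antisymm closure_le_normalClosure ?_
    apply Subgroup.closure_mono
    intro x hx
    obtain ⟨t, ht, htx⟩ := Group.mem_conjugatesOfSet_iff.1 hx
    obtain ⟨g, rfl⟩ := isConj_iff.1 htx
    show ((g * t * g⁻¹ : H) : Perm α).IsThreeCycle
    have e : ((g * t * g⁻¹ : H) : Perm α) = (g : Perm α) * t * (g : Perm α)⁻¹ := by simp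
    rw [Perm.IsThreeCycle, e, Perm.cycleType_conj]
    exact ht
  rw [h]; exact normalClosure_normal

theorem mem_alternatingGroup_of_mem_N {u : H} (hu : u ∈ N H) :
    (u : Perm α) ∈ alternatingGroup α := by
  have : N H ≤ (alternatingGroup α).comap H.subtype := by
    refine (closure_le _).2 fun t ht => ?_
    exact Perm.IsThreeCycle.mem_alternatingGroup ht
  exact this hu

/-- The action of `N` on one of its orbits. -/
def act (x : α) : N H →* Perm (orbit (N H) x) := MulAction.toPermHom (N H) (orbit (N H) x)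

theorem act_apply (x : α) (u : N H) (y : orbit (N H) x) :
    ((act H x u y : orbit (N H) x) : α) = ((u : H) : Perm α) y := rfl

/-- Pointwise stabiliser in `N` of the complement of an orbit. -/
def M (x : α) : Subgroup H :=
  N H ⊓ fixingSubgroup H ((orbit (N H) x)ᶜ : Set α)

theorem mem_M {x : α} {u : H} :
    u ∈ M H x ↔ u ∈ N H ∧ ∀ y, y ∉ orbit (N H) x → (u : Perm α) y = y := by
  simp [M, mem_fixingSubgroup_iff, Subgroup.smul_def]

theorem mapsTo_orbit {x : α} {u : H} (hu : u ∈ N H) {y : α} (hy : y ∈ orbit (N H) x) :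
    (u : Perm α) y ∈ orbit (N H) x := by
  rw [← orbit_eq_iff.2 hy]
  exact ⟨⟨u, hu⟩, rfl⟩

theorem apply_mem_orbit_iff {x : α} {u : H} (hu : u ∈ N H) {y : α} :
    (u : Perm α) y ∈ orbit (N H) x ↔ y ∈ orbit (N H) x := by
  refine ⟨fun h => ?_, mapsTo_orbit H hu⟩
  simpa using mapsTo_orbit H (inv_mem hu) h

theorem M_normal_in_N {x : α} {u v : H} (hu : u ∈ M H x) (hv : v ∈ N H) : v * u * v⁻¹ ∈ M H x := by
  rw [mem_M] at hu ⊢
  refine ⟨mul_mem (mul_mem hv hu.1) (inv_mem hv), fun y hy => ?_⟩
  have hy' : ((v : Perm α)⁻¹) y ∉ orbit (N H) x := fun h => hy (by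
    simpa using mapsTo_orbit H hv h)
  simp only [Subgroup.coe_mul, InvMemClass.coe_inv, Perm.mul_apply]
  rw [hu.2 _ hy']
  simp

theorem support_subset_orbit {x : α} {t : H} (ht : (t : Perm α).IsThreeCycle)
    {y : α} (hy : y ∈ orbit (N H) x) (hty : (t : Perm α) y ≠ y) :
    ((t : Perm α).support : Set α) ⊆ orbit (N H) x := by
  intro z hz
  obtain ⟨i, hi⟩ := ht.isCycle.exists_zpow_eq hty (Perm.mem_support.1 hz)
  rw [← orbit_eq_iff.2 hy]
  exact ⟨(⟨t, subset_closure ht⟩ : N H) ^ i, hi⟩

theorem act_support_card {x : α} {u : N H}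
    (hu : (((u : H) : Perm α).support : Set α) ⊆ orbit (N H) x) :
    (act H x u).support.card = ((u : H) : Perm α).support.card := by
  classical
  rw [← Finset.card_map (Function.Embedding.subtype _)]
  congr 1
  ext y
  simp only [Finset.mem_map, Perm.mem_support, Function.Embedding.coe_subtype]
  constructor
  · rintro ⟨a, ha, rfl⟩
    exact fun h => ha (Subtype.ext h)
  · intro hy
    exact ⟨⟨y, hu (Perm.mem_support.2 hy)⟩, fun h => hy (congrArg Subtype.val h), rfl⟩

/-- A transitive group generated by 3-cycles is primitive. -/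
theorem range_isPreprimitive (x : α) :
    IsPreprimitive (act H x).range (orbit (N H) x) := by
  classical
  haveI : IsPretransitive (act H x).range (orbit (N H) x) := ⟨fun a b => by
    obtain ⟨h, hh⟩ := exists_smul_eq (N H) a b
    exact ⟨⟨act H x h, h, rfl⟩, hh⟩⟩
  refine ⟨fun {B} hB => ?_⟩
  by_contra hnot
  simp only [IsTrivialBlock, not_or] at hnot
  obtain ⟨hns, hnu⟩ := hnot
  obtain ⟨b, hb, b', hb', hbb⟩ := Set.not_subsingleton_iff.1 hns
  -- every generator fixes every translate of `B`
  have key : N H ≤ Subgroup.map (N H).subtype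
      (Subgroup.comap (act H x) ((stabilizer (act H x).range B).map (Subgroup.subtype _))) := by
    refine (closure_le _).2 fun t ht => ?_
    let t' : N H := ⟨t, subset_closure ht⟩
    refine ⟨t', ?_, rfl⟩
    show act H x t' ∈ (stabilizer (act H x).range B).map (Subgroup.subtype _)
    refine ⟨⟨act H x t', t', rfl⟩, ?_, rfl⟩
    show (⟨act H x t', t', rfl⟩ : (act H x).range) ∈ stabilizer (act H x).range B
    rw [mem_stabilizer_iff]
    by_contra hmove
    set c : (act H x).range := ⟨act H x t', t', rfl⟩ with hc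
    have hdisj : ∀ y ∈ B, c • y ∉ B := by
      intro y hy hy'
      exact hmove (hB.smul_eq_of_nonempty ⟨c • y, Set.smul_mem_smul_set hy, hy'⟩)
    have hdisj2 : ∀ y ∈ B, c⁻¹ • y ∉ B := by
      intro y hy hy'
      apply hdisj _ hy'
      rwa [smul_inv_smul]
    have hsub : ∀ y ∈ B, (c • y) ≠ y := fun y hy h => hdisj y hy (h.symm ▸ hy)
    have hct : ∀ y : orbit (N H) x, ((c • y : orbit (N H) x) : α) = (t : Perm α) y := fun y => rfl
    have hmem : ∀ y ∈ B, (y : α) ∈ (t : Perm α).support := fun y hy =>
      Perm.mem_support.2 fun h => hsub y hy (Subtype.ext ((hct y).trans h))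
    have hmem' : ∀ y ∈ B, ((c • y : orbit (N H) x) : α) ∈ (t : Perm α).support := fun y hy => by
      rw [hct]; exact Perm.apply_mem_support.2 (hmem y hy)
    have h4 : ({(b : α), (b' : α), ((c • b : orbit (N H) x) : α),
        ((c • b' : orbit (N H) x) : α)} : Finset α) ⊆ (t : Perm α).support := by
      simp only [Finset.insert_subset_iff, Finset.singleton_subset_iff]
      exact ⟨hmem b hb, hmem b' hb', hmem' b hb, hmem' b' hb'⟩
    have := Finset.card_le_card h4
    have h1 : ∀ y ∈ B, ∀ z ∈ B, (y : α) ≠ ((c • z : orbit (N H) x) : α) := fun y hy z hz h =>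
      hdisj z hz (Subtype.ext h ▸ hy)
    have hbb' : (b : α) ≠ b' := fun h => hbb (Subtype.ext h)
    have hcb : ((c • b : orbit (N H) x) : α) ≠ (c • b' : orbit (N H) x) := fun h =>
      hbb (smul_left_cancel _ (Subtype.ext h))
    rw [Perm.IsThreeCycle.card_support ht, Finset.card_insert_of_notMem, Finset.card_insert_of_notMem,
      Finset.card_insert_of_notMem, Finset.card_singleton] at this
    · omega
    · simp [hcb]
    · simp [h1 b' hb' b hb, h1 b' hb' b' hb']
    · simp [hbb', h1 b hb b hb, h1 b hb b' hb']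
  apply hnu
  rw [Set.eq_univ_iff_forall]
  intro y
  obtain ⟨u, hu⟩ := exists_smul_eq (N H) b y
  obtain ⟨u', hu', hval⟩ := key u.2
  obtain ⟨c, hcB, hc⟩ := hu'
  have huu : u' = u := Subtype.ext hval
  rw [← mem_stabilizer_iff.1 hcB, ← hu]
  refine ⟨b, hb, ?_⟩
  show (c : Perm (orbit (N H) x)) b = u • b
  rw [← huu]
  exact congrFun (congrArg DFunLike.coe hc) b

theorem exists_mem_moving {x : α} (hx : ∃ u ∈ N H, (u : Perm α) x ≠ x) :
    ∃ t : H, (t : Perm α).IsThreeCycle ∧ (t : Perm α) x ≠ x := by
  by_contra h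
  push Not at h
  obtain ⟨u, hu, hux⟩ := hx
  have : N H ≤ stabilizer H x := (closure_le _).2 fun t ht => h t ht
  exact hux (this hu)

theorem alternating_le_range {x : α} {t : H} (ht : (t : Perm α).IsThreeCycle)
    (htx : (t : Perm α) x ≠ x) :
    ∃ s ∈ M H x, ∀ h : s ∈ N H, (act H x ⟨s, h⟩).IsThreeCycle ∧
      alternatingGroup (orbit (N H) x) ≤ (act H x).range := by
  classical
  have hsub := support_subset_orbit H ht (mem_orbit_self x) htx
  refine ⟨t, (mem_M H).2 ⟨subset_closure ht, fun y hy => ?_⟩, fun h => ?_⟩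
  · by_contra hy'
    exact hy (hsub (Perm.mem_support.2 hy'))
  · have h3 : (act H x ⟨t, h⟩).IsThreeCycle := by
      rw [← card_support_eq_three_iff, act_support_card H (u := ⟨t, h⟩) hsub]
      exact ht.card_support
    exact ⟨h3, Perm.alternatingGroup_le_of_isPreprimitive_of_isThreeCycle_mem
      (range_isPreprimitive H x) h3 ⟨_, rfl⟩⟩

/-- `M` is the alternating group of the orbit, when this has at least five points. -/
theorem M_equiv {x : α} {t : H} (ht : (t : Perm α).IsThreeCycle) (htx : (t : Perm α) x ≠ x)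
    (h5 : 5 ≤ Nat.card (orbit (N H) x)) :
    Nonempty (M H x ≃* alternatingGroup (orbit (N H) x)) := by
  classical
  obtain ⟨s, hs, hs'⟩ := alternating_le_range H ht htx
  have hMN : M H x ≤ N H := inf_le_left
  obtain ⟨hs3, hA⟩ := hs' (hMN hs)
  let f : M H x →* Perm (orbit (N H) x) := (act H x).comp (Subgroup.inclusion hMN)
  have hinj : Function.Injective f := by
    rw [injective_iff_map_eq_one]
    intro u hu
    apply Subtype.ext
    apply Subtype.ext
    ext y
    show ((u : H) : Perm α) y = y
    by_cases hy : y ∈ orbit (N H) x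
    · exact congrArg Subtype.val (Perm.congr_fun hu ⟨y, hy⟩)
    · exact ((mem_M H).1 u.2).2 y hy
  have hsign : f.range ≤ alternatingGroup (orbit (N H) x) := by
    rintro _ ⟨u, rfl⟩
    rw [Perm.mem_alternatingGroup]
    have h1 : Perm.ofSubtype (f u) = ((u : H) : Perm α) := by
      ext y
      by_cases hy : y ∈ orbit (N H) x
      · rw [Perm.ofSubtype_apply_of_mem _ hy]; rfl
      · rw [Perm.ofSubtype_apply_of_not_mem _ hy, ((mem_M H).1 u.2).2 y hy]
    rw [← Perm.sign_ofSubtype, h1]
    exact Perm.mem_alternatingGroup.1 (mem_alternatingGroup_of_mem_N H (hMN u.2))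
  have hnorm : (f.range.subgroupOf (alternatingGroup (orbit (N H) x))).Normal := by
    refine ⟨fun a ha g => ?_⟩
    obtain ⟨u, hu⟩ := ha
    obtain ⟨v, hv⟩ := hA g.2
    refine ⟨⟨(v : H) * (u : H) * (v : H)⁻¹, M_normal_in_N H u.2 v.2⟩, ?_⟩
    show act H x (v * Subgroup.inclusion hMN u * v⁻¹) = _
    rw [map_mul, map_mul, map_inv, hv]
    show _ * f u * _ = _
    rw [hu]
    rfl
  have hsimp := alternatingGroup.isSimpleGroup (α := orbit (N H) x) h5
  have htop : f.range.subgroupOf (alternatingGroup (orbit (N H) x)) = ⊤ := by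
    refine (hnorm.eq_bot_or_eq_top).resolve_left fun hbot => ?_
    have hmem : (⟨act H x ⟨s, hMN hs⟩, hs3.mem_alternatingGroup⟩ :
        alternatingGroup (orbit (N H) x)) ∈
        f.range.subgroupOf (alternatingGroup (orbit (N H) x)) := ⟨⟨s, hs⟩, rfl⟩
    rw [hbot, Subgroup.mem_bot] at hmem
    exact hs3.isCycle.ne_one (congrArg Subtype.val hmem)
  exact ⟨(MonoidHom.ofInjective hinj).trans (MulEquiv.subgroupCongr
    (le_antisymm hsign (Subgroup.subgroupOf_eq_top.1 htop)))⟩

theorem centralizer_alt_eq_bot {β : Type*} [Fintype β] [DecidableEq β] (h : 5 ≤ Nat.card β) :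
    centralizer (alternatingGroup β : Set (Perm β)) = ⊥ := by
  rw [eq_bot_iff]
  intro g hg
  rw [Subgroup.mem_bot]
  by_contra hne
  obtain ⟨a, ha⟩ : ∃ a, g a ≠ a := by
    by_contra h'
    push Not at h'
    exact hne (Equiv.ext h')
  obtain ⟨b, -, hb⟩ := Finset.exists_mem_notMem_of_card_lt_card (s := {a, g a}) (t := Finset.univ)
    (Finset.card_le_two.trans_lt (by rw [Finset.card_univ, ← Nat.card_eq_fintype_card]; omega))
  obtain ⟨c, -, hc⟩ := Finset.exists_mem_notMem_of_card_lt_card (s := {a, g a, b}) (t := Finset.univ)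
    (Finset.card_le_three.trans_lt (by rw [Finset.card_univ, ← Nat.card_eq_fintype_card]; omega))
  simp only [Finset.mem_insert, Finset.mem_singleton, not_or] at hb hc
  -- the 3-cycle `(g a, b, c)` fixes `a` and moves `g a`
  let z := Equiv.swap (g a) b * Equiv.swap (g a) c
  have hz : z ∈ alternatingGroup β :=
    (Perm.isThreeCycle_swap_mul_swap_same (Ne.symm hb.2) (Ne.symm hc.2.1) (Ne.symm hc.2.2)).mem_alternatingGroup
  have := congrArg (fun σ : Perm β => σ a) (mem_centralizer_iff.1 hg z hz)
  simp only [z, Perm.mul_apply] at this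
  rw [Equiv.swap_apply_of_ne_of_ne (Ne.symm ha) (Ne.symm hc.1),
    Equiv.swap_apply_of_ne_of_ne (Ne.symm ha) (Ne.symm hb.1), Equiv.swap_apply_left,
    Equiv.swap_apply_of_ne_of_ne hc.2.1 hc.2.2] at this
  exact hc.2.1 this

/-- The main statement. -/
theorem exists_orbit_support (hF : Cfsg.IsQuasisimple ↥(Cfsg.generalizedFittingSubgroup ↥H))
    (hex : ∃ t : H, (t : Perm α).IsThreeCycle) :
    ∃ Δ : Set α, 5 ≤ Δ.ncard ∧ (∀ h : H, ∀ y ∈ Δ, (h : Perm α) y ∈ Δ) ∧
      (∀ t : H, (t : Perm α).IsThreeCycle → ((t : Perm α).support : Set α) ⊆ Δ) ∧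
      (∀ w ∈ Cfsg.generalizedFittingSubgroup ↥H, ∀ y ∉ Δ, (w : Perm α) y = y) ∧
      Nonempty (↥(Cfsg.generalizedFittingSubgroup ↥H) ≃* ↥(alternatingGroup Δ)) := by
  classical
  set K := Cfsg.generalizedFittingSubgroup ↥H with hKdef
  haveI hKn : K.Normal := by
    haveI := Cfsg.Agent.Components.Fitting.genFitting_characteristic (G := ↥H)
    infer_instance
  haveI hperf : Group.IsPerfect K := hF.1
  have hKK : ⁅K, K⁆ = K :=
    Components.Basic.component_commutator_self ⟨hKn.isSubnormal, hF⟩
  have hC : centralizer (K : Set H) ≤ K := S1265.result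
  -- no 3-cycle centralizes `K`
  have hnc : ∀ t : H, (t : Perm α).IsThreeCycle → t ∉ centralizer (K : Set H) := by
    intro t ht hcent
    have htK : t ∈ K := hC hcent
    have hS : ∀ k : K, ∀ y, y ∈ (t : Perm α).support ↔ ((k : H) : Perm α) y ∈ (t : Perm α).support := by
      intro k y
      have hcomm := mem_centralizer_iff.1 hcent k k.2
      have := Perm.congr_fun (congrArg Subtype.val hcomm) y
      simp only [Subgroup.coe_mul, Perm.mul_apply] at this
      simp only [Perm.mem_support]
      rw [← this]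
      exact ⟨fun h h' => h (((k : H) : Perm α).injective h'), fun h h' => h (congrArg _ h')⟩
    let r : K →* Perm (t : Perm α).support :=
      { toFun := fun k => ((k : H) : Perm α).subtypePerm fun y => (hS k y).symm
        map_one' := by ext; rfl
        map_mul' := fun a b => by ext; rfl }
    haveI hsol : Group.IsSolvable (Perm (t : Perm α).support) := by
      refine isSolvable_perm_of_card_le_four ?_
      rw [Nat.card_eq_fintype_card, Fintype.card_coe, ht.card_support]
      norm_num
    haveI : Group.IsSolvable r.range := inferInstance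
    haveI : Group.IsPerfect r.range := Group.IsPerfect.ofSurjective r.rangeRestrict_surjective
    have htriv : Subsingleton r.range := by
      by_contra hns
      haveI : Nontrivial r.range := not_subsingleton_iff_nontrivial.1 hns
      exact Group.IsPerfect.not_isSolvable r.range inferInstance
    obtain ⟨y, hy⟩ : (t : Perm α).support.Nonempty := by
      rw [← Finset.card_pos, ht.card_support]; norm_num
    have h1 : r ⟨t, htK⟩ = 1 :=
      congrArg Subtype.val (Subsingleton.elim (⟨r ⟨t, htK⟩, ⟨t, htK⟩, rfl⟩ : r.range) 1)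
    exact Perm.mem_support.1 hy (congrArg Subtype.val (Perm.congr_fun h1 ⟨y, hy⟩))
  obtain ⟨t₀, ht₀⟩ := hex
  have hKN : K ≤ N H := by
    rcases Components.Basic.quasisimple_eq_top_or_le_center_of_normal hF ((N H).subgroupOf K) with
      htop | hcen
    · exact subgroupOf_eq_top.1 htop
    exfalso
    refine hnc t₀ ht₀ ?_
    have h1 : ⁅⁅K, N H⁆, K⁆ = ⊥ := by
      rw [commutator_eq_bot_iff_le_centralizer]
      intro u hu
      have hu' : u ∈ K ⊓ N H := commutator_le_inf K (N H) hu
      rw [mem_centralizer_iff]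
      intro k hk
      exact congrArg Subtype.val
        (mem_center_iff.1 (hcen (show (⟨u, hu'.1⟩ : K) ∈ (N H).subgroupOf K from hu'.2)) ⟨k, hk⟩)
    have h2 := Components.Basic.commutator_eq_bot_of_perfect hKK h1
    rw [commutator_comm, commutator_eq_bot_iff_le_centralizer] at h2
    exact h2 (subset_closure ht₀)
  -- some orbit of `N` on which `K` acts non-trivially
  obtain ⟨k, hk, hk1⟩ : ∃ k ∈ K, k ≠ 1 := by
    refine (Subgroup.bot_or_exists_ne_one K).resolve_left fun h => ?_
    have := Components.Basic.quasisimple_nontrivial hF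
    exact (Subgroup.nontrivial_iff_ne_bot K).1 this h
  obtain ⟨x, hx⟩ : ∃ x, (k : Perm α) x ≠ x := by
    by_contra h
    push Not at h
    exact hk1 (Subtype.ext (Equiv.ext h))
  obtain ⟨t, ht, htx⟩ := exists_mem_moving H ⟨k, hKN hk, hx⟩
  set Δ := orbit (N H) x with hΔ
  let r : K →* Perm Δ := (act H x).comp (Subgroup.inclusion hKN)
  haveI : Group.IsPerfect r.range := Group.IsPerfect.ofSurjective r.rangeRestrict_surjective
  have hrne : r ⟨k, hk⟩ ≠ 1 := fun h => hx (congrArg Subtype.val (Perm.congr_fun h ⟨x, mem_orbit_self x⟩))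
  have h5 : 5 ≤ Nat.card Δ := by
    by_contra hlt
    haveI : Group.IsSolvable (Perm Δ) := isSolvable_perm_of_card_le_four (by omega)
    haveI : Group.IsSolvable r.range := inferInstance
    haveI : Nontrivial r.range := ⟨⟨⟨_, ⟨k, hk⟩, rfl⟩, 1, fun h => hrne (congrArg Subtype.val h)⟩⟩
    exact Group.IsPerfect.not_isSolvable r.range inferInstance
  obtain ⟨e⟩ := M_equiv H ht htx h5
  have hMN : M H x ≤ N H := inf_le_left
  haveI hMs : IsSimpleGroup (M H x) :=
    haveI := alternatingGroup.isSimpleGroup (α := Δ) h5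
    MulEquiv.isSimpleGroup e
  -- `M ⊓ K` is normal in `M`
  have hMK : M H x ≤ K := by
    haveI : (K.subgroupOf (M H x)).Normal := hKn.subgroupOf _
    rcases (inferInstance : (K.subgroupOf (M H x)).Normal).eq_bot_or_eq_top with hbot | htop
    · exfalso
      -- then `K` centralizes `M`, hence acts on the orbit as a subgroup centralizing `Alt`
      have hcm : ∀ u ∈ M H x, ∀ w ∈ K, u * w = w * u := by
        intro u hu w hw
        have h1 : u * w * u⁻¹ * w⁻¹ ∈ M H x ⊓ K := by
          refine Subgroup.mem_inf.2 ⟨?_, mul_mem (hKn.conj_mem w hw u) (inv_mem hw)⟩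
          rw [mul_assoc, mul_assoc, ← mul_assoc w]
          exact mul_mem hu (M_normal_in_N H (inv_mem hu) (hKN hw))
        have h2 : (⟨_, h1.1⟩ : M H x) ∈ K.subgroupOf (M H x) := h1.2
        rw [hbot, Subgroup.mem_bot] at h2
        have h3 := congrArg Subtype.val h2
        exact mul_inv_eq_iff_eq_mul.1 (mul_inv_eq_one.1 h3)
      obtain ⟨s, hs, hs'⟩ := alternating_le_range H ht htx
      have hs3 := (hs' (hMN hs)).1
      -- the centralizer of a 3-cycle preserves its three points
      have hle : r.range ≤ centralizer (alternatingGroup Δ : Set (Perm Δ)) := by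
        rintro _ ⟨w, rfl⟩
        rw [mem_centralizer_iff]
        intro a ha
        obtain ⟨u, hu⟩ : ∃ u : M H x, act H x (Subgroup.inclusion hMN u) = a := by
          have hinj : Function.Injective ((act H x).comp (Subgroup.inclusion hMN)) := by
            rw [injective_iff_map_eq_one]
            intro u hu
            apply Subtype.ext
            apply Subtype.ext
            ext y
            show ((u : H) : Perm α) y = y
            by_cases hy : y ∈ Δ
            · exact congrArg Subtype.val (Perm.congr_fun hu ⟨y, hy⟩)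
            · exact ((mem_M H).1 u.2).2 y hy
          let f := (act H x).comp (Subgroup.inclusion hMN)
          have hle' : f.range ≤ alternatingGroup Δ := by
            rintro _ ⟨u, rfl⟩
            rw [Perm.mem_alternatingGroup]
            have h1 : Perm.ofSubtype (f u) = ((u : H) : Perm α) := by
              ext y
              by_cases hy : y ∈ Δ
              · rw [Perm.ofSubtype_apply_of_mem _ hy]; rfl
              · rw [Perm.ofSubtype_apply_of_not_mem _ hy, ((mem_M H).1 u.2).2 y hy]
            rw [← Perm.sign_ofSubtype, h1]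
            exact Perm.mem_alternatingGroup.1 (mem_alternatingGroup_of_mem_N H (hMN u.2))
          have heq : f.range = alternatingGroup Δ := by
            refine Subgroup.eq_of_le_of_card_ge hle' ?_
            rw [← Nat.card_congr e.toEquiv, Nat.card_congr (MonoidHom.ofInjective hinj).toEquiv]
          rw [← heq] at ha
          exact ha
        rw [← hu]
        show act H x (Subgroup.inclusion hMN u) * act H x (Subgroup.inclusion hKN w) = _
        rw [← map_mul]
        show _ = act H x (Subgroup.inclusion hKN w) * act H x (Subgroup.inclusion hMN u)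
        rw [← map_mul]
        exact congrArg (act H x) (Subtype.ext (hcm u u.2 w w.2))
      have hcent := centralizer_alt_eq_bot (β := Δ) h5
      rw [hcent, le_bot_iff] at hle
      have hmem : r ⟨k, hk⟩ ∈ r.range := ⟨_, rfl⟩
      rw [hle, Subgroup.mem_bot] at hmem
      exact hrne hmem
    · exact subgroupOf_eq_top.1 htop
  -- hence `M = K`
  have hKM : K ≤ M H x := by
    haveI : ((M H x).subgroupOf K).Normal := by
      refine ⟨fun a ha g => ?_⟩
      exact M_normal_in_N H ha (hKN g.2)
    rcases Components.Basic.quasisimple_eq_top_or_le_center_of_normal hF ((M H x).subgroupOf K) with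
      htop | hcen
    · exact subgroupOf_eq_top.1 htop
    exfalso
    obtain ⟨s, hs, hs'⟩ := alternating_le_range H ht htx
    have hs3 := (hs' (hMN hs)).1
    have hcom : ∀ a b : alternatingGroup Δ, a * b = b * a := by
      intro a b
      apply e.symm.injective
      simp only [map_mul]
      apply Subtype.ext
      have h := mem_center_iff.1
        (hcen (show (⟨_, hMK (e.symm b).2⟩ : K) ∈ (M H x).subgroupOf K from (e.symm b).2))
        ⟨_, hMK (e.symm a).2⟩
      exact congrArg (fun z : K => (z : H)) h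
    have hsimp := alternatingGroup.isSimpleGroup (α := Δ) h5
    haveI : Nontrivial Δ := Finite.one_lt_card_iff_nontrivial.1 (by omega)
    have h6 := two_mul_nat_card_alternatingGroup (α := Δ)
    letI : CommGroup (alternatingGroup Δ) := { (inferInstance : Group (alternatingGroup Δ)) with
      mul_comm := hcom }
    have hp : (Nat.card (alternatingGroup Δ)).Prime := IsSimpleGroup.prime_card
    rw [Nat.card_perm] at h6
    have h7 : Nat.card (alternatingGroup Δ) ∣ (Nat.card Δ).factorial := ⟨2, by rw [← h6]; ring⟩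
    have h8 := hp.dvd_factorial.1 h7
    have h9 : 4 * Nat.card Δ ≤ (Nat.card Δ).factorial := by
      obtain ⟨j, hj⟩ := Nat.exists_eq_add_of_le (show 1 ≤ Nat.card Δ by omega)
      rw [hj, add_comm 1 j, Nat.factorial_succ, mul_comm (4 : ℕ)]
      exact Nat.mul_le_mul_left _ (le_trans (by omega) (Nat.self_le_factorial j))
    omega
  have hKM' : K = M H x := le_antisymm hKM hMK
  -- every 3-cycle lives on the orbit
  have hall : ∀ s : H, (s : Perm α).IsThreeCycle → ((s : Perm α).support : Set α) ⊆ Δ := by
    intro s hs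
    by_cases hz : ∃ y ∈ Δ, (s : Perm α) y ≠ y
    · obtain ⟨y, hy, hy'⟩ := hz
      exact support_subset_orbit H hs hy hy'
    push Not at hz
    exfalso
    refine hnc s hs ?_
    rw [mem_centralizer_iff]
    intro w hw
    apply Subtype.ext
    ext y
    simp only [Subgroup.coe_mul, Perm.mul_apply]
    have hwM := (mem_M H).1 (hKM hw)
    by_cases hy : y ∈ Δ
    · rw [hz y hy, hz _ (mapsTo_orbit H hwM.1 hy)]
    · have hsy : (s : Perm α) y ∉ Δ := fun h =>
        hy ((apply_mem_orbit_iff H (subset_closure hs)).1 h)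
      rw [hwM.2 y hy, hwM.2 _ hsy]
  refine ⟨Δ, by rwa [← Nat.card_coe_set_eq], fun h y hy => ?_, hall,
    fun w hw y hy => ((mem_M H).1 (hKM hw)).2 y hy,
    ⟨(MulEquiv.subgroupCongr hKM').trans e⟩⟩
  -- the orbit is invariant, being the set of points moved by `K`
  have hmoved : ∀ z, z ∈ Δ ↔ ∃ w ∈ K, (w : Perm α) z ≠ z := by
    intro z
    constructor
    · intro hzΔ
      obtain ⟨u, hu, huz⟩ : ∃ t' : H, (t' : Perm α).IsThreeCycle ∧ (t' : Perm α) z ≠ z := by
        obtain ⟨u, hu⟩ : ∃ u : N H, u • x = z := hzΔ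
        refine ⟨(u : H) * t * (u : H)⁻¹, ?_, ?_⟩
        · show (((u : H) : Perm α) * (t : Perm α) * ((u : H) : Perm α)⁻¹).IsThreeCycle
          rw [Perm.IsThreeCycle, Perm.cycleType_conj]; exact ht
        · rw [← hu]
          show ((u : H) : Perm α) ((t : Perm α) ((((u : H) : Perm α)⁻¹) (((u : H) : Perm α) x))) ≠ _
          simp only [Perm.inv_def, Equiv.symm_apply_apply]
          exact fun h => htx (((u : H) : Perm α).injective h)
      refine ⟨u, ?_, huz⟩
      rw [hKM', mem_M]
      exact ⟨subset_closure hu, fun v hv => by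
        by_contra h
        exact hv (hall u hu (Perm.mem_support.2 h))⟩
    · rintro ⟨w, hw, hwz⟩
      by_contra hz
      exact hwz (((mem_M H).1 (hKM hw)).2 z hz)
  obtain ⟨w, hw, hwy⟩ := (hmoved y).1 hy
  refine (hmoved _).2 ⟨h * w * h⁻¹, hKn.conj_mem w hw h, ?_⟩
  simp only [Subgroup.coe_mul, InvMemClass.coe_inv, Perm.mul_apply]
  simp only [Perm.inv_def, Equiv.symm_apply_apply]
  exact fun e' => hwy ((h : Perm α).injective e')

theorem exists_orbit (hF : Cfsg.IsQuasisimple ↥(Cfsg.generalizedFittingSubgroup ↥H))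
    (hex : ∃ t : H, (t : Perm α).IsThreeCycle) :
    ∃ Δ : Set α, 5 ≤ Δ.ncard ∧ (∀ h : H, ∀ y ∈ Δ, (h : Perm α) y ∈ Δ) ∧
      (∀ t : H, (t : Perm α).IsThreeCycle → ((t : Perm α).support : Set α) ⊆ Δ) ∧
      Nonempty (↥(Cfsg.generalizedFittingSubgroup ↥H) ≃* ↥(alternatingGroup Δ)) := by
  obtain ⟨Δ, h1, h2, h3, -, h4⟩ := exists_orbit_support H hF hex
  exact ⟨Δ, h1, h2, h3, h4⟩

end Cfsg.Agent.Perm.ThreeCycleFStar
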