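import Cfsg.Agent.Recognition.BurnsideSchur

/-!
# Primitive groups with a regular cyclic subgroup of prime-power order

If a primitive group contains a regular cyclic subgroup of order `n = p ^ m`, `m ≥ 2`, then it is
doubly transitive.  Otherwise the values of an orbit of the point stabiliser at the characters
trivial on the subgroup `P` of order `p` would differ from those at the other characters (look at
them modulo `p`), so the indicator of `P` would be invariant.
-/

set_option autoImplicit false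

namespace Cfsg.Agent.Perm.CyclicPrimePower

open MulAction Polynomial
open Cfsg.Agent.Recognition.BurnsideSchur
open scoped Pointwise

/-- Sums of `p`-th roots of unity are not congruent to their number modulo `p`. -/
theorem not_congruent {p k : ℕ} (hp : p.Prime) {ω : ℂ} (hω : IsPrimitiveRoot ω (p ^ (k + 1)))
    (J : Finset ℕ) (hJ : J ⊆ Finset.Icc 1 (p - 1)) (h0 : J.Nonempty)
    (h1 : J ≠ Finset.Icc 1 (p - 1)) (Q : ℤ[X]) :
    (∑ j ∈ J, ω ^ (p ^ k * j)) - (J.card : ℂ) ≠ (p : ℂ) * aeval ω Q := by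
  intro h
  haveI := Fact.mk hp
  set F : ℤ[X] := (∑ j ∈ J, X ^ (p ^ k * j)) - C (J.card : ℤ) - C (p : ℤ) * Q with hF
  have hroot : aeval ω F = 0 := by
    rw [hF]
    simp only [map_sub, map_sum, map_pow, aeval_X, map_mul, aeval_C, map_natCast]
    rw [h]; ring
  have hpos : 0 < p ^ (k + 1) := pow_pos hp.pos _
  have hdvd : cyclotomic (p ^ (k + 1)) ℤ ∣ F := by
    rw [cyclotomic_eq_minpoly hω hpos]
    exact minpoly.isIntegrallyClosed_dvd (hω.isIntegral hpos) hroot
  have hd := Polynomial.map_dvd (Int.castRingHom (ZMod p)) hdvd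
  rw [map_cyclotomic] at hd
  have hFbar : F.map (Int.castRingHom (ZMod p)) =
      (∑ j ∈ J, X ^ (p ^ k * j)) - C (J.card : ZMod p) := by
    rw [hF]
    simp [Polynomial.map_sub, Polynomial.map_sum]
  rw [hFbar] at hd
  set Fb : (ZMod p)[X] := (∑ j ∈ J, X ^ (p ^ k * j)) - C (J.card : ZMod p) with hFb
  have hq : 0 < p ^ k := pow_pos hp.pos _
  have hdeg : Fb.natDegree ≤ (cyclotomic (p ^ (k + 1)) (ZMod p)).natDegree := by
    rw [natDegree_cyclotomic, Nat.totient_prime_pow hp (Nat.succ_pos k), Nat.succ_sub_one, hFb]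
    refine (natDegree_sub_le _ _).trans (max_le ?_ ?_)
    · refine natDegree_sum_le_of_forall_le _ _ fun j hj => ?_
      rw [natDegree_X_pow]
      exact Nat.mul_le_mul_left _ (Finset.mem_Icc.1 (hJ hj)).2
    · rw [natDegree_C]; exact Nat.zero_le _
  obtain ⟨c, hc⟩ : ∃ c : ZMod p, Fb = C c * cyclotomic (p ^ (k + 1)) (ZMod p) :=
    ⟨_, eq_leadingCoeff_mul_of_monic_of_dvd_of_natDegree_le (cyclotomic.monic _ _) hd hdeg⟩
  rw [cyclotomic_prime_pow_eq_geom_sum hp] at hc
  have hcoeff : ∀ j ∈ Finset.Icc 1 (p - 1), (if j ∈ J then (1 : ZMod p) else 0) = c := by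
    intro j hj
    obtain ⟨hj1, hj2⟩ := Finset.mem_Icc.1 hj
    have e := congrArg (fun P : (ZMod p)[X] => P.coeff (p ^ k * j)) hc
    have hne : p ^ k * j ≠ 0 := Nat.mul_ne_zero hq.ne' (by omega)
    simp only [hFb, coeff_sub, finsetSum_coeff, coeff_X_pow, coeff_C, hne, if_false, sub_zero,
      coeff_C_mul, ← pow_mul, Nat.mul_left_cancel_iff hq] at e
    rwa [Finset.sum_ite_eq, Finset.sum_ite_eq, if_pos (Finset.mem_range.2 (by omega)), mul_one]
      at e
  obtain ⟨a, ha⟩ := h0
  obtain ⟨b, hb, hbJ⟩ : ∃ b ∈ Finset.Icc 1 (p - 1), b ∉ J := by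
    by_contra hcon
    push Not at hcon
    exact h1 (Finset.Subset.antisymm hJ hcon)
  have e1 := hcoeff a (hJ ha)
  have e2 := hcoeff b hb
  rw [if_pos ha] at e1
  rw [if_neg hbJ, ← e1] at e2
  exact zero_ne_one e2

variable {G : Type*} [Group G] {Ω : Type*} [MulAction G Ω]

/-- A primitive group with a regular cyclic subgroup of order `p ^ (k + 2)` is doubly transitive. -/
theorem main [IsPretransitive G Ω] (hprim : IsPreprimitive G Ω) (p k n : ℕ) (hp : p.Prime)
    (hn : n = p ^ (k + 2)) (ι : Multiplicative (ZMod n) →* G) (a : Ω)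
    (hreg : Function.Bijective fun h => ι h • a) : IsMultiplyPretransitive G Ω 2 := by
  classical
  haveI := Fact.mk hp
  set q := p ^ (k + 1) with hqdef
  have hq : 0 < q := pow_pos hp.pos _
  have hnpq : n = q * p := by rw [hn, hqdef, ← pow_succ]
  haveI : NeZero n := ⟨hn ▸ (pow_pos hp.pos _).ne'⟩
  let c : Ω ≃ Multiplicative (ZMod n) := (Equiv.ofBijective _ hreg).symm
  haveI : Fintype Ω := Fintype.ofEquiv _ c.symm
  have hc : ∀ u, ι (c u) • a = u := fun u => (Equiv.ofBijective _ hreg).apply_symm_apply u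
  have hc' : ∀ h, c (ι h • a) = h := fun h => (Equiv.ofBijective _ hreg).symm_apply_apply h
  -- orbits of the point stabiliser are invariant
  let orb : Multiplicative (ZMod n) → Set (Multiplicative (ZMod n)) :=
    fun h => {x | ∃ g : G, g • a = a ∧ g • ι h • a = ι x • a}
  have horb_self : ∀ h, h ∈ orb h := fun h => ⟨1, one_smul G a, one_smul G _⟩
  have hrel : ∀ (g : G) u v, ∃ g' : G, g' • a = a ∧
      g' • ι (rel c u v) • a = ι (rel c (g • u) (g • v)) • a := by
    intro g u v
    refine ⟨(ι (c (g • u)))⁻¹ * g * ι (c u), ?_, ?_⟩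
    · rw [mul_smul, mul_smul, hc, inv_smul_eq_iff, hc]
    · rw [← mul_smul, mul_assoc, ← map_mul, show c u * rel c u v = c v by simp [rel], mul_smul,
        mul_smul, hc]
      rw [inv_smul_eq_iff, ← mul_smul, ← map_mul,
        show c (g • u) * rel c (g • u) (g • v) = c (g • v) by simp [rel], hc]
  have horb : ∀ h, InvS G c (orb h) := by
    intro h g u v
    obtain ⟨g', ha, hg'⟩ := hrel g u v
    refine propext ⟨?_, ?_⟩
    · rintro ⟨l, hla, hl⟩
      refine ⟨g'⁻¹ * l, by rw [mul_smul, hla, inv_smul_eq_iff, ha], ?_⟩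
      rw [mul_smul, hl, inv_smul_eq_iff, hg']
    · rintro ⟨l, hla, hl⟩
      exact ⟨g' * l, by rw [mul_smul, hla, ha], by rw [mul_smul, hl, hg']⟩
  have horb_eq : ∀ h x, x ∈ orb h → orb x = orb h := by
    intro h x ⟨g, hga, hgx⟩
    ext y
    constructor
    · rintro ⟨l, hla, hl⟩
      exact ⟨l * g, by rw [mul_smul, hga, hla], by rw [mul_smul, hgx, hl]⟩
    · rintro ⟨l, hla, hl⟩
      refine ⟨l * g⁻¹, by rw [mul_smul, inv_smul_eq_iff.2 hga.symm, hla], ?_⟩
      rw [mul_smul, ← hgx, inv_smul_smul, hl]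
  have h1orb : ∀ h, (1 : Multiplicative (ZMod n)) ∈ orb h → h = 1 := by
    rintro h ⟨g, hga, hg⟩
    rw [map_one, one_smul, ← eq_inv_smul_iff, inv_smul_eq_iff.2 hga.symm] at hg
    exact hreg.1 (a₁ := h) (a₂ := 1) (hg.trans (by simp only [map_one, one_smul]))
  -- the subgroup of order `p`
  set P : Subgroup (Multiplicative (ZMod n)) := (powMonoidHom p).ker with hP
  let val : Multiplicative (ZMod n) → ℕ := fun x => (Multiplicative.toAdd x).val
  let elem : ℕ → Multiplicative (ZMod n) := fun j => Multiplicative.ofAdd (j : ZMod n)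
  have hval : ∀ x, elem (val x) = x := fun x => by
    simp only [elem, val, ZMod.natCast_zmod_val, ofAdd_toAdd]
  have hval' : ∀ j, val (elem j) = j % n := fun j => by
    simp [elem, val, ZMod.val_natCast]
  have hvlt : ∀ x, val x < n := fun x => ZMod.val_lt _
  have hmemP : ∀ x, x ∈ P ↔ q ∣ val x := by
    intro x
    rw [hP, MonoidHom.mem_ker, powMonoidHom_apply, ← toAdd_eq_zero, toAdd_pow, nsmul_eq_mul,
      ← ZMod.natCast_zmod_val (Multiplicative.toAdd x), ← Nat.cast_mul,
      ZMod.natCast_eq_zero_iff]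
    have e : ∀ b, n ∣ b ↔ p * q ∣ b := fun b => by rw [hnpq, mul_comm]
    exact (e _).trans (Nat.mul_dvd_mul_iff_left hp.pos)
  have hPcard : Nat.card P = p := by
    rw [hP, IsCyclic.card_powMonoidHom_ker, Nat.card_eq_fintype_card, Fintype.card_multiplicative,
      ZMod.card, Nat.gcd_eq_right ⟨q, by rw [hnpq, mul_comm]⟩]
  have hPne : P ≠ ⊥ := by
    intro h
    rw [h, Subgroup.card_bot] at hPcard
    exact hp.ne_one hPcard.symm
  have hPtop : P ≠ ⊤ := by
    intro h
    rw [h, Subgroup.card_top, Nat.card_eq_fintype_card, Fintype.card_multiplicative,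
      ZMod.card, hnpq] at hPcard
    have h1 : 2 ≤ q := (hp.two_le).trans (Nat.le_self_pow (Nat.succ_ne_zero k) p)
    nlinarith [hp.pos]
  -- outside `P` every orbit is a union of cosets
  have hcoset : ∀ h z x, x ∈ orb h → x ∉ P → z ∈ P → z * x ∈ orb h := by
    intro h z x hx hxP hz
    set X := orb h
    set S : Set (Multiplicative (ZMod n)) :=
      {l | ¬ p ∣ Nat.card {t // t ∈ X ∧ t ^ p = l}} ∩ {1}ᶜ with hS
    have hSi : InvS G c S := by
      intro g u v
      simp only [hS, Set.mem_inter_iff, Set.mem_compl_iff, Set.mem_singleton_iff, rel_eq_one,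
        smul_left_cancel_iff]
      rw [show (rel c (g • u) (g • v) ∈ {l | ¬ p ∣ Nat.card {t // t ∈ X ∧ t ^ p = l}}) =
        (rel c u v ∈ {l | ¬ p ∣ Nat.card {t // t ∈ X ∧ t ^ p = l}}) from
          invS_pow hp (horb h) g u v]
    have hle : Subgroup.closure S ≤
        (powMonoidHom p : Multiplicative (ZMod n) →* Multiplicative (ZMod n)).range := by
      rw [Subgroup.closure_le]
      rintro l ⟨hl, -⟩
      by_contra hne
      refine hl ?_
      haveI : IsEmpty {t // t ∈ X ∧ t ^ p = l} := ⟨fun t => hne ⟨t, t.2.2⟩⟩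
      simp
    have hSempty : ∀ l ∈ S, False := by
      intro l hl
      rcases subgroup_trivial hprim _ (invS_closure hSi) with hb | ht
      · exact hl.2 ((Subgroup.eq_bot_iff_forall _).1 hb l (Subgroup.subset_closure hl))
      · refine hPne ((MonoidHom.ker_eq_bot_iff _).2 (Finite.injective_iff_surjective.2 ?_))
        exact MonoidHom.range_eq_top.1 (top_le_iff.1 (ht ▸ hle))
    have hdvd : p ∣ Nat.card {t // t ∈ X ∧ t ^ p = x ^ p} := by
      by_contra hnd
      exact hSempty (x ^ p) ⟨hnd, fun e => hxP e⟩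
    let φ : {t // t ∈ X ∧ t ^ p = x ^ p} → P := fun t => ⟨t.1 * x⁻¹, by
      change (t.1 * x⁻¹) ^ p = 1
      rw [mul_pow, t.2.2, inv_pow, mul_inv_cancel]⟩
    have hφ : Function.Injective φ :=
      fun s t e => Subtype.ext (mul_right_cancel (congrArg Subtype.val e))
    have hge : p ≤ Nat.card {t // t ∈ X ∧ t ^ p = x ^ p} :=
      Nat.le_of_dvd (Finite.card_pos_iff.2 ⟨⟨x, hx, rfl⟩⟩) hdvd
    have hbij : Function.Bijective φ :=
      hφ.bijective_of_nat_card_le (by rw [hPcard]; exact hge)
    obtain ⟨t, ht⟩ := hbij.2 ⟨z, hz⟩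
    have : t.1 * x⁻¹ = z := congrArg Subtype.val ht
    rw [← this, inv_mul_cancel_right]
    exact t.2.1
  -- every nontrivial orbit meets `P`
  have hmeet : ∀ h, h ≠ 1 → ∃ z ∈ orb h, z ∈ P := by
    intro h hh
    by_contra hno
    push Not at hno
    have hle : P ≤ stabilizer (Multiplicative (ZMod n)) (orb h) := by
      intro z hz
      rw [mem_stabilizer_iff]
      refine Set.Subset.antisymm ?_
        (fun x hx => ⟨z⁻¹ * x, hcoset h _ x hx (hno x hx) (P.inv_mem hz), ?_⟩)
      · rintro _ ⟨x, hx, rfl⟩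
        exact hcoset h z x hx (hno x hx) hz
      · exact mul_inv_cancel_left z x
    rcases subgroup_trivial hprim _ (invS_stabilizer (horb h)) with hb | ht
    · exact hPne (le_bot_iff.1 (hb ▸ hle))
    · refine hh (h1orb h ?_)
      have hinv : h⁻¹ ∈ stabilizer (Multiplicative (ZMod n)) (orb h) := ht ▸ Subgroup.mem_top _
      rw [mem_stabilizer_iff] at hinv
      rw [← hinv]
      exact ⟨h, horb_self h, inv_mul_cancel h⟩
  have hq1 : elem 1 ≠ 1 := by
    intro h
    have := congrArg val h
    rw [hval'] at this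
    have h1n : 1 < n := by rw [hn]; exact Nat.one_lt_pow (Nat.succ_ne_zero _) hp.one_lt
    simp [val, Nat.mod_eq_of_lt h1n] at this
  by_cases hall : ∀ z ∈ P, z ≠ 1 → z ∈ orb (elem 1)
  · -- the point stabiliser is transitive
    have hall' : ∀ h, h ≠ 1 → h ∈ orb (elem 1) := by
      intro h hh
      obtain ⟨z, hz, hzP⟩ := hmeet h hh
      rw [← horb_eq _ z (hall z hzP fun e => hh (h1orb h (e ▸ hz))), horb_eq h z hz]
      exact horb_self h
    rw [is_two_pretransitive_iff]
    intro u v u' v' huv huv'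
    have key : ∀ u v, u ≠ v → ∃ g : G, g • a = u ∧ g • ι (elem 1) • a = v := by
      intro u v huv
      have hh : rel c u v ≠ 1 := fun e => huv ((rel_eq_one c u v).1 e)
      obtain ⟨g, hga, hgy⟩ := hall' _ hh
      refine ⟨ι (c u) * g, by rw [mul_smul, hga, hc], ?_⟩
      rw [mul_smul, hgy, ← mul_smul, ← map_mul, show c u * rel c u v = c v by simp [rel], hc]
    obtain ⟨g₁, h1a, h1b⟩ := key u v huv
    obtain ⟨g₂, h2a, h2b⟩ := key u' v' huv'
    exact ⟨g₂ * g₁⁻¹, by rw [mul_smul, ← h1a, inv_smul_smul, h2a],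
      by rw [mul_smul, ← h1b, inv_smul_smul, h2b]⟩
  -- otherwise the indicator of `P` is invariant
  exfalso
  push Not at hall
  obtain ⟨z₁, hz₁P, hz₁1, hz₁⟩ := hall
  set X : Finset (Multiplicative (ZMod n)) := Finset.univ.filter fun x => x ∈ orb (elem 1) with hX
  have hXmem : ∀ x, x ∈ X ↔ x ∈ orb (elem 1) := fun x => by simp [hX]
  obtain ⟨ζ, hζ⟩ : ∃ ζ : ℂ, IsPrimitiveRoot ζ n := ⟨_, Complex.isPrimitiveRoot_exp n (NeZero.ne n)⟩
  have hζmod : ∀ i j, (ζ ^ i) ^ (j % n) = (ζ ^ i) ^ j := fun i j => by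
    conv_rhs => rw [← Nat.div_add_mod j n]
    rw [pow_add, pow_mul (ζ ^ i), ← pow_mul ζ i n, mul_comm i n, pow_mul ζ, hζ.pow_eq_one,
      one_pow, one_pow, one_mul]
  let χ : ℕ → (Multiplicative (ZMod n) →* ℂ) := fun i =>
    { toFun := fun x => (ζ ^ i) ^ val x
      map_one' := by simp [val]
      map_mul' := fun x y => by
        simp only [val, toAdd_mul, ZMod.val_add]
        rw [hζmod, pow_add] }
  let ev : ℕ → (MonoidAlgebra ℂ (Multiplicative (ZMod n)) →ₐ[ℂ] ℂ) := fun i =>
    MonoidAlgebra.lift ℂ ℂ (Multiplicative (ZMod n)) (χ i)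
  have hev : ∀ i (f : Multiplicative (ZMod n) → ℂ), ev i (elt f) = ∑ x, f x * χ i x := by
    intro i f
    simp only [ev, elt, map_sum, MonoidAlgebra.lift_single, smul_eq_mul]
  -- Fourier inversion
  have hinj : ∀ f f', (∀ i < n, ev i f = ev i f') →
      MonoidAlgebra.coeff f = MonoidAlgebra.coeff f' := by
    intro f f' h
    have hexp : ∀ e : MonoidAlgebra ℂ (Multiplicative (ZMod n)), elt (MonoidAlgebra.coeff e) = e :=
      fun e => MonoidAlgebra.coeff_injective (Finsupp.ext fun h => coeff_elt _ h)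
    ext y
    have hsum : ∀ x, ∑ i ∈ Finset.range n, χ i x * χ i y⁻¹ = if x = y then (n : ℂ) else 0 := by
      intro x
      have e : ∀ i, χ i x * χ i y⁻¹ = (ζ ^ val (x * y⁻¹)) ^ i := fun i => by
        rw [← map_mul]; change (ζ ^ i) ^ _ = _; rw [← pow_mul, ← pow_mul, mul_comm]
      simp only [e]
      split_ifs with hxy
      · simp [hxy, val]
      · have h0 : val (x * y⁻¹) ≠ 0 := by
          intro h0
          apply hxy
          have := hval (x * y⁻¹)
          rw [h0] at this
          exact mul_inv_eq_one.1 (this.symm.trans (by simp [elem]))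
        have hne : ζ ^ val (x * y⁻¹) ≠ 1 := fun h1 =>
          h0 (Nat.eq_zero_of_dvd_of_lt (hζ.dvd_of_pow_eq_one _ h1) (hvlt _))
        rw [geom_sum_eq hne, ← pow_mul, mul_comm, pow_mul, hζ.pow_eq_one, one_pow, sub_self,
          zero_div]
    have key : ∀ e : MonoidAlgebra ℂ (Multiplicative (ZMod n)),
        ∑ i ∈ Finset.range n, ev i e * χ i y⁻¹ = (n : ℂ) * MonoidAlgebra.coeff e y := by
      intro e
      conv_lhs => rw [← hexp e]
      simp only [hev, Finset.sum_mul, mul_assoc]
      rw [Finset.sum_comm]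
      simp only [← Finset.mul_sum, hsum, mul_ite, mul_zero, Finset.sum_ite_eq', Finset.mem_univ,
        if_true]
      rw [mul_comm]
    have := key f
    rw [Finset.sum_congr rfl fun i hi => by rw [h i (Finset.mem_range.1 hi)], key f'] at this
    exact (mul_left_cancel₀ (Nat.cast_ne_zero.2 (NeZero.ne n)) this).symm
  -- the invariant elements form a subalgebra
  have hexp : ∀ e : MonoidAlgebra ℂ (Multiplicative (ZMod n)), elt (MonoidAlgebra.coeff e) = e :=
    fun e => MonoidAlgebra.coeff_injective (Finsupp.ext fun h => coeff_elt _ h)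
  let 𝒜 : Subalgebra ℂ (MonoidAlgebra ℂ (Multiplicative (ZMod n))) :=
    { carrier := {e | InvF G c fun h => MonoidAlgebra.coeff e h}
      one_mem' := fun g u v => by
        simp only [MonoidAlgebra.one_def, MonoidAlgebra.coeff_single, Finsupp.single_apply,
          eq_comm (a := (1 : Multiplicative (ZMod n))), rel_eq_one, smul_left_cancel_iff]
      mul_mem' := fun {e e'} he he' => by
        have e1 : e * e' = elt fun h => ∑ x, MonoidAlgebra.coeff e x *
            MonoidAlgebra.coeff e' (x⁻¹ * h) := by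
          rw [← elt_mul, hexp, hexp]
        simp only [Set.mem_ofPred_eq, e1, coeff_elt]
        exact InvF.conv he he'
      zero_mem' := fun g u v => by simp
      add_mem' := fun {e e'} he he' g u v => by
        simp [MonoidAlgebra.coeff_add, he g u v, he' g u v]
      algebraMap_mem' := fun r g u v => by
        simp only [MonoidAlgebra.coe_algebraMap, Function.comp_apply, MonoidAlgebra.coeff_single,
          Finsupp.single_apply, eq_comm (a := (1 : Multiplicative (ZMod n))), rel_eq_one,
          smul_left_cancel_iff] }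
  set x₀ := elt (fun h => if h ∈ X then (1 : ℂ) else 0) with hx₀def
  have hx₀ : x₀ ∈ 𝒜 := by
    intro g u v
    simp only [hx₀def, coeff_elt, hXmem,
      (horb (elem 1)).mem_iff g u v]
  set v : ℕ → ℂ := fun i => ev i x₀ with hvdef
  have hv : ∀ i, v i = ∑ x ∈ X, χ i x := by
    intro i
    rw [hvdef]
    simp only [hx₀def, hev, ite_mul, one_mul, zero_mul, Finset.sum_ite_mem, Finset.univ_inter]
  -- split the orbit along `P`
  set A := X.filter (fun x => x ∈ P) with hA
  set B := X.filter (fun x => x ∉ P) with hB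
  have hsplit : ∀ i, v i = (∑ x ∈ A, χ i x) + ∑ x ∈ B, χ i x := fun i => by
    rw [hv, Finset.sum_filter_add_sum_filter_not]
  set J := A.image (fun x => val x / q) with hJdef
  have hAq : ∀ x ∈ A, q * (val x / q) = val x := fun x hx =>
    Nat.mul_div_cancel' ((hmemP x).1 (Finset.mem_filter.1 hx).2)
  have hJinj : Set.InjOn (fun x => val x / q) A := by
    intro x hx y hy hxy
    simp only at hxy
    rw [← hval x, ← hval y, ← hAq x hx, ← hAq y hy, hxy]
  have hJ : J ⊆ Finset.Icc 1 (p - 1) := by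
    intro j hj
    obtain ⟨x, hx, rfl⟩ := Finset.mem_image.1 hj
    obtain ⟨hxX, hxP⟩ := Finset.mem_filter.1 hx
    have h0 : val x / q ≠ 0 := by
      intro h0
      have e := hAq x hx
      rw [h0, mul_zero] at e
      have : x = 1 := by rw [← hval x, ← e]; simp [elem]
      exact hq1 (h1orb _ (this ▸ (hXmem x).1 hxX))
    have h1 : val x / q < p := Nat.div_lt_of_lt_mul (hnpq ▸ hvlt x)
    exact Finset.mem_Icc.2 ⟨Nat.one_le_iff_ne_zero.2 h0, Nat.le_sub_one_of_lt h1⟩
  have hJne : J.Nonempty := by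
    obtain ⟨z, hz, hzP⟩ := hmeet _ hq1
    exact ⟨_, Finset.mem_image.2 ⟨z, Finset.mem_filter.2 ⟨(hXmem z).2 hz, hzP⟩, rfl⟩⟩
  have hJprop : J ≠ Finset.Icc 1 (p - 1) := by
    intro h
    have h1 : val z₁ / q ∈ J := by
      rw [h, Finset.mem_Icc]
      obtain ⟨e, he⟩ := (hmemP z₁).1 hz₁P
      rw [he, Nat.mul_div_cancel_left _ hq]
      have h2 : e < p := by
        have := hvlt z₁
        rw [he, hnpq] at this
        exact Nat.lt_of_mul_lt_mul_left this
      refine ⟨Nat.one_le_iff_ne_zero.2 fun e0 => hz₁1 ?_, by omega⟩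
      rw [← hval z₁, he, e0]; simp [elem]
    obtain ⟨x, hx, hxe⟩ := Finset.mem_image.1 h1
    apply hz₁
    rw [← hval z₁, ← Nat.mul_div_cancel' ((hmemP z₁).1 hz₁P), ← hxe, hAq x hx, hval,
      ← hXmem]
    exact (Finset.mem_filter.1 hx).1
  -- values at the two kinds of characters
  have hcopn : ∀ j, ¬ p ∣ j → j.Coprime n := fun j hj => by
    rw [hn]
    exact Nat.Coprime.pow_right _ ((Nat.Prime.coprime_iff_not_dvd hp).2 hj).symm
  have hsep : ∀ i < n, ∀ j < n, p ∣ i → ¬ p ∣ j → v i ≠ v j := by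
    intro i hi j hj hpi hpj heq
    have hω : IsPrimitiveRoot (ζ ^ j) n :=
      hζ.pow_of_coprime j (hcopn j hpj)
    obtain ⟨l, -, hl⟩ := hω.eq_pow_of_pow_eq_one
      (show (ζ ^ i) ^ n = 1 by rw [← pow_mul, mul_comm, pow_mul, hζ.pow_eq_one, one_pow])
    have hiP : ∀ z ∈ P, χ i z = 1 := by
      intro z hz
      obtain ⟨e, he⟩ := (hmemP z).1 hz
      obtain ⟨i', rfl⟩ := hpi
      change (ζ ^ (p * i')) ^ val z = 1
      rw [he, ← pow_mul, show p * i' * (q * e) = n * (i' * e) by rw [hnpq]; ring, pow_mul,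
        hζ.pow_eq_one, one_pow]
    have hjsum : ∑ x ∈ B, χ j x = 0 := by
      have hz₁ne : χ j z₁ ≠ 1 := by
        intro h
        have h2 := hω.dvd_of_pow_eq_one _ (show (ζ ^ j) ^ val z₁ = 1 from h)
        apply hz₁1
        rw [← hval z₁, Nat.eq_zero_of_dvd_of_lt h2 (hvlt _)]
        simp [elem]
      have hshift : ∑ x ∈ B, χ j (z₁ * x) = ∑ x ∈ B, χ j x := by
        refine Finset.sum_nbij' (fun x => z₁ * x) (fun x => z₁⁻¹ * x) ?_ ?_ ?_ ?_ ?_
        · intro x hx
          obtain ⟨hxX, hxP⟩ := Finset.mem_filter.1 hx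
          exact Finset.mem_filter.2 ⟨(hXmem _).2 (hcoset _ _ x ((hXmem x).1 hxX) hxP hz₁P),
            fun h => hxP ((P.mul_mem_cancel_left hz₁P).1 h)⟩
        · intro x hx
          obtain ⟨hxX, hxP⟩ := Finset.mem_filter.1 hx
          exact Finset.mem_filter.2
            ⟨(hXmem _).2 (hcoset _ _ x ((hXmem x).1 hxX) hxP (P.inv_mem hz₁P)),
            fun h => hxP ((P.mul_mem_cancel_left (P.inv_mem hz₁P)).1 h)⟩
        · intro x _; simp
        · intro x _; simp
        · intro x _; rfl
      simp only [map_mul, ← Finset.mul_sum] at hshift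
      by_contra h0
      exact hz₁ne (mul_right_cancel₀ h0 (hshift.trans (one_mul _).symm))
    have hiB : ∑ x ∈ B, χ i x =
        (p : ℂ) * ∑ x ∈ B.filter (fun x => val x < q), χ i x := by
      have hmap : ∀ x ∈ B, x * (elem (q * (val x / q)))⁻¹ ∈ B.filter (fun x => val x < q) := by
        intro x hx
        obtain ⟨hxX, hxP⟩ := Finset.mem_filter.1 hx
        have hz : (elem (q * (val x / q)))⁻¹ ∈ P := P.inv_mem <| by
          rw [hmemP, hval', Nat.dvd_mod_iff ⟨p, hnpq⟩]
          exact dvd_mul_right _ _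
        have hlow : x * (elem (q * (val x / q)))⁻¹ = elem (val x % q) := by
          rw [mul_inv_eq_iff_eq_mul]
          change x = Multiplicative.ofAdd ((val x % q : ℕ) : ZMod n) * _
          rw [← ofAdd_add, ← Nat.cast_add, Nat.mod_add_div]
          exact (hval x).symm
        refine Finset.mem_filter.2 ⟨Finset.mem_filter.2 ⟨(hXmem _).2 ?_, ?_⟩, ?_⟩
        · rw [mul_comm]; exact hcoset _ _ x ((hXmem x).1 hxX) hxP hz
        · exact fun h => hxP ((P.mul_mem_cancel_right hz).1 h)
        · rw [hlow, hval']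
          exact lt_of_le_of_lt (Nat.mod_le _ _) (Nat.mod_lt _ hq)
      rw [← Finset.sum_fiberwise_of_maps_to hmap]
      rw [Finset.mul_sum]
      refine Finset.sum_congr rfl fun y hy => ?_
      obtain ⟨hyB, hylt⟩ := Finset.mem_filter.1 hy
      obtain ⟨hyX, hyP⟩ := Finset.mem_filter.1 hyB
      have hfib : B.filter (fun x => x * (elem (q * (val x / q)))⁻¹ = y) =
          (Finset.univ.filter (fun z => z ∈ P)).image (fun z => z * y) := by
        ext x
        simp only [Finset.mem_filter, Finset.mem_image, Finset.mem_univ, true_and]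
        constructor
        · rintro ⟨-, hx⟩
          refine ⟨elem (q * (val x / q)), ?_, by rw [← hx]; simp⟩
          rw [hmemP, hval', Nat.dvd_mod_iff ⟨p, hnpq⟩]
          exact dvd_mul_right _ _
        · rintro ⟨z, hz, rfl⟩
          refine ⟨Finset.mem_filter.2 ⟨(hXmem _).2 (hcoset _ _ y ((hXmem y).1 hyX) hyP hz),
            fun h => hyP ((P.mul_mem_cancel_left hz).1 h)⟩, ?_⟩
          have hv2 : val (z * y) / q = val z / q := by
            obtain ⟨e, he⟩ := (hmemP z).1 hz
            have hlt : val z + val y < n := by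
              have h3 : e < p := by
                have := hvlt z
                rw [he, hnpq] at this
                exact Nat.lt_of_mul_lt_mul_left this
              rw [he, hnpq]
              calc q * e + val y < q * e + q := by omega
                _ = q * (e + 1) := by ring
                _ ≤ q * p := Nat.mul_le_mul_left _ h3
            have : val (z * y) = val z + val y := by
              simp only [val, toAdd_mul]
              exact ZMod.val_add_of_lt hlt
            rw [this, he, Nat.add_comm, Nat.add_mul_div_left _ _ hq, Nat.div_eq_of_lt hylt,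
              Nat.zero_add, Nat.mul_div_cancel_left _ hq]
          rw [hv2, Nat.mul_div_cancel' ((hmemP z).1 hz), hval, mul_comm z y, mul_inv_cancel_right]
      rw [hfib, Finset.sum_image (fun z _ w _ e => mul_right_cancel e)]
      rw [Finset.sum_congr rfl fun z hz => by
        rw [map_mul, hiP z (Finset.mem_filter.1 hz).2, one_mul]]
      rw [Finset.sum_const, nsmul_eq_mul, ← Fintype.card_subtype, ← Nat.card_eq_fintype_card]
      exact congrArg (fun t : ℕ => (t : ℂ) * χ i y) hPcard
    have hiA : ∑ x ∈ A, χ i x = (A.card : ℂ) := by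
      rw [Finset.sum_congr rfl fun x hx => hiP x (Finset.mem_filter.1 hx).2, Finset.sum_const,
        nsmul_one]
    have hjA : ∑ x ∈ A, χ j x = ∑ e ∈ J, (ζ ^ j) ^ (q * e) := by
      rw [hJdef, Finset.sum_image hJinj]
      exact Finset.sum_congr rfl fun x hx => by rw [hAq x hx]; rfl
    refine not_congruent hp (k := k + 1) (by rwa [hn] at hω) J hJ hJne hJprop
      (∑ x ∈ B.filter (fun x => val x < q), Polynomial.X ^ (l * val x)) ?_
    have hQ : aeval (ζ ^ j) (∑ x ∈ B.filter (fun x => val x < q), (Polynomial.X : ℤ[X]) ^ (l * val x)) =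
        ∑ x ∈ B.filter (fun x => val x < q), χ i x := by
      simp only [map_sum, map_pow, aeval_X]
      refine Finset.sum_congr rfl fun x _ => ?_
      rw [pow_mul, hl]; rfl
    rw [hQ, Finset.card_image_of_injOn hJinj, ← hjA, ← hiB, ← hiA]
    have := heq
    rw [hsplit i, hsplit j, hjsum, add_zero] at this
    rw [← this]; ring
  -- interpolate
  set T := (Finset.range n).image v with hT
  set r : ℂ → ℂ := fun t => if ∃ i < n, p ∣ i ∧ v i = t then 1 else 0 with hr
  set L := Lagrange.interpolate T id r with hLdef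
  have hLval : ∀ i < n, ev i (aeval x₀ L) = if p ∣ i then 1 else 0 := by
    intro i hi
    rw [← Polynomial.aeval_algHom_apply]
    change aeval (v i) L = _
    rw [coe_aeval_eq_eval]
    have e := Lagrange.eval_interpolate_at_node (s := T) (v := id) r (i := v i) (Set.injOn_id _)
      (Finset.mem_image.2 ⟨i, Finset.mem_range.2 hi, rfl⟩)
    rw [id] at e
    rw [e, hr]
    simp only
    by_cases hpi : p ∣ i
    · rw [if_pos hpi, if_pos ⟨i, hi, hpi, rfl⟩]
    · rw [if_neg hpi, if_neg]
      rintro ⟨l, hl, hpl, hle⟩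
      exact hsep l hl i hi hpl hpi hle
  set e₀ := elt (fun h => if h ∈ P then ((p : ℂ))⁻¹ else 0) with he₀
  have he₀val : ∀ i < n, ev i e₀ = if p ∣ i then 1 else 0 := by
    intro i _
    rw [he₀, hev]
    simp only [ite_mul, zero_mul]
    rw [← Finset.sum_filter, ← Finset.mul_sum]
    by_cases hpi : p ∣ i
    · rw [if_pos hpi, Finset.sum_congr rfl (g := fun _ => (1 : ℂ)) fun z hz => ?_]
      · rw [Finset.sum_const, nsmul_one, ← Fintype.card_subtype, ← Nat.card_eq_fintype_card]
        exact (congrArg (fun t : ℕ => ((p : ℂ))⁻¹ * (t : ℂ)) hPcard).trans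
          (inv_mul_cancel₀ (Nat.cast_ne_zero.2 hp.ne_zero))
      · obtain ⟨e, he⟩ := (hmemP z).1 (Finset.mem_filter.1 hz).2
        obtain ⟨i', rfl⟩ := hpi
        change (ζ ^ (p * i')) ^ val z = 1
        rw [he, ← pow_mul, show p * i' * (q * e) = n * (i' * e) by rw [hnpq]; ring, pow_mul,
          hζ.pow_eq_one, one_pow]
    · rw [if_neg hpi]
      have hne : χ i z₁ ≠ 1 := by
        intro h
        have hω : IsPrimitiveRoot (ζ ^ i) n :=
          hζ.pow_of_coprime i (hcopn i hpi)
        apply hz₁1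
        rw [← hval z₁, Nat.eq_zero_of_dvd_of_lt
          (hω.dvd_of_pow_eq_one _ (show (ζ ^ i) ^ val z₁ = 1 from h)) (hvlt _)]
        simp [elem]
      have hshift : ∑ x ∈ Finset.univ.filter (fun x => x ∈ P), χ i (z₁ * x) =
          ∑ x ∈ Finset.univ.filter (fun x => x ∈ P), χ i x := by
        refine Finset.sum_nbij' (fun x => z₁ * x) (fun x => z₁⁻¹ * x) ?_ ?_ ?_ ?_ ?_
        · intro x hx
          simpa [P.mul_mem_cancel_left hz₁P] using hx
        · intro x hx
          simpa [P.mul_mem_cancel_left (P.inv_mem hz₁P)] using hx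
        · intro x _; simp
        · intro x _; simp
        · intro x _; rfl
      simp only [map_mul, ← Finset.mul_sum] at hshift
      refine mul_eq_zero_of_right _ ?_
      by_contra h0
      exact hne (mul_right_cancel₀ h0 (hshift.trans (one_mul _).symm))
  have hco := hinj (aeval x₀ L) e₀ fun i hi => (hLval i hi).trans (he₀val i hi).symm
  have hmem : aeval x₀ L ∈ 𝒜 := by
    have e : aeval x₀ L = ((aeval (⟨x₀, hx₀⟩ : 𝒜) L : 𝒜) : MonoidAlgebra ℂ _) :=
      aeval_algHom_apply 𝒜.val ⟨x₀, hx₀⟩ L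
    rw [e]
    exact (aeval (⟨x₀, hx₀⟩ : 𝒜) L : 𝒜).2
  have hPinv : InvS G c (P : Set (Multiplicative (ZMod n))) := by
    intro g u v
    have h := hmem g u v
    simp only [hco, he₀, coeff_elt] at h
    have hpne : ((p : ℂ))⁻¹ ≠ 0 := inv_ne_zero (Nat.cast_ne_zero.2 hp.ne_zero)
    simp only [SetLike.mem_coe]
    refine propext ⟨fun h1 => ?_, fun h1 => ?_⟩
    · by_contra h2
      rw [if_pos h1, if_neg h2] at h
      exact hpne h
    · by_contra h2
      rw [if_pos h1, if_neg h2] at h
      exact hpne h.symm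
  rcases subgroup_trivial hprim P hPinv with h | h
  · exact hPne h
  · exact hPtop h

end Cfsg.Agent.Perm.CyclicPrimePower
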