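import Cfsg.Agent.Lib.Perm.ThompsonWielandt

/-!
Conjugate maximal subgroups, and Wielandt's bound on the index of the second core.
-/

set_option autoImplicit false

namespace Cfsg.Agent.ThompsonWielandt

open Subgroup Cfsg.Agent.Components
open Cfsg.Agent.Components.MaximalPair (core)

variable {G : Type*} [Group G] [Finite G]

lemma prim_of_isCoatom {M : Subgroup G} (hM : IsCoatom M) (hcore : M.normalCore = ⊥) : Prim M := by
  intro X h0 hX hn
  rcases hM.le_iff.mp hn with h | h
  · have hXn : X.Normal := normalizer_eq_top_iff.mp h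
    exact absurd (le_bot_iff.mp (hcore ▸ normal_le_normalCore.mpr hX)) h0
  · exact h.le

lemma isCoatom_conj {M : Subgroup G} (hM : IsCoatom M) (g : G) :
    IsCoatom (M.map (MulAut.conj g).toMonoidHom) :=
  (OrderIso.isCoatom_iff (MulEquiv.mapSubgroup (MulAut.conj g)) M).mpr hM

lemma normalCore_conj {M : Subgroup G} (hcore : M.normalCore = ⊥) (g : G) :
    (M.map (MulAut.conj g).toMonoidHom).normalCore = ⊥ := by
  rw [← le_bot_iff, ← hcore]
  intro x hx
  change ∀ b, b * x * b⁻¹ ∈ M.map (MulAut.conj g).toMonoidHom at hx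
  intro b
  obtain ⟨y, hy, he⟩ := hx (g * b)
  simp only [MulEquiv.coe_toMonoidHom, MulAut.conj_apply] at he
  have : y = b * x * b⁻¹ := by
    have h : g * y * g⁻¹ = g * (b * x * b⁻¹) * g⁻¹ := by rw [he]; group
    exact mul_left_cancel (mul_right_cancel h)
  exact this ▸ hy

lemma card_core_conj (M : Subgroup G) (g : G) (p : ℕ) :
    Nat.card (core p M) = Nat.card (core p (M.map (MulAut.conj g).toMonoidHom)) := by
  set N := M.map (MulAut.conj g).toMonoidHom
  have e : M ≃* N := M.equivMapOfInjective _ (MulAut.conj g).injective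
  rw [core, core, card_map_of_injective M.subtype_injective, card_map_of_injective N.subtype_injective,
    ← Cores.map_pCore_eq e p, card_map_of_injective e.injective]

/-- The pair theorem for conjugate maximal subgroups. -/
theorem pair_conj {M N : Subgroup G} (hM : IsCoatom M) (hcore : M.normalCore = ⊥) {g : G}
    (hN : N = M.map (MulAut.conj g).toMonoidHom) (hne : M ≠ N)
    {A B : Subgroup G} (hA0 : A ≠ ⊥) (hAn : M ≤ normalizer (A : Set G)) (hA : A ≤ cr N (M ⊓ N))
    (hB0 : B ≠ ⊥) (hBn : N ≤ normalizer (B : Set G)) (hB : B ≤ cr M (M ⊓ N)) :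
    ∃ p : ℕ, p.Prime ∧ Cfsg.generalizedFittingSubgroup M = Cfsg.pCore p M ∧
      Cfsg.generalizedFittingSubgroup N = Cfsg.pCore p N ∧ IsPGroup p A ∧ IsPGroup p B := by
  refine pair (prim_of_isCoatom hM hcore) ?_ hne (fun p => hN ▸ card_core_conj M g p) hA0 hAn hA hB0 hBn hB
  rw [hN]
  exact prim_of_isCoatom (isCoatom_conj hM g) (normalCore_conj hcore g)

lemma relIndex_cr_dvd (M X : Subgroup G) : (cr M X).relIndex M ∣ (X.relIndex M).factorial := by
  rw [relIndex, cr, subgroupOf, comap_map_eq_self_of_injective M.subtype_injective, normalCore_eq_ker,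
    index_ker]
  refine (card_subgroup_dvd_card _).trans ?_
  rw [Nat.card_perm]
  rfl

/-- Wielandt's bound: the index in `M` of the core of `L`, for `L` the core of `M ⊓ N` in `N`. -/
theorem relIndex_cr_cr_dvd {M N : Subgroup G} (hcard : Nat.card M = Nat.card N) {d : ℕ}
    (hd : (M ⊓ N).relIndex M = d) :
    (cr M (cr N (M ⊓ N))).relIndex M ∣ d.factorial * (d - 1).factorial ^ d := by
  set H := M ⊓ N with hH
  set K := cr M H with hK
  set L := cr N H with hL
  set A := cr M L with hA
  have hLH : L ≤ H := cr_le _ _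
  have hKH : K ≤ H := cr_le _ _
  have hAK : A ≤ K := le_cr (cr_le_left _ _) ((cr_le _ _).trans hLH) (le_normalizer_cr _ _)
  have hd0 : d ≠ 0 := hd ▸ index_ne_zero_of_finite
  have hHN : H.relIndex N = d := by
    have h1 := relIndex_mul_relIndex (⊥ : Subgroup G) H N bot_le inf_le_right
    have h2 := relIndex_mul_relIndex (⊥ : Subgroup G) H M bot_le inf_le_left
    rw [relIndex_bot_left, relIndex_bot_left, ← hcard] at h1
    rw [relIndex_bot_left, relIndex_bot_left, hd] at h2
    exact Nat.eq_of_mul_eq_mul_left Nat.card_pos (h1.trans h2.symm)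
  have hLHd : L.relIndex H ∣ (d - 1).factorial := by
    have h1 := relIndex_mul_relIndex L H N hLH inf_le_right
    have h2 : L.relIndex N ∣ d.factorial := hHN ▸ relIndex_cr_dvd N H
    rw [← h1, hHN, ← Nat.mul_factorial_pred hd0, mul_comm d] at h2
    exact Nat.dvd_of_mul_dvd_mul_right (Nat.pos_of_ne_zero hd0) h2
  have hLn : (L.subgroupOf H).Normal :=
    normal_subgroupOf_of_le_normalizer (inf_le_right.trans (le_normalizer_cr _ _))
  have hmem : ∀ (m : M) (x : K), (m : G)⁻¹ * x * m ∈ H := fun m x =>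
    hKH (conj_mem' (le_normalizer_cr M H) m.2 x.2)
  let ψ : (M ⧸ H.subgroupOf M) → (K →* H ⧸ L.subgroupOf H) := fun c =>
    MonoidHom.mk' (fun x => QuotientGroup.mk ⟨_, hmem c.out x⟩) fun x y => by
      rw [← QuotientGroup.mk_mul]
      congr 1
      ext
      simp only [Subgroup.coe_mul]
      group
  let φ : K →* ((M ⧸ H.subgroupOf M) → H ⧸ L.subgroupOf H) := MonoidHom.pi ψ
  have hker : φ.ker ≤ A.subgroupOf K := by
    intro x hx
    refine mem_subgroupOf.mpr (mem_cr.mpr ⟨cr_le_left _ _ x.2, fun m hm => ?_⟩)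
    set c : M ⧸ H.subgroupOf M := QuotientGroup.mk ((⟨m, hm⟩ : M)⁻¹) with hc
    have h : ((c.out : M) : G)⁻¹ * x * (c.out : M) ∈ L := by
      have := congrFun (MonoidHom.mem_ker.mp hx) c
      exact mem_subgroupOf.mp ((QuotientGroup.eq_one_iff _).mp this)
    obtain ⟨h₀, he⟩ := QuotientGroup.mk_out_eq_mul (H.subgroupOf M) ((⟨m, hm⟩ : M)⁻¹)
    rw [← hc] at he
    have hh : ((h₀ : M) : G) ∈ N := (mem_subgroupOf.mp h₀.2).2
    have := conj_mem (le_normalizer_cr N H) hh h
    rw [he] at this
    simp only [Subgroup.coe_mul, InvMemClass.coe_inv] at this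
    convert this using 1
    group
  rw [← relIndex_mul_relIndex A K M hAK (cr_le_left _ _), mul_comm]
  refine Nat.mul_dvd_mul (hd ▸ relIndex_cr_dvd M H) ?_
  rw [relIndex]
  refine (index_dvd_of_le hker).trans ?_
  rw [index_ker]
  refine (card_subgroup_dvd_card _).trans ?_
  rw [Nat.card_fun, show Nat.card (M ⧸ H.subgroupOf M) = d from hd]
  exact pow_dvd_pow_of_dvd hLHd d

/-- Either the order of `M` obeys Wielandt's bound, or `M` is strongly constrained and the second core is a
non-trivial normal `p`-subgroup. -/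
theorem bound_or_pGroup {M N : Subgroup G} (hM : IsCoatom M) (hcore : M.normalCore = ⊥) {g : G}
    (hN : N = M.map (MulAut.conj g).toMonoidHom) (hne : M ≠ N) {d : ℕ} (hd : (M ⊓ N).relIndex M = d) :
    Nat.card M ∣ d.factorial * (d - 1).factorial ^ d ∨
      ∃ p : ℕ, p.Prime ∧ Cfsg.generalizedFittingSubgroup M = Cfsg.pCore p M ∧
        cr M (cr N (M ⊓ N)) ≠ ⊥ ∧ IsPGroup p (cr M (cr N (M ⊓ N))) := by
  have hcard : Nat.card M = Nat.card N := by
    rw [hN]
    exact (card_map_of_injective (MulAut.conj g).injective).symm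
  set A := cr M (cr N (M ⊓ N)) with hA
  set B := cr N (cr M (N ⊓ M)) with hB
  have hd' : (N ⊓ M).relIndex N = d := by
    have h1 := relIndex_mul_relIndex (⊥ : Subgroup G) (M ⊓ N) N bot_le inf_le_right
    have h2 := relIndex_mul_relIndex (⊥ : Subgroup G) (M ⊓ N) M bot_le inf_le_left
    rw [relIndex_bot_left, relIndex_bot_left, ← hcard] at h1
    rw [relIndex_bot_left, relIndex_bot_left, hd] at h2
    rw [inf_comm]
    exact Nat.eq_of_mul_eq_mul_left Nat.card_pos (h1.trans h2.symm)
  by_cases hA0 : A = ⊥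
  · left
    have h : A.relIndex M ∣ d.factorial * (d - 1).factorial ^ d := relIndex_cr_cr_dvd hcard hd
    rwa [hA0, relIndex_bot_left] at h
  by_cases hB0 : B = ⊥
  · left
    have h : B.relIndex N ∣ d.factorial * (d - 1).factorial ^ d := relIndex_cr_cr_dvd hcard.symm hd'
    rwa [hB0, relIndex_bot_left, ← hcard] at h
  right
  obtain ⟨p, hp, hFM, -, hAp, -⟩ := pair_conj hM hcore hN hne hA0 (le_normalizer_cr _ _) (cr_le _ _)
    hB0 (le_normalizer_cr _ _) ((cr_le _ _).trans (le_of_eq (by rw [inf_comm])))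
  exact ⟨p, hp, hFM, hA0, hAp⟩

end Cfsg.Agent.ThompsonWielandt
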