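import Cfsg.Agent.Lib.Perm.IndexDegree
import Cfsg.Agent.Lib.Perm.ThompsonWielandtBound

/-!
Homomorphisms onto subgroups of index at most two of a symmetric group.
-/

set_option autoImplicit false

namespace Cfsg.Agent.AltImage

open Equiv Subgroup

variable {n : ℕ}

lemma simple_alt (h5 : 5 ≤ n) : IsSimpleGroup (alternatingGroup (Fin n)) :=
  alternatingGroup.isSimpleGroup (by rwa [Nat.card_fin])

lemma two_mul_card_alt (h5 : 5 ≤ n) : 2 * Nat.card (alternatingGroup (Fin n)) = n.factorial := by
  have : Nontrivial (Fin n) := Fin.nontrivial_iff_two_le.mpr (by omega)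
  rw [two_mul_nat_card_alternatingGroup, Nat.card_perm, Nat.card_fin]

lemma alt_not_comm (h5 : 5 ≤ n) : ¬ ⁅alternatingGroup (Fin n), alternatingGroup (Fin n)⁆ = (⊥ : Subgroup (Perm (Fin n))) := by
  intro h
  have hc : IsMulCommutative (alternatingGroup (Fin n)) := commutator_self_eq_bot_iff.mp h
  have := alternatingGroup.isMulCommutative_iff_card_le_three (α := Fin n) |>.mp hc
  rw [Nat.card_fin] at this
  omega

lemma centralizer_alt (h5 : 5 ≤ n) : centralizer (alternatingGroup (Fin n) : Set (Perm (Fin n))) = ⊥ := by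
  rcases Perm.IndexDegree.normal_cases (Ω := Fin n) (by simpa using h5)
      (centralizer (alternatingGroup (Fin n) : Set (Perm (Fin n)))) with h | h
  · exact h
  · exact absurd (commutator_eq_bot_iff_le_centralizer.mpr h) (alt_not_comm h5)

lemma alt_le_range {H : Type*} [Group H] (h5 : 5 ≤ n) {ι : H →* Perm (Fin n)}
    (hbig : n.factorial ≤ 2 * Nat.card ι.range) : alternatingGroup (Fin n) ≤ ι.range := by
  refine Equiv.Perm.alternatingGroup_le_of_index_le_two ?_
  have h := card_mul_index ι.range
  rw [Nat.card_perm, Nat.card_fin] at h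
  have hpos : 0 < Nat.card ι.range := Nat.card_pos
  refine Nat.le_of_mul_le_mul_left ?_ hpos
  rw [h]
  linarith

/-- A subgroup normalized by the alternating group is trivial or contains it. -/
lemma alt_le_of_normalized (h5 : 5 ≤ n) {Y : Subgroup (Perm (Fin n))}
    (hY : alternatingGroup (Fin n) ≤ normalizer (Y : Set (Perm (Fin n)))) :
    Y = ⊥ ∨ alternatingGroup (Fin n) ≤ Y := by
  have := simple_alt h5
  have hn : (Y.subgroupOf (alternatingGroup (Fin n))).Normal := normal_subgroupOf_of_le_normalizer hY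
  rcases hn.eq_bot_or_eq_top with h | h
  · left
    rw [← le_bot_iff, ← centralizer_alt h5]
    refine Components.MaximalPair.le_centralizer_of_disjoint ?_ hY ?_
    · rw [normalizer_eq_top]
      exact le_top
    · rw [← subgroupOf_map_subtype, h, Subgroup.map_bot]
  · exact Or.inr (subgroupOf_eq_top.mp h)

variable {H : Type*} [Group H]

lemma map_normal (h5 : 5 ≤ n) {ι : H →* Perm (Fin n)} (hbig : n.factorial ≤ 2 * Nat.card ι.range)
    (Y : Subgroup H) [hY : Y.Normal] : Y ≤ ι.ker ∨ alternatingGroup (Fin n) ≤ Y.map ι := by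
  have hn : alternatingGroup (Fin n) ≤ normalizer (Y.map ι : Set (Perm (Fin n))) := by
    intro x hx
    obtain ⟨h, rfl⟩ := alt_le_range h5 hbig hx
    exact le_normalizer_map ι ⟨h, normalizer_eq_top Y ▸ mem_top h, rfl⟩
  rcases alt_le_of_normalized h5 hn with h | h
  · exact Or.inl ((Subgroup.map_eq_bot_iff _).mp h)
  · exact Or.inr h

/-- Two normal subgroups commuting modulo the kernel cannot both lie outside it. -/
lemma le_ker_or_le_ker (h5 : 5 ≤ n) {ι : H →* Perm (Fin n)} (hbig : n.factorial ≤ 2 * Nat.card ι.range)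
    (Y Z : Subgroup H) [Y.Normal] [Z.Normal] (h : ⁅Y, Z⁆ ≤ ι.ker) : Y ≤ ι.ker ∨ Z ≤ ι.ker := by
  rcases map_normal h5 hbig Y with hY | hY
  · exact Or.inl hY
  rcases map_normal h5 hbig Z with hZ | hZ
  · exact Or.inr hZ
  refine absurd (le_bot_iff.mp ((commutator_mono hY hZ).trans ?_)) (alt_not_comm h5)
  rw [← map_commutator, le_bot_iff, Subgroup.map_eq_bot_iff]
  exact h

/-- The image is the alternating group or everything. -/
lemma range_cases (h5 : 5 ≤ n) {ι : H →* Perm (Fin n)} (hbig : n.factorial ≤ 2 * Nat.card ι.range) :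
    ι.range = alternatingGroup (Fin n) ∨ ι.range = ⊤ :=
  Perm.IndexDegree.eq_of_alternating_le (alt_le_range h5 hbig)

end Cfsg.Agent.AltImage
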