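import Mathlib
import Cfsg.Agent.Lib.Perm.Sharp
import Cfsg.Agent.Lib.Perm.EvenNormalizer

/-!
# Sharply multiply transitive groups: Jordan's theorem on their degrees
-/

set_option autoImplicit false

namespace Cfsg.Agent.Perm.SharpHigh

open MulAction

variable {α : Type*} [Fintype α] [DecidableEq α] {G : Subgroup (Equiv.Perm α)}

theorem eq_one_of_fix {k : ℕ} (hsharp : ∀ x : Fin k ↪ α, stabilizer G x = ⊥) {g : G}
    (v : Fin k → α) (hv : Function.Injective v) (hg : ∀ i, g • v i = v i) : g = 1 :=
  (Cfsg.Agent.Perm.Sharp.stabilizer_embedding_eq_bot_iff ⟨v, hv⟩).1 (hsharp _) g hg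

theorem exists_map {k : ℕ} [IsMultiplyPretransitive G α k] (v w : Fin k → α)
    (hv : Function.Injective v) (hw : Function.Injective w) : ∃ g : G, ∀ i, g • v i = w i := by
  haveI : IsPretransitive G (Fin k ↪ α) := ‹IsMultiplyPretransitive G α k›
  obtain ⟨g, hg⟩ := exists_smul_eq G (⟨v, hv⟩ : Fin k ↪ α) (⟨w, hw⟩ : Fin k ↪ α)
  exact ⟨g, fun i => congrArg (fun f : Fin k ↪ α => f i) hg⟩

/-- The order of a sharply `k`-transitive group, for an arbitrary action. -/
theorem natCard_eq_aux {H : Type*} [Group H] [MulAction H α] {k : ℕ}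
    [IsMultiplyPretransitive H α k] (hsharp : ∀ x : Fin k ↪ α, stabilizer H x = ⊥)
    (hk : k ≤ Fintype.card α) : Nat.card H = (Fintype.card α).descFactorial k := by
  obtain ⟨z⟩ : Nonempty (Fin k ↪ α) :=
    Function.Embedding.nonempty_of_card_le (by rwa [Fintype.card_fin])
  have h' := (stabilizer H z).index_mul_card
  rw [index_stabilizer_of_transitive, hsharp, Subgroup.card_bot, mul_one,
    Nat.card_eq_fintype_card (α := Fin k ↪ α), Fintype.card_embedding_eq, Fintype.card_fin] at h'
  exact h'.symm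

/-- The order of a sharply `k`-transitive group. -/
theorem natCard_eq {k : ℕ} [IsMultiplyPretransitive G α k]
    (hsharp : ∀ x : Fin k ↪ α, stabilizer G x = ⊥) (hk : k ≤ Fintype.card α) :
    Nat.card G = (Fintype.card α).descFactorial k :=
  natCard_eq_aux hsharp hk

/-- The stabiliser of a point in a sharply `(k + 1)`-transitive group, on the other points. -/
theorem exists_pointStabilizer {k : ℕ} [IsMultiplyPretransitive G α (k + 1)] (hk : 1 ≤ k)
    (hsharp : ∀ x : Fin (k + 1) ↪ α, stabilizer G x = ⊥) (a : α)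
    (hn : k + 1 ≤ Fintype.card α) :
    ∃ H : Subgroup (Equiv.Perm {x : α // x ≠ a}), IsMultiplyPretransitive H {x : α // x ≠ a} k ∧
      (∀ x : Fin k ↪ {x : α // x ≠ a}, stabilizer H x = ⊥) ∧
      Fintype.card {x : α // x ≠ a} + 1 = Fintype.card α ∧
      Nonempty (stabilizer G a ≃* H) := by
  have hinv : ∀ g : stabilizer G a, ∀ x : α, ((g : G) : Equiv.Perm α) x ≠ a ↔ x ≠ a := by
    intro g x
    refine not_congr ⟨fun h => ((g : G) : Equiv.Perm α).injective (h.trans g.2.symm), ?_⟩
    rintro rfl
    exact g.2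
  let φ : stabilizer G a →* Equiv.Perm {x : α // x ≠ a} :=
    { toFun := fun g => Equiv.Perm.subtypePerm ((g : G) : Equiv.Perm α) (hinv g)
      map_one' := Equiv.ext fun x => rfl
      map_mul' := fun g h => Equiv.ext fun x => rfl }
  have hext : ∀ {g : stabilizer G a}, (∀ x, x ≠ a → (g : G) • x = x) → g = 1 := by
    intro g hg
    refine Subtype.ext (Subtype.ext (Equiv.ext fun x => ?_))
    by_cases hx : x = a
    · rw [hx]; exact g.2
    · exact hg x hx
  have hinj : Function.Injective φ := by
    rw [← MonoidHom.ker_eq_bot_iff, Subgroup.eq_bot_iff_forall]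
    intro g hg
    exact hext fun x hx => congrArg Subtype.val (Equiv.congr_fun hg ⟨x, hx⟩)
  refine ⟨φ.range, ?_, ?_, ?_, ⟨MonoidHom.ofInjective hinj⟩⟩
  · refine ⟨fun u v => ?_⟩
    have hcons : ∀ u : Fin k ↪ {x : α // x ≠ a},
        Function.Injective (Fin.cons a (fun i => (u i : α)) : Fin (k + 1) → α) := fun u =>
      Fin.cons_injective_iff.2 ⟨by rintro ⟨i, hi⟩; exact (u i).2 hi,
        Subtype.val_injective.comp u.injective⟩
    obtain ⟨g, hg⟩ := exists_map (G := G) _ _ (hcons u) (hcons v)
    refine ⟨⟨φ ⟨g, by simpa using hg 0⟩, ⟨_, rfl⟩⟩, ?_⟩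
    ext i
    show (g : G) • (u i : α) = (v i : α)
    simpa using hg i.succ
  · intro u
    refine (Cfsg.Agent.Perm.Sharp.stabilizer_embedding_eq_bot_iff u).2 ?_
    rintro ⟨_, g, rfl⟩ hfix
    apply Subtype.ext
    show φ g = 1
    rw [show g = 1 from ?_, map_one]
    apply Subtype.ext
    refine eq_one_of_fix hsharp (Fin.cons a fun i => (u i : α))
      (Fin.cons_injective_iff.2 ⟨by rintro ⟨i, hi⟩; exact (u i).2 hi,
        Subtype.val_injective.comp u.injective⟩) fun i => ?_
    refine Fin.cases ?_ (fun j => ?_) i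
    · simp only [Fin.cons_zero]
      exact g.2
    · simp only [Fin.cons_succ]
      exact congrArg Subtype.val (hfix j)
  · rw [Fintype.card_subtype_compl, Fintype.card_subtype_eq]
    omega

section Four

variable [IsMultiplyPretransitive G α 4] (hsharp : ∀ x : Fin 4 ↪ α, stabilizer G x = ⊥)

include hsharp

theorem eq_one_of_fix_four {g : G} {a b c d : α} (hnd : [a, b, c, d].Nodup) (ha : g • a = a)
    (hb : g • b = b) (hc : g • c = c) (hd : g • d = d) : g = 1 := by
  simp only [List.nodup_cons, List.mem_cons, List.not_mem_nil, or_false, not_or,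
    List.nodup_nil, and_true, not_false_eq_true] at hnd
  obtain ⟨⟨hab, hac, had⟩, ⟨hbc, hbd⟩, hcd⟩ := hnd
  refine eq_one_of_fix hsharp ![a, b, c, d] ?_ ?_
  · intro i j hij
    fin_cases i <;> fin_cases j <;> simp_all
  · intro i
    fin_cases i <;> simp [ha, hb, hc, hd]

/-- An involution swapping `c` and `d` and fixing `a` and `b`. -/
theorem exists_transposition {a b c d : α} (hnd : [a, b, c, d].Nodup) :
    ∃ x : G, x * x = 1 ∧ x • a = a ∧ x • b = b ∧ x • c = d ∧ x • d = c := by
  have hnd' := hnd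
  simp only [List.nodup_cons, List.mem_cons, List.not_mem_nil, or_false, not_or,
    List.nodup_nil, and_true, not_false_eq_true] at hnd'
  obtain ⟨⟨hab, hac, had⟩, ⟨hbc, hbd⟩, hcd⟩ := hnd'
  obtain ⟨x, hx⟩ := exists_map (G := G) ![a, b, c, d] ![a, b, d, c]
    (by intro i j hij; fin_cases i <;> fin_cases j <;> simp_all)
    (by intro i j hij; fin_cases i <;> fin_cases j <;> simp_all)
  have h0 : x • a = a := hx 0
  have h1 : x • b = b := hx 1
  have h2 : x • c = d := hx 2
  have h3 : x • d = c := hx 3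
  refine ⟨x, eq_one_of_fix_four hsharp hnd ?_ ?_ ?_ ?_, h0, h1, h2, h3⟩ <;>
    simp [mul_smul, h0, h1, h2, h3]

omit hsharp [IsMultiplyPretransitive G α 4] in
theorem mul_mul_mul_comm_of {H : Type*} [Group H] {g h a b : H} (hc : h * a = a * h) :
    g * h * (a * b) = g * a * (h * b) := by
  rw [mul_assoc, ← mul_assoc h, hc, mul_assoc, mul_assoc]

/-- The fixed points of a non-trivial element: at most three. -/
theorem card_fix_le {g : G} (hg : g ≠ 1) :
    (Finset.univ.filter fun z : α => g • z = z).card ≤ 3 := by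
  by_contra h
  obtain ⟨s, hs, hs4⟩ := Finset.exists_subset_card_eq (s := Finset.univ.filter fun z : α => g • z = z)
    (n := 4) (by omega)
  refine hg (eq_one_of_fix hsharp (fun i => ((Finset.equivFinOfCardEq hs4).symm i : α))
    (Subtype.val_injective.comp (Equiv.injective _)) fun i => ?_)
  exact (Finset.mem_filter.1 (hs ((Finset.equivFinOfCardEq hs4).symm i).2)).2

omit hsharp [IsMultiplyPretransitive G α 4] in
/-- Parity of the number of fixed points of an involution. -/
theorem card_fix_mod_two {g : G} (hg : g * g = 1) :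
    (Finset.univ.filter fun z : α => g • z = z).card % 2 = Fintype.card α % 2 := by
  haveI : Fact (Nat.Prime 2) := ⟨Nat.prime_two⟩
  have h := Equiv.Perm.card_compl_support_modEq (n := 1) (σ := (g : Equiv.Perm α)) (p := 2)
    (by rw [pow_one, pow_two]; exact congrArg Subtype.val hg)
  rw [show (g : Equiv.Perm α).supportᶜ = Finset.univ.filter fun z : α => g • z = z by
    ext z; simp [Subgroup.smul_def]] at h
  exact h

/-- The regular normal subgroup of the stabiliser of two points. -/
theorem exists_kernel {c d : α} (hcd : c ≠ d) (hn : 4 ≤ Fintype.card α) :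
    ∃ N : Subgroup G, (∀ g, g ∈ N ↔ g • c = c ∧ g • d = d ∧
        (g = 1 ∨ ∀ z, z ≠ c → z ≠ d → g • z ≠ z)) ∧
      (∀ g h, g ∈ N → h ∈ N → g * h = h * g) ∧
      (∀ z w, z ≠ c → z ≠ d → w ≠ c → w ≠ d → ∃ g ∈ N, g • z = w) ∧
      Nat.card N + 2 = Fintype.card α ∧ ∃ p : ℕ, p.Prime ∧ ∀ g ∈ N, g ^ p = 1 := by
  let S : Subgroup G := stabilizer G c ⊓ stabilizer G d
  let β := {z : α // z ≠ c ∧ z ≠ d}
  have hSc : ∀ g : S, (g : G) • c = c := fun g => g.2.1
  have hSd : ∀ g : S, (g : G) • d = d := fun g => g.2.2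
  letI : MulAction S β :=
    { smul := fun g z => ⟨(g : G) • (z : α),
        fun h => z.2.1 (MulAction.injective (g : G) (h.trans (hSc g).symm)),
        fun h => z.2.2 (MulAction.injective (g : G) (h.trans (hSd g).symm))⟩
      one_smul := fun z => Subtype.ext (one_smul G (z : α))
      mul_smul := fun g h z => Subtype.ext (mul_smul (g : G) (h : G) (z : α)) }
  have hval : ∀ (g : S) (z : β), ((g • z : β) : α) = (g : G) • (z : α) := fun g z => rfl
  have hcardβ : Fintype.card β + 2 = Fintype.card α := by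
    have h1 : Fintype.card β = (Finset.univ \ {c, d} : Finset α).card := by
      rw [Fintype.card_subtype]
      congr 1
      ext z
      simp
    rw [h1, Finset.card_univ_diff, Finset.card_pair hcd]
    omega
  haveI : Nontrivial β := Fintype.one_lt_card_iff_nontrivial.1 (by omega)
  have hnd : ∀ {u v : β}, u ≠ v → [c, d, (u : α), (v : α)].Nodup := by
    intro u v huv
    simp [List.nodup_cons, hcd, Ne.symm u.2.1, Ne.symm u.2.2, Ne.symm v.2.1, Ne.symm v.2.2,
      show (u : α) ≠ v from fun h => huv (Subtype.ext h)]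
  have hinj4 : ∀ {u v : β}, u ≠ v → Function.Injective ![c, d, (u : α), (v : α)] := by
    intro u v huv i j hij
    have h1 := u.2
    have h2 := v.2
    have h3 : (u : α) ≠ v := fun h => huv (Subtype.ext h)
    fin_cases i <;> fin_cases j <;> simp_all [eq_comm]
  have h2 : IsMultiplyPretransitive S β 2 := by
    rw [is_two_pretransitive_iff]
    intro u v u' v' huv huv'
    obtain ⟨g, hg⟩ := exists_map (G := G) _ _ (hinj4 huv) (hinj4 huv')
    exact ⟨⟨g, hg 0, hg 1⟩, Subtype.ext (hg 2), Subtype.ext (hg 3)⟩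
  have hsharp2 : ∀ x : Fin 2 ↪ β, stabilizer S x = ⊥ := by
    intro x
    refine (Cfsg.Agent.Perm.Sharp.stabilizer_embedding_eq_bot_iff x).2 ?_
    intro g hg
    have hne : x 0 ≠ x 1 := fun h => absurd (x.injective h) (by decide)
    exact Subtype.ext (eq_one_of_fix_four hsharp (hnd hne) (hSc g) (hSd g)
      (congrArg Subtype.val (hg 0)) (congrArg Subtype.val (hg 1)))
  obtain ⟨N, -, hcomm, htr, hreg, hmem, p, hp, -, hexp⟩ :=
    Cfsg.Agent.Perm.Sharp.exists_kernel h2 hsharp2
  refine ⟨N.map S.subtype, fun g => ?_, ?_, ?_, ?_, p, hp, ?_⟩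
  · constructor
    · rintro ⟨g, hg, rfl⟩
      refine ⟨hSc g, hSd g, ((hmem g).1 hg).imp (fun h => by rw [h]; rfl) fun h z hz hz' hfix => ?_⟩
      exact h ⟨z, hz, hz'⟩ (Subtype.ext hfix)
    · rintro ⟨hc, hd, h⟩
      refine ⟨⟨g, hc, hd⟩, (hmem _).2 (h.imp (fun h => Subtype.ext h) fun h z hz => ?_), rfl⟩
      exact h z z.2.1 z.2.2 (congrArg Subtype.val hz)
  · rintro _ _ ⟨g, hg, rfl⟩ ⟨h, hh, rfl⟩
    exact congrArg Subtype.val (congrArg Subtype.val (hcomm.is_comm.comm ⟨g, hg⟩ ⟨h, hh⟩))
  · intro z w hzc hzd hwc hwd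
    haveI := htr
    obtain ⟨g, hg⟩ := exists_smul_eq N (⟨z, hzc, hzd⟩ : β) ⟨w, hwc, hwd⟩
    exact ⟨_, ⟨(g : S), g.2, rfl⟩, congrArg Subtype.val hg⟩
  · rw [Subgroup.card_map_of_injective S.subtype_injective]
    obtain ⟨z⟩ : Nonempty β := inferInstance
    haveI := htr
    have h' := (stabilizer N z).index_mul_card
    rw [index_stabilizer_of_transitive, hreg, Subgroup.card_bot, mul_one,
      Nat.card_eq_fintype_card] at h'
    omega
  · rintro _ ⟨g, hg, rfl⟩
    rw [← map_pow, show g ^ p = 1 from congrArg Subtype.val (hexp ⟨g, hg⟩), map_one]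

/-- Jordan: the degree of a sharply 4-transitive group. -/
theorem degree_four (hn : 4 ≤ Fintype.card α) :
    Fintype.card α = 4 ∨ Fintype.card α = 5 ∨ Fintype.card α = 6 ∨ Fintype.card α = 11 := by
  classical
  obtain ⟨v⟩ : Nonempty (Fin 4 ↪ α) := Function.Embedding.nonempty_of_card_le (by rwa [Fintype.card_fin])
  obtain ⟨a, b, c, d, hnd, hab, hac, had, hbc, hbd, hcd⟩ : ∃ a b c d : α, [a, b, c, d].Nodup ∧
      a ≠ b ∧ a ≠ c ∧ a ≠ d ∧ b ≠ c ∧ b ≠ d ∧ c ≠ d := by
    refine ⟨v 0, v 1, v 2, v 3, ?_, ?_, ?_, ?_, ?_, ?_, ?_⟩ <;>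
      simp [List.nodup_cons, v.injective.eq_iff]
  obtain ⟨N, hmem, hcomm, hreg, hcard, p, hp, hexp⟩ := exists_kernel hsharp hcd hn
  have hregu : ∀ {g h : G} {z : α}, g ∈ N → h ∈ N → z ≠ c → z ≠ d → g • z = h • z → g = h := by
    intro g h z hg hh hzc hzd he
    rcases ((hmem _).1 (N.mul_mem (N.inv_mem hh) hg)).2.2 with h1 | h1
    · exact (inv_mul_eq_one.1 h1).symm
    · exact absurd (by rw [mul_smul, he, inv_smul_smul]) (h1 z hzc hzd)
  obtain ⟨y, hyy, hya, hyb, hyc, hyd⟩ := exists_transposition hsharp hnd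
  have hyinv : y⁻¹ = y := inv_eq_of_mul_eq_one_right hyy
  have hyne : y ≠ 1 := fun h => hcd (by rw [← hyc, h, one_smul])
  -- an element stabilising the pair normalises the kernel
  have hnorm : ∀ x : G, x * x = 1 → (∀ z, z ≠ c → z ≠ d → x • z ≠ c ∧ x • z ≠ d) →
      ((x • c = c ∧ x • d = d) ∨ (x • c = d ∧ x • d = c)) → ∀ g ∈ N, x * g * x ∈ N := by
    intro x hxx hout hpair g hg
    obtain ⟨hgc, hgd, hgN⟩ := (hmem g).1 hg
    have hxxs : ∀ z : α, x • x • z = z := fun z => by rw [← mul_smul, hxx, one_smul]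
    refine (hmem _).2 ⟨?_, ?_, ?_⟩
    · rcases hpair with ⟨h1, h2⟩ | ⟨h1, h2⟩ <;> simp [mul_smul, h1, h2, hgc, hgd]
    · rcases hpair with ⟨h1, h2⟩ | ⟨h1, h2⟩ <;> simp [mul_smul, h1, h2, hgc, hgd]
    · rcases hgN with h1 | h1
      · exact Or.inl (by rw [h1, mul_one, hxx])
      · refine Or.inr fun z hzc hzd hfix => h1 _ (hout z hzc hzd).1 (hout z hzc hzd).2 ?_
        have := congrArg (fun w : α => x • w) hfix
        simpa [mul_smul, hxxs] using this
  have hyy' : ∀ z : α, y • y • z = z := fun z => by rw [← mul_smul, hyy, one_smul]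
  have hyout : ∀ z, z ≠ c → z ≠ d → y • z ≠ c ∧ y • z ≠ d := fun z hzc hzd =>
    ⟨fun h => hzd (MulAction.injective y (h.trans hyd.symm)),
      fun h => hzc (MulAction.injective y (h.trans hyc.symm))⟩
  have hyN := hnorm y hyy hyout (Or.inr ⟨hyc, hyd⟩)
  have hσm : ∀ (x : G), x * x = 1 → ∀ g h : G, x * (g * h) * x = (x * g * x) * (x * h * x) :=
    fun x hxx g h => by simp only [mul_assoc]; rw [← mul_assoc x x, hxx, one_mul]
  have hσσ : ∀ (x : G), x * x = 1 → ∀ g : G, x * (x * g * x) * x = g :=
    fun x hxx g => by simp only [mul_assoc]; rw [hxx, mul_one, ← mul_assoc, hxx, one_mul]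
  have hσi : ∀ g : G, y * g⁻¹ * y = (y * g * y)⁻¹ := fun g => by
    rw [mul_inv_rev, mul_inv_rev, hyinv, mul_assoc]
  set F : Finset α := Finset.univ.filter fun z => y • z = z with hF
  have hF3 : F.card ≤ 3 := card_fix_le hsharp hyne
  have hFab : {a, b} ⊆ F := by
    intro z hz
    simp only [Finset.mem_insert, Finset.mem_singleton] at hz
    rcases hz with rfl | rfl <;> simp [F, hya, hyb]
  have hF2 : 2 ≤ F.card := (Finset.card_pair hab).symm.le.trans (Finset.card_le_card hFab)
  have hFout : ∀ z ∈ F, z ≠ c ∧ z ≠ d := fun z hz => by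
    have hz' : y • z = z := (Finset.mem_filter.1 hz).2
    exact ⟨fun h => hcd (by rw [h, hyc] at hz'; exact hz'.symm),
      fun h => hcd (by rw [h, hyd] at hz'; exact hz')⟩
  have hparity := card_fix_mod_two (G := G) hyy
  rw [← hF] at hparity
  -- the elements of the kernel centralised by `y`, and their images of a fixed point
  let C : Subgroup N :=
    { carrier := {g | y * (g : G) * y = g}
      one_mem' := by simp [hyy]
      mul_mem' := fun {g h} hg hh => by
        show y * ((g : G) * h) * y = (g : G) * h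
        calc y * ((g : G) * h) * y = (y * g * y) * (y * h * y) := by
              simp only [mul_assoc]
              rw [← mul_assoc y y, hyy, one_mul]
          _ = g * h := by rw [hg, hh]
      inv_mem' := fun {g} hg => by
        show y * (g : G)⁻¹ * y = (g : G)⁻¹
        conv_rhs => rw [← (hg : y * (g : G) * y = g)]
        rw [mul_inv_rev, mul_inv_rev, hyinv, mul_assoc] }
  have hCcard : ∀ z₀ ∈ F, Nat.card C = F.card := by
    intro z₀ hz₀
    obtain ⟨h0c, h0d⟩ := hFout z₀ hz₀
    have hz₀' : y • z₀ = z₀ := (Finset.mem_filter.1 hz₀).2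
    have hf : ∀ g : C, ((g : N) : G) • z₀ ∈ F := fun g => by
      refine Finset.mem_filter.2 ⟨Finset.mem_univ _, ?_⟩
      conv_rhs => rw [← (g.2 : y * ((g : N) : G) * y = (g : N))]
      rw [mul_smul, mul_smul, hz₀']
    rw [← Fintype.card_coe, ← Nat.card_eq_fintype_card]
    refine Nat.card_eq_of_bijective (fun g : C => (⟨_, hf g⟩ : F)) ⟨fun g h he => ?_, fun w => ?_⟩
    · exact Subtype.ext (Subtype.ext (hregu (g : N).2 (h : N).2 h0c h0d (congrArg Subtype.val he)))
    · obtain ⟨g, hg, hgw⟩ := hreg z₀ w h0c h0d (hFout w w.2).1 (hFout w w.2).2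
      have hw : y • (w : α) = w := (Finset.mem_filter.1 w.2).2
      exact ⟨⟨⟨g, hg⟩, hregu (hyN g hg) hg h0c h0d (by rw [mul_smul, mul_smul, hz₀', hgw, hw])⟩,
        Subtype.ext hgw⟩
  obtain ⟨j, hj⟩ : ∃ j, Nat.card N = p ^ j := by
    haveI : Fact p.Prime := ⟨hp⟩
    exact IsPGroup.iff_card.1 (fun g => ⟨1, by rw [pow_one]; exact Subtype.ext (hexp g g.2)⟩)
  rcases hp.eq_two_or_odd with rfl | hodd
  · -- degree even
    have hev : Fintype.card α % 2 = 0 := by
      rcases j with _ | j
      · rw [pow_zero] at hj; omega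
      · rw [← hcard, hj, pow_succ]; omega
    have hC2 : Nat.card C = 2 := by rw [hCcard a (hFab (by simp))]; omega
    -- `g ↦ g · g^y` maps the kernel into `C` with kernel `C`
    let φ : N →* N := MonoidHom.mk' (fun g => ⟨(g : G) * (y * g * y), N.mul_mem g.2 (hyN g g.2)⟩)
      fun g h => Subtype.ext (by
        show (g : G) * h * (y * ((g : G) * h) * y) = (g : G) * (y * g * y) * ((h : G) * (y * h * y))
        rw [hσm y hyy]
        exact (mul_mul_mul_comm_of (hcomm _ _ h.2 (hyN g g.2))))
    have hker : φ.ker ≤ C := fun g hg => by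
      have h1 : (g : G) * (y * g * y) = 1 := congrArg Subtype.val (MonoidHom.mem_ker.1 hg)
      have h2 : (g : G) * g = 1 := by rw [← pow_two]; exact hexp g g.2
      exact mul_left_cancel (h1.trans h2.symm)
    have hrange : φ.range ≤ C := by
      rintro _ ⟨g, rfl⟩
      show y * ((g : G) * (y * g * y)) * y = (g : G) * (y * g * y)
      rw [hσm y hyy, hσσ y hyy, hcomm _ _ g.2 (hyN g g.2)]
    have hle : Nat.card N ≤ 4 := by
      rw [← φ.ker.card_mul_index, Subgroup.index_ker]
      exact Nat.mul_le_mul ((Nat.le_of_dvd Nat.card_pos (Subgroup.card_dvd_of_le hker)).trans hC2.le)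
        ((Nat.le_of_dvd Nat.card_pos (Subgroup.card_dvd_of_le hrange)).trans hC2.le)
    omega
  · -- degree odd
    have hoddn : Fintype.card α % 2 = 1 := by
      have h1 : (p ^ j) % 2 = 1 := Nat.odd_iff.1 ((Nat.odd_iff.2 hodd).pow)
      rw [← hj] at h1
      omega
    have hFc : F.card = 3 := by omega
    obtain ⟨e, he, hea, heb⟩ : ∃ e ∈ F, e ≠ a ∧ e ≠ b := by
      obtain ⟨e, he, hne⟩ := Finset.exists_mem_notMem_of_card_lt_card (s := {a, b}) (t := F)
        (by rw [Finset.card_pair hab]; omega)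
      simp only [Finset.mem_insert, Finset.mem_singleton, not_or] at hne
      exact ⟨e, he, hne⟩
    obtain ⟨hec, hed⟩ := hFout e he
    have hye : y • e = e := (Finset.mem_filter.1 he).2
    -- the second transposition
    have hnd2 : [c, d, a, b].Nodup := by
      simp [List.nodup_cons, hcd, Ne.symm hac, Ne.symm hbc, Ne.symm had, Ne.symm hbd, hab]
    obtain ⟨x, hxx, hxc, hxd, hxa, hxb⟩ := exists_transposition hsharp hnd2
    have hxout : ∀ z, z ≠ c → z ≠ d → x • z ≠ c ∧ x • z ≠ d := fun z hzc hzd =>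
      ⟨fun h => hzc (MulAction.injective x (h.trans hxc.symm)),
        fun h => hzd (MulAction.injective x (h.trans hxd.symm))⟩
    have hxN := hnorm x hxx hxout (Or.inl ⟨hxc, hxd⟩)
    have hxy : x * y = y * x := by
      have h1 : (x * y) * (x * y) = 1 := eq_one_of_fix_four hsharp hnd
        (by simp [mul_smul, hxa, hxb, hya, hyb]) (by simp [mul_smul, hxa, hxb, hya, hyb])
        (by simp [mul_smul, hxc, hxd, hyc, hyd]) (by simp [mul_smul, hxc, hxd, hyc, hyd])
      rw [eq_inv_of_mul_eq_one_left h1, mul_inv_rev, hyinv, inv_eq_of_mul_eq_one_right hxx]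
    have hxe : x • e = e := by
      have hmem : x • e ∈ F := Finset.mem_filter.2 ⟨Finset.mem_univ _, by
        rw [← mul_smul, ← hxy, mul_smul, hye]⟩
      have hFeq : F = {a, b, e} := by
        refine (Finset.eq_of_subset_of_card_le ?_ ?_).symm
        · intro z hz
          simp only [Finset.mem_insert, Finset.mem_singleton] at hz
          rcases hz with rfl | rfl | rfl
          · exact hFab (by simp)
          · exact hFab (by simp)
          · exact he
        · rw [hFc, Finset.card_insert_of_notMem (by simp [hab, hea.symm]),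
            Finset.card_pair heb.symm]
      rw [hFeq] at hmem
      simp only [Finset.mem_insert, Finset.mem_singleton] at hmem
      rcases hmem with h | h | h
      · exact absurd (MulAction.injective x (h.trans hxb.symm)) heb
      · exact absurd (MulAction.injective x (h.trans hxa.symm)) hea
      · exact h
    -- `x` inverts the kernel
    have hFx : ∀ z : α, x • z = z → z = c ∨ z = d ∨ z = e := by
      intro z hz
      by_contra hcon
      simp only [not_or] at hcon
      have hxne : x ≠ 1 := fun h => hab (by rw [← hxa, h, one_smul])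
      refine hxne (eq_one_of_fix_four hsharp ?_ hxc hxd hxe hz)
      simp [List.nodup_cons, hcd, hec.symm, hed.symm, Ne.symm hcon.1, Ne.symm hcon.2.1,
        Ne.symm hcon.2.2]
    have hinvx : ∀ g ∈ N, x * g * x = g⁻¹ := by
      intro g hg
      have hk : g * (x * g * x) ∈ N := N.mul_mem hg (hxN g hg)
      have hfix : x * (g * (x * g * x)) * x = g * (x * g * x) := by
        rw [hσm x hxx, hσσ x hxx, hcomm _ _ hg (hxN g hg)]
      have hpt : x • ((g * (x * g * x)) • e) = (g * (x * g * x)) • e := by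
        conv_rhs => rw [← hfix]
        rw [mul_smul (x * _), mul_smul x, hxe]
      obtain ⟨hkc, hkd, -⟩ := (hmem _).1 hk
      rcases hFx _ hpt with h | h | h
      · exact absurd (MulAction.injective _ (h.trans hkc.symm)) hec
      · exact absurd (MulAction.injective _ (h.trans hkd.symm)) hed
      · have := hregu hk N.one_mem hec hed (by rw [h, one_smul])
        exact eq_inv_of_mul_eq_one_right this
    -- the elements inverted by `y`
    let ψ : N →* N := MonoidHom.mk' (fun g => ⟨(g : G) * (y * g * y)⁻¹,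
      N.mul_mem g.2 (N.inv_mem (hyN g g.2))⟩) fun g h => Subtype.ext (by
        show (g : G) * h * (y * ((g : G) * h) * y)⁻¹ =
          (g : G) * (y * g * y)⁻¹ * ((h : G) * (y * h * y)⁻¹)
        rw [hσm y hyy, hcomm _ _ (hyN g g.2) (hyN h h.2), mul_inv_rev]
        exact (mul_mul_mul_comm_of (hcomm _ _ h.2 (N.inv_mem (hyN g g.2)))))
    have hker : ψ.ker ≤ C := fun g hg => by
      have h1 : (g : G) * (y * g * y)⁻¹ = 1 := congrArg Subtype.val (MonoidHom.mem_ker.1 hg)
      exact (mul_inv_eq_one.1 h1).symm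
    have hz_ne : x * y ≠ 1 := fun h => hab (by
      have := congrArg (fun g : G => g • a) h
      simpa [mul_smul, hya, hxa] using this.symm)
    have hI : Nat.card ψ.range ≤ 3 := by
      have hf : ∀ g : ψ.range, ((g : N) : G) • e ∈
          Finset.univ.filter fun z : α => (x * y) • z = z := by
        rintro ⟨_, g, rfl⟩
        refine Finset.mem_filter.2 ⟨Finset.mem_univ _, ?_⟩
        show (x * y) • (((g : G) * (y * g * y)⁻¹) • e) = ((g : G) * (y * g * y)⁻¹) • e
        set k := (g : G) * (y * g * y)⁻¹ with hk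
        have hkN : k ∈ N := N.mul_mem g.2 (N.inv_mem (hyN g g.2))
        have hky : y * k * y = k⁻¹ := by
          rw [hk, hσm y hyy, hσi, hσσ y hyy, eq_inv_iff_mul_eq_one]
          group
        have h1 : (x * y) * k = k * (x * y) := by
          calc (x * y) * k = x * (y * k * y) * y := by
                simp only [mul_assoc]; rw [hyy, mul_one]
            _ = x * k⁻¹ * x * (x * y) := by
                rw [hky]; simp only [mul_assoc]; rw [← mul_assoc x x, hxx, one_mul]
            _ = k * (x * y) := by rw [hinvx _ (N.inv_mem hkN), inv_inv]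
        rw [← mul_smul, h1, mul_smul k (x * y), mul_smul x, hye, hxe]
      have := Nat.card_le_card_of_injective
        (fun g : ψ.range => (⟨_, hf g⟩ : (Finset.univ.filter fun z : α => (x * y) • z = z : Finset α)))
        fun g h he => Subtype.ext (Subtype.ext (hregu (g : N).2 (h : N).2 hec hed
          (congrArg Subtype.val he)))
      rw [Nat.card_eq_fintype_card (α := (Finset.univ.filter fun z : α => (x * y) • z = z : Finset α)),
        Fintype.card_coe] at this
      exact this.trans (card_fix_le hsharp hz_ne)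
    have hC3 : Nat.card C = 3 := (hCcard e he).trans hFc
    have h3N : 3 ∣ Nat.card N := hC3 ▸ C.card_subgroup_dvd_card
    have hle : Nat.card N ≤ 9 := by
      rw [← ψ.ker.card_mul_index, Subgroup.index_ker]
      exact Nat.mul_le_mul ((Nat.le_of_dvd Nat.card_pos (Subgroup.card_dvd_of_le hker)).trans hC3.le) hI
    have hp3 : p = 3 := by
      rw [hj] at h3N
      exact ((Nat.prime_dvd_prime_iff_eq Nat.prime_three hp).1 (Nat.prime_three.dvd_of_dvd_pow h3N)).symm
    subst hp3
    rcases j with _ | _ | _ | j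
    · rw [pow_zero] at hj; omega
    · rw [pow_one] at hj; omega
    · norm_num at hj; omega
    · have : 3 ^ 3 ≤ 3 ^ (j + 3) := Nat.pow_le_pow_right (by norm_num) (by omega)
      omega

end Four

theorem affine_five : ∀ a b : ZMod 13,
    (∀ k : ZMod 13, a * (a * (a * (a * (a * k + b) + b) + b) + b) + b = k) → a = 1 ∧ b = 0 := by
  decide +kernel

/-- A sharply 6-transitive group has degree different from 13. -/
theorem degree_six_ne [IsMultiplyPretransitive G α 6]
    (hsharp : ∀ x : Fin 6 ↪ α, stabilizer G x = ⊥) : Fintype.card α ≠ 13 := by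
  intro hn
  haveI : Fact (Nat.Prime 13) := ⟨by norm_num⟩
  have hαn : Nat.card α = 13 := by rw [Nat.card_eq_fintype_card, hn]
  have hcard : Nat.card G = 13 * 95040 := by
    rw [natCard_eq hsharp (by omega), hn]
    decide
  haveI : IsPretransitive G α :=
    MulAction.isPretransitive_of_is_two_pretransitive
      (h2 := MulAction.isMultiplyPretransitive_of_le (n := 6) (by norm_num)
        (by rw [Nat.card_eq_fintype_card, hn]; norm_num))
  obtain ⟨e, t, hto, ht⟩ := Cfsg.Agent.Perm.PrimeDegree.exists_coord (p := 13) hαn G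
  obtain ⟨Q, hQ⟩ := Cfsg.Agent.Perm.EvenNormalizer.sylow_eq_zpowers hαn G hto
  have htn : ∀ (n : ℕ) (k : ZMod 13), (t ^ n) • e k = e (k + n) := by
    intro n
    induction n with
    | zero => simp
    | succ n ih =>
      intro k
      rw [pow_succ', mul_smul, ih, ht, Nat.cast_succ, add_assoc]
  set N := Subgroup.normalizer ((Q : Subgroup G) : Set G)
  have haff : ∀ g : N, ∃ a b : ZMod 13, ∀ k, (g : G) • e k = e (a * k + b) := by
    intro g
    have hmem : (g : G) * t * (g : G)⁻¹ ∈ Subgroup.zpowers t := by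
      rw [← hQ]
      exact (Subgroup.mem_normalizer_iff.1 g.2 t).1 (hQ ▸ Subgroup.mem_zpowers t)
    obtain ⟨n, hn⟩ : ∃ n : ℕ, t ^ n = (g : G) * t * (g : G)⁻¹ :=
      (isOfFinOrder_of_finite t).mem_powers_iff_mem_zpowers.2 hmem
    refine ⟨n, e.symm ((g : G) • e 0), fun k => ?_⟩
    have key : ∀ m : ℕ, (g : G) • e (m : ZMod 13) =
        e ((n : ZMod 13) * m + e.symm ((g : G) • e 0)) := by
      intro m
      induction m with
      | zero => simp
      | succ m ih =>
        rw [Nat.cast_succ, ← ht, ← mul_smul, show (g : G) * t = t ^ n * g by rw [hn]; group,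
          mul_smul, ih, htn]
        congr 1
        ring
    have := key k.val
    rwa [ZMod.natCast_rightInverse k] at this
  choose a b hab using haff
  -- the normaliser has order at most `13 * 13`, a multiple of `13`
  have hNle : Nat.card N ≤ 13 * 13 := by
    have h := Nat.card_le_card_of_injective (fun g : N => (a g, b g)) fun g h hgh => by
      simp only [Prod.mk.injEq] at hgh
      refine Subtype.ext (Subtype.ext (Equiv.ext fun z => ?_))
      obtain ⟨k, rfl⟩ := e.surjective z
      show (g : G) • e k = (h : G) • e k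
      rw [hab, hab, hgh.1, hgh.2]
    rwa [Nat.card_prod, Nat.card_zmod] at h
  obtain ⟨d, hd⟩ : 13 ∣ Nat.card N := by
    have h1 : Nat.card (Q : Subgroup G) = 13 := by rw [hQ, Nat.card_zpowers, hto]
    exact h1 ▸ Subgroup.card_dvd_of_le Subgroup.le_normalizer
  have hmul : Nat.card (Sylow 13 G) * d = 95040 := by
    have h1 := N.index_mul_card
    rw [show N.index = Nat.card (Sylow 13 G) from Q.card_eq_index_normalizer.symm, hd, hcard] at h1
    exact Nat.eq_of_mul_eq_mul_left (by norm_num : 0 < 13) (by rw [← h1]; ring)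
  have hmod : Nat.card (Sylow 13 G) % 13 = 1 := card_sylow_modEq_one 13 G
  have hd10 : d = 10 := by
    have hd13 : d ≤ 13 := by omega
    generalize Nat.card (Sylow 13 G) = n at hmul hmod
    interval_cases d <;> omega
  -- an element of order 5 in the normaliser
  haveI : Fact (Nat.Prime 5) := ⟨by norm_num⟩
  obtain ⟨g, hg⟩ := exists_prime_orderOf_dvd_card' (G := N) 5 (by rw [hd, hd10]; norm_num)
  have hiter : ∀ k, ((g : G) ^ 5) • e k =
      e (a g * (a g * (a g * (a g * (a g * k + b g) + b g) + b g) + b g) + b g) := by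
    intro k
    simp only [pow_succ, pow_zero, one_mul, mul_smul, hab]
  have h5 : (g : G) ^ 5 = 1 := by
    rw [← SubgroupClass.coe_pow, ← hg, pow_orderOf_eq_one, OneMemClass.coe_one]
  obtain ⟨ha, hb⟩ := affine_five (a g) (b g) fun k => by
    have h := hiter k
    rw [h5, one_smul] at h
    exact (e.injective h).symm
  have hg1 : g = 1 := Subtype.ext (Subtype.ext (Equiv.ext fun z => by
    obtain ⟨k, rfl⟩ := e.surjective z
    show (g : G) • e k = e k
    rw [hab, ha, hb, one_mul, add_zero]))
  rw [hg1, orderOf_one] at hg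
  norm_num at hg

end Cfsg.Agent.Perm.SharpHigh
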