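import Mathlib
import Cfsg.Agent.Lib.Perm.Basic
import Cfsg.Agent.S0713
import Cfsg.Agent.S0415

/-!
# A bound on the transitivity of groups of degree `k p + r`

If `G` is `(r + 1)`-transitive of degree `k p + r` with `k < p` prime and `k < r`, then `G` contains
the alternating group (unless `k = 1`, `r = 2`).  The Sylow `p`-subgroup `P` of the stabiliser of `r` points has `k` orbits of
size `p`; its normaliser induces the symmetric group on the `r` fixed points, and a suitable
commutator in it gives a non-trivial element moving fixed points of `P` only.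
-/

set_option autoImplicit false

namespace Cfsg.Agent.Perm.TransitivityBound

open Equiv MulAction
open scoped Pointwise

variable {α : Type*} [Fintype α] [DecidableEq α] {G : Subgroup (Perm α)}

/-- A non-trivial element of small support gives a three-cycle or a transposition. -/
theorem le_of_small_support {t : ℕ} [ht : IsMultiplyPretransitive G α t]
    (hprim : IsPreprimitive G α) {σ : Perm α} (hσ : σ ∈ G) (hne : σ ≠ 1)
    (hs : σ.support.card ≤ t) (ht' : t ≤ Fintype.card α) (hn : σ.support.card < Fintype.card α) :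
    alternatingGroup α ≤ G := by
  obtain ⟨d, hd⟩ : σ.support.Nonempty := by
    rw [Finset.nonempty_iff_ne_empty, Ne, Perm.support_eq_empty_iff]
    exact hne
  obtain ⟨e, -, he⟩ := Finset.exists_mem_notMem_of_card_lt_card
    (s := σ.support) (t := (Finset.univ : Finset α)) (by rw [Finset.card_univ]; exact hn)
  haveI : IsMultiplyPretransitive G α σ.support.card :=
    isMultiplyPretransitive_of_le (n := t) hs (by rwa [Nat.card_eq_fintype_card])
  let f := (Finset.equivFin σ.support).symm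
  let v : Fin σ.support.card ↪ α := f.toEmbedding.trans (Function.Embedding.subtype _)
  let w : Fin σ.support.card ↪ α := v.trans (Equiv.swap d e).toEmbedding
  haveI : IsPretransitive G (Fin σ.support.card ↪ α) := ‹IsMultiplyPretransitive G α σ.support.card›
  obtain ⟨g, hg⟩ := exists_smul_eq G v w
  have hgd : ∀ z ∈ σ.support, (g : Perm α) z = Equiv.swap d e z := by
    intro z hz
    have h1 : (g : Perm α) (v (f.symm ⟨z, hz⟩)) = w (f.symm ⟨z, hz⟩) :=
      congrArg (fun x : Fin σ.support.card ↪ α => x (f.symm ⟨z, hz⟩)) hg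
    have h2 : v (f.symm ⟨z, hz⟩) = z := by simp [v]
    simpa [w, h2] using h1
  obtain ⟨π, hπ⟩ : ∃ π : Perm α, π = σ⁻¹ * ((g : Perm α) * σ * (g : Perm α)⁻¹) := ⟨_, rfl⟩
  have hπG : π ∈ G := hπ ▸ G.mul_mem (G.inv_mem hσ) (G.mul_mem (G.mul_mem g.2 hσ) (G.inv_mem g.2))
  have hσe : σ e = e := Perm.notMem_support.1 he
  have hconj : ∀ z, ((g : Perm α) * σ * (g : Perm α)⁻¹) ((g : Perm α) z) = (g : Perm α) (σ z) := by
    intro z; simp
  have hgσ : ∀ z, z ∈ σ.support → σ z ∈ σ.support := fun z hz => Perm.apply_mem_support.2 hz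
  have hge : (g : Perm α) d = e := by rw [hgd d hd, Equiv.swap_apply_left]
  -- the conjugate is trivial outside the new support
  have hout : ∀ y, y ≠ e → (y ∉ σ.support ∨ y = d) →
      ((g : Perm α) * σ * (g : Perm α)⁻¹) y = y := by
    intro y hye hy
    have hz : (g : Perm α)⁻¹ y ∉ σ.support := fun hz => by
      have h1 := hgd _ hz
      rw [show (g : Perm α) ((g : Perm α)⁻¹ y) = y from (g : Perm α).apply_symm_apply y] at h1
      generalize (g : Perm α)⁻¹ y = z at h1 hz
      rcases eq_or_ne z d with rfl | hzd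
      · rw [Equiv.swap_apply_left] at h1; exact hye h1
      · have hze : z ≠ e := fun h => he (h ▸ hz)
        rw [Equiv.swap_apply_of_ne_of_ne hzd hze] at h1
        subst h1
        exact hy.elim (fun h => h hz) hzd
    rw [Perm.mul_apply, Perm.mul_apply, Perm.notMem_support.1 hz]
    exact (g : Perm α).apply_symm_apply y
  have hsub : π.support ⊆ {d, e, σ⁻¹ d} := by
    intro y hy
    simp only [Finset.mem_insert, Finset.mem_singleton]
    by_contra hcon
    simp only [not_or] at hcon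
    obtain ⟨hyd, hye, hyi⟩ := hcon
    apply Perm.mem_support.1 hy
    rw [hπ, Perm.mul_apply]
    by_cases hys : y ∈ σ.support
    · have h1 : (g : Perm α) y = y := by
        rw [hgd y hys, Equiv.swap_apply_of_ne_of_ne hyd hye]
      have hσy : σ y ≠ d := fun h => hyi (by rw [← h]; exact (σ.symm_apply_apply y).symm)
      have hσye : σ y ≠ e := fun h => he (h ▸ hgσ y hys)
      have h2 : (g : Perm α) (σ y) = σ y := by
        rw [hgd _ (hgσ y hys), Equiv.swap_apply_of_ne_of_ne hσy hσye]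
      conv_lhs => rw [← h1]
      rw [hconj, h2]
      exact σ.symm_apply_apply y
    · rw [hout y hye (Or.inl hys)]
      exact σ.injective (by rw [show σ (σ⁻¹ y) = y from σ.apply_symm_apply y,
        Perm.notMem_support.1 hys])
  have hπne : π ≠ 1 := by
    intro h1
    have h : ((g : Perm α) * σ * (g : Perm α)⁻¹) e = σ e := by
      rw [hπ, inv_mul_eq_one] at h1
      rw [← h1]
    rw [hσe] at h
    conv_lhs at h => rw [← hge]
    rw [hconj, ← hge] at h
    exact Perm.mem_support.1 hd ((g : Perm α).injective h)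
  have h2 := Perm.two_le_card_support_of_ne_one hπne
  have h3 := (Finset.card_le_card hsub).trans Finset.card_le_three
  rcases (by omega : π.support.card = 2 ∨ π.support.card = 3) with h | h
  · rw [Perm.subgroup_eq_top_of_isPreprimitive_of_isSwap_mem hprim π
      (Perm.card_support_eq_two.1 h) hπG]
    exact le_top
  · exact Perm.alternatingGroup_le_of_isPreprimitive_of_isThreeCycle_mem hprim
      (card_support_eq_three_iff.1 h) hπG

theorem commutator_three : ∀ v : Perm (Fin 3), v ≠ 1 → ∃ t : Perm (Fin 3),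
    t * v * t⁻¹ * v⁻¹ ≠ 1 ∧ (t * v * t⁻¹ * v⁻¹) ^ 3 = 1 := by decide +kernel

theorem commutator_four : ∀ v : Perm (Fin 4), v ≠ 1 → ∃ t : Perm (Fin 4),
    t * v * t⁻¹ * v⁻¹ ≠ 1 ∧ (t * v * t⁻¹ * v⁻¹) ^ 2 = 1 := by decide +kernel

/-- The two small commutator statements on an arbitrary set of three or four points. -/
theorem commutator_small {β : Type*} [Fintype β] [DecidableEq β]
    (h : Fintype.card β = 3 ∨ Fintype.card β = 4) {v : Perm β} (hv : v ≠ 1) :
    ∃ t : Perm β, t * v * t⁻¹ * v⁻¹ ≠ 1 ∧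
      ((Fintype.card β = 3 ∧ (t * v * t⁻¹ * v⁻¹) ^ 3 = 1) ∨
        (Fintype.card β = 4 ∧ (t * v * t⁻¹ * v⁻¹) ^ 2 = 1)) := by
  let φ := (Fintype.equivFin β).permCongrHom
  have hv' : φ v ≠ 1 := (EmbeddingLike.map_ne_one_iff (f := φ)).2 hv
  rcases h with h | h
  · have key : ∀ (m : ℕ), m = 3 → ∀ w : Perm (Fin m), w ≠ 1 → ∃ t : Perm (Fin m),
        t * w * t⁻¹ * w⁻¹ ≠ 1 ∧ (t * w * t⁻¹ * w⁻¹) ^ 3 = 1 := by
      rintro _ rfl; exact commutator_three
    obtain ⟨t, h1, h2⟩ := key _ h _ hv'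
    refine ⟨φ.symm t, fun hc => h1 ?_, Or.inl ⟨h, φ.injective ?_⟩⟩
    · simpa using congrArg φ hc
    · simpa using h2
  · have key : ∀ (m : ℕ), m = 4 → ∀ w : Perm (Fin m), w ≠ 1 → ∃ t : Perm (Fin m),
        t * w * t⁻¹ * w⁻¹ ≠ 1 ∧ (t * w * t⁻¹ * w⁻¹) ^ 2 = 1 := by
      rintro _ rfl; exact commutator_four
    obtain ⟨t, h1, h2⟩ := key _ h _ hv'
    refine ⟨φ.symm t, fun hc => h1 ?_, Or.inr ⟨h, φ.injective ?_⟩⟩
    · simpa using congrArg φ hc
    · simpa using h2

theorem commutator_four_witness : ∃ x y z : Perm (Fin 4),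
    (x * y * x⁻¹ * y⁻¹) * (x * z * x⁻¹ * z⁻¹) * (x * y * x⁻¹ * y⁻¹)⁻¹ *
        (x * z * x⁻¹ * z⁻¹)⁻¹ ≠ 1 ∧
      ((x * y * x⁻¹ * y⁻¹) * (x * z * x⁻¹ * z⁻¹) * (x * y * x⁻¹ * y⁻¹)⁻¹ *
        (x * z * x⁻¹ * z⁻¹)⁻¹) ^ 2 = 1 :=
  ⟨swap 0 1, swap 0 2, swap 0 3, by decide +kernel, by decide +kernel⟩

/-- Two even permutations whose commutator is an involution. -/
theorem exists_even_commutator {β : Type*} [Fintype β] [DecidableEq β] (h : 4 ≤ Fintype.card β) :
    ∃ a b : Perm β, a ∈ alternatingGroup β ∧ b ∈ alternatingGroup β ∧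
      a * b * a⁻¹ * b⁻¹ ≠ 1 ∧ (a * b * a⁻¹ * b⁻¹) ^ 2 = 1 := by
  obtain ⟨f⟩ := Function.Embedding.nonempty_of_card_le (α := Fin 4) (β := β) (by simpa using h)
  obtain ⟨x, y, z, h1, h2⟩ := commutator_four_witness
  let φ : Perm (Fin 4) →* Perm β := Perm.viaEmbeddingHom f
  have hφ : Function.Injective φ := Perm.viaEmbeddingHom_injective f
  have heven : ∀ u v : Perm β, u * v * u⁻¹ * v⁻¹ ∈ alternatingGroup β := by
    intro u v
    rw [Perm.mem_alternatingGroup]
    simp only [map_mul, map_inv]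
    rw [mul_comm (Perm.sign u) (Perm.sign v), mul_inv_cancel_right, mul_inv_cancel]
  refine ⟨φ (x * y * x⁻¹ * y⁻¹), φ (x * z * x⁻¹ * z⁻¹), ?_, ?_, fun hc => h1 (hφ ?_), ?_⟩
  · simpa using heven (φ x) (φ y)
  · simpa using heven (φ x) (φ z)
  · simpa using hc
  · simpa using congrArg φ h2

/-- The set-up: a Sylow subgroup of the stabiliser of `r` points and its normaliser. -/
structure Setup (G : Subgroup (Perm α)) (k p r : ℕ) where
  fixed : Finset α
  fixed_card : fixed.card = r
  P : Subgroup (Perm α)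
  le : P ≤ G
  fix : ∀ z ∈ P, ∀ u ∈ fixed, z u = u
  orbit : ∀ u, u ∉ fixed → (MulAction.orbit P u).ncard = p
  comm : ∀ z ∈ P, ∀ w ∈ P, z * w = w * z
  exponent : ∀ z ∈ P, z ^ p = 1
  induce : ∀ σ : Perm fixed, ∃ m ∈ G, m ∈ Subgroup.normalizer (P : Set (Perm α)) ∧
    ∀ u : fixed, m u = σ u

theorem exists_setup {k p r : ℕ} (hp : p.Prime) (hn : Fintype.card α = k * p + r) (hk : 1 ≤ k)
    (hpk : k < p) [ht : IsMultiplyPretransitive G α (r + 1)] : Nonempty (Setup G k p r) := by
  haveI : Fact p.Prime := ⟨hp⟩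
  have hle : r + 1 ≤ Fintype.card α := by
    rw [hn]; have := hp.two_le; nlinarith
  haveI : IsPretransitive G (Fin (r + 1) ↪ α) := ht
  haveI hr : IsMultiplyPretransitive G α r :=
    isMultiplyPretransitive_of_le (n := r + 1) (by omega) (by rw [Nat.card_eq_fintype_card]; exact hle)
  haveI : IsPretransitive G (Fin r ↪ α) := hr
  obtain ⟨Δ, -, hΔ⟩ := Finset.exists_subset_card_eq (s := (Finset.univ : Finset α)) (n := r)
    (by rw [Finset.card_univ]; omega)
  let e := Finset.equivFinOfCardEq hΔ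
  let x : Fin r ↪ α := e.symm.toEmbedding.trans (Function.Embedding.subtype _)
  have hxmem : ∀ i, x i ∈ Δ := fun i => (e.symm i).2
  have hxsurj : ∀ u (hu : u ∈ Δ), x (e ⟨u, hu⟩) = u := fun u hu => by simp [x]
  let H : Subgroup G :=
    { carrier := {g | ∀ u, g • u ∈ Δ ↔ u ∈ Δ}
      one_mem' := fun u => by rw [one_smul]
      mul_mem' := fun {g h} hg hh u => by rw [mul_smul, hg, hh]
      inv_mem' := fun {g} hg u => by rw [← hg, smul_inv_smul] }
  let f : H →* Perm α := G.subtype.comp H.subtype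
  have hf : ∀ (h : H) u, f h u = (h : G) • u := fun h u => rfl
  let K : Subgroup H :=
    { carrier := {h | ∀ u ∈ Δ, f h u = u}
      one_mem' := fun u _ => by rw [map_one, Perm.one_apply]
      mul_mem' := fun {g h} hg hh u hu => by rw [map_mul, Perm.mul_apply, hh u hu, hg u hu]
      inv_mem' := fun {g} hg u hu => by
        rw [map_inv, Perm.inv_eq_iff_eq]; exact (hg u hu).symm }
  haveI : K.Normal := ⟨fun g hg h u hu => by
    rw [map_mul, map_mul, map_inv, Perm.mul_apply, Perm.mul_apply]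
    have h1 : (f h)⁻¹ u ∈ Δ := by
      rw [← h.2 ((f h)⁻¹ u)]
      change f h ((f h)⁻¹ u) ∈ Δ
      rwa [show f h ((f h)⁻¹ u) = u from (f h).apply_symm_apply u]
    rw [hg _ h1]
    exact (f h).apply_symm_apply u⟩
  have hmemH : ∀ g : G, (∀ u ∈ Δ, g • u ∈ Δ) → g ∈ H := by
    intro g hg u
    refine ⟨fun h => ?_, hg u⟩
    obtain ⟨v, hv, hveq⟩ := Finset.surj_on_of_inj_on_of_card_le (s := Δ) (t := Δ)
      (fun v _ => g • v) hg (fun v w _ _ hvw => MulAction.injective g hvw) le_rfl _ h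
    exact MulAction.injective g hveq ▸ hv
  -- transitive outside
  have htrans : ∀ u v, u ∉ Δ → v ∉ Δ → ∃ g ∈ K, f g u = v := by
    intro u v hu hv
    have hinj : ∀ w, w ∉ Δ → Function.Injective (Fin.cons w x : Fin (r + 1) → α) := fun w hw =>
      Fin.cons_injective_iff.2 ⟨by rintro ⟨i, rfl⟩; exact hw (hxmem i), x.injective⟩
    obtain ⟨g, hg⟩ := exists_smul_eq G (⟨_, hinj u hu⟩ : Fin (r + 1) ↪ α) ⟨_, hinj v hv⟩
    have hg' : ∀ i, g • (Fin.cons u x : Fin (r + 1) → α) i = (Fin.cons v x : Fin (r + 1) → α) i :=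
      fun i => congrArg (fun e : Fin (r + 1) ↪ α => e i) hg
    have hfixΔ : ∀ w ∈ Δ, g • w = w := fun w hw => by
      have := hg' (e ⟨w, hw⟩).succ
      simpa only [Fin.cons_succ, hxsurj w hw] using this
    refine ⟨⟨g, hmemH g fun w hw => by rwa [hfixΔ w hw]⟩, hfixΔ, ?_⟩
    exact (by simpa using hg' 0 : g • u = v)
  obtain ⟨S⟩ : Nonempty (Sylow p K) := inferInstance
  let P : Subgroup (Perm α) := ((S : Subgroup K).map K.subtype).map f
  have hPG : P ≤ G := by
    rintro z ⟨h, -, rfl⟩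
    exact (h : G).2
  have hPmem : ∀ z, z ∈ P → ∃ s : K, s ∈ (S : Subgroup K) ∧ f s = z := by
    rintro z ⟨g, ⟨s, hs, rfl⟩, rfl⟩
    exact ⟨s, hs, rfl⟩
  have hfix : ∀ z ∈ P, ∀ u ∈ Δ, z u = u := by
    intro z hz u hu
    obtain ⟨s, -, rfl⟩ := hPmem z hz
    exact s.2 u hu
  have hPp : IsPGroup p P := (S.isPGroup'.map _).map _
  -- orbits of the Sylow subgroup outside have size `p`
  have horbit : ∀ u, u ∉ Δ → (MulAction.orbit P u).ncard = p := by
    intro u hu
    have hKorb : MulAction.orbit K u = ((Δ : Set α))ᶜ := by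
      ext v
      rw [MulAction.mem_orbit_iff]
      constructor
      · rintro ⟨g, rfl⟩ hv
        exact hu (((g : H).2 u).1 hv)
      · intro hv
        obtain ⟨g, hg, hgu⟩ := htrans u v hu hv
        exact ⟨⟨g, hg⟩, hgu⟩
    have hKcard : (MulAction.orbit K u).ncard = k * p := by
      rw [hKorb, Set.ncard_compl, Set.ncard_coe_finset, hΔ, Nat.card_eq_fintype_card]
      omega
    have hPorb : MulAction.orbit P u = MulAction.orbit (S : Subgroup K) u := by
      ext v
      simp only [MulAction.mem_orbit_iff]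
      constructor
      · rintro ⟨⟨z, hz⟩, rfl⟩
        obtain ⟨s, hs, rfl⟩ := hPmem z hz
        exact ⟨⟨s, hs⟩, rfl⟩
      · rintro ⟨⟨s, hs⟩, rfl⟩
        exact ⟨⟨_, ⟨_, ⟨s, hs, rfl⟩, rfl⟩⟩, rfl⟩
    rw [hPorb]
    -- `p` divides the orbit size
    have h1 : (MulAction.orbit (S : Subgroup K) u).ncard = (stabilizer (S : Subgroup K) u).index :=
      (MulAction.index_stabilizer (G := (S : Subgroup K)) u).symm
    obtain ⟨j, -, hj⟩ := (Nat.dvd_prime_pow hp).1
      ((stabilizer (S : Subgroup K) u).index_dvd_card.trans (dvd_of_eq S.card_eq_multiplicity))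
    have hpos : j ≠ 0 := by
      intro hj0
      rw [hj0, pow_zero, Subgroup.index_eq_one] at hj
      have hle : (S : Subgroup K) ≤ stabilizer K u := fun s hs => by
        have : (⟨s, hs⟩ : (S : Subgroup K)) ∈ stabilizer (S : Subgroup K) u := by rw [hj]; trivial
        exact this
      have hd := S.not_dvd_index
      refine hd ((?_ : p ∣ (stabilizer K u).index).trans (Subgroup.index_dvd_of_le hle))
      rw [MulAction.index_stabilizer, hKcard]
      exact dvd_mul_left p k
    have hle : (MulAction.orbit (S : Subgroup K) u).ncard ≤ k * p := by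
      rw [← hKcard]
      exact Set.ncard_le_ncard (by rintro v ⟨s, rfl⟩; exact ⟨(s : K), rfl⟩)
    rw [h1, hj] at hle ⊢
    rcases j with _ | _ | j
    · exact absurd rfl hpos
    · rw [pow_one]
    · exfalso
      have : p ^ 2 ≤ p ^ (j + 2) := Nat.pow_le_pow_right hp.pos (by omega)
      nlinarith [hp.pos]
  -- the group induced on an orbit has order dividing `p`
  have hrestr : ∀ u, u ∉ Δ → ∀ z ∈ P, ∀ w ∈ P,
      (z * w) u = (w * z) u ∧ (z ^ p) u = u := by
    intro u hu z hz w hw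
    let φ := MulAction.toPermHom P (MulAction.orbit P u)
    haveI : Finite (MulAction.orbit P u) := inferInstance
    have hR : IsPGroup p φ.range := hPp.to_le le_rfl |>.of_surjective φ.rangeRestrict
      φ.rangeRestrict_surjective
    obtain ⟨j, hj⟩ := IsPGroup.iff_card.1 hR
    have hdvd : p ^ j ∣ p.factorial := by
      rw [← hj]
      refine (φ.range.card_subgroup_dvd_card).trans (dvd_of_eq ?_)
      rw [Nat.card_perm, Nat.card_coe_set_eq, horbit u hu]
    have hj1 : j ≤ 1 := by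
      by_contra hj2
      have h2 : p ^ 2 ∣ p.factorial := (pow_dvd_pow p (by omega)).trans hdvd
      rw [← Nat.mul_factorial_pred hp.pos.ne', pow_two] at h2
      have h3 : p ∣ (p - 1).factorial := (Nat.mul_dvd_mul_iff_left hp.pos).1 h2
      have := (hp.dvd_factorial).1 h3
      have := hp.pos
      omega
    have hcomm : ∀ a b : φ.range, a * b = b * a ∧ a ^ p = 1 := by
      intro a b
      refine ⟨?_, ?_⟩
      · haveI : IsCyclic φ.range := by
          rcases Nat.le_one_iff_eq_zero_or_eq_one.1 hj1 with rfl | rfl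
          · haveI : Subsingleton φ.range := (Nat.card_eq_one_iff_unique.1 (by simpa using hj)).1
            infer_instance
          · exact isCyclic_of_prime_card (by simpa using hj)
        exact (IsCyclic.commGroup.mul_comm a b : a * b = b * a)
      · rcases Nat.le_one_iff_eq_zero_or_eq_one.1 hj1 with rfl | rfl
        · haveI : Subsingleton φ.range := (Nat.card_eq_one_iff_unique.1 (by simpa using hj)).1
          exact Subsingleton.elim _ _
        · have := pow_card_eq_one' (x := a)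
          rwa [hj, pow_one] at this
    obtain ⟨h1, h2⟩ := hcomm (φ.rangeRestrict ⟨z, hz⟩) (φ.rangeRestrict ⟨w, hw⟩)
    rw [← map_mul, ← map_mul] at h1
    rw [← map_pow, ← map_one φ.rangeRestrict] at h2
    have e1 := congrArg (fun a : φ.range =>
      (((a : Perm (MulAction.orbit P u)) ⟨u, mem_orbit_self u⟩ : MulAction.orbit P u) : α)) h1
    have e2 := congrArg (fun a : φ.range =>
      (((a : Perm (MulAction.orbit P u)) ⟨u, mem_orbit_self u⟩ : MulAction.orbit P u) : α)) h2
    exact ⟨e1, e2⟩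
  have hcomm : ∀ z ∈ P, ∀ w ∈ P, z * w = w * z := by
    intro z hz w hw
    ext u
    by_cases hu : u ∈ Δ
    · rw [hfix _ (P.mul_mem hz hw) u hu, hfix _ (P.mul_mem hw hz) u hu]
    · exact (hrestr u hu z hz w hw).1
  have hexp : ∀ z ∈ P, z ^ p = 1 := by
    intro z hz
    ext u
    rw [Perm.one_apply]
    by_cases hu : u ∈ Δ
    · exact hfix _ (P.pow_mem hz p) u hu
    · exact (hrestr u hu z hz z hz).2
  have hinduce : ∀ σ : Perm Δ, ∃ m ∈ G, m ∈ Subgroup.normalizer (P : Set (Perm α)) ∧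
      ∀ u : Δ, m u = σ u := by
    intro σ
    let y : Fin r ↪ α := (e.symm.trans σ).toEmbedding.trans (Function.Embedding.subtype _)
    obtain ⟨g, hg⟩ := exists_smul_eq G x y
    have hgu : ∀ u : Δ, g • (u : α) = σ u := fun u => by
      have := congrArg (fun z : Fin r ↪ α => z (e u)) hg
      simpa [x, y] using this
    have hgH : g ∈ H := hmemH g fun u hu => by rw [hgu ⟨u, hu⟩]; exact (σ ⟨u, hu⟩).2
    have htop : (⟨g, hgH⟩ : H) ∈
        Subgroup.normalizer (((S : Subgroup K).map K.subtype : Subgroup H) : Set H) ⊔ K := by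
      rw [Sylow.normalizer_sup_eq_top S]
      trivial
    obtain ⟨m, hm, c, hc, hmc⟩ := Subgroup.mem_sup_of_normal_right.1 htop
    refine ⟨f m, (m : G).2, Subgroup.le_normalizer_map f ⟨m, hm, rfl⟩, fun u => ?_⟩
    have h1 : f (m * c) u = f m u := by
      rw [map_mul, Perm.mul_apply, hc u u.2]
    rw [← h1, hmc]
    exact hgu u
  exact ⟨⟨Δ, hΔ, P, hPG, hfix, horbit, hcomm, hexp, hinduce⟩⟩

namespace Setup

variable {k p r : ℕ} (D : Setup G k p r)

/-- The orbit of the Sylow subgroup, as a finite set. -/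
noncomputable def orb (u : α) : Finset α := (Set.toFinite (MulAction.orbit D.P u)).toFinset

theorem mem_orb {u v : α} : v ∈ D.orb u ↔ v ∈ MulAction.orbit D.P u := Set.Finite.mem_toFinset _

theorem card_orb {u : α} (hu : u ∉ D.fixed) : (D.orb u).card = p := by
  rw [orb, ← Set.ncard_eq_toFinset_card, D.orbit u hu]

theorem agree {z w : Perm α} (hz : z ∈ D.P) (hw : w ∈ D.P) {u v : α} (h : z u = w u)
    (hv : v ∈ MulAction.orbit D.P u) : z v = w v := by
  obtain ⟨⟨q, hq⟩, rfl⟩ := hv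
  change (z * q) u = (w * q) u
  rw [D.comm z hz q hq, D.comm w hw q hq, Perm.mul_apply, Perm.mul_apply, h]

theorem notMem_fixed_of_mem_orbit {u v : α} (hu : u ∉ D.fixed)
    (hv : v ∈ MulAction.orbit D.P u) : v ∉ D.fixed := by
  obtain ⟨⟨q, hq⟩, rfl⟩ := hv
  intro h
  apply hu
  change q u ∈ D.fixed at h
  have h2 := D.fix q⁻¹ (D.P.inv_mem hq) _ h
  rw [show q⁻¹ (q u) = u from q.symm_apply_apply u] at h2
  exact h2 ▸ h

theorem support_subset {z : Perm α} (hz : z ∈ D.P) {u : α} (hu : u ∈ z.support) : u ∉ D.fixed :=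
  fun h => Perm.mem_support.1 hu (D.fix z hz u h)

theorem orbit_subset_support {z : Perm α} (hz : z ∈ D.P) {u : α} (hu : u ∈ z.support) :
    (D.orb u) ⊆ z.support := by
  intro v hv
  rw [D.mem_orb] at hv
  rw [Perm.mem_support] at hu ⊢
  intro hzv
  refine hu ?_
  have hu' : u ∈ MulAction.orbit D.P v := (MulAction.orbit_eq_iff.2 hv).symm ▸ mem_orbit_self u
  simpa using D.agree hz D.P.one_mem (u := v) (v := u) (by simpa using hzv) hu'

theorem le_card_support {z : Perm α} (hz : z ∈ D.P) (hne : z ≠ 1) : p ≤ z.support.card := by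
  obtain ⟨u, hu⟩ : z.support.Nonempty := by
    rw [Finset.nonempty_iff_ne_empty, Ne, Perm.support_eq_empty_iff]
    exact hne
  have := Finset.card_le_card (D.orbit_subset_support hz hu)
  rwa [D.card_orb (D.support_subset hz hu)] at this

theorem two_le_card_support {z : Perm α} (hz : z ∈ D.P) (hne : z ≠ 1)
    (hp' : z.support.card ≠ p) : 2 * p ≤ z.support.card := by
  obtain ⟨u, hu⟩ : z.support.Nonempty := by
    rw [Finset.nonempty_iff_ne_empty, Ne, Perm.support_eq_empty_iff]
    exact hne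
  have hsub := D.orbit_subset_support hz hu
  have hcard : (D.orb u).card = p := by
    rw [D.card_orb (D.support_subset hz hu)]
  obtain ⟨v, hv, hv'⟩ := Finset.exists_mem_notMem_of_card_lt_card
    (s := (D.orb u)) (t := z.support)
    (by rw [hcard]; exact lt_of_le_of_ne (D.le_card_support hz hne) hp'.symm)
  have hsub' := D.orbit_subset_support hz hv
  have hcard' : (D.orb v).card = p := by
    rw [D.card_orb (D.support_subset hz hv)]
  have hdisj : Disjoint (D.orb u) (D.orb v) := by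
    rw [Finset.disjoint_left]
    intro y h1 h2
    rw [D.mem_orb] at h1 h2
    apply hv'
    rw [D.mem_orb, ← MulAction.orbit_eq_iff.2 h1, MulAction.orbit_eq_iff.2 h2]
    exact mem_orbit_self v
  have := Finset.card_le_card (Finset.union_subset hsub hsub')
  rw [Finset.card_union_of_disjoint hdisj, hcard, hcard'] at this
  omega

theorem card_fix_support {z w : Perm α} (hz : z ∈ D.P) (hw : w ∈ D.P)
    (hsub : w.support ⊆ z.support) {u : α} (hu : u ∈ z.support) (hwu : w u = u) :
    w.support.card + p ≤ z.support.card := by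
  have hdisj : Disjoint w.support (D.orb u) := by
    rw [Finset.disjoint_left]
    intro v h1 h2
    rw [D.mem_orb] at h2
    refine Perm.mem_support.1 h1 ?_
    simpa using D.agree hw D.P.one_mem (u := u) (v := v) (by simpa using hwu) h2
  have := Finset.card_le_card (Finset.union_subset hsub (D.orbit_subset_support hz hu))
  rw [Finset.card_union_of_disjoint hdisj, D.card_orb (D.support_subset hz hu)] at this
  exact this

theorem exists_pow_apply (hp : p.Prime) {z : Perm α} (hz : z ∈ D.P) {u : α} (hu : z u ≠ u)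
    {w : Perm α} (hw : w ∈ D.P) : ∃ i : ℕ, w u = (z ^ i) u := by
  have hper : Function.minimalPeriod z u = p := by
    haveI : Fact p.Prime := ⟨hp⟩
    refine Function.minimalPeriod_eq_prime ?_ hu
    change z^[p] u = u
    rw [← Perm.coe_pow, D.exponent z hz, Perm.one_apply]
  have huΔ : u ∉ D.fixed := fun h => hu (D.fix z hz u h)
  let S : Finset α := (Finset.range p).image fun i => (z ^ i) u
  have hS : S.card = p := by
    rw [Finset.card_image_of_injOn, Finset.card_range]
    intro i hi j hj hij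
    rw [Finset.mem_coe, Finset.mem_range] at hi hj
    exact Function.iterate_injOn_Iio_minimalPeriod (f := z) (x := u)
      (by simpa [hper] using hi) (by simpa [hper] using hj)
      (by simpa [Perm.coe_pow] using hij)
  have hsub : S ⊆ (D.orb u) := by
    intro v hv
    obtain ⟨i, -, rfl⟩ := Finset.mem_image.1 hv
    rw [D.mem_orb]
    exact ⟨⟨_, D.P.pow_mem hz i⟩, rfl⟩
  have heq := Finset.eq_of_subset_of_card_le hsub
    (by rw [D.card_orb huΔ, hS])
  have : w u ∈ S := by rw [heq, D.mem_orb]; exact ⟨⟨w, hw⟩, rfl⟩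
  obtain ⟨i, -, hi⟩ := Finset.mem_image.1 this
  exact ⟨i, hi.symm⟩

theorem exists_moving (hp : p.Prime) {u : α} (hu : u ∉ D.fixed) : ∃ z ∈ D.P, z u ≠ u := by
  by_contra hcon
  simp only [not_exists, not_and, not_not] at hcon
  have : MulAction.orbit D.P u = {u} := by
    ext v
    constructor
    · rintro ⟨⟨q, hq⟩, rfl⟩; exact hcon q hq
    · rintro rfl; exact mem_orbit_self _
  have h := D.orbit u hu
  rw [this, Set.ncard_singleton] at h
  exact hp.ne_one h.symm

theorem conj_mem {m z : Perm α} (hm : m ∈ Subgroup.normalizer (D.P : Set (Perm α)))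
    (hz : z ∈ D.P) : m * z * m⁻¹ ∈ D.P :=
  (Subgroup.mem_normalizer_iff.1 hm z).1 hz

theorem map_fixed (hp : p.Prime) {m : Perm α} (hm : m ∈ Subgroup.normalizer (D.P : Set (Perm α)))
    {u : α} (hu : u ∈ D.fixed) : m u ∈ D.fixed := by
  by_contra h
  obtain ⟨z, hz, hzu⟩ := D.exists_moving hp h
  have h1 := D.fix _ (D.conj_mem (inv_mem hm) hz) u hu
  apply hzu
  rw [inv_inv, Perm.mul_apply, Perm.mul_apply] at h1
  calc z (m u) = m (m⁻¹ (z (m u))) := (m.apply_symm_apply _).symm
    _ = m u := by rw [h1]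

theorem map_notMem_fixed (hp : p.Prime) {m : Perm α}
    (hm : m ∈ Subgroup.normalizer (D.P : Set (Perm α))) {u : α} (hu : u ∉ D.fixed) :
    m u ∉ D.fixed := fun h => hu <| by
  have := D.map_fixed hp (inv_mem hm) h
  rwa [show m⁻¹ (m u) = u from m.symm_apply_apply u] at this

theorem map_orbit {m : Perm α} (hm : m ∈ Subgroup.normalizer (D.P : Set (Perm α))) {u v : α}
    (hv : v ∈ MulAction.orbit D.P u) : m v ∈ MulAction.orbit D.P (m u) := by
  obtain ⟨⟨q, hq⟩, rfl⟩ := hv
  refine ⟨⟨_, D.conj_mem hm hq⟩, ?_⟩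
  change (m * q * m⁻¹) (m u) = m (q u)
  simp

/-- Normalises the Sylow subgroup and fixes each of its orbits. -/
def Good (n : Perm α) : Prop :=
  n ∈ G ∧ n ∈ Subgroup.normalizer (D.P : Set (Perm α)) ∧
    ∀ u, u ∉ D.fixed → n u ∈ MulAction.orbit D.P u

theorem good_one : D.Good 1 := ⟨G.one_mem, one_mem _, fun _ _ => mem_orbit_self _⟩

theorem good_mul {a b : Perm α} (ha : D.Good a) (hb : D.Good b) : D.Good (a * b) := by
  refine ⟨G.mul_mem ha.1 hb.1, mul_mem ha.2.1 hb.2.1, fun u hu => ?_⟩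
  have h1 := hb.2.2 u hu
  have h2 := ha.2.2 _ (D.notMem_fixed_of_mem_orbit hu h1)
  rwa [← MulAction.orbit_eq_iff.2 h1, Perm.mul_apply]

theorem good_inv (hp : p.Prime) {a : Perm α} (ha : D.Good a) : D.Good a⁻¹ := by
  refine ⟨G.inv_mem ha.1, inv_mem ha.2.1, fun u hu => ?_⟩
  have h1 := ha.2.2 _ (D.map_notMem_fixed hp (inv_mem ha.2.1) hu)
  rw [show a (a⁻¹ u) = u from a.apply_symm_apply u] at h1
  rw [MulAction.orbit_eq_iff.2 h1]
  exact mem_orbit_self _

theorem good_conj (hp : p.Prime) {m a : Perm α} (hmG : m ∈ G)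
    (hm : m ∈ Subgroup.normalizer (D.P : Set (Perm α))) (ha : D.Good a) :
    D.Good (m * a * m⁻¹) := by
  refine ⟨G.mul_mem (G.mul_mem hmG ha.1) (G.inv_mem hmG), mul_mem (mul_mem hm ha.2.1) (inv_mem hm),
    fun u hu => ?_⟩
  have h1 := D.map_orbit hm (ha.2.2 _ (D.map_notMem_fixed hp (inv_mem hm) hu))
  rwa [show m (m⁻¹ u) = u from m.apply_symm_apply u] at h1

/-- On each orbit an element fixing all orbits acts on `P` as a power map. -/
theorem exists_multiplier (hp : p.Prime) {n : Perm α} (hn : D.Good n) {u : α} (hu : u ∉ D.fixed) :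
    ∃ a : ℕ, ∀ z ∈ D.P, (n * z * n⁻¹) u = (z ^ a) u := by
  obtain ⟨z₀, hz₀, hmv⟩ := D.exists_moving hp hu
  obtain ⟨a, ha⟩ := D.exists_pow_apply hp hz₀ hmv (D.conj_mem hn.2.1 hz₀)
  refine ⟨a, fun z hz => ?_⟩
  obtain ⟨i, hi⟩ := D.exists_pow_apply hp hz₀ hmv hz
  have hsame : ∀ v ∈ MulAction.orbit D.P u, z v = (z₀ ^ i) v := fun v hv =>
    D.agree hz (D.P.pow_mem hz₀ i) hi hv
  have h1 : (n * z * n⁻¹) u = (n * z₀ ^ i * n⁻¹) u := by
    simp only [Perm.mul_apply]
    rw [hsame _ ((D.good_inv hp hn).2.2 u hu)]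
  have h2 : ∀ j : ℕ, ∀ v ∈ MulAction.orbit D.P u,
      ((n * z₀ * n⁻¹) ^ j) v = ((z₀ ^ a) ^ j) v := by
    intro j
    induction j with
    | zero => simp
    | succ j ih =>
      intro v hv
      rw [pow_succ', pow_succ', Perm.mul_apply, Perm.mul_apply, ih v hv]
      refine D.agree (D.conj_mem hn.2.1 hz₀) (D.P.pow_mem hz₀ a) ha ?_
      have h3 : ((z₀ ^ a) ^ j) v ∈ MulAction.orbit D.P v :=
        ⟨⟨_, D.P.pow_mem (D.P.pow_mem hz₀ a) j⟩, rfl⟩
      rwa [MulAction.orbit_eq_iff.2 hv] at h3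
  have h4 : ∀ j : ℕ, ∀ v ∈ MulAction.orbit D.P u, (z ^ j) v = ((z₀ ^ i) ^ j) v := by
    intro j
    induction j with
    | zero => simp
    | succ j ih =>
      intro v hv
      rw [pow_succ', pow_succ', Perm.mul_apply, Perm.mul_apply, ih v hv]
      refine hsame _ ?_
      have h3 : ((z₀ ^ i) ^ j) v ∈ MulAction.orbit D.P v :=
        ⟨⟨_, D.P.pow_mem (D.P.pow_mem hz₀ i) j⟩, rfl⟩
      rwa [MulAction.orbit_eq_iff.2 hv] at h3
  rw [h1, ← conj_pow, h2 i u (mem_orbit_self u), h4 a u (mem_orbit_self u), ← pow_mul, ← pow_mul,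
    mul_comm]

theorem commutator_centralizes (hp : p.Prime) {n₁ n₂ : Perm α} (h₁ : D.Good n₁) (h₂ : D.Good n₂)
    {z : Perm α} (hz : z ∈ D.P) :
    n₁ * n₂ * z * (n₁ * n₂)⁻¹ = n₂ * n₁ * z * (n₂ * n₁)⁻¹ := by
  have e1 : n₁ * n₂ * z * (n₁ * n₂)⁻¹ = n₁ * (n₂ * z * n₂⁻¹) * n₁⁻¹ := by group
  have e2 : n₂ * n₁ * z * (n₂ * n₁)⁻¹ = n₂ * (n₁ * z * n₁⁻¹) * n₂⁻¹ := by group
  have m1 := D.conj_mem h₂.2.1 hz
  have m2 := D.conj_mem h₁.2.1 hz
  ext u
  by_cases hu : u ∈ D.fixed
  · rw [e1, e2, D.fix _ (D.conj_mem h₁.2.1 m1) u hu, D.fix _ (D.conj_mem h₂.2.1 m2) u hu]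
  · obtain ⟨a, ha⟩ := D.exists_multiplier hp h₁ hu
    obtain ⟨b, hb⟩ := D.exists_multiplier hp h₂ hu
    rw [e1, e2, ha _ m1, hb _ m2, conj_pow, conj_pow, hb _ (D.P.pow_mem hz a),
      ha _ (D.P.pow_mem hz b), ← pow_mul, ← pow_mul, mul_comm]

/-- With at most three orbits and no element of support `p`, power maps are uniform. -/
theorem exists_scalar (hp : p.Prime) (hn : Fintype.card α = k * p + r) (hk : k ≤ 3)
    (hno : ∀ z ∈ D.P, z.support.card ≠ p) {n : Perm α} (hg : D.Good n) :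
    ∃ a : ℕ, ∀ z ∈ D.P, n * z * n⁻¹ = z ^ a := by
  classical
  by_cases hne : ∃ z ∈ D.P, z ≠ 1
  case neg =>
    exact ⟨0, fun z hz => by rw [of_not_not fun h => hne ⟨z, hz, h⟩]; simp⟩
  have hex : ∃ c, ∃ z ∈ D.P, z ≠ 1 ∧ z.support.card = c := by
    obtain ⟨z, hz, h⟩ := hne; exact ⟨_, z, hz, h, rfl⟩
  obtain ⟨z₀, hz₀, hz₀ne, hz₀c⟩ := Nat.find_spec hex
  have hmin : ∀ z ∈ D.P, z ≠ 1 → z₀.support.card ≤ z.support.card := fun z hz h => by
    rw [hz₀c]; exact Nat.find_min' hex ⟨z, hz, h, rfl⟩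
  -- conjugation keeps supports
  have hsupp : ∀ z ∈ D.P, ∀ v, z v = v → (n * z * n⁻¹) v = v := by
    intro z hz v hv
    by_cases hvΔ : v ∈ D.fixed
    · exact D.fix _ (D.conj_mem hg.2.1 hz) v hvΔ
    · have h1 := D.agree hz D.P.one_mem (u := v) (v := n⁻¹ v) (by simpa using hv)
        ((D.good_inv hp hg).2.2 v hvΔ)
      simp only [Perm.one_apply] at h1
      rw [Perm.mul_apply, Perm.mul_apply, h1]
      exact n.apply_symm_apply v
  have hdiff : ∀ z ∈ D.P, ∀ a : ℕ, ((n * z * n⁻¹) * (z ^ a)⁻¹).support ⊆ z.support := by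
    intro z hz a v hv
    rw [Perm.mem_support] at hv ⊢
    intro h
    apply hv
    have h2 : (z ^ a)⁻¹ v = v := by
      rw [Perm.inv_eq_iff_eq]
      exact (Perm.pow_apply_eq_self_of_apply_eq_self h a).symm
    rw [Perm.mul_apply, h2, hsupp z hz v h]
  obtain ⟨u, hu⟩ : z₀.support.Nonempty := by
    rw [Finset.nonempty_iff_ne_empty, Ne, Perm.support_eq_empty_iff]
    exact hz₀ne
  obtain ⟨a, ha⟩ := D.exists_multiplier hp hg (D.support_subset hz₀ hu)
  have hfixu : ∀ z ∈ D.P, ∀ v, (n * z * n⁻¹) v = (z ^ a) v →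
      ((n * z * n⁻¹) * (z ^ a)⁻¹) v = v := by
    intro z hz v hv
    have hA := D.conj_mem hg.2.1 hz
    have hB := D.P.inv_mem (D.P.pow_mem hz a)
    rw [D.comm _ hA _ hB, Perm.mul_apply, hv]
    exact (z ^ a).symm_apply_apply v
  have h0 : n * z₀ * n⁻¹ = z₀ ^ a := by
    by_contra h
    have hw : n * z₀ * n⁻¹ * (z₀ ^ a)⁻¹ ∈ D.P :=
      D.P.mul_mem (D.conj_mem hg.2.1 hz₀) (D.P.inv_mem (D.P.pow_mem hz₀ a))
    have h1 := D.card_fix_support hz₀ hw (hdiff _ hz₀ a) hu (hfixu _ hz₀ u (ha _ hz₀))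
    have h2 := hmin _ hw (fun h' => h (mul_inv_eq_one.1 h'))
    have := hp.pos
    omega
  refine ⟨a, fun z hz => ?_⟩
  obtain ⟨i, hi⟩ := D.exists_pow_apply hp hz₀ (Perm.mem_support.1 hu) hz
  let z₁ := z * (z₀ ^ i)⁻¹
  have hz₁ : z₁ ∈ D.P := D.P.mul_mem hz (D.P.inv_mem (D.P.pow_mem hz₀ i))
  have hz₁u : z₁ u = u := by
    change (z * (z₀ ^ i)⁻¹) u = u
    rw [D.comm _ hz _ (D.P.inv_mem (D.P.pow_mem hz₀ i)), Perm.mul_apply, hi]
    exact (z₀ ^ i).symm_apply_apply u
  suffices hkey : n * z₁ * n⁻¹ = z₁ ^ a by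
    have hzeq : z = z₁ * z₀ ^ i := by simp [z₁]
    have hcm : Commute z₁ (z₀ ^ i) := D.comm _ hz₁ _ (D.P.pow_mem hz₀ i)
    rw [hzeq, hcm.mul_pow,
      show n * (z₁ * z₀ ^ i) * n⁻¹ = (n * z₁ * n⁻¹) * (n * z₀ ^ i * n⁻¹) by group,
      hkey, ← conj_pow, h0, ← pow_mul, ← pow_mul, mul_comm a i]
  by_cases hz₁ne : z₁ = 1
  · rw [hz₁ne]; simp
  -- the supports of `z₀` and `z₁` overlap
  have hbound : ∀ w ∈ D.P, w.support.card ≤ k * p := by
    intro w hw
    have h1 : w.support ⊆ Finset.univ \ D.fixed := fun v hv =>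
      Finset.mem_sdiff.2 ⟨Finset.mem_univ _, D.support_subset hw hv⟩
    have := Finset.card_le_card h1
    rw [Finset.card_sdiff_of_subset (Finset.subset_univ _), Finset.card_univ, D.fixed_card] at this
    omega
  have hk3 : k * p ≤ 3 * p := Nat.mul_le_mul_right p hk
  have hc1 : z₁.support.card + p ≤ k * p := by
    have hdisj : Disjoint z₁.support (D.orb u) := by
      rw [Finset.disjoint_left]
      intro v h1 h2
      rw [D.mem_orb] at h2
      refine Perm.mem_support.1 h1 ?_
      simpa using D.agree hz₁ D.P.one_mem (u := u) (v := v) (by simpa using hz₁u) h2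
    have hsub : z₁.support ∪ (D.orb u) ⊆ Finset.univ \ D.fixed := by
      refine Finset.union_subset (fun v hv => ?_) (fun v hv => ?_)
      · exact Finset.mem_sdiff.2 ⟨Finset.mem_univ _, D.support_subset hz₁ hv⟩
      · exact Finset.mem_sdiff.2 ⟨Finset.mem_univ _,
          D.notMem_fixed_of_mem_orbit (D.support_subset hz₀ hu) (D.mem_orb.1 hv)⟩
    have := Finset.card_le_card hsub
    rw [Finset.card_union_of_disjoint hdisj, D.card_orb (D.support_subset hz₀ hu), Finset.card_sdiff_of_subset (Finset.subset_univ _),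
      Finset.card_univ, D.fixed_card] at this
    omega
  have hc2 := D.two_le_card_support hz₁ hz₁ne (hno _ hz₁)
  have hc0 := D.two_le_card_support hz₀ hz₀ne (hno _ hz₀)
  have hc01 := hmin _ hz₁ hz₁ne
  obtain ⟨v, hv0, hv1⟩ : ∃ v, v ∈ z₀.support ∧ v ∈ z₁.support := by
    by_contra hcon
    have hdisj : Disjoint z₀.support z₁.support :=
      Finset.disjoint_left.2 fun v h1 h2 => hcon ⟨v, h1, h2⟩
    have hsub : z₀.support ∪ z₁.support ⊆ Finset.univ \ D.fixed :=
      Finset.union_subset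
        (fun v hv => Finset.mem_sdiff.2 ⟨Finset.mem_univ _, D.support_subset hz₀ hv⟩)
        (fun v hv => Finset.mem_sdiff.2 ⟨Finset.mem_univ _, D.support_subset hz₁ hv⟩)
    have := Finset.card_le_card hsub
    rw [Finset.card_union_of_disjoint hdisj, Finset.card_sdiff_of_subset (Finset.subset_univ _),
      Finset.card_univ, D.fixed_card] at this
    have := hp.pos
    omega
  obtain ⟨b, hb⟩ := D.exists_multiplier hp hg (D.support_subset hz₀ hv0)
  obtain ⟨j, hj⟩ := D.exists_pow_apply hp hz₀ (Perm.mem_support.1 hv0) hz₁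
  have hv' : (n * z₁ * n⁻¹) v = (z₁ ^ a) v := by
    have e1 : ∀ q : ℕ, ∀ y ∈ MulAction.orbit D.P v, (z₁ ^ q) y = ((z₀ ^ j) ^ q) y := by
      intro q
      induction q with
      | zero => simp
      | succ q ih =>
        intro y hy
        rw [pow_succ', pow_succ', Perm.mul_apply, Perm.mul_apply, ih y hy]
        refine D.agree hz₁ (D.P.pow_mem hz₀ j) hj ?_
        have h3 : ((z₀ ^ j) ^ q) y ∈ MulAction.orbit D.P y :=
          ⟨⟨_, D.P.pow_mem (D.P.pow_mem hz₀ j) q⟩, rfl⟩
        rwa [MulAction.orbit_eq_iff.2 hy] at h3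
    rw [hb _ hz₁, e1 b v (mem_orbit_self v), ← hb _ (D.P.pow_mem hz₀ j), ← conj_pow, h0,
      e1 a v (mem_orbit_self v), ← pow_mul, ← pow_mul, mul_comm]
  by_contra h
  have hw : n * z₁ * n⁻¹ * (z₁ ^ a)⁻¹ ∈ D.P :=
    D.P.mul_mem (D.conj_mem hg.2.1 hz₁) (D.P.inv_mem (D.P.pow_mem hz₁ a))
  have h1 := D.card_fix_support hz₁ hw (hdiff _ hz₁ a) hv1 (hfixu _ hz₁ v hv')
  have h2 := D.two_le_card_support hw (fun h' => h (mul_inv_eq_one.1 h')) (hno _ hw)
  have := hp.pos
  omega

/-- An element fixing all orbits and centralising `P` has `p`-th power trivial outside. -/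
theorem pow_support (hp : p.Prime) {c : Perm α} (hc : D.Good c)
    (hcent : ∀ z ∈ D.P, c * z * c⁻¹ = z) : (c ^ p).support ⊆ D.fixed := by
  intro u hu
  by_contra hΔ
  obtain ⟨⟨z, hz⟩, hzu : z u = c u⟩ := hc.2.2 u hΔ
  have hcm : ∀ i : ℕ, (c ^ i) u = (z ^ i) u := by
    intro i
    induction i with
    | zero => simp
    | succ i ih =>
      have h0 : Commute c z := mul_inv_eq_iff_eq_mul.1 (hcent z hz)
      have h1 : Commute c (z ^ i) := h0.pow_right i
      rw [pow_succ', Perm.mul_apply, ih, ← Perm.mul_apply, h1.eq, Perm.mul_apply, ← hzu,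
        ← Perm.mul_apply, ← pow_succ]
  apply Perm.mem_support.1 hu
  rw [hcm, D.exponent z hz, Perm.one_apply]

/-- The permutations induced on the fixed points by elements fixing all orbits. -/
def induced (hp : p.Prime) : Subgroup (Perm D.fixed) where
  carrier := {σ | ∃ n, D.Good n ∧ ∀ u : D.fixed, n u = σ u}
  one_mem' := ⟨1, D.good_one, fun _ => rfl⟩
  mul_mem' := by
    rintro σ τ ⟨a, ha, ha'⟩ ⟨b, hb, hb'⟩
    exact ⟨a * b, D.good_mul ha hb, fun u => by
      rw [Perm.mul_apply, hb', ha', Perm.mul_apply]⟩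
  inv_mem' := by
    rintro σ ⟨a, ha, ha'⟩
    refine ⟨a⁻¹, D.good_inv hp ha, fun u => ?_⟩
    rw [Perm.inv_eq_iff_eq, ha']
    exact congrArg Subtype.val (σ.apply_symm_apply u).symm

theorem induced_normal (hp : p.Prime) : (D.induced hp).Normal := ⟨fun σ hσ t => by
  obtain ⟨a, ha, ha'⟩ := hσ
  obtain ⟨m, hmG, hm, hm'⟩ := D.induce t
  refine ⟨m * a * m⁻¹, D.good_conj hp hmG hm ha, fun u => ?_⟩
  have h1 : m⁻¹ (u : α) = (t⁻¹ u : D.fixed) := by
    rw [Perm.inv_eq_iff_eq, hm']
    exact congrArg Subtype.val (t.apply_symm_apply u).symm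
  rw [Perm.mul_apply, Perm.mul_apply, h1, ha', hm']
  rfl⟩

theorem exists_induced_ne_one (hp : p.Prime) (hn : Fintype.card α = k * p + r) (hkr : k < r)
    (hk : 1 ≤ k) : ∃ σ ∈ D.induced hp, σ ≠ 1 := by
  classical
  let O : Finset (Finset α) := D.fixedᶜ.image fun u => (D.orb u)
  have hO : O.card = k := by
    have hbi : O.biUnion id = D.fixedᶜ := by
      ext v
      simp only [O, Finset.mem_biUnion, Finset.mem_image, Finset.mem_compl, id_eq,
        exists_exists_and_eq_and, D.mem_orb]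
      exact ⟨fun ⟨u, hu, hv⟩ => D.notMem_fixed_of_mem_orbit hu hv,
        fun hv => ⟨v, hv, mem_orbit_self v⟩⟩
    have hcard : (O.biUnion id).card = O.card * p := by
      rw [Finset.card_biUnion]
      · apply Finset.sum_const_nat
        intro s hs
        obtain ⟨u, hu, rfl⟩ := Finset.mem_image.1 hs
        rw [id_eq, D.card_orb (Finset.mem_compl.1 hu)]
      · intro s hs t ht hst
        obtain ⟨u, -, rfl⟩ := Finset.mem_image.1 hs
        obtain ⟨v, -, rfl⟩ := Finset.mem_image.1 ht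
        rw [Function.onFun, id_eq, id_eq, Finset.disjoint_left]
        intro y h1 h2
        rw [D.mem_orb] at h1 h2
        apply hst
        ext w
        rw [D.mem_orb, D.mem_orb, ← MulAction.orbit_eq_iff.2 h1, MulAction.orbit_eq_iff.2 h2]
    rw [hbi, Finset.card_compl, D.fixed_card, hn, Nat.add_sub_cancel] at hcard
    exact (Nat.mul_right_cancel hp.pos hcard).symm
  choose m hmG hm hm' using D.induce
  have hmap : ∀ σ, ∀ s ∈ O, s.map (m σ).toEmbedding ∈ O := by
    intro σ s hs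
    obtain ⟨u, hu, rfl⟩ := Finset.mem_image.1 hs
    refine Finset.mem_image.2 ⟨m σ u,
      Finset.mem_compl.2 (D.map_notMem_fixed hp (hm σ) (Finset.mem_compl.1 hu)), ?_⟩
    ext v
    simp only [D.mem_orb, Finset.mem_map, Equiv.toEmbedding_apply]
    constructor
    · intro hv
      refine ⟨(m σ)⁻¹ v, ?_, (m σ).apply_symm_apply v⟩
      have := D.map_orbit (inv_mem (hm σ)) hv
      rwa [show (m σ)⁻¹ (m σ u) = u from (m σ).symm_apply_apply u] at this
    · rintro ⟨w, hw, rfl⟩
      exact D.map_orbit (hm σ) hw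
  let F : Perm D.fixed → (O ↪ O) := fun σ =>
    ⟨fun s => ⟨_, hmap σ s s.2⟩, fun s t h => Subtype.ext
      (Finset.map_injective _ (congrArg Subtype.val h))⟩
  obtain ⟨σ, τ, hne, heq⟩ := Fintype.exists_ne_map_eq_of_card_lt F (by
    rw [Fintype.card_embedding_eq, Fintype.card_perm, Fintype.card_coe, Fintype.card_coe, hO,
      D.fixed_card, Nat.descFactorial_self]
    exact Nat.factorial_lt (by omega) |>.2 hkr)
  refine ⟨σ⁻¹ * τ, ⟨(m σ)⁻¹ * m τ, ⟨G.mul_mem (G.inv_mem (hmG σ)) (hmG τ),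
    mul_mem (inv_mem (hm σ)) (hm τ), fun u hu => ?_⟩, fun v => ?_⟩, fun h => hne (inv_mul_eq_one.1 h)⟩
  · have hs : (D.orb u) ∈ O :=
      Finset.mem_image.2 ⟨u, Finset.mem_compl.2 hu, rfl⟩
    have h1 : (D.orb u).map (m σ).toEmbedding =
        (D.orb u).map (m τ).toEmbedding :=
      congrArg (fun f : O ↪ O => ((f ⟨_, hs⟩ : O) : Finset α)) heq
    have h2 : m τ u ∈ (D.orb u).map (m σ).toEmbedding :=
      h1 ▸ Finset.mem_map_of_mem _ (D.mem_orb.2 (mem_orbit_self u))
    obtain ⟨w, hw, hwe⟩ := Finset.mem_map.1 h2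
    rw [Perm.mul_apply, ← hwe]
    change (m σ)⁻¹ (m σ w) ∈ _
    rw [show (m σ)⁻¹ (m σ w) = w from (m σ).symm_apply_apply w]
    exact D.mem_orb.1 hw
  · rw [Perm.mul_apply, hm', Perm.inv_eq_iff_eq, hm', Perm.mul_apply]
    exact congrArg Subtype.val (σ.apply_symm_apply _).symm

/-- A centralising element inducing a permutation of order prime to `p` finishes the proof. -/
theorem finish (hp : p.Prime) (hn : Fintype.card α = k * p + r) (hk : 1 ≤ k)
    [IsMultiplyPretransitive G α (r + 1)] (hprim : IsPreprimitive G α) {c : Perm α}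
    (hc : D.Good c) (hcent : ∀ z ∈ D.P, c * z * c⁻¹ = z) {w : Perm D.fixed}
    (hw : ∀ u : D.fixed, c u = w u) (hwp : w ^ p ≠ 1) : alternatingGroup α ≤ G := by
  have hpow : ∀ (i : ℕ) (u : D.fixed), (c ^ i) u = ((w ^ i) u : D.fixed) := by
    intro i
    induction i with
    | zero => simp
    | succ i ih => intro u; rw [pow_succ', Perm.mul_apply, ih, hw, pow_succ', Perm.mul_apply]
  have hcard := Finset.card_le_card (D.pow_support hp hc hcent)
  rw [D.fixed_card] at hcard
  have h2 : p ≤ k * p := Nat.le_mul_of_pos_left p hk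
  have := hp.two_le
  refine le_of_small_support (t := r + 1) hprim (G.pow_mem hc.1 p) ?_ (by omega) (by omega)
    (by omega)
  intro h
  apply hwp
  refine Equiv.ext fun u => Subtype.ext ?_
  rw [← hpow, h]
  rfl

end Setup

theorem le_of_cycle {p : ℕ} (hp : p.Prime) (hprim : IsPreprimitive G α)
    (hpn : p + 3 ≤ Fintype.card α) {z : Perm α} (hz : z ∈ G) (hzp : z ^ p = 1)
    (hcard : z.support.card = p) : alternatingGroup α ≤ G := by
  have hne : z ≠ 1 := fun h => by
    rw [h, Perm.support_one, Finset.card_empty] at hcard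
    exact hp.ne_zero hcard.symm
  haveI : Fact p.Prime := ⟨hp⟩
  have hord : orderOf z = p := orderOf_eq_prime hzp hne
  have hcyc : z.IsCycle := Perm.isCycle_of_prime_order (hord.symm ▸ hp) (by
    rw [hord, hcard]; have := hp.pos; omega)
  exact Cfsg.Agent.S0713.result G hprim hp (by have := hp.two_le; omega) hpn hcyc hcard hz

/-- Degree nine. -/
theorem degree_nine (hn : Fintype.card α = 9) [IsMultiplyPretransitive G α 4]
    (hprim : IsPreprimitive G α) : alternatingGroup α ≤ G := by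
  have hns : ¬ ∀ x : Fin 4 ↪ α, MulAction.stabilizer G x = ⊥ := by
    intro h
    have := Cfsg.Agent.S0415.result G (by omega) h
    omega
  simp only [not_forall] at hns
  obtain ⟨x, hx⟩ := hns
  obtain ⟨g, hg, hg1⟩ := (Subgroup.ne_bot_iff_exists_ne_one.1 hx |> fun ⟨g, hg⟩ =>
    (⟨g.1, g.2, fun h => hg (Subtype.ext h)⟩ : ∃ g ∈ MulAction.stabilizer G x, g ≠ 1))
  have hgfix : ∀ i, (g : Perm α) (x i) = x i := fun i =>
    congrArg (fun y : Fin 4 ↪ α => y i) (MulAction.mem_stabilizer_iff.1 hg)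
  have hne : (g : Perm α) ≠ 1 := fun h => hg1 (Subtype.ext h)
  have hsub : (g : Perm α).support ⊆ Finset.univ \ Finset.univ.map x := by
    intro u hu
    refine Finset.mem_sdiff.2 ⟨Finset.mem_univ _, fun h => ?_⟩
    obtain ⟨i, -, rfl⟩ := Finset.mem_map.1 h
    exact Perm.mem_support.1 hu (hgfix i)
  have h5 := Finset.card_le_card hsub
  rw [Finset.card_sdiff_of_subset (Finset.subset_univ _), Finset.card_univ, Finset.card_map,
    Finset.card_univ, Fintype.card_fin, hn] at h5
  rcases Nat.lt_or_ge (g : Perm α).support.card 5 with h4 | h4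
  · exact le_of_small_support (t := 4) hprim g.2 hne (by omega) (by omega) (by omega)
  have hs : (g : Perm α).support.card = 5 := by omega
  by_cases hcyc : (g : Perm α).IsCycle
  · exact Cfsg.Agent.S0713.result G hprim (by norm_num : Nat.Prime 5) (by omega) (by omega) hcyc
      hs g.2
  have hcard : 2 ≤ (g : Perm α).cycleType.card := by
    by_contra h
    apply hcyc
    rw [← Perm.card_cycleType_eq_one]
    have : (g : Perm α).cycleType.card ≠ 0 := fun h0 => hne
      (Perm.cycleType_eq_zero.1 (Multiset.card_eq_zero.1 h0))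
    omega
  have h2mem : 2 ∈ (g : Perm α).cycleType := by
    by_contra h
    have h3 : ∀ m ∈ (g : Perm α).cycleType, 3 ≤ m := fun m hm => by
      rcases (Perm.two_le_of_mem_cycleType hm).eq_or_lt with h' | h'
      · exact absurd (h' ▸ hm) h
      · exact h'
    have := Multiset.card_nsmul_le_sum h3
    rw [Perm.sum_cycleType, hs, smul_eq_mul] at this
    omega
  obtain ⟨c, τ, hgeq, hdisj, hc, hc2⟩ := Perm.mem_cycleType_iff.1 h2mem
  have hτ : τ.support.card = 3 := by
    have := hdisj.card_support_mul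
    rw [← hgeq, hs, hc2] at this
    omega
  have hτ3 : orderOf τ = 3 := (card_support_eq_three_iff.1 hτ).orderOf
  have hc' : orderOf c = 2 := by rw [hc.orderOf, hc2]
  have hg2 : (g : Perm α) ^ 2 = τ ^ 2 := by
    rw [hgeq, hdisj.commute.mul_pow, ← hc', pow_orderOf_eq_one, one_mul]
  refine le_of_small_support (t := 4) hprim (G.pow_mem g.2 2) ?_ ?_ (by omega) ?_
  · rw [hg2]
    intro h
    have := Nat.le_of_dvd two_pos (orderOf_dvd_of_pow_eq_one h)
    omega
  all_goals
    rw [hg2]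
    have := Finset.card_le_card (Perm.support_pow_le τ 2)
    omega

/-- `(r + 1)`-transitive groups of degree `k p + r` contain the alternating group. -/
theorem alternatingGroup_le {k p r : ℕ} (hp : p.Prime) (hn : Fintype.card α = k * p + r)
    (hk : 1 ≤ k) (hpk : k < p) (hrk : k < r) (hex : ¬ (k = 1 ∧ r = 2))
    [hG : IsMultiplyPretransitive G α (r + 1)] : alternatingGroup α ≤ G := by
  obtain ⟨D⟩ := exists_setup (G := G) (r := r) hp hn hk hpk
  have hp2 := hp.two_le
  have hkp : p ≤ k * p := Nat.le_mul_of_pos_left p hk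
  have hr3 : 3 ≤ r := by omega
  haveI h2 : IsMultiplyPretransitive G α 2 :=
    isMultiplyPretransitive_of_le (n := r + 1) (by omega)
      (by rw [Nat.card_eq_fintype_card]; omega)
  have hprim : IsPreprimitive G α := MulAction.isPreprimitive_of_is_two_pretransitive h2
  by_cases hsmall : ∃ z ∈ D.P, z.support.card = p
  · obtain ⟨z, hz, hzc⟩ := hsmall
    exact le_of_cycle hp hprim (by omega) (D.le hz) (D.exponent z hz) hzc
  have hno : ∀ z ∈ D.P, z.support.card ≠ p := fun z hz h => hsmall ⟨z, hz, h⟩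
  rcases hk.eq_or_lt with h1 | h1
  · -- one orbit
    obtain ⟨u, -, hu⟩ := Finset.exists_mem_notMem_of_card_lt_card (s := D.fixed)
      (t := (Finset.univ : Finset α)) (by rw [Finset.card_univ, D.fixed_card]; omega)
    obtain ⟨z, hz, hzu⟩ := D.exists_moving hp hu
    have hne : z ≠ 1 := fun h => hzu (by rw [h, Perm.one_apply])
    have h2 := D.two_le_card_support hz hne (hno z hz)
    have h3 : z.support ⊆ Finset.univ \ D.fixed := fun v hv =>
      Finset.mem_sdiff.2 ⟨Finset.mem_univ _, D.support_subset hz hv⟩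
    have h4 := Finset.card_le_card h3
    rw [Finset.card_sdiff_of_subset (Finset.subset_univ _), Finset.card_univ, D.fixed_card,
      hn, ← h1] at h4
    omega
  obtain ⟨v, hv, hvne⟩ := D.exists_induced_ne_one hp hn hrk hk
  have hcardfix : Fintype.card D.fixed = r := by rw [Fintype.card_coe, D.fixed_card]
  have hpodd : p % 2 = 1 := Nat.odd_iff.1 (hp.odd_of_ne_two (by omega))
  have hpow2 : ∀ w : Perm D.fixed, w ^ 2 = 1 → w ≠ 1 → w ^ p ≠ 1 := by
    intro w h h'
    obtain ⟨q, hq⟩ : ∃ q, p = 2 * q + 1 := ⟨p / 2, by omega⟩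
    have e : w ^ p = w ^ (2 * q + 1) := congrArg (w ^ ·) hq
    rwa [e, pow_add, pow_mul, h, one_pow, one_mul, pow_one]
  rcases Nat.lt_or_ge r 5 with hr5 | hr5
  · -- three or four fixed points: power maps are uniform
    obtain ⟨n, hngood, hnv⟩ := hv
    obtain ⟨t, ht1, ht2⟩ := commutator_small (by omega) hvne
    obtain ⟨a, ha⟩ := D.exists_scalar hp hn (by omega) hno hngood
    obtain ⟨m, hmG, hm, hm'⟩ := D.induce t
    by_cases h9 : Fintype.card D.fixed = 3 ∧ p = 3
    · have hk2 : k = 2 := by omega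
      haveI : IsMultiplyPretransitive G α 4 := by
        have : r = 3 := by omega
        subst this
        exact hG
      refine degree_nine ?_ hprim
      rw [hn, hk2, h9.2]
      omega
    refine D.finish hp hn hk hprim (c := m * n * m⁻¹ * n⁻¹) (w := t * v * t⁻¹ * v⁻¹)
      (D.good_mul (D.good_conj hp hmG hm hngood) (D.good_inv hp hngood)) (fun z hz => ?_)
      (fun u => ?_) ?_
    · have hy : ∀ q ∈ D.P, n⁻¹ * q * n ∈ D.P := fun q hq => by
        simpa using D.conj_mem (inv_mem hngood.2.1) hq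
      have key : ∀ q ∈ D.P, m * n * q * (m * n)⁻¹ = n * m * q * (n * m)⁻¹ := by
        intro q hq
        rw [show m * n * q * (m * n)⁻¹ = m * (n * q * n⁻¹) * m⁻¹ by group,
          show n * m * q * (n * m)⁻¹ = n * (m * q * m⁻¹) * n⁻¹ by group, ha q hq,
          ha _ (D.conj_mem hm hq), conj_pow]
      have hq : (n * m)⁻¹ * z * (n * m) ∈ D.P := by
        simpa using D.conj_mem (inv_mem (mul_mem hngood.2.1 hm)) hz
      have := key _ hq
      calc m * n * m⁻¹ * n⁻¹ * z * (m * n * m⁻¹ * n⁻¹)⁻¹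
          = m * n * ((n * m)⁻¹ * z * (n * m)) * (m * n)⁻¹ := by group
        _ = n * m * ((n * m)⁻¹ * z * (n * m)) * (n * m)⁻¹ := this
        _ = z := by group
    · have hinv : ∀ (g : Perm α) (s : Perm D.fixed), (∀ u : D.fixed, g u = s u) →
          ∀ u : D.fixed, g⁻¹ (u : α) = (s⁻¹ u : D.fixed) := fun g s h u => by
        rw [Perm.inv_eq_iff_eq, h]
        exact congrArg Subtype.val (s.apply_symm_apply u).symm
      simp only [Perm.mul_apply]
      rw [hinv n v hnv, hinv m t hm', hnv, hm']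
    · rcases ht2 with ⟨hr', h3⟩ | ⟨-, h2'⟩
      · intro hp1
        apply ht1
        have hco : Nat.Coprime 3 p := (Nat.coprime_primes Nat.prime_three hp).2
          fun h => h9 ⟨hr', h.symm⟩
        have hgcd := pow_gcd_eq_one.2 ⟨h3, hp1⟩
        rwa [hco.gcd_eq_one, pow_one] at hgcd
      · exact hpow2 _ h2' ht1
  · -- five or more fixed points
    haveI := D.induced_normal hp
    have hA := Equiv.Perm.alternatingGroup_le_of_normal (N := D.induced hp)
      (by rw [Nat.card_eq_fintype_card, hcardfix]; exact hr5)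
      ((Subgroup.nontrivial_iff_exists_ne_one _).2 ⟨v, hv, hvne⟩)
    obtain ⟨a, b, ha, hb, hab, hab2⟩ := exists_even_commutator (β := D.fixed) (by omega)
    obtain ⟨na, hna, hna'⟩ := hA ha
    obtain ⟨nb, hnb, hnb'⟩ := hA hb
    refine D.finish hp hn hk hprim (c := na * nb * na⁻¹ * nb⁻¹) (w := a * b * a⁻¹ * b⁻¹)
      (D.good_mul (D.good_mul (D.good_mul hna hnb) (D.good_inv hp hna)) (D.good_inv hp hnb))
      (fun z hz => ?_) (fun u => ?_) (hpow2 _ hab2 hab)
    · have hq : (nb * na)⁻¹ * z * (nb * na) ∈ D.P := by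
        simpa using D.conj_mem (inv_mem (mul_mem hnb.2.1 hna.2.1)) hz
      calc na * nb * na⁻¹ * nb⁻¹ * z * (na * nb * na⁻¹ * nb⁻¹)⁻¹
          = na * nb * ((nb * na)⁻¹ * z * (nb * na)) * (na * nb)⁻¹ := by group
        _ = nb * na * ((nb * na)⁻¹ * z * (nb * na)) * (nb * na)⁻¹ :=
            D.commutator_centralizes hp hna hnb hq
        _ = z := by group
    · have hinv : ∀ (g : Perm α) (s : Perm D.fixed), (∀ u : D.fixed, g u = s u) →
          ∀ u : D.fixed, g⁻¹ (u : α) = (s⁻¹ u : D.fixed) := fun g s h u => by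
        rw [Perm.inv_eq_iff_eq, h]
        exact congrArg Subtype.val (s.apply_symm_apply u).symm
      simp only [Perm.mul_apply]
      rw [hinv nb b hnb', hinv na a hna', hnb', hna']

end Cfsg.Agent.Perm.TransitivityBound
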