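import Cfsg.Agent.Lib.Perm.SylvesterPrime
import Cfsg.Agent.Lib.Perm.TransitivityBound
import Cfsg.Agent.S3573

/-!
# Subgroups of alternating groups and elements of the largest prime order dividing the index
-/

namespace Cfsg.Agent.Perm.AltDerangement

open Equiv MulAction
open scoped Pointwise

/-- An element of `p`-power order has a conjugate in a subgroup of index prime to `p`. -/
theorem exists_conj_mem {G : Type*} [Group G] [Finite G] {p : ℕ} [Fact p.Prime] (H : Subgroup G)
    (hp : ¬ p ∣ H.index) {x : G} (hx : orderOf x = p) : ∃ g : G, g⁻¹ * x * g ∈ H := by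
  have hP : IsPGroup p (Subgroup.zpowers x) := IsPGroup.of_card (n := 1) (by
    rw [Nat.card_zpowers, hx, pow_one])
  obtain ⟨q, hq⟩ := hP.nonempty_fixed_point_of_prime_not_dvd_card (G ⧸ H) hp
  obtain ⟨g, rfl⟩ := QuotientGroup.mk_surjective q
  refine ⟨g, ?_⟩
  have := hq ⟨x, Subgroup.mem_zpowers x⟩
  change ((x * g : G) : G ⧸ H) = (g : G ⧸ H) at this
  rw [eq_comm, QuotientGroup.eq] at this
  rwa [mul_assoc]

theorem card_support_of_order {β : Type*} [Fintype β] [DecidableEq β] {σ : Perm β} {p : ℕ}
    (hp : p.Prime) (hσ : orderOf σ = p) (hlt : Fintype.card β < 2 * p) : σ.support.card = p := by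
  obtain ⟨j, hj⟩ := Perm.cycleType_prime_order (σ := σ) (hσ ▸ hp)
  have h1 := Perm.sum_cycleType σ
  have h2 := Perm.sum_cycleType_le σ
  rw [hj, hσ, Multiset.sum_replicate, smul_eq_mul] at h1 h2
  rcases Nat.eq_zero_or_pos j with rfl | hpos
  · rw [← h1]; simp
  · have := Nat.mul_le_mul_right p (show 2 ≤ j + 1 by omega)
    omega

/-- A transitive group with a cycle of prime length exceeding half the degree is primitive. -/
theorem isPreprimitive_of_cycle {β : Type*} [Fintype β] [DecidableEq β]
    (K : Subgroup (Perm β)) [IsPretransitive K β] {c : Perm β} (hc : c ∈ K) {p : ℕ} (hp : p.Prime)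
    (hcp : c ^ p = 1) (hcard : c.support.card = p) (hlt : Fintype.card β < 2 * p) :
    IsPreprimitive K β := by
  have hne : c ≠ 1 := fun h => by
    rw [h, Perm.support_one, Finset.card_empty] at hcard
    exact hp.ne_zero hcard.symm
  haveI : Fact p.Prime := ⟨hp⟩
  have hord : orderOf c = p := orderOf_eq_prime hcp hne
  have hcyc : c.IsCycle := Perm.isCycle_of_prime_order (hord.symm ▸ hp) (by
    rw [hord, hcard]; have := hp.pos; omega)
  obtain ⟨x, hx⟩ : c.support.Nonempty := Finset.card_pos.1 (by rw [hcard]; exact hp.pos)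
  refine ⟨fun {B} hB => ?_⟩
  by_contra hnot
  simp only [IsTrivialBlock, not_or] at hnot
  obtain ⟨hns, hnu⟩ := hnot
  obtain ⟨b, hb⟩ := (Set.not_subsingleton_iff.1 hns).nonempty
  obtain ⟨g, hg⟩ := exists_smul_eq K b x
  set B' := g • B with hB'
  have hB'b : IsBlock K B' := hB.translate g
  have hxB' : x ∈ B' := hg ▸ Set.smul_mem_smul_set hb
  have hcard' : B'.ncard = B.ncard := Set.ncard_smul_set _ _
  have h2d : 2 ≤ B'.ncard := by
    rw [hcard']
    obtain ⟨u, hu, v, hv, huv⟩ := Set.not_subsingleton_iff.1 hns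
    exact (Set.one_lt_ncard B.toFinite).2 ⟨u, hu, v, hv, huv⟩
  have hsmall : B'.ncard * 2 ≤ Fintype.card β := by
    by_contra h
    have := hB'b.eq_univ_of_card_lt (by rw [Nat.card_eq_fintype_card]; omega)
    apply hnu
    rw [hB'] at this
    have := congrArg (fun S : Set β => g⁻¹ • S) this
    simpa using this
  let c' : K := ⟨c, hc⟩
  by_cases hfix : c' • B' = B'
  · have hsub : (c.support : Set β) ⊆ B' := by
      intro y hy
      obtain ⟨i, hi⟩ := hcyc.exists_zpow_eq (Perm.mem_support.1 hx) (Perm.mem_support.1 hy)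
      have hmem : c' ^ i ∈ stabilizer K B' := zpow_mem hfix i
      rw [← hi, ← mem_stabilizer_iff.1 hmem]
      exact ⟨x, hxB', rfl⟩
    have := Set.ncard_le_ncard hsub
    rw [Set.ncard_coe_finset, hcard] at this
    omega
  · have hinj : Function.Injective (fun i : Fin p => (⟨(c' ^ (i : ℕ)) • B', mem_orbit _ _⟩ :
        orbit K B')) := by
      have horb : Function.minimalPeriod (c' • ·) B' = p := by
        refine Function.minimalPeriod_eq_prime ?_ hfix
        show (c' • ·)^[p] B' = B'
        rw [smul_iterate]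
        show c' ^ p • B' = B'
        rw [show c' ^ p = 1 from Subtype.ext (by simpa [c'] using hcp), one_smul]
      intro i j hij
      have h : (c' ^ (i : ℕ)) • B' = (c' ^ (j : ℕ)) • B' := congrArg Subtype.val hij
      have hi : (i : ℕ) < Function.minimalPeriod (c' • ·) B' := horb.symm ▸ i.2
      have hj : (j : ℕ) < Function.minimalPeriod (c' • ·) B' := horb.symm ▸ j.2
      refine Fin.ext (Function.iterate_injOn_Iio_minimalPeriod hi hj ?_)
      simpa [smul_iterate] using h
    have h1 := Nat.card_le_card_of_injective _ hinj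
    rw [Nat.card_fin, Nat.card_coe_set_eq] at h1
    have h2 := hB'b.ncard_block_mul_ncard_orbit_eq ⟨x, hxB'⟩
    rw [Nat.card_eq_fintype_card] at h2
    have := Nat.mul_le_mul h2d h1
    omega

theorem exists_perm_prime_card {m r : ℕ} (hr : r.Prime) (hrm : r ≤ m) :
    ∃ σ : Perm (Fin m), σ.cycleType = {r} ∧ orderOf σ = r ∧ σ.support.card = r := by
  obtain ⟨σ, hσ⟩ := (Perm.exists_with_cycleType_iff (Fin m) (m := {r})).2
    ⟨by simpa using hrm, by simpa using hr.two_le⟩
  exact ⟨σ, hσ, by rw [← Perm.lcm_cycleType, hσ]; simp, by rw [← Perm.sum_cycleType, hσ]; simp⟩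

theorem sign_of_odd_order {β : Type*} [Fintype β] [DecidableEq β] {σ : Perm β} {r : ℕ}
    (hr : Odd r) (hσ : orderOf σ = r) : Perm.sign σ = 1 := by
  have h : Perm.sign σ ^ r = 1 := by rw [← map_pow, ← hσ, pow_orderOf_eq_one, map_one]
  rcases Int.units_eq_one_or (Perm.sign σ) with h' | h'
  · exact h'
  · rw [h', hr.neg_one_pow] at h; exact absurd h (by decide)

section Core

variable {m : ℕ} {H : Subgroup (Perm (Fin m))}

/-- The action on one orbit contains the alternating group when it contains a short prime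
cycle besides a long one. -/
theorem fact_dvd_card {x : Fin m} {c z : Perm (Fin m)} (hc : c ∈ H) (hz : z ∈ H) {p q : ℕ}
    (hp : p.Prime) (hq : q.Prime) (hcp : c ^ p = 1) (hzq : z ^ q = 1) (hcs : c.support.card = p)
    (hzs : z.support.card = q) (hcsub : (c.support : Set (Fin m)) ⊆ orbit H x)
    (hzsub : (z.support : Set (Fin m)) ⊆ orbit H x) (hlt : (orbit H x).ncard < 2 * p)
    (hqn : q + 3 ≤ (orbit H x).ncard ∨ q = 3) :
    (orbit H x).ncard.factorial ∣ 2 * Nat.card H := by
  classical
  let f : H →* Perm (orbit H x) := MulAction.toPermHom H (orbit H x)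
  haveI : IsPretransitive f.range (orbit H x) := ⟨fun a b => by
    obtain ⟨h, hh⟩ := exists_smul_eq H a b
    exact ⟨⟨f h, h, rfl⟩, hh⟩⟩
  have hsupp : ∀ (w : Perm (Fin m)) (hw : w ∈ H), (w.support : Set (Fin m)) ⊆ orbit H x →
      (f ⟨w, hw⟩).support.card = w.support.card := by
    intro w hw hsub
    rw [← Finset.card_map (Function.Embedding.subtype _)]
    congr 1
    ext y
    simp only [Finset.mem_map, Perm.mem_support, Function.Embedding.coe_subtype]
    constructor
    · rintro ⟨a, ha, rfl⟩
      exact fun h => ha (Subtype.ext h)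
    · intro hy
      exact ⟨⟨y, hsub (Perm.mem_support.2 hy)⟩, fun h => hy (congrArg Subtype.val h), rfl⟩
  have hpow : ∀ (w : Perm (Fin m)) (hw : w ∈ H) (j : ℕ), w ^ j = 1 → f ⟨w, hw⟩ ^ j = 1 := by
    intro w hw j hj
    rw [← map_pow, show (⟨w, hw⟩ : H) ^ j = 1 from Subtype.ext (by simpa using hj), map_one]
  have hcard : Fintype.card (orbit H x) = (orbit H x).ncard := by
    rw [← Nat.card_eq_fintype_card, Nat.card_coe_set_eq]
  have hcmem : f ⟨c, hc⟩ ∈ f.range := ⟨_, rfl⟩
  have hzmem : f ⟨z, hz⟩ ∈ f.range := ⟨_, rfl⟩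
  have hprim : IsPreprimitive f.range (orbit H x) :=
    isPreprimitive_of_cycle f.range hcmem hp (hpow c hc p hcp) ((hsupp c hc hcsub).trans hcs)
      (hcard ▸ hlt)
  have hzc : (f ⟨z, hz⟩).support.card = q := (hsupp z hz hzsub).trans hzs
  have hA : alternatingGroup (orbit H x) ≤ f.range := by
    rcases hqn with hqn | rfl
    · exact Cfsg.Agent.Perm.TransitivityBound.le_of_cycle hq hprim (hcard ▸ hqn) hzmem
        (hpow z hz q hzq) hzc
    · exact Perm.alternatingGroup_le_of_isPreprimitive_of_isThreeCycle_mem hprim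
        (card_support_eq_three_iff.1 hzc) hzmem
  have h1 : Nat.card (alternatingGroup (orbit H x)) ∣ Nat.card H :=
    (Subgroup.card_dvd_of_le hA).trans (Subgroup.card_range_dvd f)
  haveI : Nontrivial (orbit H x) := by
    rw [← Finite.one_lt_card_iff_nontrivial, Nat.card_coe_set_eq]
    have := Set.ncard_le_ncard hcsub
    rw [Set.ncard_coe_finset, hcs] at this
    have := hp.two_le
    omega
  have h2 := two_mul_nat_card_alternatingGroup (α := orbit H x)
  rw [Nat.card_perm, Nat.card_coe_set_eq] at h2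
  rw [← h2]
  exact mul_dvd_mul_left 2 h1

theorem choose_dvd_index {x : Fin m} :
    m.choose (orbit H x).ncard ∣ H.index := by
  classical
  set Δ : Finset (Fin m) := (orbit H x).toFinset with hΔ
  have hle : H ≤ stabilizer (Perm (Fin m)) Δ := by
    intro h hh
    rw [mem_stabilizer_iff]
    apply Finset.coe_injective
    rw [Finset.coe_smul_finset, hΔ, Set.coe_toFinset]
    exact smul_orbit (⟨h, hh⟩ : H) x
  refine dvd_trans ?_ (Subgroup.index_dvd_of_le hle)
  rw [index_stabilizer]
  have horb : orbit (Perm (Fin m)) Δ = {s : Finset (Fin m) | s.card = Δ.card} := by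
    ext s
    simp only [mem_orbit_iff, Set.mem_ofPred_eq]
    constructor
    · rintro ⟨g, rfl⟩
      exact Finset.card_smul_finset _ _
    · intro hs
      let e : {y // y ∈ Δ} ≃ {y // y ∈ s} := Finset.equivOfCardEq hs.symm
      refine ⟨e.extendSubtype, Finset.eq_of_subset_of_card_le ?_ ?_⟩
      · intro y hy
        obtain ⟨a, ha, rfl⟩ := Finset.mem_smul_finset.1 hy
        exact e.extendSubtype_mem a ha
      · rw [Finset.card_smul_finset, hs]
  have h2 : Δ.card = (orbit H x).ncard := by rw [hΔ, ← Set.ncard_eq_toFinset_card']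
  have h3 : m.choose Δ.card = Nat.card {s : Finset (Fin m) // s.card = Δ.card} := by
    rw [Nat.card_eq_fintype_card, Fintype.card_finset_len, Fintype.card_fin]
  rw [horb, ← h2, h3]
  exact (Nat.card_coe_set_eq _).dvd

/-- The core: some even element of order `r` has no conjugate in `H`. -/
theorem exists_not_conj_mem (hm : 5 ≤ m) {n : ℕ} (hn : 2 ≤ n) (hidx : H.index = 2 * n) {r : ℕ}
    (hr : r.Prime) (hrn : r ∣ n) (hmax : ∀ s : ℕ, s.Prime → s ∣ n → s ≤ r) :
    ∃ σ : Perm (Fin m), orderOf σ = r ∧ Perm.sign σ = 1 ∧ ∀ h ∈ H, ¬ IsConj σ h := by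
  classical
  haveI : Fact r.Prime := ⟨hr⟩
  haveI : Nontrivial (Fin m) := Fin.nontrivial_iff_two_le.2 (by omega)
  have htot : 2 * n * Nat.card H = m.factorial := by
    rw [← hidx, Subgroup.index_mul_card, Nat.card_perm, Nat.card_eq_fintype_card, Fintype.card_fin]
  by_cases hrH : r ∣ Nat.card H
  swap
  · have hA : r ∣ Nat.card (alternatingGroup (Fin m)) := by
      refine Dvd.dvd.trans hrn ⟨Nat.card H, ?_⟩
      have h2 := two_mul_nat_card_alternatingGroup (α := Fin m)
      rw [Nat.card_perm, Nat.card_eq_fintype_card (α := Fin m), Fintype.card_fin] at h2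
      rw [← htot, mul_assoc] at h2
      omega
    obtain ⟨σ, hσ⟩ := exists_prime_orderOf_dvd_card' (G := alternatingGroup (Fin m)) r hA
    refine ⟨σ.1, by rw [Subgroup.orderOf_coe, hσ], Perm.mem_alternatingGroup.1 σ.2, fun h hh hconj => ?_⟩
    apply hrH
    have hh' : orderOf h = r := by
      obtain ⟨g, hg⟩ := isConj_iff.1 hconj
      rw [← hg, ← MulAut.conj_apply, MulEquiv.orderOf_eq, Subgroup.orderOf_coe, hσ]
    rw [← hh', ← Subgroup.orderOf_mk h hh]
    exact orderOf_dvd_natCard _
  -- so `2r ≤ m`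
  have hrm : 2 * r ≤ m := by
    by_contra hlt
    have hd : r ^ 2 ∣ m.factorial := by
      rw [sq, ← htot]
      exact mul_dvd_mul (hrn.mul_left 2) hrH
    have h1 := (hr.pow_dvd_iff_le_factorization (Nat.factorial_ne_zero m)).1 hd
    rw [Nat.factorization_factorial hr (b := 2)
      (Nat.log_lt_of_lt_pow (by omega) (by nlinarith [hr.two_le]))] at h1
    simp at h1
    have := Nat.div_lt_iff_lt_mul hr.pos |>.2 (show m < 2 * r by omega)
    omega
  obtain ⟨p, hp, hp1, hp2⟩ := Nat.exists_prime_lt_and_le_two_mul (m / 2) (by omega)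
  haveI : Fact p.Prime := ⟨hp⟩
  have hpidx : ∀ q : ℕ, q.Prime → r < q → ¬ q ∣ H.index := by
    intro q hq hrq hd
    rw [hidx] at hd
    rcases hq.dvd_mul.1 hd with h | h
    · have := (Nat.prime_dvd_prime_iff_eq hq Nat.prime_two).1 h
      have := hr.two_le; omega
    · have := hmax q hq h; omega
  obtain ⟨c₀, -, hc₀, -⟩ := exists_perm_prime_card (m := m) hp (by omega)
  obtain ⟨g, hc⟩ := exists_conj_mem H (hpidx p hp (by omega)) hc₀
  set c := g⁻¹ * c₀ * g
  have hco : orderOf c = p := by
    rw [show c = MulAut.conj g⁻¹ c₀ by simp [c], MulEquiv.orderOf_eq, hc₀]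
  have hcs : c.support.card = p :=
    card_support_of_order hp hco (by rw [Fintype.card_fin]; omega)
  have hcyc : c.IsCycle := Perm.isCycle_of_prime_order (hco.symm ▸ hp) (by rw [hco, hcs]; omega)
  obtain ⟨x, hx⟩ : c.support.Nonempty := Finset.card_pos.1 (by rw [hcs]; exact hp.pos)
  have hcsub : (c.support : Set (Fin m)) ⊆ orbit H x := by
    intro y hy
    obtain ⟨i, hi⟩ := hcyc.exists_zpow_eq (Perm.mem_support.1 hx) (Perm.mem_support.1 hy)
    exact ⟨(⟨c, hc⟩ : H) ^ i, hi⟩
  set d := (orbit H x).ncard with hd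
  have hdp : p ≤ d := by
    rw [← hcs, ← Set.ncard_coe_finset]; exact Set.ncard_le_ncard hcsub
  have hdm : d ≤ m := by
    exact (Set.ncard_le_card _).trans_eq (by rw [Nat.card_eq_fintype_card, Fintype.card_fin])
  set k := m - d with hk
  have hchoose : m.choose k ∣ 2 * n := by
    rw [hk, Nat.choose_symm hdm, ← hidx]; exact choose_dvd_index
  have hkr : k < r := by
    rcases Nat.eq_zero_or_pos k with h0 | h1
    · rw [h0]; exact hr.pos
    obtain ⟨s, hs, hks, hsd⟩ := Sylvester.exists_prime_gt_dvd_choose (m := m) (k := k) h1 (by omega)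
    rcases hs.dvd_mul.1 (hsd.trans hchoose) with h | h
    · have := (Nat.prime_dvd_prime_iff_eq hs Nat.prime_two).1 h
      have := hr.two_le; omega
    · have := hmax s hs h; omega
  have hmod := Nat.mod_lt m hr.pos
  by_cases hcase : m % r < k
  · -- no invariant set of size `k`
    have key : ∀ σ : Perm (Fin m), (∀ s : Finset (Fin m), s.card = k → s.image σ = s → False) →
        ∀ h ∈ H, ¬ IsConj σ h := by
      intro σ hσ h hh hconj
      obtain ⟨u, hu⟩ := isConj_iff.1 hconj
      set S : Finset (Fin m) := (orbit H x).toFinsetᶜ with hS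
      have hSc : S.card = k := by
        rw [hS, Finset.card_compl, Fintype.card_fin, ← Set.ncard_eq_toFinset_card']
      refine hσ (S.image ⇑(u⁻¹)) (by rw [Finset.card_image_of_injective _ u⁻¹.injective, hSc]) ?_
      have hinv : S.image ⇑h = S := by
        refine Finset.eq_of_subset_of_card_le (fun y hy => ?_)
          (by rw [Finset.card_image_of_injective _ h.injective])
        obtain ⟨z, hz, rfl⟩ := Finset.mem_image.1 hy
        rw [hS, Finset.mem_compl, Set.mem_toFinset] at hz ⊢
        intro hmem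
        apply hz
        have : (⟨h, hh⟩ : H)⁻¹ • h z ∈ orbit H x := by
          rw [← orbit_eq_iff.2 hmem]; exact mem_orbit _ _
        simpa [Subgroup.smul_def] using this
      have hcomp : ∀ y, σ ((u⁻¹ : Perm (Fin m)) y) = (u⁻¹ : Perm (Fin m)) (h y) := by
        intro y
        rw [← hu]
        simp
      rw [Finset.image_image, show ⇑σ ∘ ⇑(u⁻¹) = ⇑(u⁻¹) ∘ ⇑h from funext hcomp, ← Finset.image_image,
        hinv]
    rcases eq_or_ne r 2 with rfl | hr2
    · have hk1 : k = 1 := by omega
      obtain ⟨s, hs⟩ : ∃ s, m = 2 ^ s := by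
        refine ⟨_, Nat.eq_prime_pow_of_unique_prime_dvd (by omega) fun {q} hq hqm => ?_⟩
        rw [hk1, Nat.choose_one_right] at hchoose
        rcases hq.dvd_mul.1 (hqm.trans hchoose) with h | h
        · exact (Nat.prime_dvd_prime_iff_eq hq Nat.prime_two).1 h
        · have := hmax q hq h; have := hq.two_le; omega
      have hs3 : 3 ≤ s := by
        by_contra h
        have : 2 ^ s ≤ 2 ^ 2 := Nat.pow_le_pow_right (by norm_num) (by omega)
        omega
      have h4 : 4 ∣ m := by rw [hs]; exact pow_dvd_pow 2 (show 2 ≤ s by omega)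
      obtain ⟨σ, hσ⟩ := (Perm.exists_with_cycleType_iff (Fin m)
        (m := Multiset.replicate (m / 2) 2)).2
        ⟨by simp; omega, fun a ha => (Multiset.eq_of_mem_replicate ha).ge⟩
      have hsupp : σ.support = Finset.univ := by
        apply Finset.eq_univ_of_card
        rw [← Perm.sum_cycleType, hσ, Multiset.sum_replicate, Fintype.card_fin, smul_eq_mul]
        omega
      refine ⟨σ, ?_, ?_, key σ fun S hS hinv => ?_⟩
      · refine orderOf_eq_prime ?_ fun h => ?_
        · rw [← orderOf_dvd_iff_pow_eq_one, ← Perm.lcm_cycleType, hσ, Multiset.lcm_dvd]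
          intro a ha; rw [Multiset.eq_of_mem_replicate ha]
        · rw [h, Perm.support_one] at hsupp
          have := congrArg Finset.card hsupp
          simp at this
          omega
      · rw [Perm.sign_of_cycleType, hσ, Multiset.sum_replicate, Multiset.card_replicate, smul_eq_mul]
        exact Even.neg_one_pow (by rw [Nat.even_iff]; omega)
      · obtain ⟨a, rfl⟩ := Finset.card_eq_one.1 (hS.trans hk1)
        rw [Finset.image_singleton, Finset.singleton_inj] at hinv
        exact Perm.mem_support.1 (hsupp ▸ Finset.mem_univ a) hinv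
    · obtain ⟨σ, hσ, hinvset⟩ := S3573.exists_extremal (n := m) (k := k) hr (by omega)
      refine ⟨σ, hσ, sign_of_odd_order (hr.odd_of_ne_two hr2) hσ, key σ fun S hS hinv => ?_⟩
      have := hinvset S hS hinv
      rw [Nat.mod_eq_of_lt hkr] at this
      omega
  · -- otherwise `H` would be too large
    push Not at hcase
    have hbig : ¬ d.factorial ∣ 2 * Nat.card H := by
      intro hdvd
      have h1 : r * d.factorial ∣ m.factorial := by
        rw [← htot, show 2 * n * Nat.card H = n * (2 * Nat.card H) by ring]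
        exact mul_dvd_mul hrn hdvd
      have h2 : m.factorial = (m - k).factorial * m.descFactorial k := by
        rw [Nat.factorial_mul_descFactorial (by omega)]
      rw [show m - k = d by omega] at h2
      rw [h2, mul_comm r] at h1
      have h3 := Nat.dvd_of_mul_dvd_mul_left d.factorial_pos h1
      rw [Nat.descFactorial_eq_prod_range] at h3
      obtain ⟨i, hi, hdi⟩ := (hr.prime.dvd_finset_prod_iff _).1 h3
      rw [Finset.mem_range] at hi
      obtain ⟨a, ha⟩ := hdi
      have hm' := Nat.div_add_mod m r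
      have h4 : r * (m / r) + (m % r - i) = r * a := by omega
      have h5 : (r * (m / r) + (m % r - i)) % r = 0 := by rw [h4]; simp
      rw [Nat.mul_add_mod, Nat.mod_eq_of_lt (by omega)] at h5
      omega
    rcases eq_or_ne r 2 with rfl | hr2
    · exfalso
      haveI : Fact (Nat.Prime 3) := ⟨Nat.prime_three⟩
      obtain ⟨t, -, ht, hts⟩ := exists_perm_prime_card (m := m) Nat.prime_three (by omega)
      obtain ⟨u, hu⟩ := exists_conj_mem H (hpidx 3 Nat.prime_three (by omega)) ht
      set z := u⁻¹ * t * u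
      have hz3 : z.support.card = 3 := by
        rw [← Perm.sum_cycleType, show z = u⁻¹ * t * (u⁻¹)⁻¹ by simp [z], Perm.cycleType_conj,
          Perm.sum_cycleType, hts]
      refine hbig (fact_dvd_card hc hu hp Nat.prime_three (hco ▸ pow_orderOf_eq_one c) ?_ hcs hz3
        hcsub (cycle_support_subset hu Nat.prime_three ?_ hz3 (by omega)) (by omega) (Or.inr rfl))
      all_goals
        rw [← orderOf_dvd_iff_pow_eq_one,
          show z = MulAut.conj u⁻¹ t by simp [z], MulEquiv.orderOf_eq, ht]
    · obtain ⟨σ, -, hσ, hσs⟩ := exists_perm_prime_card (m := m) hr (by omega)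
      refine ⟨σ, hσ, sign_of_odd_order (hr.odd_of_ne_two hr2) hσ, fun h hh hconj => hbig ?_⟩
      have hhs : h.support.card = r := by
        rw [← Perm.sum_cycleType, ← Perm.isConj_iff_cycleType_eq.1 hconj, Perm.sum_cycleType, hσs]
      have hho : h ^ r = 1 := by
        obtain ⟨u, hu⟩ := isConj_iff.1 hconj
        rw [← hu, conj_pow, ← hσ, pow_orderOf_eq_one]; simp
      have := hr.two_le
      have h2r : 2 ≤ m / r := (Nat.le_div_iff_mul_le hr.pos).2 hrm
      have h2r' := Nat.mul_le_mul_left r h2r
      have hdiv := Nat.div_add_mod m r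
      have : r ≠ 2 := hr2
      exact fact_dvd_card hc hh hp hr (hco ▸ pow_orderOf_eq_one c) hho hcs hhs hcsub
        (cycle_support_subset hh hr hho hhs (by omega)) (by omega) (Or.inl (by omega))
where
  cycle_support_subset {z : Perm (Fin m)} (hz : z ∈ H) {q : ℕ} (hq : q.Prime) (hzq : z ^ q = 1)
      (hzs : z.support.card = q) {x : Fin m} (hlt : m - (orbit H x).ncard < q) :
      (z.support : Set (Fin m)) ⊆ orbit H x := by
    haveI : Fact q.Prime := ⟨hq⟩
    have hne : z ≠ 1 := fun h => by
      rw [h, Perm.support_one, Finset.card_empty] at hzs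
      exact hq.ne_zero hzs.symm
    have hord : orderOf z = q := orderOf_eq_prime hzq hne
    have hcyc : z.IsCycle := Perm.isCycle_of_prime_order (hord.symm ▸ hq) (by
      rw [hord, hzs]; have := hq.pos; omega)
    intro y hy
    by_contra hy'
    have hsub : (z.support : Set (Fin m)) ⊆ (orbit H x)ᶜ := by
      intro w hw hwx
      obtain ⟨i, hi⟩ := hcyc.exists_zpow_eq (Perm.mem_support.1 hw) (Perm.mem_support.1 hy)
      apply hy'
      rw [← orbit_eq_iff.2 hwx]
      exact ⟨(⟨z, hz⟩ : H) ^ i, hi⟩
    have := Set.ncard_le_ncard hsub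
    rw [Set.ncard_coe_finset, hzs, Set.ncard_compl, Nat.card_eq_fintype_card, Fintype.card_fin] at this
    omega

end Core

end Cfsg.Agent.Perm.AltDerangement
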