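import Cfsg.Agent.Lib.Perm.AltImage

/-!
Point stabilisers inducing the alternating or symmetric group on a suborbit: basic numeric facts.
-/

set_option autoImplicit false

namespace Cfsg.Agent.AltSub

open Subgroup Equiv Cfsg.Agent.ThompsonWielandt

variable {G : Type*} [Group G] [Finite G]

/-- `H` induces on `n` letters a group of index at most two, with kernel `K`. -/
def Loc (H K : Subgroup G) (n : ℕ) : Prop :=
  ∃ ι : H →* Perm (Fin n), ι.ker = K.subgroupOf H ∧ n.factorial ≤ 2 * Nat.card ι.range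

variable {M N : Subgroup G} {d : ℕ}

/-- The action of `M` on the cosets of `M ⊓ N`. -/
lemma exists_coset_hom (hd : (M ⊓ N).relIndex M = d) :
    ∃ π : M →* Perm (Fin d), ∃ c₀ : Fin d, π.ker = (cr M (M ⊓ N)).subgroupOf M ∧
      (∀ x : M, π x c₀ = c₀ ↔ (x : G) ∈ M ⊓ N) ∧
      (∀ c : Fin d, ∃ x : M, π x c₀ = c) := by
  let e : (M ⧸ (M ⊓ N).subgroupOf M) ≃ Fin d := (Finite.equivFinOfCardEq hd)
  let P := MulAction.toPermHom M (M ⧸ (M ⊓ N).subgroupOf M)
  refine ⟨(e.permCongrHom.toMonoidHom).comp P, e (QuotientGroup.mk 1), ?_, fun x => ?_, fun c => ?_⟩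
  · rw [← MonoidHom.comap_ker, (MonoidHom.ker_eq_bot_iff (e.permCongrHom.toMonoidHom)).mpr e.permCongrHom.injective, MonoidHom.comap_bot, ← normalCore_eq_ker]
    exact (comap_map_eq_self_of_injective M.subtype_injective _).symm
  · show e (P x (e.symm (e _))) = _ ↔ _
    rw [e.symm_apply_apply, e.injective.eq_iff]
    show (x • (QuotientGroup.mk 1 : M ⧸ (M ⊓ N).subgroupOf M)) = _ ↔ _
    rw [MulAction.Quotient.smul_mk, QuotientGroup.eq]
    simp [mem_subgroupOf]
  · obtain ⟨x, hx⟩ := QuotientGroup.mk_surjective (e.symm c)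
    refine ⟨x, ?_⟩
    show e (P x (e.symm (e _))) = _
    rw [e.symm_apply_apply]
    show e (x • (QuotientGroup.mk 1 : M ⧸ (M ⊓ N).subgroupOf M)) = _
    rw [MulAction.Quotient.smul_mk, smul_eq_mul, mul_one, hx, e.apply_symm_apply]

lemma relIndex_core_eq (hd : (M ⊓ N).relIndex M = d) :
    (cr M (M ⊓ N)).relIndex M = d * (cr M (M ⊓ N)).relIndex (M ⊓ N) := by
  rw [← hd, mul_comm]
  exact (relIndex_mul_relIndex _ _ _ (cr_le _ _) inf_le_left).symm

lemma relIndex_core_dvd (hd : (M ⊓ N).relIndex M = d) :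
    (cr M (M ⊓ N)).relIndex (M ⊓ N) ∣ (d - 1).factorial := by
  have hd0 : d ≠ 0 := hd ▸ index_ne_zero_of_finite
  have h : (cr M (M ⊓ N)).relIndex M ∣ d.factorial := hd ▸ relIndex_cr_dvd M (M ⊓ N)
  rw [relIndex_core_eq hd, ← Nat.mul_factorial_pred hd0] at h
  exact Nat.dvd_of_mul_dvd_mul_left (Nat.pos_of_ne_zero hd0) h

lemma half_le_relIndex_core (hd : (M ⊓ N).relIndex M = d)
    (hbig : d.factorial ≤ 2 * (cr M (M ⊓ N)).relIndex M) :
    (d - 1).factorial ≤ 2 * (cr M (M ⊓ N)).relIndex (M ⊓ N) := by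
  have hd0 : d ≠ 0 := hd ▸ index_ne_zero_of_finite
  rw [relIndex_core_eq hd, ← Nat.mul_factorial_pred hd0, mul_left_comm] at hbig
  exact Nat.le_of_mul_le_mul_left hbig (Nat.pos_of_ne_zero hd0)

/-- The action of `M` on cosets, and of `M ⊓ N` on the remaining letters. -/
lemma exists_loc_hom (hd : (M ⊓ N).relIndex M = d) (h4 : 4 ≤ d)
    (hbig : d.factorial ≤ 2 * (cr M (M ⊓ N)).relIndex M) :
    Loc (M ⊓ N) (cr M (M ⊓ N)) (d - 1) ∧
      ∀ X : Subgroup G, M ⊓ N ≤ X → X ≤ M → X = M ⊓ N ∨ X = M := by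
  obtain ⟨π, c₀, hker, hfix, htr⟩ := exists_coset_hom hd
  let π' : ↥(M ⊓ N) →* Perm (Fin d) := π.comp (inclusion inf_le_left)
  have hπ' : ∀ h : ↥(M ⊓ N), π' h c₀ = c₀ := fun h => (hfix _).mpr h.2
  have hP : ∀ (h : ↥(M ⊓ N)) (c : Fin d), π' h c ≠ c₀ ↔ c ≠ c₀ := fun h c => by
    conv_lhs => rw [← hπ' h]
    exact (π' h).injective.ne_iff
  let e : {c : Fin d // c ≠ c₀} ≃ Fin (d - 1) := Finite.equivFinOfCardEq (by
    rw [Nat.card_eq_fintype_card, Fintype.card_subtype_compl, Fintype.card_subtype_eq, Fintype.card_fin])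
  let σ : ↥(M ⊓ N) →* Perm {c : Fin d // c ≠ c₀} :=
    MonoidHom.mk' (fun h => (π' h).subtypePerm (hP h)) fun a b => by
      ext x
      simp only [map_mul]
      rfl
  have hkerι : (e.permCongrHom.toMonoidHom.comp σ).ker = (cr M (M ⊓ N)).subgroupOf (M ⊓ N) := by
    rw [← MonoidHom.comap_ker, (MonoidHom.ker_eq_bot_iff (e.permCongrHom.toMonoidHom)).mpr e.permCongrHom.injective, MonoidHom.comap_bot]
    ext h
    rw [MonoidHom.mem_ker, mem_subgroupOf, show (h : G) = ((inclusion inf_le_left h : M) : G) from rfl,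
      ← mem_subgroupOf, ← hker, MonoidHom.mem_ker]
    constructor
    · intro hh
      ext c
      rcases eq_or_ne c c₀ with rfl | hc
      · exact congrArg Fin.val (hπ' h)
      · exact congrArg (fun z : {c : Fin d // c ≠ c₀} => (z.1 : ℕ)) (Perm.congr_fun hh ⟨c, hc⟩)
    · intro hh
      ext c
      show (π' h c : ℕ) = c
      rw [show π' h = 1 from hh]
      rfl
  have hbig' : (d - 1).factorial ≤ 2 * Nat.card (e.permCongrHom.toMonoidHom.comp σ).range := by
    rw [← index_ker, hkerι]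
    exact half_le_relIndex_core hd hbig
  refine ⟨⟨_, hkerι, hbig'⟩, fun X hHX hXM => ?_⟩
  by_cases hle : X ≤ M ⊓ N
  · exact Or.inl (le_antisymm hle hHX)
  refine Or.inr (le_antisymm hXM fun x hx => ?_)
  obtain ⟨y, hyX, hy⟩ := SetLike.not_le_iff_exists.mp hle
  rcases eq_or_ne (π ⟨x, hx⟩ c₀) c₀ with hc | hc
  · exact hHX ((hfix _).mp hc)
  have hcy : π ⟨y, hXM hyX⟩ c₀ ≠ c₀ := fun h => hy ((hfix _).mp h)
  set i : Fin (d - 1) := e ⟨_, hcy⟩
  set j : Fin (d - 1) := e ⟨_, hc⟩
  obtain ⟨u, -, hu⟩ := Finset.exists_mem_notMem_of_card_lt_card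
    (show ({i, j} : Finset (Fin (d - 1))).card < (Finset.univ : Finset (Fin (d - 1))).card by
      rw [Finset.card_univ, Fintype.card_fin]; exact lt_of_le_of_lt Finset.card_le_two (by omega))
  simp only [Finset.mem_insert, Finset.mem_singleton, not_or] at hu
  obtain ⟨hui, huj⟩ := hu
  have hσ : ∃ h, (e.permCongrHom.toMonoidHom.comp σ) h i = j := by
    rcases eq_or_ne i j with hij | hij
    · exact ⟨1, by simpa using hij⟩
    have hmem : swap j u * swap i u ∈ alternatingGroup (Fin (d - 1)) := by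
      rw [Perm.mem_alternatingGroup, map_mul, Perm.sign_swap (Ne.symm huj), Perm.sign_swap (Ne.symm hui)]
      rfl
    obtain ⟨h, hh⟩ : swap j u * swap i u ∈ (e.permCongrHom.toMonoidHom.comp σ).range := by
      refine Equiv.Perm.alternatingGroup_le_of_index_le_two ?_ hmem
      have hcm := card_mul_index (e.permCongrHom.toMonoidHom.comp σ).range
      rw [Nat.card_perm, Nat.card_fin] at hcm
      refine Nat.le_of_mul_le_mul_left ?_ (Nat.card_pos (α := (e.permCongrHom.toMonoidHom.comp σ).range))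
      rw [hcm]
      linarith
    exact ⟨h, by rw [hh, Perm.mul_apply, swap_apply_left, swap_apply_right]⟩
  obtain ⟨h, hh⟩ := hσ
  have hh' : π (inclusion inf_le_left h) (π ⟨y, hXM hyX⟩ c₀) = π ⟨x, hx⟩ c₀ := by
    have : e (σ h (e.symm i)) = j := hh
    rw [show e.symm i = ⟨_, hcy⟩ from e.symm_apply_apply _, e.injective.eq_iff] at this
    exact congrArg Subtype.val this
  have hk : π ((inclusion inf_le_left h * ⟨y, hXM hyX⟩)⁻¹ * ⟨x, hx⟩) c₀ = c₀ := by
    rw [map_mul, map_inv, map_mul, Perm.mul_apply, ← hh', ← Perm.mul_apply (π _) (π _),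
      ← Perm.mul_apply, inv_mul_cancel, Perm.one_apply]
  have := X.mul_mem (X.mul_mem (hHX h.2) hyX) (hHX ((hfix _).mp hk))
  simpa [mul_assoc] using this

lemma loc_of_big (hd : (M ⊓ N).relIndex M = d) (h4 : 4 ≤ d)
    (hbig : d.factorial ≤ 2 * (cr M (M ⊓ N)).relIndex M) : Loc (M ⊓ N) (cr M (M ⊓ N)) (d - 1) :=
  (exists_loc_hom hd h4 hbig).1

lemma loc_relIndex {H K : Subgroup G} {n : ℕ} (h : Loc H K n) : n.factorial ≤ 2 * K.relIndex H := by
  obtain ⟨ι, hker, hbig⟩ := h
  rwa [← index_ker, hker] at hbig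

/-- Commuting normal subgroups modulo the kernel. -/
lemma loc_comm {H K Y Z : Subgroup G} {n : ℕ} (hloc : Loc H K n) (h5 : 5 ≤ n) (hY : Y ≤ H) (hZ : Z ≤ H)
    (hYn : H ≤ normalizer (Y : Set G)) (hZn : H ≤ normalizer (Z : Set G)) (h : ⁅Y, Z⁆ ≤ K) : Y ≤ K ∨ Z ≤ K := by
  obtain ⟨ι, hker, hbig⟩ := hloc
  have := normal_subgroupOf_of_le_normalizer hYn
  have := normal_subgroupOf_of_le_normalizer hZn
  have hc : ⁅Y.subgroupOf H, Z.subgroupOf H⁆ ≤ ι.ker := by
    rw [hker, ← map_le_map_iff_of_injective H.subtype_injective, map_commutator, map_subgroupOf_eq_of_le hY,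
      map_subgroupOf_eq_of_le hZ, subgroupOf_map_subtype]
    exact le_inf h ((commutator_mono hY hZ).trans (commutator_le_self H))
  rcases AltImage.le_ker_or_le_ker h5 hbig _ _ hc with h' | h' <;> rw [hker] at h'
  · exact Or.inl fun y hy => h' (x := ⟨y, hY hy⟩) hy
  · exact Or.inr fun z hz => h' (x := ⟨z, hZ hz⟩) hz

/-- A normal subgroup outside the kernel is large modulo it. -/
lemma loc_relIndex_normal {H K Y : Subgroup G} {n : ℕ} (hloc : Loc H K n) (h5 : 5 ≤ n) (hY : Y ≤ H)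
    (hYn : H ≤ normalizer (Y : Set G)) (hne : ¬ Y ≤ K) : n.factorial ≤ 2 * K.relIndex Y := by
  obtain ⟨ι, hker, hbig⟩ := hloc
  have := normal_subgroupOf_of_le_normalizer hYn
  rcases AltImage.map_normal h5 hbig (Y.subgroupOf H) with h' | h'
  · rw [hker] at h'
    exact absurd (fun y hy => h' (x := ⟨y, hY hy⟩) hy) hne
  · rw [← relIndex_subgroupOf (K := Y) (L := H) hY, ← hker, relIndex_ker, ← AltImage.two_mul_card_alt h5]
    exact Nat.mul_le_mul_left 2 (card_le_of_le h')

lemma step {Y T X : Type*} [Group Y] [Finite Y] [Group T] [IsSimpleGroup T] [Group X] [Finite X]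
    (ψ : Y →* T) (hψ : Function.Surjective ψ) (χ : Y →* X) (D : Subgroup Y) (hD : D.Normal)
    (htop : D.map ψ = ⊤) : (χ.ker ⊓ D).map ψ = ⊤ ∨ Nat.card T ≤ Nat.card X := by
  have hn : ((χ.ker ⊓ D).map ψ).Normal := Subgroup.Normal.map inferInstance ψ hψ
  rcases hn.eq_bot_or_eq_top with h | h
  · refine Or.inr ?_
    have h0 : Nat.card T = Nat.card (D.map ψ) := by rw [htop, card_top]
    rw [h0]
    calc Nat.card (D.map ψ)
        = ψ.ker.relIndex D := (relIndex_ker D ψ).symm
      _ ≤ (χ.ker ⊓ D).relIndex D := Nat.le_of_dvd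
          (Nat.pos_of_ne_zero (by rw [relIndex]; exact index_ne_zero_of_finite))
          (relIndex_dvd_of_le_left D ((Subgroup.map_eq_bot_iff _).mp h))
      _ = χ.ker.relIndex D := inf_relIndex_right _ _
      _ = Nat.card (D.map χ) := relIndex_ker D χ
      _ ≤ Nat.card X := Nat.card_le_card_of_injective _ Subtype.val_injective
  · exact Or.inl h

/-- A simple image of a subgroup of `P` is no larger than `|P : Q|`, when the core of `Q` is trivial. -/
lemma card_simple_image_le {P Q Y : Subgroup G} (hMP : M ≤ normalizer (P : Set G)) (hQP : Q ≤ P)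
    (hPQ : P ≤ normalizer (Q : Set G)) (hPM : P ≤ M) (hcr : cr M Q = ⊥) (hY : Y ≤ P)
    {T : Type*} [Group T] [IsSimpleGroup T] (ψ : Y →* T) (hψ : Function.Surjective ψ) :
    Nat.card T ≤ Q.relIndex P := by
  classical
  have := normal_subgroupOf_of_le_normalizer hPQ
  let χ : M → (Y →* P ⧸ Q.subgroupOf P) := fun m =>
    MonoidHom.mk' (fun y => QuotientGroup.mk (⟨m * y * (m : G)⁻¹, conj_mem hMP m.2 (hY y.2)⟩ : P)) fun a b => by
      rw [← QuotientGroup.mk_mul]
      congr 1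
      ext
      simp only [Subgroup.coe_mul]
      group
  have : Fintype M := Fintype.ofFinite M
  suffices h : ∀ S : Finset M, (S.inf fun m => (χ m).ker).map ψ = ⊤ ∨ Nat.card T ≤ Q.relIndex P by
    refine (h Finset.univ).resolve_left fun htop => ?_
    have hbot : (Finset.univ.inf fun m => (χ m).ker) = ⊥ := by
      rw [eq_bot_iff]
      intro y hy
      rw [mem_bot, ← Subtype.coe_inj, OneMemClass.coe_one, ← mem_bot, ← hcr, mem_cr]
      refine ⟨hPM (hY y.2), fun m hm => ?_⟩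
      have : y ∈ (χ ⟨m, hm⟩).ker := SetLike.le_def.mp (Finset.inf_le (f := fun m => (χ m).ker) (Finset.mem_univ _)) hy
      exact mem_subgroupOf.mp ((QuotientGroup.eq_one_iff _).mp this)
    rw [hbot, Subgroup.map_bot] at htop
    exact bot_ne_top htop
  intro S
  induction S using Finset.induction with
  | empty => exact Or.inl (by rw [Finset.inf_empty, map_top_of_surjective ψ hψ])
  | @insert m S _ ih =>
    rcases ih with ih | ih
    · rw [Finset.inf_insert]
      exact step ψ hψ (χ m) (S.inf fun m => (χ m).ker)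
        (Finset.inf_induction (by infer_instance) (fun a ha b hb => @normal_inf_normal _ _ a b ha hb)
          fun m _ => (χ m).normal_ker) ih
    · exact Or.inr ih

end Cfsg.Agent.AltSub
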