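import Cfsg.Agent.Lib.Perm.AltSubconstituentMain

/-!
The structure of a point stabiliser inducing the alternating or symmetric group on a suborbit, unfaithfully.
-/

set_option autoImplicit false

namespace Cfsg.Agent.AltSub

open Subgroup Equiv Cfsg.Agent.ThompsonWielandt
open Cfsg.Agent.Components

variable {G : Type*} [Group G] [Finite G] {M N : Subgroup G} {d : ℕ}

lemma exists_even_map {n : ℕ} (h3 : 3 ≤ n) (i j : Fin n) :
    ∃ σ ∈ alternatingGroup (Fin n), σ i = j := by
  rcases eq_or_ne i j with hij | hij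
  · exact ⟨1, one_mem _, by simpa using hij⟩
  obtain ⟨u, -, hu⟩ := Finset.exists_mem_notMem_of_card_lt_card
    (show ({i, j} : Finset (Fin n)).card < (Finset.univ : Finset (Fin n)).card by
      rw [Finset.card_univ, Fintype.card_fin]; exact lt_of_le_of_lt Finset.card_le_two (by omega))
  simp only [Finset.mem_insert, Finset.mem_singleton, not_or] at hu
  refine ⟨swap j u * swap i u, ?_, by rw [Perm.mul_apply, swap_apply_left, swap_apply_right]⟩
  rw [Perm.mem_alternatingGroup, map_mul, Perm.sign_swap (Ne.symm hu.2), Perm.sign_swap (Ne.symm hu.1)]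
  rfl

omit [Finite G] in
lemma normalizer_le_normalizer_centralizer_aux (K : Subgroup G) :
    normalizer (K : Set G) ≤ normalizer (centralizer (K : Set G) : Set G) := by
  have key : ∀ m ∈ normalizer (K : Set G), ∀ c ∈ centralizer (K : Set G), m * c * m⁻¹ ∈ centralizer (K : Set G) := by
    intro m hm c hc
    refine mem_centralizer_iff.mpr fun k hk => ?_
    have hk' : m⁻¹ * k * m ∈ K := by simpa using (mem_normalizer_iff.mp (inv_mem hm) k).mp hk
    calc k * (m * c * m⁻¹) = m * ((m⁻¹ * k * m) * c) * m⁻¹ := by group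
      _ = m * (c * (m⁻¹ * k * m)) * m⁻¹ := by rw [mem_centralizer_iff.mp hc _ hk']
      _ = m * c * m⁻¹ * k := by group
  exact fun m hm => mem_normalizer_iff.mpr fun c => ⟨key m hm c, fun h => by
    simpa [mul_assoc] using key m⁻¹ (inv_mem hm) _ h⟩

/-- `M` is a subdirect product of groups of index at most two in `Perm (Fin d)` and `Perm (Fin (d - 1))`. -/
theorem structure_theorem (hd : (M ⊓ N).relIndex M = d) (hd' : (N ⊓ M).relIndex N = d) (h6 : 6 ≤ d)
    (hbig : d.factorial ≤ 2 * (cr M (M ⊓ N)).relIndex M) {g : G}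
    (hg : N = M.map (MulAut.conj g).toMonoidHom)
    (hnil : ∀ X : Subgroup G, X ≤ M ⊓ N → M ⊓ N ≤ normalizer (X : Set G) → Group.IsNilpotent X → X = ⊥)
    (hAB : cr M (cr N (N ⊓ M)) = ⊥ ∨ cr N (cr M (M ⊓ N)) = ⊥) (hK : cr M (M ⊓ N) ≠ ⊥)
    (hnb : ∀ X : Subgroup G, X ≠ ⊥ → X ≤ M ⊓ N → M ≤ normalizer (X : Set G) → ¬ N ≤ normalizer (X : Set G)) :
    ∃ (π₁ : M →* Perm (Fin d)) (π₂ : M →* Perm (Fin (d - 1))),
      π₁.ker = (cr M (M ⊓ N)).subgroupOf M ∧ Function.Injective (π₁.prod π₂) ∧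
      (alternatingGroup (Fin d)).prod ⊥ ≤ (π₁.prod π₂).range ∧
      (⊥ : Subgroup (Perm (Fin d))).prod (alternatingGroup (Fin (d - 1))) ≤ (π₁.prod π₂).range ∧
      (π₁.range = alternatingGroup (Fin d) → π₂.range = alternatingGroup (Fin (d - 1))) := by
  have hnle' := not_le hd hd' hbig hnil hAB hK
  have hbig' := big_of_big hd hd' h6 hbig hg hnil hAB hK
  set K := cr M (M ⊓ N) with hKdef
  set L := cr N (N ⊓ M) with hLdef
  have hL : L ≠ ⊥ := fun h => hnle' (h.le.trans bot_le)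
  have hnle : ¬ K ≤ L := not_le hd' hd hbig' (fun X h1 h2 h3 => hnil X (h1.trans (le_of_eq (inf_comm _ _)))
    ((le_of_eq (inf_comm _ _)).trans h2) h3) hAB.symm hL
  have hg' : M = N.map (MulAut.conj g⁻¹).toMonoidHom := by
    rw [hg, map_map]
    conv_lhs => rw [← Subgroup.map_id M]
    congr 1
    ext z
    simp [mul_assoc]
  have hI : K ⊓ L = ⊥ := by
    rcases hAB with hA | hB
    · exact inf_eq_bot hd hd' h6 hbig hbig' hg hnle hL hA hnb
    · rw [inf_comm]
      exact inf_eq_bot hd' hd h6 hbig' hbig hg' hnle' hK hB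
        (fun X h0 h1 h2 h3 => hnb X h0 (h1.trans (le_of_eq (inf_comm _ _))) h3 h2)
  have hKH : K ≤ M ⊓ N := cr_le _ _
  have hLH : L ≤ M ⊓ N := (cr_le _ _).trans (le_of_eq (inf_comm _ _))
  have hKn : M ⊓ N ≤ normalizer (K : Set G) := inf_le_left.trans (le_normalizer_cr _ _)
  have hLn : M ⊓ N ≤ normalizer (L : Set G) := inf_le_right.trans (le_normalizer_cr _ _)
  set C := M ⊓ centralizer (K : Set G) with hC
  have hLC : L ≤ C := le_inf (hLH.trans inf_le_left)
    (MaximalPair.le_centralizer_of_disjoint (hLH.trans hKn) (hKH.trans hLn) (by rw [inf_comm, hI]))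
  have hCn : M ≤ normalizer (C : Set G) := fun m hm => inf_normalizer_le_normalizer_inf
    ⟨le_normalizer hm, normalizer_le_normalizer_centralizer_aux _ (le_normalizer_cr _ _ hm)⟩
  have hCK : C ⊓ K = ⊥ := by
    refine hnil _ (inf_le_right.trans hKH) (fun z hz => inf_normalizer_le_normalizer_inf
      ⟨hCn hz.1, hKn hz⟩) ?_
    have : IsMulCommutative (C ⊓ K : Subgroup G) := commutator_self_eq_bot_iff.mp
      (commutator_eq_bot_iff_le_centralizer.mpr (le_trans (inf_le_left.trans inf_le_right)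
        (centralizer_le (SetLike.coe_subset_coe.mpr inf_le_right))))
    exact Fitting.isNilpotent_of_isMulCommutative _
  have hlocL : Loc (N ⊓ M) L (d - 1) := loc_of_big hd' (by omega) hbig'
  rw [inf_comm N M] at hlocL
  have hCH : C ⊓ (M ⊓ N) ≤ L := by
    refine (loc_comm hlocL (by omega) hKH inf_le_right hKn
      (fun z hz => inf_normalizer_le_normalizer_inf ⟨hCn hz.1, le_normalizer hz⟩) ?_).resolve_left hnle
    rw [commutator_eq_bot_iff_le_centralizer.mpr (le_centralizer_iff.mp (inf_le_left.trans inf_le_right))]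
    exact bot_le
  obtain ⟨π₁, c₀, hker₁, hfix, -⟩ := exists_coset_hom hd
  have hbig₁ : d.factorial ≤ 2 * Nat.card π₁.range := by rw [← index_ker, hker₁]; exact hbig
  set C' := C.subgroupOf M with hC'
  set K' := K.subgroupOf M with hK'
  have hC'n : C'.Normal := normal_subgroupOf_of_le_normalizer hCn
  have hK'n : K'.Normal := normal_subgroupOf_of_le_normalizer (le_normalizer_cr _ _)
  have hC1 : alternatingGroup (Fin d) ≤ C'.map π₁ := by
    refine (AltImage.map_normal (by omega) hbig₁ C').resolve_left fun h => hnle' fun y hy => ?_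
    rw [hker₁] at h
    exact h (x := ⟨y, (hLH hy).1⟩) (hLC hy)
  -- `M = C (M ⊓ N)`
  let φ : ↥(M ⊓ N) →* M ⧸ C' := (QuotientGroup.mk' C').comp (inclusion inf_le_left)
  have hφ : Function.Surjective φ := by
    intro q
    obtain ⟨m, rfl⟩ := QuotientGroup.mk'_surjective C' q
    obtain ⟨σ, hσ, hσc⟩ := exists_even_map (n := d) (by omega) c₀ (π₁ m c₀)
    obtain ⟨c, hc, rfl⟩ := hC1 hσ
    have hfixc : ((c⁻¹ * m : M) : G) ∈ M ⊓ N := (hfix _).mp (by
      rw [map_mul, map_inv, Perm.mul_apply, ← hσc, ← Perm.mul_apply, inv_mul_cancel, Perm.one_apply])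
    refine ⟨⟨_, hfixc⟩, ?_⟩
    show QuotientGroup.mk' C' (c⁻¹ * m) = _
    rw [map_mul, map_inv, show QuotientGroup.mk' C' c = 1 from (QuotientGroup.eq_one_iff c).mpr hc,
      inv_one, one_mul]
  obtain ⟨ι, hkerι, hbigι⟩ := hlocL
  have hφker : φ.ker = ι.ker := by
    ext h
    rw [hkerι, MonoidHom.mem_ker, mem_subgroupOf]
    show QuotientGroup.mk' C' _ = 1 ↔ _
    rw [QuotientGroup.mk'_apply, QuotientGroup.eq_one_iff]
    exact ⟨fun hh => hCH ⟨hh, h.2⟩, fun hh => hLC hh⟩
  let π₂ : M →* Perm (Fin (d - 1)) := (φ.liftOfSurjective hφ ⟨ι, hφker.le⟩).comp (QuotientGroup.mk' C')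
  have hlift : ∀ h, φ.liftOfSurjective hφ ⟨ι, hφker.le⟩ (φ h) = ι h := fun h =>
    MonoidHom.liftOfRightInverse_comp_apply φ _ _ _ h
  have hker₂ : π₂.ker = C' := by
    refine le_antisymm (fun m hm => ?_) (fun m hm => ?_)
    · obtain ⟨h, hh⟩ := hφ (QuotientGroup.mk' C' m)
      have h1 : ι h = 1 := by rw [← hlift h, hh]; exact hm
      have h2 : φ h = 1 := by rw [← MonoidHom.mem_ker, hφker]; exact h1
      exact (QuotientGroup.eq_one_iff m).mp (hh.symm.trans h2)
    · show φ.liftOfSurjective hφ _ (QuotientGroup.mk' C' m) = 1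
      rw [show QuotientGroup.mk' C' m = 1 from (QuotientGroup.eq_one_iff m).mpr hm, map_one]
  have hrange₂ : π₂.range = ι.range := by
    ext x
    constructor
    · rintro ⟨m, rfl⟩
      obtain ⟨h, hh⟩ := hφ (QuotientGroup.mk' C' m)
      exact ⟨h, by rw [← hlift h, hh]; rfl⟩
    · rintro ⟨h, rfl⟩
      exact ⟨inclusion inf_le_left h, hlift h⟩
  have hbig₂ : (d - 1).factorial ≤ 2 * Nat.card π₂.range := hrange₂ ▸ hbigι
  have hK2 : alternatingGroup (Fin (d - 1)) ≤ K'.map π₂ := by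
    refine (AltImage.map_normal (by omega) hbig₂ K').resolve_left fun h => hK ?_
    rw [hker₂] at h
    refine le_bot_iff.mp fun y hy => ?_
    rw [← hCK]
    exact ⟨h (x := ⟨y, (hKH hy).1⟩) hy, hy⟩
  have hkerK : π₁.ker ⊓ π₂.ker = ⊥ := by
    rw [hker₁, hker₂, hC', hK', ← comap_subtype, ← comap_subtype, ← comap_inf, inf_comm, hCK,
      MonoidHom.comap_bot, ker_subtype]
  refine ⟨π₁, π₂, hker₁, ?_, ?_, ?_, fun hA₁ => ?_⟩
  · rw [← MonoidHom.ker_eq_bot_iff, MonoidHom.ker_prod]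
    exact hkerK
  · rintro ⟨a, b⟩ ⟨ha, hb⟩
    obtain ⟨c, hc, rfl⟩ := hC1 ha
    obtain rfl : b = 1 := mem_bot.mp hb
    refine ⟨c, ?_⟩
    rw [MonoidHom.prod_apply, show π₂ c = 1 from hker₂.ge hc]
  · rintro ⟨a, b⟩ ⟨ha, hb⟩
    obtain ⟨k, hk, rfl⟩ := hK2 hb
    obtain rfl : a = 1 := mem_bot.mp ha
    refine ⟨k, ?_⟩
    rw [MonoidHom.prod_apply, show π₁ k = 1 from hker₁.ge hk]
  rcases AltImage.range_cases (by omega) hbig₂ with h | htop
  · exact h
  exfalso
  -- `N`, hence `M`, then has the symmetric group of degree `d` as an image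
  obtain ⟨πN, -, hkerN, -, -⟩ := exists_coset_hom hd'
  have hNtop : πN.range = ⊤ := by
    refine eq_top_of_card_eq _ ?_
    rw [← index_ker, hkerN]
    show L.relIndex N = _
    rw [relIndex_core_eq hd', Nat.card_perm, Nat.card_fin,
      ← Nat.mul_factorial_pred (show d ≠ 0 by omega)]
    congr 1
    refine (congrArg L.relIndex (inf_comm N M)).trans ?_
    rw [relIndex, ← hkerι, index_ker, ← hrange₂, htop, card_top, Nat.card_perm, Nat.card_fin]
  let f : M ≃* N := (M.equivMapOfInjective _ (MulAut.conj g).injective).trans (MulEquiv.subgroupCongr hg.symm)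
  let ψ : M →* Perm (Fin d) := πN.comp f.toMonoidHom
  have hψ : Function.Surjective ψ := (MonoidHom.range_eq_top.mp hNtop).comp f.surjective
  have hbigψ : d.factorial ≤ 2 * Nat.card ψ.range := by
    rw [MonoidHom.range_eq_top.mpr hψ, card_top, Nat.card_perm, Nat.card_fin]
    omega
  have hcomm : ⁅K', C'⁆ ≤ ψ.ker := by
    refine le_trans (le_of_eq ?_) bot_le
    refine commutator_eq_bot_iff_le_centralizer.mpr fun k hk => mem_centralizer_iff.mpr fun c hc => Subtype.ext ?_
    exact (mem_centralizer_iff.mp (mem_subgroupOf.mp hc).2 k hk).symm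
  have hsup : K' ⊔ C' = ⊤ := by
    refine eq_top_iff.mpr fun m _ => ?_
    obtain ⟨c, hc, hcm⟩ := hC1 (hA₁ ▸ ⟨m, rfl⟩ : π₁ m ∈ alternatingGroup (Fin d))
    have hk : c⁻¹ * m ∈ K' := hker₁ ▸ (by rw [MonoidHom.mem_ker, map_mul, map_inv, hcm, inv_mul_cancel])
    simpa using (K' ⊔ C').mul_mem (mem_sup_right hc) (mem_sup_left hk)
  have himg : ∀ (P : Subgroup M) (Q : Subgroup M), Q ≤ ψ.ker → P ⊔ Q = ⊤ → Nat.card (Perm (Fin d)) ≤ Nat.card P := by
    intro P Q hQ hPQ
    have h1 : P.map ψ = ⊤ := by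
      rw [← map_top_of_surjective ψ hψ, ← hPQ, Subgroup.map_sup, (Subgroup.map_eq_bot_iff Q).mpr hQ, sup_bot_eq]
    calc Nat.card (Perm (Fin d)) = Nat.card (P.map ψ) := by rw [h1, card_top]
      _ ≤ Nat.card P := Nat.le_of_dvd Nat.card_pos (card_map_dvd _ _)
  have hfac : (d - 1).factorial < d.factorial := (Nat.factorial_lt (by omega)).mpr (by omega)
  rcases AltImage.le_ker_or_le_ker (by omega) hbigψ K' C' hcomm with h | h
  · have h1 := himg C' K' h (by rw [sup_comm, hsup])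
    have h2 : Nat.card C' ≤ Nat.card (alternatingGroup (Fin d)) := by
      rw [← hA₁]
      refine Nat.card_le_card_of_injective (fun c => ⟨π₁ c, c, rfl⟩) fun a b hab => Subtype.ext ?_
      have hab' : π₁ a = π₁ b := congrArg Subtype.val hab
      have : (a : M)⁻¹ * b ∈ π₁.ker ⊓ π₂.ker := ⟨MonoidHom.mem_ker.mpr (by rw [map_mul, map_inv, hab', inv_mul_cancel]),
        hker₂.ge (C'.mul_mem (C'.inv_mem a.2) b.2)⟩
      rw [hkerK, mem_bot, inv_mul_eq_one] at this
      exact this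
    rw [Nat.card_perm, Nat.card_fin, ← AltImage.two_mul_card_alt (n := d) (by omega)] at h1
    have := Nat.card_pos (α := alternatingGroup (Fin d))
    omega
  · have h1 := himg K' C' h hsup
    have h2 : Nat.card K' ≤ Nat.card (Perm (Fin (d - 1))) := by
      refine Nat.card_le_card_of_injective (fun k => π₂ k) fun a b hab => Subtype.ext ?_
      have : (a : M)⁻¹ * b ∈ π₁.ker ⊓ π₂.ker := ⟨hker₁.ge (K'.mul_mem (K'.inv_mem a.2) b.2),
        MonoidHom.mem_ker.mpr (by rw [map_mul, map_inv, show π₂ a = π₂ b from hab, inv_mul_cancel])⟩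
      rw [hkerK, mem_bot, inv_mul_eq_one] at this
      exact this
    rw [Nat.card_perm, Nat.card_fin] at h1 h2
    omega

end Cfsg.Agent.AltSub
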