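import Cfsg.Agent.Lib.Perm.AltSubconstituent

/-!
The two kernels of an orbital with alternating subconstituent meet trivially.
-/

set_option autoImplicit false

namespace Cfsg.Agent.AltSub

open Subgroup Equiv Cfsg.Agent.ThompsonWielandt
open Cfsg.Agent.Components

variable {G : Type*} [Group G] [Finite G] {M N : Subgroup G} {d : ℕ}

/-- The kernel on the paired orbit does not lie in the kernel on the orbit. -/
lemma not_le (hd : (M ⊓ N).relIndex M = d) (hd' : (N ⊓ M).relIndex N = d)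
    (hbig : d.factorial ≤ 2 * (cr M (M ⊓ N)).relIndex M)
    (hnil : ∀ X : Subgroup G, X ≤ M ⊓ N → M ⊓ N ≤ normalizer (X : Set G) → Group.IsNilpotent X → X = ⊥)
    (hAB : cr M (cr N (N ⊓ M)) = ⊥ ∨ cr N (cr M (M ⊓ N)) = ⊥) (hK : cr M (M ⊓ N) ≠ ⊥) :
    ¬ cr N (N ⊓ M) ≤ cr M (M ⊓ N) := by
  intro hle
  set K := cr M (M ⊓ N) with hKdef
  set L := cr N (N ⊓ M) with hLdef
  have hA : cr M L = ⊥ := by
    rcases hAB with h | h
    · exact h
    have hLb : L ≤ ⊥ := h ▸ le_cr (cr_le_left _ _) hle (le_normalizer_cr _ _)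
    exact le_bot_iff.mp ((cr_le _ _).trans hLb)
  have hKH : K ≤ M ⊓ N := cr_le _ _
  have hlo := half_le_relIndex_core hd hbig
  have hhi : L.relIndex (M ⊓ N) ∣ (d - 1).factorial := inf_comm M N ▸ relIndex_core_dvd hd'
  rw [← relIndex_mul_relIndex L K (M ⊓ N) hle hKH] at hhi
  have h2 : L.relIndex K ≤ 2 := by
    refine Nat.le_of_mul_le_mul_right ?_ (Nat.pos_of_ne_zero (index_ne_zero_of_finite :
      K.relIndex (M ⊓ N) ≠ 0))
    exact (Nat.le_of_dvd (Nat.factorial_pos _) hhi).trans hlo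
  have h0 : L.relIndex K ≠ 0 := index_ne_zero_of_finite
  have hsq : ∀ x ∈ K, x * x ∈ L := by
    intro x hx
    rcases (show L.relIndex K = 1 ∨ L.relIndex K = 2 by omega) with h | h
    · exact L.mul_mem (relIndex_eq_one.mp h hx) (relIndex_eq_one.mp h hx)
    · exact mem_subgroupOf.mp (mul_self_mem_of_index_two h (⟨x, hx⟩ : K))
  have hone : ∀ x ∈ K, x * x = 1 := by
    intro x hx
    rw [← mem_bot, ← hA, mem_cr]
    refine ⟨M.mul_mem (cr_le_left _ _ hx) (cr_le_left _ _ hx), fun m hm => ?_⟩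
    rw [show m * (x * x) * m⁻¹ = (m * x * m⁻¹) * (m * x * m⁻¹) by group]
    exact hsq _ (conj_mem (le_normalizer_cr _ _) hm hx)
  have : IsMulCommutative K := ⟨⟨fun a b => by
    have hinv : ∀ c : K, c⁻¹ = c := fun c =>
      inv_eq_of_mul_eq_one_right (Subtype.ext (hone c c.2))
    calc a * b = (a * b)⁻¹ := (hinv _).symm
      _ = b⁻¹ * a⁻¹ := mul_inv_rev a b
      _ = b * a := by rw [hinv, hinv]⟩⟩
  exact hK (hnil K hKH (inf_le_left.trans (le_normalizer_cr _ _))
    (Fitting.isNilpotent_of_isMulCommutative K))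

/-- The group induced on the paired orbit also contains the alternating group. -/
lemma big_of_big (hd : (M ⊓ N).relIndex M = d) (hd' : (N ⊓ M).relIndex N = d) (h6 : 6 ≤ d)
    (hbig : d.factorial ≤ 2 * (cr M (M ⊓ N)).relIndex M) {g : G}
    (hg : N = M.map (MulAut.conj g).toMonoidHom)
    (hnil : ∀ X : Subgroup G, X ≤ M ⊓ N → M ⊓ N ≤ normalizer (X : Set G) → Group.IsNilpotent X → X = ⊥)
    (hAB : cr M (cr N (N ⊓ M)) = ⊥ ∨ cr N (cr M (M ⊓ N)) = ⊥) (hK : cr M (M ⊓ N) ≠ ⊥) :
    d.factorial ≤ 2 * (cr N (N ⊓ M)).relIndex N := by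
  have hnle := not_le hd hd' hbig hnil hAB hK
  set K := cr M (M ⊓ N) with hKdef
  set L := cr N (N ⊓ M) with hLdef
  have := AltImage.simple_alt (n := d) (by omega)
  have hKH : K ≤ M ⊓ N := cr_le _ _
  have hLH : L ≤ M ⊓ N := (cr_le _ _).trans (le_of_eq (inf_comm _ _))
  -- a subgroup of `N` mapping onto the alternating group
  obtain ⟨π, c₀, hker, -, -⟩ := exists_coset_hom hd
  have hrange : alternatingGroup (Fin d) ≤ π.range := AltImage.alt_le_range (by omega) (by
    rw [← index_ker, hker]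
    exact hbig)
  let X : Subgroup M := (alternatingGroup (Fin d)).comap π
  let f : M ≃* N := (M.equivMapOfInjective _ (MulAut.conj g).injective).trans (MulEquiv.subgroupCongr hg.symm)
  let Xn : Subgroup N := X.map f.toMonoidHom
  let ψ : Xn →* alternatingGroup (Fin d) :=
    (π.comp ((f.symm.toMonoidHom).comp Xn.subtype)).codRestrict _ (by
      rintro ⟨y, z, hz, rfl⟩
      show π (f.symm (f z)) ∈ alternatingGroup (Fin d)
      rw [f.symm_apply_apply]
      exact hz)
  have hψ : Function.Surjective ψ := by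
    rintro ⟨a, ha⟩
    obtain ⟨z, rfl⟩ := hrange ha
    refine ⟨⟨f z, z, ha, rfl⟩, Subtype.ext ?_⟩
    show π (f.symm (f z)) = π z
    rw [f.symm_apply_apply]
  have hT : 2 * Nat.card (alternatingGroup (Fin d)) = d.factorial := AltImage.two_mul_card_alt (by omega)
  set Ln : Subgroup Xn := (L.subgroupOf N).subgroupOf Xn with hLn
  have hLnn : Ln.Normal := by
    have : (L.subgroupOf N).Normal := normal_subgroupOf_of_le_normalizer (le_normalizer_cr _ _)
    exact this.subgroupOf _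
  have hLsub : (L.subgroupOf N).Normal := normal_subgroupOf_of_le_normalizer (le_normalizer_cr _ _)
  rcases (hLnn.map ψ hψ).eq_bot_or_eq_top with h | h
  · have h1 : Nat.card (alternatingGroup (Fin d)) ∣ Ln.index := by
      have := index_dvd_of_le ((Subgroup.map_eq_bot_iff _).mp h)
      rwa [index_ker, MonoidHom.range_eq_top.mpr hψ, card_top] at this
    have h2 : Ln.index ≤ L.relIndex N :=
      Nat.le_of_dvd (Nat.pos_of_ne_zero index_ne_zero_of_finite)
        (relIndex_dvd_index_of_normal (L.subgroupOf N) Xn)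
    calc d.factorial = 2 * Nat.card (alternatingGroup (Fin d)) := hT.symm
      _ ≤ 2 * L.relIndex N :=
        Nat.mul_le_mul_left 2 ((Nat.le_of_dvd (Nat.pos_of_ne_zero index_ne_zero_of_finite) h1).trans h2)
  exfalso
  have hfac : 2 * (d - 1).factorial < d.factorial := by
    rw [← Nat.mul_factorial_pred (show d ≠ 0 by omega)]
    exact (Nat.mul_lt_mul_right (Nat.factorial_pos _)).mpr (by omega)
  -- a subgroup of `L` mapping onto the alternating group
  set Y : Subgroup G := (Ln.map Xn.subtype).map N.subtype with hY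
  let ε : Y ≃* Ln := ((Ln.equivMapOfInjective _ Xn.subtype_injective).trans
    ((Ln.map Xn.subtype).equivMapOfInjective _ N.subtype_injective)).symm
  have hYL : Y ≤ L := by
    rintro _ ⟨_, ⟨z, hz, rfl⟩, rfl⟩
    exact hz
  let ψY : Y →* alternatingGroup (Fin d) := (ψ.comp Ln.subtype).comp ε.toMonoidHom
  have hψY : Function.Surjective ψY := by
    intro a
    obtain ⟨z, hz, rfl⟩ := (show a ∈ Ln.map ψ from h ▸ mem_top a)
    exact ⟨ε.symm ⟨z, hz⟩, by simp [ψY]⟩
  have hLn' : (K.subgroupOf Y).Normal := normal_subgroupOf_of_le_normalizer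
    (((hYL.trans hLH).trans inf_le_left).trans (le_normalizer_cr _ _))
  have hLHd : L.relIndex (M ⊓ N) ≤ (d - 1).factorial :=
    Nat.le_of_dvd (Nat.factorial_pos _) (inf_comm M N ▸ relIndex_core_dvd hd')
  have hKHd : K.relIndex (M ⊓ N) ≤ (d - 1).factorial :=
    Nat.le_of_dvd (Nat.factorial_pos _) (relIndex_core_dvd hd)
  have hLn2 : (K.subgroupOf (M ⊓ N)).Normal :=
    normal_subgroupOf_of_le_normalizer (inf_le_left.trans (le_normalizer_cr _ _))
  rcases (hLn'.map ψY hψY).eq_bot_or_eq_top with h' | h'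
  · have h1 : Nat.card (alternatingGroup (Fin d)) ∣ K.relIndex Y := by
      have := index_dvd_of_le ((Subgroup.map_eq_bot_iff _).mp h')
      rwa [index_ker, MonoidHom.range_eq_top.mpr hψY, card_top] at this
    have h2 : K.relIndex Y ≤ K.relIndex (M ⊓ N) := relIndex_le_of_le_right (hYL.trans hLH) index_ne_zero_of_finite
    have h3 : Nat.card (alternatingGroup (Fin d)) ≤ K.relIndex Y :=
      Nat.le_of_dvd (Nat.pos_of_ne_zero index_ne_zero_of_finite) h1
    omega
  set Z : Subgroup G := (K.subgroupOf Y).map Y.subtype with hZ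
  let ψZ : Z →* alternatingGroup (Fin d) :=
    (ψY.comp (K.subgroupOf Y).subtype).comp ((K.subgroupOf Y).equivMapOfInjective _ Y.subtype_injective).symm.toMonoidHom
  have hψZ : Function.Surjective ψZ := by
    intro a
    obtain ⟨z, hz, rfl⟩ := (show a ∈ (K.subgroupOf Y).map ψY from h' ▸ mem_top a)
    exact ⟨(K.subgroupOf Y).equivMapOfInjective _ Y.subtype_injective ⟨z, hz⟩, by simp [ψZ]⟩
  have hZK : Z ≤ K := by
    rw [hZ, subgroupOf_map_subtype]
    exact inf_le_left
  have hZL : Z ≤ L := (map_subtype_le _).trans hYL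
  have hnK : M ⊓ N ≤ normalizer (K : Set G) := inf_le_left.trans (le_normalizer_cr _ _)
  have hnL : M ⊓ N ≤ normalizer (L : Set G) := inf_le_right.trans (le_normalizer_cr _ _)
  have hIn : M ⊓ N ≤ normalizer ((K ⊓ L : Subgroup G) : Set G) :=
    fun z hz => inf_normalizer_le_normalizer_inf ⟨hnK hz, hnL hz⟩
  rcases hAB with hA | hB
  · have h1 := card_simple_image_le (M := M) (P := K) (Q := K ⊓ L) (le_normalizer_cr _ _) inf_le_left
      (hKH.trans hIn) (cr_le_left _ _)
      (le_bot_iff.mp ((cr_mono inf_le_right).trans hA.le)) hZK ψZ hψZ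
    have h2 : (K ⊓ L).relIndex K ≤ L.relIndex (M ⊓ N) := by
      rw [inf_relIndex_left]
      exact relIndex_le_of_le_right hKH index_ne_zero_of_finite
    omega
  · have h1 := card_simple_image_le (M := N) (P := L) (Q := K ⊓ L) (le_normalizer_cr _ _) inf_le_right
      (hLH.trans hIn) (cr_le_left _ _)
      (le_bot_iff.mp ((cr_mono inf_le_left).trans hB.le)) hZL ψZ hψZ
    have h2 : (K ⊓ L).relIndex L ≤ K.relIndex (M ⊓ N) := by
      rw [inf_relIndex_right]
      exact relIndex_le_of_le_right hLH index_ne_zero_of_finite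
    omega

/-- A simple non-abelian normal subgroup of `K`. -/
def Simp (K X : Subgroup G) : Prop :=
  X ≤ K ∧ K ≤ normalizer (X : Set G) ∧ IsSimpleGroup X ∧ ⁅X, X⁆ ≠ ⊥

lemma simp_map {K X : Subgroup G} {g : G} (h : Simp K X) :
    Simp (K.map (MulAut.conj g).toMonoidHom) (X.map (MulAut.conj g).toMonoidHom) := by
  obtain ⟨h1, h2, h3, h4⟩ := h
  refine ⟨Subgroup.map_mono h1, (Subgroup.map_mono h2).trans (le_normalizer_map _),
    (X.equivMapOfInjective _ (MulAut.conj g).injective).isSimpleGroup_congr.mp h3, ?_⟩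
  rw [← map_commutator]
  exact fun h => h4 ((map_eq_bot_iff_of_injective _ (MulAut.conj g).injective).mp h)

lemma simp_conj {K X : Subgroup G} {m : G} (hK : M ≤ normalizer (K : Set G)) (hm : m ∈ M) (h : Simp K X) :
    Simp K (X.map (MulAut.conj m).toMonoidHom) := by
  have e : K.map (MulAut.conj m).toMonoidHom = K := by
    ext y
    constructor
    · rintro ⟨z, hz, rfl⟩
      exact conj_mem hK hm hz
    · exact fun hy => ⟨_, conj_mem' hK hm hy, by simp [mul_assoc]⟩
  exact e ▸ simp_map (g := m) h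

lemma simp_inter {K X Y : Subgroup G} (hX : Simp K X) (hY : Simp K Y) : X = Y ∨ X ⊓ Y = ⊥ := by
  have := hX.2.2.1
  have := hY.2.2.1
  have h1 : (Y.subgroupOf X).Normal := normal_subgroupOf_of_le_normalizer (hX.1.trans hY.2.1)
  have h2 : (X.subgroupOf Y).Normal := normal_subgroupOf_of_le_normalizer (hY.1.trans hX.2.1)
  rcases h1.eq_bot_or_eq_top with h | h
  · right
    rw [inf_comm, ← subgroupOf_map_subtype, h, Subgroup.map_bot]
  · have hle := subgroupOf_eq_top.mp h
    rcases h2.eq_bot_or_eq_top with h' | h'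
    · exfalso
      refine hX.2.2.2 ((commutator_self_eq_bot_iff).mpr ?_)
      have hb : X = ⊥ := by
        rw [← map_subgroupOf_eq_of_le hle, h', Subgroup.map_bot]
      rw [hb]
      infer_instance
    · exact Or.inl (le_antisymm hle (subgroupOf_eq_top.mp h'))

section Main

variable (hd : (M ⊓ N).relIndex M = d) (hd' : (N ⊓ M).relIndex N = d) (h6 : 6 ≤ d)
  (hbig' : d.factorial ≤ 2 * (cr N (N ⊓ M)).relIndex N)
  (hnle : ¬ cr M (M ⊓ N) ≤ cr N (N ⊓ M)) (hA : cr M (cr N (N ⊓ M)) = ⊥)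

include hd' h6 hbig' hnle hA

/-- Every non-trivial normal subgroup of `M` in `K` contains a simple normal subgroup of `K` not in `L`
after conjugation. -/
lemma exists_simp {W : Subgroup G} (hW : W ≤ cr M (M ⊓ N)) (hW0 : W ≠ ⊥)
    (hWn : M ≤ normalizer (W : Set G)) : ∃ X, Simp (cr M (M ⊓ N)) X ∧ X ≤ W := by
  set K := cr M (M ⊓ N) with hKdef
  set L := cr N (N ⊓ M) with hLdef
  obtain ⟨J, hJW, ⟨hJ0, hJn⟩, hmin⟩ := Basic.exists_minimal_le
    (fun J : Subgroup G => J ≠ ⊥ ∧ K ≤ normalizer (J : Set G)) (H := W)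
    ⟨hW0, (cr_le_left _ _).trans hWn⟩
  have hJK : J ≤ K := hJW.trans hW
  obtain ⟨m, hm, x, hx, hmx⟩ : ∃ m ∈ M, ∃ x ∈ J, m * x * m⁻¹ ∉ L := by
    by_contra hcon
    push Not at hcon
    exact hJ0 (le_bot_iff.mp (fun x hx => hA ▸ mem_cr.mpr
      ⟨cr_le_left _ _ (hJK hx), fun m hm => hcon m hm x hx⟩))
  obtain ⟨ι, hker, hbigι⟩ := loc_of_big hd' (by omega) hbig'
  have hKH : K ≤ N ⊓ M := (cr_le _ _).trans (le_of_eq (inf_comm _ _))
  have hKM : M ≤ normalizer (K : Set G) := le_normalizer_cr _ _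
  let χ : J →* Perm (Fin (d - 1)) :=
    MonoidHom.mk' (fun j => ι ⟨m * j * m⁻¹, hKH (conj_mem hKM hm (hJK j.2))⟩) fun a b => by
      rw [← map_mul]
      congr 1
      ext
      simp only [Subgroup.coe_mul]
      group
  -- `ι` maps `K` onto a group containing the alternating group
  have hKn : ((K.subgroupOf (N ⊓ M))).Normal :=
    normal_subgroupOf_of_le_normalizer (inf_le_right.trans hKM)
  have hKalt : alternatingGroup (Fin (d - 1)) ≤ (K.subgroupOf (N ⊓ M)).map ι := by
    refine (AltImage.map_normal (by omega) hbigι _).resolve_left fun h => hnle ?_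
    rw [hker] at h
    exact fun y hy => h (x := ⟨y, hKH hy⟩) hy
  have hsplit : ∀ T : Subgroup (Perm (Fin (d - 1))),
      (∀ a ∈ (K.subgroupOf (N ⊓ M)).map ι, a ∈ normalizer (T : Set _)) →
      K ≤ normalizer (((T.comap χ).map J.subtype : Subgroup G) : Set G) := by
    intro T hT
    have key : ∀ k ∈ K, ∀ y ∈ (T.comap χ).map J.subtype, k * y * k⁻¹ ∈ (T.comap χ).map J.subtype := by
      rintro k hk _ ⟨j, hj, rfl⟩
      refine ⟨⟨k * j * k⁻¹, conj_mem hJn hk j.2⟩, ?_, rfl⟩
      have hkm : m * k * m⁻¹ ∈ K := conj_mem hKM hm hk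
      show ι _ ∈ T
      have := (mem_normalizer_iff.mp (hT _ ⟨⟨_, hKH hkm⟩, hkm, rfl⟩) (χ j)).mp hj
      convert this using 1
      simp only [χ, MonoidHom.mk'_apply, ← map_mul, ← map_inv]
      congr 1
      ext
      simp only [Subgroup.coe_mul, InvMemClass.coe_inv]
      group
    intro k hk
    exact mem_normalizer_iff.mpr fun y => ⟨key k hk y, fun h => by
      simpa [mul_assoc] using key k⁻¹ (K.inv_mem hk) _ h⟩
  -- `χ` is injective
  have hinj : Function.Injective χ := by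
    rw [← MonoidHom.ker_eq_bot_iff]
    by_contra hne
    have h := hmin _ (map_subtype_le χ.ker) ⟨fun h => hne ((map_eq_bot_iff_of_injective _ J.subtype_injective).mp h),
      by
        rw [← MonoidHom.comap_bot]
        exact hsplit ⊥ fun a _ => mem_normalizer_iff.mpr fun y => by simp [mem_bot, conj_eq_one_iff]⟩
    obtain ⟨j, hj, hjx⟩ := (show x ∈ χ.ker.map J.subtype from h.symm ▸ hx)
    have : (⟨m * j * m⁻¹, hKH (conj_mem hKM hm (hJK j.2))⟩ : ↥(N ⊓ M)) ∈ ι.ker := hj
    rw [hker, mem_subgroupOf] at this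
    exact hmx (hjx ▸ this)
  have hnalt : ∀ a : Perm (Fin (d - 1)), a ∈ normalizer (alternatingGroup (Fin (d - 1)) : Set _) :=
    fun a => by simp [normalizer_eq_top]
  -- the image of `J` is the alternating group
  have hrange : alternatingGroup (Fin (d - 1)) ≤ χ.range := by
    refine (AltImage.alt_le_of_normalized (by omega) ?_).resolve_left fun h => ?_
    · intro a ha
      obtain ⟨⟨k, hkH⟩, hk, rfl⟩ := hKalt ha
      have hkm : m⁻¹ * k * m ∈ K := conj_mem' hKM hm hk
      have key : ∀ k' : G, ∀ hk' : k' ∈ K, ∀ hkH' : k' ∈ N ⊓ M, ∀ z ∈ χ.range,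
          ι ⟨k', hkH'⟩ * z * (ι ⟨k', hkH'⟩)⁻¹ ∈ χ.range := by
        rintro k' hk' hkH' _ ⟨j, rfl⟩
        refine ⟨⟨(m⁻¹ * k' * m) * j * (m⁻¹ * k' * m)⁻¹, conj_mem hJn (conj_mem' hKM hm hk') j.2⟩, ?_⟩
        simp only [χ, MonoidHom.mk'_apply, ← map_mul, ← map_inv]
        congr 1
        ext
        simp only [Subgroup.coe_mul, InvMemClass.coe_inv]
        group
      refine mem_normalizer_iff.mpr fun z => ⟨key k hk hkH z, fun hz => ?_⟩
      have := key k⁻¹ (K.inv_mem hk) ((N ⊓ M).inv_mem hkH) _ hz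
      rw [show (⟨k⁻¹, (N ⊓ M).inv_mem hkH⟩ : ↥(N ⊓ M)) = ⟨k, hkH⟩⁻¹ from rfl, map_inv] at this
      simpa [mul_assoc] using this
    · rw [MonoidHom.range_eq_bot_iff] at h
      exact hJ0 (eq_bot_iff.mpr fun y hy => mem_bot.mpr
        (congrArg Subtype.val (hinj (a₁ := ⟨y, hy⟩) (a₂ := 1) (by rw [h]; rfl))))
  have htop : (alternatingGroup (Fin (d - 1))).comap χ = ⊤ := by
    rw [← map_subtype_inj, ← MonoidHom.range_eq_map, range_subtype]
    refine hmin _ (map_subtype_le _) ⟨fun h => ?_, hsplit _ fun a _ => hnalt a⟩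
    have h' := congrArg (Subgroup.map χ) ((map_eq_bot_iff_of_injective _ J.subtype_injective).mp h)
    rw [map_comap_eq_self hrange, Subgroup.map_bot] at h'
    exact AltImage.alt_not_comm (n := d - 1) (by omega) (by rw [h', commutator_bot_left])
  have heq : χ.range = alternatingGroup (Fin (d - 1)) := by
    refine le_antisymm ?_ hrange
    rintro _ ⟨j, rfl⟩
    exact (show j ∈ (alternatingGroup (Fin (d - 1))).comap χ from htop ▸ mem_top j)
  refine ⟨J, ⟨hJK, hJn, ?_, fun hc => ?_⟩, hJW⟩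
  · exact ((MonoidHom.ofInjective hinj).trans (MulEquiv.subgroupCongr heq)).isSimpleGroup_congr.mpr
      (AltImage.simple_alt (by omega))
  · refine AltImage.alt_not_comm (n := d - 1) (by omega) ?_
    rw [← heq, MonoidHom.range_eq_map, ← map_commutator, Subgroup.map_eq_bot_iff]
    have h0 : ⁅(⊤ : Subgroup J), (⊤ : Subgroup J)⁆.map J.subtype = ⊥ := by
      rw [map_commutator, ← MonoidHom.range_eq_map, range_subtype, hc]
    rw [(map_eq_bot_iff_of_injective _ J.subtype_injective).mp h0]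
    exact bot_le

/-- Two simple normal subgroups of `K` outside `L` coincide. -/
lemma simp_unique {X Y : Subgroup G} (hX : Simp (cr M (M ⊓ N)) X) (hY : Simp (cr M (M ⊓ N)) Y)
    (hXL : ¬ X ≤ cr N (N ⊓ M)) (hYL : ¬ Y ≤ cr N (N ⊓ M)) : X = Y := by
  set K := cr M (M ⊓ N) with hKdef
  rcases simp_inter hX hY with h | h
  · exact h
  exfalso
  obtain ⟨ι, hker, hbigι⟩ := loc_of_big hd' (by omega) hbig'
  have hKH : K ≤ N ⊓ M := (cr_le _ _).trans (le_of_eq (inf_comm _ _))
  let κ : K →* Perm (Fin (d - 1)) := ι.comp (inclusion hKH)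
  have hbigK : (d - 1).factorial ≤ 2 * Nat.card κ.range := by
    have hKn : (K.subgroupOf (N ⊓ M)).Normal :=
      normal_subgroupOf_of_le_normalizer (inf_le_right.trans (le_normalizer_cr _ _))
    have hKalt : alternatingGroup (Fin (d - 1)) ≤ (K.subgroupOf (N ⊓ M)).map ι := by
      refine (AltImage.map_normal (by omega) hbigι _).resolve_left fun h => hnle ?_
      rw [hker] at h
      exact fun y hy => h (x := ⟨y, hKH hy⟩) hy
    rw [← AltImage.two_mul_card_alt (n := d - 1) (by omega)]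
    refine Nat.mul_le_mul_left 2 (card_le_of_le (hKalt.trans ?_))
    rintro _ ⟨y, hy, rfl⟩
    exact ⟨⟨y, hy⟩, rfl⟩
  have hκ : κ.ker = (cr N (N ⊓ M)).subgroupOf K := by
    ext y
    rw [MonoidHom.mem_ker, mem_subgroupOf]
    show ι (inclusion hKH y) = 1 ↔ _
    rw [← MonoidHom.mem_ker, hker, mem_subgroupOf]
    rfl
  have hXY : ⁅X, Y⁆ = ⊥ := commutator_eq_bot_iff_le_centralizer.mpr
    (MaximalPair.le_centralizer_of_disjoint (hX.1.trans hY.2.1) (hY.1.trans hX.2.1) h)
  have := normal_subgroupOf_of_le_normalizer hX.2.1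
  have := normal_subgroupOf_of_le_normalizer hY.2.1
  have hc : ⁅X.subgroupOf K, Y.subgroupOf K⁆ ≤ κ.ker := by
    rw [← map_le_map_iff_of_injective K.subtype_injective, map_commutator, map_subgroupOf_eq_of_le hX.1,
      map_subgroupOf_eq_of_le hY.1, hXY]
    exact bot_le
  rcases AltImage.le_ker_or_le_ker (by omega) hbigK _ _ hc with h' | h' <;> rw [hκ] at h'
  · exact hXL fun y hy => h' (x := ⟨y, hX.1 hy⟩) hy
  · exact hYL fun y hy => h' (x := ⟨y, hY.1 hy⟩) hy

/-- All the simple normal subgroups of `K` are conjugate in `M`. -/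
lemma simp_conjugate {X Y : Subgroup G} (hX : Simp (cr M (M ⊓ N)) X) (hY : Simp (cr M (M ⊓ N)) Y) :
    ∃ m ∈ M, X.map (MulAut.conj m).toMonoidHom = Y := by
  have hout : ∀ Z, Simp (cr M (M ⊓ N)) Z →
      ∃ m ∈ M, ¬ Z.map (MulAut.conj m).toMonoidHom ≤ cr N (N ⊓ M) := by
    intro Z hZ
    by_contra hcon
    push Not at hcon
    have hZb : Z = ⊥ := le_bot_iff.mp fun z hz => hA ▸ mem_cr.mpr
      ⟨cr_le_left _ _ (hZ.1 hz), fun m hm => hcon m hm ⟨z, hz, rfl⟩⟩
    exact hZ.2.2.2 (by rw [hZb, commutator_bot_left])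
  obtain ⟨m, hm, hmX⟩ := hout X hX
  obtain ⟨n, hn, hnY⟩ := hout Y hY
  refine ⟨n⁻¹ * m, M.mul_mem (M.inv_mem hn) hm, ?_⟩
  have h := simp_unique hd' h6 hbig' hnle hA (simp_conj (le_normalizer_cr _ _) hm hX)
    (simp_conj (le_normalizer_cr _ _) hn hY) hmX hnY
  apply Subgroup.map_injective (f := (MulAut.conj n).toMonoidHom) (MulAut.conj n).injective
  rw [← h, map_map]
  congr 1
  ext z
  simp [mul_assoc]

end Main

/-- The kernels on the two orbits meet trivially. -/
theorem inf_eq_bot (hd : (M ⊓ N).relIndex M = d) (hd' : (N ⊓ M).relIndex N = d) (h6 : 6 ≤ d)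
    (hbig : d.factorial ≤ 2 * (cr M (M ⊓ N)).relIndex M)
    (hbig' : d.factorial ≤ 2 * (cr N (N ⊓ M)).relIndex N) {g : G}
    (hg : N = M.map (MulAut.conj g).toMonoidHom)
    (hnle : ¬ cr M (M ⊓ N) ≤ cr N (N ⊓ M)) (hL : cr N (N ⊓ M) ≠ ⊥)
    (hA : cr M (cr N (N ⊓ M)) = ⊥)
    (hnb : ∀ X : Subgroup G, X ≠ ⊥ → X ≤ M ⊓ N → M ≤ normalizer (X : Set G) → ¬ N ≤ normalizer (X : Set G)) :
    cr M (M ⊓ N) ⊓ cr N (N ⊓ M) = ⊥ := by
  set K := cr M (M ⊓ N) with hKdef
  set L := cr N (N ⊓ M) with hLdef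
  have hKH : K ≤ M ⊓ N := cr_le _ _
  have hLH : L ≤ M ⊓ N := (cr_le _ _).trans (le_of_eq (inf_comm _ _))
  have hKM : M ≤ normalizer (K : Set G) := le_normalizer_cr _ _
  obtain ⟨X₀, hX₀, -⟩ := exists_simp hd' h6 hbig' hnle hA le_rfl (fun h => hnle (h.le.trans bot_le)) hKM
  obtain ⟨m₀, hm₀, hm₀X⟩ : ∃ m ∈ M, ¬ X₀.map (MulAut.conj m).toMonoidHom ≤ L := by
    by_contra hcon
    push Not at hcon
    have hZb : X₀ = ⊥ := le_bot_iff.mp fun z hz => hA ▸ mem_cr.mpr
      ⟨cr_le_left _ _ (hX₀.1 hz), fun m hm => hcon m hm ⟨z, hz, rfl⟩⟩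
    exact hX₀.2.2.2 (by rw [hZb, commutator_bot_left])
  set f := X₀.map (MulAut.conj m₀).toMonoidHom with hf
  have hfS : Simp K f := simp_conj hKM hm₀ hX₀
  -- the stabiliser of `f` contains `M ⊓ N`
  have hstab : M ⊓ N ≤ normalizer (f : Set G) := by
    intro z hz
    have heq : f.map (MulAut.conj z).toMonoidHom = f := by
      refine simp_unique hd' h6 hbig' hnle hA (simp_conj hKM hz.1 hfS) hfS (fun h => hm₀X fun y hy => ?_) hm₀X
      have hzy : z * y * z⁻¹ ∈ L := h ⟨y, hy, rfl⟩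
      have := conj_mem' (le_normalizer_cr N (N ⊓ M)) hz.2 hzy
      simpa [mul_assoc] using this
    refine mem_normalizer_iff.mpr fun y => ⟨fun hy => heq ▸ ⟨y, hy, rfl⟩, fun hy => ?_⟩
    obtain ⟨w, hw, hwy⟩ := heq.symm ▸ hy
    simp only [MulEquiv.coe_toMonoidHom, MulAut.conj_apply] at hwy
    exact mul_left_cancel (mul_right_cancel hwy) ▸ hw
  -- the centraliser of all the simple subgroups in `K` is trivial
  have hCK : ∀ c ∈ K, (∀ X, Simp K X → c ∈ centralizer (X : Set G)) → c = 1 := by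
    intro c hc hcent
    by_contra hc1
    set W := cr M (K ⊓ ⨅ X : {X // Simp K X}, centralizer ((X : Subgroup G) : Set G)) with hW
    have hcW : c ∈ W := by
      refine mem_cr.mpr ⟨cr_le_left _ _ hc, fun m hm => ⟨conj_mem hKM hm hc, ?_⟩⟩
      refine mem_iInf.mpr ?_
      rintro ⟨X, hX⟩
      rw [mem_centralizer_iff]
      intro x hx
      have hx' : m⁻¹ * x * m ∈ X.map (MulAut.conj m⁻¹).toMonoidHom := ⟨x, hx, by simp⟩
      have := mem_centralizer_iff.mp (hcent _ (simp_conj hKM (M.inv_mem hm) hX)) _ hx'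
      calc x * (m * c * m⁻¹) = m * ((m⁻¹ * x * m) * c) * m⁻¹ := by group
        _ = m * (c * (m⁻¹ * x * m)) * m⁻¹ := by rw [this]
        _ = m * c * m⁻¹ * x := by group
    obtain ⟨X, hX, hXW⟩ := exists_simp hd' h6 hbig' hnle hA ((cr_le _ _).trans inf_le_left)
      (fun h => hc1 (mem_bot.mp (h ▸ hcW))) (le_normalizer_cr _ _)
    refine hX.2.2.2 (commutator_eq_bot_iff_le_centralizer.mpr ?_)
    exact (hXW.trans ((cr_le _ _).trans inf_le_right)).trans (iInf_le_of_le ⟨X, hX⟩ le_rfl)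
  obtain ⟨-, hmax⟩ := exists_loc_hom hd (by omega) hbig
  by_cases hfM : M ≤ normalizer (f : Set G)
  · have hall : ∀ X, Simp K X → X = f := by
      intro X hX
      obtain ⟨m, hm, he⟩ := simp_conjugate hd' h6 hbig' hnle hA hfS hX
      rw [← he]
      ext y
      constructor
      · rintro ⟨z, hz, rfl⟩
        exact conj_mem hfM hm hz
      · exact fun hy => ⟨_, conj_mem' hfM hm hy, by simp [mul_assoc]⟩
    have hnI : K ≤ normalizer ((K ⊓ L : Subgroup G) : Set G) := fun z hz =>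
      inf_normalizer_le_normalizer_inf ⟨le_normalizer hz,
        le_normalizer_cr N (N ⊓ M) (hKH hz).2⟩
    have hfI : f ⊓ (K ⊓ L) = ⊥ := by
      have := hfS.2.2.1
      have hn : ((K ⊓ L).subgroupOf f).Normal := normal_subgroupOf_of_le_normalizer (hfS.1.trans hnI)
      rcases hn.eq_bot_or_eq_top with h | h
      · rw [inf_comm, ← subgroupOf_map_subtype, h, Subgroup.map_bot]
      · exact absurd ((subgroupOf_eq_top.mp h).trans inf_le_right) hm₀X
    have hcent : K ⊓ L ≤ centralizer (f : Set G) :=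
      MaximalPair.le_centralizer_of_disjoint (inf_le_left.trans hfS.2.1) (hfS.1.trans hnI)
        (by rw [inf_comm, hfI])
    refine le_bot_iff.mp fun c hc => mem_bot.mpr (hCK c hc.1 fun X hX => ?_)
    rw [hall X hX]
    exact hcent hc
  exfalso
  have hNf : M ⊓ normalizer (f : Set G) = M ⊓ N :=
    (hmax _ (le_inf inf_le_left hstab) inf_le_left).resolve_right fun h => hfM (h ▸ inf_le_right)
  -- the centraliser in `M` of all the simple subgroups is trivial
  have hCM : ∀ c ∈ M, (∀ X, Simp K X → c ∈ centralizer (X : Set G)) → c = 1 := by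
    intro c hc hcent
    refine hCK c (mem_cr.mpr ⟨hc, fun m hm => ?_⟩) hcent
    rw [← hNf]
    refine ⟨M.mul_mem (M.mul_mem hm hc) (M.inv_mem hm), centralizer_le_normalizer _ ?_⟩
    rw [mem_centralizer_iff]
    intro x hx
    have hx' : m⁻¹ * x * m ∈ f.map (MulAut.conj m⁻¹).toMonoidHom := ⟨x, hx, by simp⟩
    have := mem_centralizer_iff.mp (hcent _ (simp_conj hKM (M.inv_mem hm) hfS)) _ hx'
    calc x * (m * c * m⁻¹) = m * ((m⁻¹ * x * m) * c) * m⁻¹ := by group
      _ = m * (c * (m⁻¹ * x * m)) * m⁻¹ := by rw [this]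
      _ = m * c * m⁻¹ * x := by group
  -- transport to `N`
  set γ := (MulAut.conj g).toMonoidHom with hγ
  have hγinj : Function.Injective γ := (MulAut.conj g).injective
  set K' := K.map γ with hK'
  have hK'N : N ≤ normalizer (K' : Set G) := hg ▸ (Subgroup.map_mono hKM).trans (le_normalizer_map _)
  have hCN : ∀ c ∈ N, (∀ X, Simp K X → c ∈ centralizer ((X.map γ : Subgroup G) : Set G)) → c = 1 := by
    intro c hc hcent
    obtain ⟨z, hz, rfl⟩ := (hg ▸ hc : c ∈ M.map γ)
    rw [hCM z hz fun X hX => ?_, map_one]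
    rw [mem_centralizer_iff]
    intro x hx
    have := mem_centralizer_iff.mp (hcent X hX) (γ x) ⟨x, hx, rfl⟩
    rw [← map_mul, ← map_mul] at this
    exact hγinj this
  set Y := L ⊓ K' with hY
  have hYN : N ≤ normalizer (Y : Set G) := fun z hz =>
    inf_normalizer_le_normalizer_inf ⟨le_normalizer_cr N (N ⊓ M) hz, hK'N hz⟩
  have hK'le : K' ≤ N := hg ▸ Subgroup.map_mono (cr_le_left _ _)
  have hY0 : Y ≠ ⊥ := by
    intro h
    refine hL (le_bot_iff.mp fun c hc => mem_bot.mpr (hCN c (cr_le_left _ _ hc) fun X hX => ?_))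
    have hLK' : L ≤ centralizer (K' : Set G) := MaximalPair.le_centralizer_of_disjoint
      ((cr_le_left _ _).trans hK'N) (hK'le.trans (le_normalizer_cr _ _)) h
    exact centralizer_le (SetLike.coe_subset_coe.mpr (Subgroup.map_mono hX.1)) (hLK' hc)
  -- every transported simple subgroup lies in `Y`
  obtain ⟨X₁, hX₁, hX₁Y⟩ : ∃ X, Simp K X ∧ X.map γ ≤ Y := by
    have hW : Y.comap γ ≤ K := fun z hz => by
      obtain ⟨y, hy, he⟩ := hz.2
      exact hγinj he ▸ hy
    have hWn : M ≤ normalizer ((Y.comap γ : Subgroup G) : Set G) := by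
      intro m hm
      refine mem_normalizer_iff.mpr fun z => ?_
      have := mem_normalizer_iff.mp (hYN (hg ▸ mem_map_of_mem γ hm)) (γ z)
      rw [mem_comap, mem_comap, map_mul, map_mul, map_inv]
      exact this
    have hW0 : Y.comap γ ≠ ⊥ := fun h => hY0 (by
      rw [← map_comap_eq_self (show Y ≤ γ.range from fun y _ => ⟨g⁻¹ * y * g, by simp [γ, mul_assoc]⟩), h,
        Subgroup.map_bot])
    obtain ⟨X, hX, hXW⟩ := exists_simp hd' h6 hbig' hnle hA hW hW0 hWn
    exact ⟨X, hX, map_le_iff_le_comap.mpr hXW⟩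
  have hallY : ∀ X, Simp K X → X.map γ ≤ Y := by
    intro X hX
    obtain ⟨m, hm, he⟩ := simp_conjugate hd' h6 hbig' hnle hA hX₁ hX
    rw [← he]
    rintro _ ⟨_, ⟨x, hx, rfl⟩, rfl⟩
    have := conj_mem hYN (hg ▸ mem_map_of_mem γ hm) (hX₁Y ⟨x, hx, rfl⟩)
    simpa using this
  -- components of `M ⊓ N`
  have hcomp : ∀ (P X : Subgroup G), P ≤ M ⊓ N → M ⊓ N ≤ normalizer (P : Set G) → X ≤ P →
      P ≤ normalizer (X : Set G) → IsSimpleGroup X → ⁅X, X⁆ ≠ ⊥ → Cfsg.IsComponent (X.subgroupOf (M ⊓ N)) := by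
    intro P X hP hPn hXP hXn hs hc
    refine ⟨isSubnormal_subgroupOf hXP hP hPn hXn,
      Basic.quasisimple_of_mulEquiv (subgroupOfEquivOfLe (hXP.trans hP)).symm ?_⟩
    have hX0 : X ≠ ⊥ := fun h => hc (by rw [h, commutator_bot_left])
    refine Basic.isQuasisimple_of_normal ?_ ((Subgroup.nontrivial_iff_ne_bot X).mpr hX0) fun W hW => ?_
    · refine Subgroup.isPerfect_iff.mpr ?_
      have hn : (⁅X, X⁆.subgroupOf X).Normal := normal_subgroupOf_of_le_normalizer
        (Subgroup.normalizer_commutator_ge_right X X)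
      rcases hn.eq_bot_or_eq_top with h | h
      · exact absurd (by rw [← map_subgroupOf_eq_of_le (commutator_le_self X), h, Subgroup.map_bot]) hc
      · exact le_antisymm (commutator_le_self X) (subgroupOf_eq_top.mp h)
    · rcases hW.eq_bot_or_eq_top with h | h
      · exact Or.inr (h ▸ bot_le)
      · exact Or.inl h
  have hcomm : ∀ X X', Simp K X → Simp K X' → X'.map γ ≠ X → ⁅X, X'.map γ⁆ = ⊥ := by
    intro X X' hX hX' hne
    have h1 := hcomp K X hKH (inf_le_left.trans hKM) hX.1 hX.2.1 hX.2.2.1 hX.2.2.2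
    obtain ⟨h2, h3, h4, h5⟩ := simp_map (g := g) hX'
    have h1' := hcomp Y (X'.map γ) (inf_le_left.trans hLH) (inf_le_right.trans hYN) (hallY X' hX')
      (inf_le_right.trans h3) h4 h5
    have hXl : X ≤ M ⊓ N := hX.1.trans hKH
    have hXl' : X'.map γ ≤ M ⊓ N := (hallY X' hX').trans (inf_le_left.trans hLH)
    have := congrArg (Subgroup.map (M ⊓ N).subtype) (Basic.component_commutator_eq_bot_of_ne h1 h1' fun h =>
      hne (by rw [← map_subgroupOf_eq_of_le hXl, h, map_subgroupOf_eq_of_le hXl']))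
    rwa [map_commutator, map_subgroupOf_eq_of_le hXl, map_subgroupOf_eq_of_le hXl', Subgroup.map_bot] at this
  have hin : ∀ X', Simp K X' → Simp K (X'.map γ) := by
    intro X' hX'
    by_contra hno
    have hb : X'.map γ = ⊥ := by
      refine le_bot_iff.mp fun c hc => mem_bot.mpr
        (hCM c ((inf_le_left.trans hLH).trans inf_le_left (hallY X' hX' hc)) fun X hX => ?_)
      have hz := hcomm X X' hX hX' (fun h => hno (h ▸ hX))
      rw [commutator_comm, commutator_eq_bot_iff_le_centralizer] at hz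
      exact hz hc
    exact (simp_map (g := g) hX').2.2.2 (by rw [hb, commutator_bot_left])
  have hout : ∀ X, Simp K X → ∃ X', Simp K X' ∧ X'.map γ = X := by
    intro X hX
    by_contra hno
    push Not at hno
    have hb : X = ⊥ := le_bot_iff.mp fun c hc => mem_bot.mpr
      (hCN c (hKH.trans inf_le_right (hX.1 hc)) fun X' hX' =>
        commutator_eq_bot_iff_le_centralizer.mp (hcomm X X' hX hX' (hno X' hX')) hc)
    exact hX.2.2.2 (by rw [hb, commutator_bot_left])
  set Z := ⨆ X : {X // Simp K X}, (X : Subgroup G) with hZ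
  have hZγ : Z.map γ = Z := by
    rw [hZ, Subgroup.map_iSup]
    refine le_antisymm (iSup_le fun X => ?_) (iSup_le fun X => ?_)
    · exact le_iSup_of_le ⟨_, hin X X.2⟩ le_rfl
    · obtain ⟨X', hX', he⟩ := hout X X.2
      exact le_iSup_of_le ⟨X', hX'⟩ he.ge
  have hZM : M ≤ normalizer (Z : Set G) := by
    have key : ∀ m ∈ M, ∀ z ∈ Z, m * z * m⁻¹ ∈ Z := by
      intro m hm z hz
      have : Z ≤ Z.comap (MulAut.conj m).toMonoidHom := iSup_le fun X => map_le_iff_le_comap.mp
        (le_iSup_of_le ⟨_, simp_conj hKM hm X.2⟩ le_rfl)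
      exact this hz
    exact fun m hm => mem_normalizer_iff.mpr fun z => ⟨key m hm z, fun h => by
      simpa [mul_assoc] using key m⁻¹ (M.inv_mem hm) _ h⟩
  refine hnb Z (fun h => hfS.2.2.2 ?_) (iSup_le fun X => X.2.1.trans hKH) hZM ?_
  · rw [show f = ⊥ from le_bot_iff.mp (h ▸ le_iSup_of_le ⟨f, hfS⟩ le_rfl), commutator_bot_left]
  · rw [hg, ← hZγ]
    exact (Subgroup.map_mono hZM).trans (le_normalizer_map _)

end Cfsg.Agent.AltSub
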