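import Cfsg.Agent.Lib.Perm.AutSixSylowData

/-!
# Sylow 2-subgroups of the automorphism group of `A₆` intersect non-trivially

If `H ∩ H^x = 1`, then `H` has an orbit of length 32 on the Sylow 2-subgroups of `A₆` meeting
`Q = H ∩ A₆` trivially.  These fall into two classes, each smaller than that, told apart by the
order of the product of the two centres.
-/

set_option autoImplicit false

namespace Cfsg.Agent.Perm.AutSixSylow

open Equiv
open scoped Pointwise

/-- The dihedral subgroup of order eight of `A₆`. -/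
def base : Subgroup (alternatingGroup (Fin 6)) where
  carrier := {g | (g : Perm (Fin 6)) ∈ elems}
  one_mem' := by
    change (1 : Perm (Fin 6)) ∈ elems
    exact List.mem_cons_self
  mul_mem' := fun {x y} hx hy => elems_mul _ hx _ hy
  inv_mem' := fun {x} hx => elems_inv _ hx

theorem mem_base {g : alternatingGroup (Fin 6)} : g ∈ base ↔ (g : Perm (Fin 6)) ∈ elems :=
  Iff.rfl

theorem card_base : Nat.card base = 8 := by
  let f : base ≃ {q // q ∈ elems} :=
    { toFun := fun g => ⟨((g : alternatingGroup (Fin 6)) : Perm (Fin 6)), g.2⟩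
      invFun := fun q => ⟨⟨q.1, Perm.mem_alternatingGroup.2 (elems_sign _ q.2)⟩, q.2⟩
      left_inv := fun _ => rfl
      right_inv := fun _ => rfl }
  rw [Nat.card_congr f, Nat.card_congr ((elems_nodup).getEquiv).symm, Nat.card_eq_fintype_card,
    Fintype.card_fin]
  rfl

/-- The centre of the dihedral subgroup. -/
def centre : alternatingGroup (Fin 6) :=
  ⟨rot * rot, Perm.mem_alternatingGroup.2 (elems_sign _ (by simp [elems]))⟩

theorem conj_of_card_eight {R : Subgroup (alternatingGroup (Fin 6))} (h : Nat.card R = 8) :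
    ∃ c : alternatingGroup (Fin 6), MulAut.conj c • base = R := by
  haveI : Fact (Nat.Prime 2) := ⟨Nat.prime_two⟩
  have hA : Nat.card (alternatingGroup (Fin 6)) = 360 := by
    rw [nat_card_alternatingGroup, Nat.card_fin]
    decide
  have hfac : (2 : ℕ) ^ (Nat.card (alternatingGroup (Fin 6))).factorization 2 = 8 := by
    rw [hA, Nat.factorization_def _ Nat.prime_two, show (360 : ℕ) = 2 ^ 3 * 45 from rfl,
      padicValNat.mul (by norm_num) (by norm_num), padicValNat.prime_pow,
      padicValNat.eq_zero_of_not_dvd (by norm_num : ¬ 2 ∣ 45)]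
    rfl
  obtain ⟨c, hc⟩ := MulAction.exists_smul_eq (alternatingGroup (Fin 6))
    (Sylow.ofCard base (card_base.trans hfac.symm)) (Sylow.ofCard R (h.trans hfac.symm))
  refine ⟨c, ?_⟩
  exact congrArg (fun P : Sylow 2 (alternatingGroup (Fin 6)) =>
    (P : Subgroup (alternatingGroup (Fin 6)))) hc

variable {G : Type*} [Group G] [Finite G]

theorem mem_conj_smul {K : Type*} [Group K] {c x : K} {S : Subgroup K} :
    x ∈ MulAut.conj c • S ↔ c⁻¹ * x * c ∈ S := by
  rw [Subgroup.mem_pointwise_smul_iff_inv_smul_mem]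
  simp [MulAut.smul_def, MulAut.conj_symm_apply, ← map_inv]

theorem inf_conj_ne_bot (N : Subgroup G) [hN : N.Normal] (e : N ≃* alternatingGroup (Fin 6))
    (hidx : N.index = 4) (H : Sylow 2 G) (x : G) :
    (H : Subgroup G) ⊓ MulAut.conj x • (H : Subgroup G) ≠ ⊥ := by
  classical
  haveI : Fact (Nat.Prime 2) := ⟨Nat.prime_two⟩
  intro hbot
  have hcardN : Nat.card N = 360 := by
    rw [Nat.card_congr e.toEquiv, nat_card_alternatingGroup, Nat.card_fin]
    decide
  have hcardG : Nat.card G = 2 ^ 5 * 45 := by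
    rw [← N.card_mul_index, hcardN, hidx]; rfl
  have hH : Nat.card (H : Subgroup G) = 32 := by
    rw [H.card_eq_multiplicity, hcardG, Nat.factorization_def _ Nat.prime_two, padicValNat.mul
      (by norm_num) (by norm_num), padicValNat.prime_pow,
      padicValNat.eq_zero_of_not_dvd (by norm_num : ¬ 2 ∣ 45)]
    rfl
  -- the intersections with `N`
  have hinter : ∀ S : Subgroup G, Nat.card S = 32 → Nat.card (S.subgroupOf N) = 8 := by
    intro S hS
    have h1 : Nat.card (S.subgroupOf N) ∣ 360 := hcardN ▸ Subgroup.card_subgroup_dvd_card _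
    have e1 : Nat.card (S.subgroupOf N) = Nat.card (N.subgroupOf S) := by
      rw [← Subgroup.inf_subgroupOf_right S N, ← Subgroup.inf_subgroupOf_right N S,
        Nat.card_congr (Subgroup.subgroupOfEquivOfLe inf_le_right).toEquiv,
        Nat.card_congr (Subgroup.subgroupOfEquivOfLe inf_le_right).toEquiv, inf_comm]
    have h2 : Nat.card (S.subgroupOf N) ∣ 32 :=
      e1 ▸ hS ▸ Subgroup.card_subgroup_dvd_card _
    have h3 : Nat.card (S.subgroupOf N) * N.relIndex S = 32 := by
      rw [e1, Subgroup.relIndex, Subgroup.card_mul_index, hS]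
    have h4 : N.relIndex S ≤ 4 := Nat.le_of_dvd (by norm_num)
      (hidx ▸ Subgroup.relIndex_dvd_index_of_normal N S)
    have h5 : Nat.card (S.subgroupOf N) ∣ 8 := by
      have := Nat.dvd_gcd h1 h2
      norm_num at this
      exact this
    have := Nat.le_of_dvd (by norm_num) h5
    nlinarith
  have hHx : Nat.card (MulAut.conj x • (H : Subgroup G) : Subgroup G) = 32 := by
    rw [← hH]
    exact (Nat.card_congr (Subgroup.equivSMul (MulAut.conj x) (H : Subgroup G)).toEquiv).symm
  let Q : Subgroup N := (H : Subgroup G).subgroupOf N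
  let Q' : Subgroup N := (MulAut.conj x • (H : Subgroup G)).subgroupOf N
  have hQmap : Nat.card (Q.map e.toMonoidHom) = 8 := by
    exact (Nat.card_congr (e.subgroupMap Q).toEquiv).symm.trans (hinter _ hH)
  have hQ'map : Nat.card (Q'.map e.toMonoidHom) = 8 := by
    exact (Nat.card_congr (e.subgroupMap Q').toEquiv).symm.trans (hinter _ hHx)
  obtain ⟨c, hc⟩ := conj_of_card_eight hQmap
  obtain ⟨d, hd⟩ := conj_of_card_eight hQ'map
  -- coordinates in which `Q` is the base group
  let f : N ≃* alternatingGroup (Fin 6) := e.trans (MulAut.conj c⁻¹)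
  have hf : ∀ q : N, f q = c⁻¹ * e q * c := fun q => by simp [f]
  have hQ : ∀ q : N, q ∈ Q ↔ f q ∈ base := by
    intro q
    rw [hf, ← mem_conj_smul, hc]
    exact (Subgroup.mem_map_iff_mem e.injective).symm
  let y : N := f.symm (c⁻¹ * d)
  have hy : f y = c⁻¹ * d := f.apply_symm_apply _
  have hQ' : ∀ q : N, q ∈ Q' ↔ y⁻¹ * q * y ∈ Q := by
    intro q
    rw [hQ, map_mul, map_mul, map_inv, hy, hf,
      show (c⁻¹ * d)⁻¹ * (c⁻¹ * e q * c) * (c⁻¹ * d) = d⁻¹ * e q * d by group,
      ← mem_conj_smul, hd]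
    exact (Subgroup.mem_map_iff_mem e.injective).symm
  let z : N := f.symm centre
  let P : N → Prop := fun u => (z * (u * z * u⁻¹)) ^ 3 = 1
  have hHQ : ∀ h ∈ (H : Subgroup G), ∀ q : N, MulAut.conjNormal h q ∈ Q ↔ q ∈ Q := by
    intro h hh q
    simp only [Q, Subgroup.mem_subgroupOf, MulAut.conjNormal_apply]
    rw [(H : Subgroup G).mul_mem_cancel_right ((H : Subgroup G).inv_mem hh),
      (H : Subgroup G).mul_mem_cancel_left hh]
  have hzeq : ∀ q ∈ Q, q * q ≠ 1 → q * q = z := by
    intro q hq h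
    apply f.injective
    rw [map_mul, f.apply_symm_apply]
    apply Subtype.ext
    refine square_eq _ ((hQ q).1 hq) fun h' => h (f.injective ?_)
    rw [map_mul, map_one]
    exact Subtype.ext h'
  have hzne : ∃ q ∈ Q, q * q ≠ 1 := by
    refine ⟨f.symm ⟨rot, Perm.mem_alternatingGroup.2 (elems_sign _ (by simp [elems]))⟩, ?_, ?_⟩
    · rw [hQ, f.apply_symm_apply, mem_base]; simp [elems]
    · intro h
      have := congrArg (fun u : N => ((f u : alternatingGroup (Fin 6)) : Perm (Fin 6))) h
      simp at this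
      revert this
      decide +kernel
  have hz : ∀ h ∈ (H : Subgroup G), MulAut.conjNormal h z = z := by
    intro h hh
    obtain ⟨q, hq, hq1⟩ := hzne
    rw [← hzeq q hq hq1, map_mul]
    rw [hzeq (MulAut.conjNormal h q) ((hHQ h hh q).2 hq) ?_, hzeq q hq hq1]
    rw [← map_mul]
    exact fun h' => hq1 ((MulEquiv.map_eq_one_iff _).1 h')
  have hzQ : ∀ q ∈ Q, q * z * q⁻¹ = z := by
    intro q hq
    apply f.injective
    rw [map_mul, map_mul, map_inv, f.apply_symm_apply]
    exact Subtype.ext (rot_sq_central _ ((hQ q).1 hq))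
  -- the conjugates of `y`
  let B : Set N := {u | (∀ q ∈ Q, q ≠ 1 → u⁻¹ * q * u ∉ Q) ∧ (P u ↔ P y)}
  have hyB : ∀ q ∈ Q, q ≠ 1 → y⁻¹ * q * y ∉ Q := by
    intro q hq hq1 h
    apply hq1
    have : (q : G) ∈ (H : Subgroup G) ⊓ MulAut.conj x • (H : Subgroup G) :=
      ⟨hq, ((hQ' q).2 h : q ∈ Q')⟩
    rw [hbot, Subgroup.mem_bot] at this
    exact Subtype.ext this
  let F : ↥(H : Subgroup G) × Q → B := fun hq =>
    ⟨MulAut.conjNormal (hq.1 : G) y * (hq.2 : N), by
      obtain ⟨⟨h, hh⟩, ⟨r, hr⟩⟩ := hq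
      refine ⟨fun q hq hq1 hmem => ?_, ?_⟩
      · let q₀ := (MulAut.conjNormal h : MulAut N).symm q
        have hq0 : MulAut.conjNormal h q₀ = q := MulEquiv.apply_symm_apply _ _
        rw [← hq0, show (MulAut.conjNormal h y * r)⁻¹ * MulAut.conjNormal h q₀ *
          (MulAut.conjNormal h y * r) = r⁻¹ * MulAut.conjNormal h (y⁻¹ * q₀ * y) * r by
            simp only [map_mul, map_inv, mul_inv_rev, mul_assoc],
          Q.mul_mem_cancel_right hr, Q.mul_mem_cancel_left (Q.inv_mem hr), hHQ h hh] at hmem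
        refine hyB q₀ ((hHQ h hh q₀).1 (hq0.symm ▸ hq)) (fun h0 => hq1 ?_) hmem
        rw [← hq0, h0, map_one]
      · change (z * ((MulAut.conjNormal h y * r) * z * (MulAut.conjNormal h y * r)⁻¹)) ^ 3 = 1 ↔ _
        rw [show (MulAut.conjNormal h y * r) * z * (MulAut.conjNormal h y * r)⁻¹ =
          MulAut.conjNormal h y * (r * z * r⁻¹) * (MulAut.conjNormal h y)⁻¹ by group, hzQ r hr]
        conv_lhs => rw [← hz h hh]
        rw [← map_inv, ← map_mul, ← map_mul, ← map_mul, ← map_pow, MulEquiv.map_eq_one_iff]⟩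
  have hnorm : ∀ u : N, (∀ q ∈ Q, u * q * u⁻¹ ∈ Q) → u ∈ Q := by
    intro u hu
    rw [hQ, mem_base]
    refine normalizer_le _ (fun q hq => ?_) (Perm.mem_alternatingGroup.1 (f u).2)
    let qa : alternatingGroup (Fin 6) := ⟨q, Perm.mem_alternatingGroup.2 (elems_sign _ hq)⟩
    have h1 := hu (f.symm qa) ((hQ _).2 (by rw [f.apply_symm_apply]; exact hq))
    rw [hQ, map_mul, map_mul, map_inv, f.apply_symm_apply, mem_base] at h1
    exact h1
  have hF : Function.Injective F := by
    rintro ⟨⟨h, hh⟩, ⟨r, hr⟩⟩ ⟨⟨h', hh'⟩, ⟨r', hr'⟩⟩ heq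
    have heq' : MulAut.conjNormal h y * r = MulAut.conjNormal h' y * r' :=
      congrArg Subtype.val heq
    let M : Subgroup G := Subgroup.normalizer (((Q'.map N.subtype : Subgroup G)) : Set G)
    have hQ'G : ∀ g : G, g ∈ Q'.map N.subtype ↔
        g ∈ N ∧ g ∈ MulAut.conj x • (H : Subgroup G) := by
      intro g
      constructor
      · rintro ⟨q, hq, rfl⟩; exact ⟨q.2, hq⟩
      · rintro ⟨hgN, hg⟩; exact ⟨⟨g, hgN⟩, hg, rfl⟩
    have hle : MulAut.conj x • (H : Subgroup G) ≤ M := by
      intro g hg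
      refine Subgroup.mem_normalizer_iff.2 fun k => ?_
      rw [hQ'G, hQ'G, Subgroup.mul_mem_cancel_right _ (inv_mem hg),
        Subgroup.mul_mem_cancel_left _ hg]
      exact and_congr_left' ⟨fun hk => hN.conj_mem k hk g, fun hk => by
        simpa [mul_assoc] using hN.conj_mem _ hk g⁻¹⟩
    have hMN : Nat.card (M.subgroupOf N) ≤ 8 := by
      rw [← hinter _ hHx]
      refine Subgroup.card_le_of_le (fun u hu => ?_)
      change u ∈ Q'
      rw [hQ']
      refine hnorm _ fun q hq => ?_
      have h1 : y * q * y⁻¹ ∈ Q' := (hQ' _).2 (by simpa [mul_assoc] using hq)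
      have h2 := (Subgroup.mem_normalizer_iff.1 (Subgroup.mem_subgroupOf.1 hu)
        ((y * q * y⁻¹ : N) : G)).1 ⟨_, h1, rfl⟩
      have h3 : u * (y * q * y⁻¹) * u⁻¹ ∈ Q' := by
        obtain ⟨w, hw, hwe⟩ := h2
        have : w = u * (y * q * y⁻¹) * u⁻¹ := Subtype.ext hwe
        rwa [← this]
      rw [hQ'] at h3
      simpa [mul_assoc] using h3
    have hMcard : Nat.card M ≤ 32 := by
      have e1 : Nat.card (M.subgroupOf N) = Nat.card (N.subgroupOf M) := by
        rw [← Subgroup.inf_subgroupOf_right M N, ← Subgroup.inf_subgroupOf_right N M,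
          Nat.card_congr (Subgroup.subgroupOfEquivOfLe inf_le_right).toEquiv,
          Nat.card_congr (Subgroup.subgroupOfEquivOfLe inf_le_right).toEquiv, inf_comm]
      rw [← Subgroup.card_mul_index (N.subgroupOf M), ← e1]
      have h4 : (N.subgroupOf M).index ≤ 4 := Nat.le_of_dvd (by norm_num)
        (hidx ▸ Subgroup.relIndex_dvd_index_of_normal N M)
      calc Nat.card (M.subgroupOf N) * (N.subgroupOf M).index ≤ 8 * 4 := Nat.mul_le_mul hMN h4
        _ = 32 := rfl
    have hMeq : MulAut.conj x • (H : Subgroup G) = M :=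
      Subgroup.eq_of_le_of_card_ge hle (by rw [hHx]; exact hMcard)
    -- `h⁻¹ h'` normalises `Q'`
    have hk : h⁻¹ * h' ∈ M := by
      have hconj : MulAut.conjNormal (h⁻¹ * h') y = y * (MulAut.conjNormal h⁻¹ (r * r'⁻¹)) := by
        have e1 : MulAut.conjNormal h' y = MulAut.conjNormal h y * (r * r'⁻¹) := by
          rw [← mul_assoc, heq', mul_inv_cancel_right]
        rw [map_mul, MulAut.mul_apply, e1, map_mul, map_inv, MulAut.inv_apply_self]
      set k := h⁻¹ * h' with hkdef
      have hkH : k ∈ (H : Subgroup G) := (H : Subgroup G).mul_mem ((H : Subgroup G).inv_mem hh) hh'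
      have hw : MulAut.conjNormal h⁻¹ (r * r'⁻¹) ∈ Q :=
        (hHQ _ ((H : Subgroup G).inv_mem hh) _).2 (Q.mul_mem hr (Q.inv_mem hr'))
      generalize MulAut.conjNormal h⁻¹ (r * r'⁻¹) = w at hconj hw
      have hmapQ' : ∀ q : N, MulAut.conjNormal k q ∈ Q' ↔ q ∈ Q' := by
        intro q
        rw [hQ', hQ']
        have e2 : MulAut.conjNormal k (y⁻¹ * q * y) =
            w⁻¹ * (y⁻¹ * MulAut.conjNormal k q * y) * w := by
          rw [map_mul, map_mul, map_inv, hconj]; group
        rw [← hHQ k hkH (y⁻¹ * q * y), e2, Q.mul_mem_cancel_right hw,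
          Q.mul_mem_cancel_left (Q.inv_mem hw)]
      refine Subgroup.mem_normalizer_iff.2 fun g => ?_
      constructor
      · rintro ⟨q, hq, rfl⟩
        exact ⟨MulAut.conjNormal k q, (hmapQ' q).2 hq, MulAut.conjNormal_apply k q⟩
      · rintro ⟨q, hq, hqe⟩
        refine ⟨MulAut.conjNormal k⁻¹ q, ?_, ?_⟩
        · refine (hmapQ' _).1 ?_
          rwa [map_inv, MulAut.apply_inv_self]
        · change ((MulAut.conjNormal k⁻¹ q : N) : G) = g
          rw [MulAut.conjNormal_apply, show (q : G) = k * g * k⁻¹ from hqe]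
          group
    have h1 : h⁻¹ * h' = 1 := by
      rw [← Subgroup.mem_bot, ← hbot]
      exact ⟨(H : Subgroup G).mul_mem ((H : Subgroup G).inv_mem hh) hh', hMeq ▸ hk⟩
    obtain rfl := inv_mul_eq_one.1 h1
    obtain rfl := mul_left_cancel heq'
    rfl
  have h256 : 256 ≤ Nat.card B := by
    refine le_trans (le_of_eq ?_) (Nat.card_le_card_of_injective F hF)
    rw [Nat.card_prod, hH, hinter _ hH]
  -- but each class has fewer elements
  let toPerm : B → Perm (Fin 6) := fun u => ((f (u : N) : alternatingGroup (Fin 6)) : Perm (Fin 6))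
  have htoPerm : Function.Injective toPerm := fun u v huv =>
    Subtype.ext (f.injective (Subtype.ext huv))
  have hP : ∀ u : N, P u ↔
      (rot * rot * ((f u : Perm (Fin 6)) * (rot * rot) * (f u : Perm (Fin 6))⁻¹)) ^ 3 = 1 := by
    intro u
    change (z * (u * z * u⁻¹)) ^ 3 = 1 ↔ _
    rw [← f.map_eq_one_iff, map_pow, map_mul, map_mul, map_mul, map_inv, f.apply_symm_apply,
      Subtype.ext_iff]
    rfl
  have hcond : ∀ u : B, (∀ q ∈ elems, q ≠ 1 → (toPerm u)⁻¹ * q * toPerm u ∉ elems) ∧
      Perm.sign (toPerm u) = 1 := by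
    intro u
    refine ⟨fun q hq hq1 hmem => ?_, Perm.mem_alternatingGroup.1 (f (u : N)).2⟩
    let qa : alternatingGroup (Fin 6) := ⟨q, Perm.mem_alternatingGroup.2 (elems_sign _ hq)⟩
    refine u.2.1 (f.symm qa) ((hQ _).2 (by rw [f.apply_symm_apply]; exact hq)) (fun h1 => hq1 ?_) ?_
    · have := congrArg (fun v : N => (f v : Perm (Fin 6))) h1
      simpa [qa] using this
    · rw [hQ, map_mul, map_mul, map_inv, f.apply_symm_apply]
      exact hmem
  have hbound : ∀ (S : Finset (Perm (Fin 6))), (∀ u : B, toPerm u ∈ S) → S.card < 256 → False := by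
    intro S hS hlt
    have := Nat.card_le_card_of_injective (fun u : B => (⟨toPerm u, hS u⟩ : S))
      (fun u v huv => htoPerm (congrArg (fun s : S => (s : Perm (Fin 6))) huv))
    rw [Nat.card_eq_fintype_card (α := S), Fintype.card_coe] at this
    omega
  by_cases hy3 : P y
  · exact hbound _ (fun u => Finset.mem_filter.2 ⟨Finset.mem_univ _, (hcond u).1,
      (hP _).1 (u.2.2.2 hy3), (hcond u).2⟩) count_three
  · exact hbound _ (fun u => Finset.mem_filter.2 ⟨Finset.mem_univ _, (hcond u).1,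
      fun h => hy3 (u.2.2.1 ((hP _).2 h)), (hcond u).2⟩) count_not_three

end Cfsg.Agent.Perm.AutSixSylow
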