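import Mathlib

/-!
# A Sylow 2-subgroup of the alternating group of degree six

Computations on a dihedral subgroup of order eight of `A₆`.
-/

set_option autoImplicit false

namespace Cfsg.Agent.Perm.AutSixSylow

open Equiv

/-- An element of order four. -/
def rot : Perm (Fin 6) := swap 0 1 * swap 1 2 * swap 2 3 * swap 4 5

/-- An involution inverting `rot`. -/
def refl' : Perm (Fin 6) := swap 0 2 * swap 4 5

/-- The elements of the dihedral group. -/
def elems : List (Perm (Fin 6)) :=
  [1, rot, rot * rot, rot * rot * rot, refl', rot * refl', rot * rot * refl',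
    rot * rot * rot * refl']

theorem elems_nodup : elems.Nodup := by decide +kernel

theorem elems_sign : ∀ q ∈ elems, Perm.sign q = 1 := by decide +kernel

theorem elems_mul : ∀ x ∈ elems, ∀ y ∈ elems, x * y ∈ elems := by decide +kernel

theorem elems_inv : ∀ x ∈ elems, x⁻¹ ∈ elems := by decide +kernel

theorem square_eq : ∀ q ∈ elems, q * q ≠ 1 → q * q = rot * rot := by decide +kernel

theorem rot_sq_central : ∀ q ∈ elems, q * (rot * rot) * q⁻¹ = rot * rot := by decide +kernel

/-! The remaining checks run over tables of values, as evaluation of `Perm (Fin 6)` in the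
kernel is too costly. -/

/-- The table of values of a permutation. -/
def toT (g : Perm (Fin 6)) : List ℕ :=
  [(g 0).val, (g 1).val, (g 2).val, (g 3).val, (g 4).val, (g 5).val]

/-- The value of a table at a point. -/
def app (l : List ℕ) (i : ℕ) : ℕ := l.getD i 0

theorem app_toT (g : Perm (Fin 6)) (i : Fin 6) : app (toT g) i.val = (g i).val := by
  fin_cases i <;> rfl

theorem toT_injective : Function.Injective toT := fun g h e =>
  Equiv.ext fun i => Fin.ext (by rw [← app_toT g, ← app_toT h, e])

/-- Composition of tables. -/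
def comp (a b : List ℕ) : List ℕ := b.map (app a)

theorem toT_mul (g h : Perm (Fin 6)) : toT (g * h) = comp (toT g) (toT h) := by
  rw [show comp (toT g) (toT h) = [app (toT g) (h 0).val, app (toT g) (h 1).val,
    app (toT g) (h 2).val, app (toT g) (h 3).val, app (toT g) (h 4).val,
    app (toT g) (h 5).val] from rfl]
  simp only [app_toT]
  rfl

/-- The tables of the dihedral group. -/
def table : List (List ℕ) :=
  [[0, 1, 2, 3, 4, 5], [1, 2, 3, 0, 5, 4], [2, 3, 0, 1, 4, 5], [3, 0, 1, 2, 5, 4],
    [2, 1, 0, 3, 5, 4], [3, 2, 1, 0, 4, 5], [0, 3, 2, 1, 5, 4], [1, 0, 3, 2, 4, 5]]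

theorem table_eq : elems.map toT = table := by decide +kernel

theorem rot_sq_eq : toT (rot * rot) = [2, 3, 0, 1, 4, 5] := by decide +kernel

theorem toT_mem {g : Perm (Fin 6)} : toT g ∈ table ↔ g ∈ elems := by
  rw [← table_eq, List.mem_map]
  exact ⟨fun ⟨q, hq, e⟩ => toT_injective e ▸ hq, fun h => ⟨g, h, rfl⟩⟩

/-- All tables of permutations. -/
def tables : List (List ℕ) :=
  let r := [0, 1, 2, 3, 4, 5]
  r.flatMap fun a => (r.filter (· != a)).flatMap fun b =>
    (r.filter fun c => c != a && c != b).flatMap fun c =>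
      (r.filter fun d => d != a && d != b && d != c).flatMap fun d =>
        (r.filter fun e => e != a && e != b && e != c && e != d).flatMap fun e =>
          (r.filter fun f => f != a && f != b && f != c && f != d && f != e).map fun f =>
            [a, b, c, d, e, f]

theorem toT_mem_tables (g : Perm (Fin 6)) : toT g ∈ tables := by
  have hm : ∀ i : Fin 6, i.val ∈ [0, 1, 2, 3, 4, 5] := by decide
  have hne : ∀ i j : Fin 6, i ≠ j → (g i).val ≠ (g j).val := fun i j h e =>
    h (g.injective (Fin.ext e))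
  simp only [tables, toT, List.mem_flatMap, List.mem_filter, List.mem_map, bne_iff_ne,
    Bool.and_eq_true]
  exact ⟨_, hm _, _, ⟨hm _, hne 1 0 (by decide)⟩, _,
    ⟨hm _, hne 2 0 (by decide), hne 2 1 (by decide)⟩, _,
    ⟨hm _, ⟨hne 3 0 (by decide), hne 3 1 (by decide)⟩, hne 3 2 (by decide)⟩, _,
    ⟨hm _, ⟨⟨hne 4 0 (by decide), hne 4 1 (by decide)⟩, hne 4 2 (by decide)⟩,
      hne 4 3 (by decide)⟩, _,
    ⟨hm _, ⟨⟨⟨hne 5 0 (by decide), hne 5 1 (by decide)⟩, hne 5 2 (by decide)⟩,
      hne 5 3 (by decide)⟩, hne 5 4 (by decide)⟩, rfl⟩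

/-- Whether a table normalises the group. -/
def normalises (l : List ℕ) : Bool := table.all fun q => table.any fun r => comp l q == comp r l

/-- Whether a table, or its product with the transposition of the last two points, is in the
group. -/
def nearly (l : List ℕ) : Bool :=
  table.contains l || table.contains (comp l [0, 1, 2, 3, 5, 4])

theorem normalizer_aux : (tables.all fun l => !normalises l || nearly l) = true := by
  decide +kernel

theorem swap_eq : toT (swap 4 5) = [0, 1, 2, 3, 5, 4] := by decide +kernel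

theorem normalizer_le (g : Perm (Fin 6)) (hg : ∀ q ∈ elems, g * q * g⁻¹ ∈ elems)
    (hs : Perm.sign g = 1) : g ∈ elems := by
  have h1 : normalises (toT g) = true := by
    rw [normalises, List.all_eq_true]
    intro q hq
    rw [← table_eq, List.mem_map] at hq
    obtain ⟨p, hp, rfl⟩ := hq
    exact List.any_eq_true.2 ⟨toT (g * p * g⁻¹), toT_mem.2 (hg p hp), by
      rw [← toT_mul, ← toT_mul, inv_mul_cancel_right, beq_self_eq_true]⟩
  have h2 := List.all_eq_true.1 normalizer_aux _ (toT_mem_tables g)
  rw [h1, Bool.not_true, Bool.false_or, nearly, Bool.or_eq_true, List.contains_iff_mem,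
    List.contains_iff_mem, ← swap_eq, ← toT_mul, toT_mem, toT_mem] at h2
  refine h2.resolve_right fun h => ?_
  have := elems_sign _ h
  rw [Perm.sign_mul, hs, one_mul, Perm.sign_swap (by decide)] at this
  exact absurd this (by decide)

/-- The inverse table. -/
def inv' (l : List ℕ) : List ℕ := [0, 1, 2, 3, 4, 5].map fun i => l.idxOf i

theorem toT_inv (g : Perm (Fin 6)) : toT g⁻¹ = inv' (toT g) := by
  have hlist : toT g = (List.finRange 6).map fun j => (g j).val := rfl
  have hinj : Function.Injective fun j : Fin 6 => (g j).val :=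
    Fin.val_injective.comp g.injective
  have key : ∀ j : Fin 6, (toT g).idxOf (g j).val = j.val := by
    intro j
    rw [hlist]
    have h := (List.nodup_finRange 6).map hinj
    have := h.idxOf_getElem j.val (by simp)
    simpa using this
  have key' : ∀ i : Fin 6, (g⁻¹ i).val = (toT g).idxOf i.val := fun i => by
    have := key (g⁻¹ i)
    simpa using this.symm
  rw [show inv' (toT g) = [(toT g).idxOf (0 : Fin 6).val, (toT g).idxOf (1 : Fin 6).val,
    (toT g).idxOf (2 : Fin 6).val, (toT g).idxOf (3 : Fin 6).val, (toT g).idxOf (4 : Fin 6).val,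
    (toT g).idxOf (5 : Fin 6).val] from rfl]
  simp only [← key']
  rfl

/-- Whether a table moves the group to a trivially intersecting conjugate. -/
def apart (l : List ℕ) : Bool :=
  table.tail.all fun q => table.all fun r => !(comp q l == comp l r)

/-- Whether the product of the two centres has order dividing three. -/
def cube (l : List ℕ) : Bool :=
  let z := [2, 3, 0, 1, 4, 5]
  let w := comp z (comp (comp l z) (inv' l))
  comp w (comp w w) == [0, 1, 2, 3, 4, 5]

theorem cube_toT (g : Perm (Fin 6)) :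
    cube (toT g) = true ↔ (rot * rot * (g * (rot * rot) * g⁻¹)) ^ 3 = 1 := by
  rw [← toT_injective.eq_iff, pow_three, toT_mul, toT_mul (rot * rot * _), toT_mul (rot * rot),
    toT_mul (g * _), toT_mul g, toT_inv, rot_sq_eq]
  exact beq_iff_eq

theorem apart_toT {g : Perm (Fin 6)} (h : ∀ q ∈ elems, q ≠ 1 → g⁻¹ * q * g ∉ elems) :
    apart (toT g) = true := by
  rw [apart, List.all_eq_true]
  intro q hq
  rw [List.all_eq_true]
  intro r hr
  rw [← table_eq, List.mem_map] at hr
  rw [← table_eq, ← List.map_tail, List.mem_map] at hq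
  obtain ⟨p, hp, rfl⟩ := hq
  obtain ⟨s, hs, rfl⟩ := hr
  rw [← toT_mul, ← toT_mul, Bool.not_eq_true', beq_eq_false_iff_ne]
  intro e
  refine h p (List.mem_of_mem_tail hp) ?_ ?_
  · rintro rfl
    exact absurd hp (by decide +kernel)
  · rwa [mul_assoc, toT_injective e, inv_mul_cancel_left]

theorem card_lt (P Q : Perm (Fin 6) → Prop) [DecidablePred P] [DecidablePred Q]
    (c : List ℕ → Bool) (h : ∀ g, Q g → c (toT g) = true) (hlen : (tables.filter c).length ≤ 256)
    (g₀ : Perm (Fin 6)) (h₀ : Q g₀) (hP : ∀ g, P g → Q g ∧ g ≠ g₀) :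
    ((Finset.univ : Finset (Perm (Fin 6))).filter P).card < 256 :=
  lt_of_lt_of_le (Finset.card_lt_card
    ((Finset.ssubset_iff_of_subset fun g hg => Finset.mem_filter.2
      ⟨Finset.mem_univ _, (hP g (Finset.mem_filter.1 hg).2).1⟩).2
      ⟨g₀, Finset.mem_filter.2 ⟨Finset.mem_univ _, h₀⟩,
        fun hg => (hP g₀ (Finset.mem_filter.1 hg).2).2 rfl⟩))
    (((Finset.card_le_card_of_injOn toT (s := Finset.univ.filter Q)
      (t := (tables.filter c).toFinset)
      (fun g hg => List.mem_toFinset.2 (List.mem_filter.2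
        ⟨toT_mem_tables g, h g (Finset.mem_filter.1 hg).2⟩))
      toT_injective.injOn).trans (List.toFinset_card_le _)).trans hlen)

theorem length_three : (tables.filter fun l => apart l && cube l).length ≤ 256 := by
  decide +kernel

theorem length_not_three : (tables.filter fun l => apart l && !cube l).length ≤ 256 := by
  decide +kernel

theorem count_three : ((Finset.univ : Finset (Perm (Fin 6))).filter
    (fun g => (∀ q ∈ elems, q ≠ 1 → g⁻¹ * q * g ∉ elems) ∧
      (rot * rot * (g * (rot * rot) * g⁻¹)) ^ 3 = 1 ∧ Perm.sign g = 1)).card < 256 :=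
  card_lt _ (fun g => (∀ q ∈ elems, q ≠ 1 → g⁻¹ * q * g ∉ elems) ∧
      (rot * rot * (g * (rot * rot) * g⁻¹)) ^ 3 = 1) _
    (fun g ⟨h1, h2⟩ => by rw [apart_toT h1, (cube_toT g).2 h2]; rfl) length_three
    (swap 3 4) (by decide +kernel)
    (fun g ⟨h1, h2, h3⟩ => ⟨⟨h1, h2⟩, by rintro rfl; exact absurd h3 (by decide +kernel)⟩)

theorem count_not_three : ((Finset.univ : Finset (Perm (Fin 6))).filter
    (fun g => (∀ q ∈ elems, q ≠ 1 → g⁻¹ * q * g ∉ elems) ∧
      ¬ (rot * rot * (g * (rot * rot) * g⁻¹)) ^ 3 = 1 ∧ Perm.sign g = 1)).card < 256 :=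
  card_lt _ (fun g => (∀ q ∈ elems, q ≠ 1 → g⁻¹ * q * g ∉ elems) ∧
      ¬ (rot * rot * (g * (rot * rot) * g⁻¹)) ^ 3 = 1) _
    (fun g ⟨h1, h2⟩ => by
      rw [apart_toT h1, Bool.eq_false_iff.2 (mt (cube_toT g).1 h2)]; rfl) length_not_three
    (swap 2 3 * swap 3 4 * swap 4 5) (by decide +kernel)
    (fun g ⟨h1, h2, h3⟩ => ⟨⟨h1, h2⟩, by rintro rfl; exact absurd h3 (by decide +kernel)⟩)

end Cfsg.Agent.Perm.AutSixSylow
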