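import Mathlib
import Cfsg.Prelude.Def_Solvable
import Cfsg.Agent.Lib.Characters.Frobenius
import Cfsg.Agent.Lib.Perm.RegularNormal
import Cfsg.Agent.Lib.Perm.CentralizerTransitive
import Cfsg.Agent.Lib.Perm.CharSimple
import Cfsg.Agent.Lib.Perm.NormalPrimitive

/-! Burnside's theorem on minimal normal subgroups of doubly transitive groups. -/

set_option autoImplicit false

namespace Cfsg.Agent.Perm.Burnside

open MulAction
open scoped Pointwise

variable {α : Type*}

theorem isBlock_translate_of_normal {G : Type*} [Group G] [MulAction G α] {N : Subgroup G}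
    [hn : N.Normal] {B : Set α} (hB : IsBlock N B) (g : G) : IsBlock N (g • B) := by
  rw [isBlock_iff_smul_eq_or_disjoint] at hB ⊢
  intro n
  have hn' : g⁻¹ * (n : G) * g ∈ N := by simpa using hn.conj_mem _ n.2 g⁻¹
  have h : n • g • B = g • (⟨_, hn'⟩ : N) • B := by
    show (n : G) • g • B = g • (g⁻¹ * (n : G) * g) • B
    rw [smul_smul, smul_smul, mul_assoc, mul_inv_cancel_left]
  rw [h]
  rcases hB ⟨_, hn'⟩ with h' | h'
  · left; rw [h']
  · right
    exact Set.disjoint_image_of_injective (MulAction.injective g) h'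

/-- In an imprimitive normal subgroup of a doubly transitive group, an element fixing two points
is trivial. -/
theorem eq_one_of_fix_two {G : Type*} [Group G] [Finite α] [MulAction G α] [FaithfulSMul G α]
    (h2 : IsMultiplyPretransitive G α 2) {N : Subgroup G} [N.Normal]
    (hNt : IsPretransitive N α) (hNp : ¬ IsPreprimitive N α) (x : N) {a b : α} (hab : a ≠ b)
    (hxa : x • a = a) (hxb : x • b = b) : x = 1 := by
  classical
  have hex : ∃ B : Set α, IsBlock N B ∧ ¬ B.Subsingleton ∧ B ≠ Set.univ := by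
    by_contra h
    push Not at h
    refine hNp { isTrivialBlock_of_isBlock := fun {B} hB => ?_ }
    by_cases hs : B.Subsingleton
    · exact Or.inl hs
    · exact Or.inr (h B hB (Set.not_subsingleton_iff.1 hs))
  obtain ⟨B, ⟨hB, hBs, hBu⟩, hmin⟩ :=
    (Set.toFinite {B : Set α | IsBlock N B ∧ ¬ B.Subsingleton ∧ B ≠ Set.univ}).exists_minimal hex
  obtain ⟨p, hp, q, hq, hpq⟩ := Set.not_subsingleton_iff.1 hBs
  -- lines
  have huniq : ∀ g g' : G, ∀ u v : α, u ≠ v → u ∈ g • B → v ∈ g • B → u ∈ g' • B →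
      v ∈ g' • B → g • B = g' • B := by
    have key : ∀ g g' : G, ∀ u v : α, u ≠ v → u ∈ g • B → v ∈ g • B → u ∈ g' • B →
        v ∈ g' • B → g • B ⊆ g' • B := by
      intro g g' u v huv hu hv hu' hv'
      have hC : IsBlock N (g⁻¹ • (g • B ∩ g' • B)) :=
        isBlock_translate_of_normal
          ((isBlock_translate_of_normal hB g).inter (isBlock_translate_of_normal hB g')) g⁻¹
      have hCB : g⁻¹ • (g • B ∩ g' • B) ⊆ B := by
        rintro _ ⟨w, hw, rfl⟩
        exact Set.mem_smul_set_iff_inv_smul_mem.1 hw.1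
      have hC' : ¬ (g⁻¹ • (g • B ∩ g' • B)).Subsingleton := fun h =>
        huv (MulAction.injective g⁻¹ (h (Set.smul_mem_smul_set ⟨hu, hu'⟩)
          (Set.smul_mem_smul_set ⟨hv, hv'⟩)))
      have hBC : B ⊆ g⁻¹ • (g • B ∩ g' • B) :=
        hmin ⟨hC, hC', fun h => hBu (Set.univ_subset_iff.1 (h ▸ hCB))⟩ hCB
      intro w hw
      have := Set.smul_set_mono (a := g) hBC hw
      rw [smul_inv_smul] at this
      exact this.2
    exact fun g g' u v huv hu hv hu' hv' => Set.Subset.antisymm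
      (key g g' u v huv hu hv hu' hv') (key g' g u v huv hu' hv' hu hv)
  have hline : ∀ u v : α, u ≠ v → ∃ g : G, u ∈ g • B ∧ v ∈ g • B := by
    intro u v huv
    obtain ⟨g, h1, h2⟩ := is_two_pretransitive_iff.1 h2 hpq huv
    exact ⟨g, ⟨p, hp, h1⟩, ⟨q, hq, h2⟩⟩
  have hinv : ∀ g : G, ∀ u : α, x • u = u → u ∈ g • B → ∀ w ∈ g • B, x • w ∈ g • B := by
    intro g u hxu hu w hw
    have := (isBlock_translate_of_normal hB g).stabilizer_le hu (mem_stabilizer_iff.2 hxu)
    rw [mem_stabilizer_iff] at this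
    rw [← this]
    exact Set.smul_mem_smul_set hw
  obtain ⟨gab, ha, hb⟩ := hline a b hab
  have hout : ∀ c, c ∉ gab • B → x • c = c := by
    intro c hc
    have hca : a ≠ c := fun h => hc (h ▸ ha)
    have hcb : b ≠ c := fun h => hc (h ▸ hb)
    obtain ⟨g1, h1a, h1c⟩ := hline a c hca
    obtain ⟨g2, h2b, h2c⟩ := hline b c hcb
    by_contra hne
    have he := huniq g1 g2 c (x • c) (Ne.symm hne) h1c (hinv g1 a hxa h1a c h1c) h2c
      (hinv g2 b hxb h2b c h2c)
    have he' := huniq g1 gab a b hab h1a (he ▸ h2b) ha hb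
    exact hc (he' ▸ h1c)
  obtain ⟨d, hd⟩ : ∃ d, d ∉ gab • B := by
    by_contra h
    push Not at h
    apply hBu
    rw [← Set.eq_univ_iff_forall] at h
    rw [← inv_smul_smul gab B, h, Set.smul_set_univ]
  refine Subtype.ext (FaithfulSMul.eq_of_smul_eq_smul (α := α) fun c => ?_)
  rw [OneMemClass.coe_one, one_smul]
  show x • c = c
  by_cases hc : c ∈ gab • B
  · by_contra hne
    have hdc : d ≠ c := fun h => hd (h ▸ hc)
    obtain ⟨g3, h3d, h3c⟩ := hline d c hdc
    have he := huniq g3 gab c (x • c) (Ne.symm hne) h3c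
      (hinv g3 d (hout d hd) h3d c h3c) hc (hinv gab a hxa ha c hc)
    exact hd (he ▸ h3d)
  · exact hout c hc

/-- A minimal normal subgroup of a doubly transitive group is regular or primitive. -/
theorem isPreprimitive_of_minimal {G : Type*} [Group G] [Finite G] [Finite α] [MulAction G α]
    [FaithfulSMul G α] (h2 : IsMultiplyPretransitive G α 2) (N : Subgroup G) [hn : N.Normal]
    (hmin : ∀ M : Subgroup G, M.Normal → M ≤ N → M = ⊥ ∨ M = N) (hNt : IsPretransitive N α)
    (a : α) (ha : stabilizer N a ≠ ⊥) : IsPreprimitive N α := by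
  by_contra hNp
  have hfix2 := eq_one_of_fix_two h2 hNt hNp
  obtain ⟨u, v, huv⟩ : ∃ u v : α, u ≠ v := by
    by_contra h
    push Not at h
    exact hNp { isTrivialBlock_of_isBlock := fun {B} _ => Or.inl fun u _ v _ => h u v }
  have hH : Cfsg.IsFrobeniusComplement (stabilizer N a) := by
    refine ⟨ha, fun h => huv ?_, fun g hg => ?_⟩
    · obtain ⟨s, rfl⟩ := exists_smul_eq N a u
      obtain ⟨t, rfl⟩ := exists_smul_eq N a v
      have hs : s ∈ stabilizer N a := h ▸ Subgroup.mem_top s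
      have ht : t ∈ stabilizer N a := h ▸ Subgroup.mem_top t
      rw [mem_stabilizer_iff.1 hs, mem_stabilizer_iff.1 ht]
    · refine (Subgroup.eq_bot_iff_forall _).2 fun x hx => ?_
      obtain ⟨hx1, hx2⟩ := Subgroup.mem_inf.1 hx
      rw [Cfsg.Agent.Characters.mem_conj_smul_iff, mem_stabilizer_iff, mul_smul, mul_smul,
        inv_smul_eq_iff] at hx2
      exact hfix2 x (Ne.symm fun h => hg h) hx1 hx2
  obtain ⟨K, hK, -, hKc⟩ := Cfsg.Agent.Characters.frobenius_kernel_theorem hH
  have hmem : ∀ x : N, x ∈ K ↔ x = 1 ∨ ∀ c : α, x • c ≠ c := by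
    intro x
    rw [← SetLike.mem_coe, hK, Cfsg.Agent.Characters.mem_frobeniusKernel_iff]
    refine or_congr_right ⟨fun h c hc => ?_, fun h g hg => ?_⟩
    · obtain ⟨g, rfl⟩ := exists_smul_eq N a c
      apply h g
      rw [mem_stabilizer_iff, mul_smul, mul_smul, hc, inv_smul_smul]
    · rw [mem_stabilizer_iff, mul_smul, mul_smul, inv_smul_eq_iff] at hg
      exact h _ hg
  have hKn : (K.map N.subtype).Normal := by
    refine ⟨fun x hx g => ?_⟩
    obtain ⟨k, hk, rfl⟩ := hx
    refine ⟨⟨g * k * g⁻¹, hn.conj_mem _ k.2 g⟩, ?_, rfl⟩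
    rw [SetLike.mem_coe, hmem]
    rcases (hmem k).1 hk with rfl | hk'
    · exact Or.inl (Subtype.ext (by simp))
    · refine Or.inr fun c hc => hk' (g⁻¹ • c) ?_
      have hc' : (g * (k : G) * g⁻¹) • c = c := hc
      rw [mul_smul, mul_smul] at hc'
      exact eq_inv_smul_iff.2 hc'
  rcases hmin _ hKn (Subgroup.map_subtype_le K) with h | h
  · have hK' : K = ⊥ := (Subgroup.map_eq_bot_iff_of_injective K N.subtype_injective).1 h
    rw [hK'] at hKc
    exact hH.2.1 (Subgroup.isComplement'_bot_left.1 hKc)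
  · have hK' : K = ⊤ := Subgroup.map_injective N.subtype_injective (by
      rw [h, ← MonoidHom.range_eq_map, Subgroup.range_subtype])
    refine ha ((Subgroup.eq_bot_iff_forall _).2 fun x hx => ?_)
    exact ((hmem x).1 (hK' ▸ Subgroup.mem_top x)).resolve_right fun h => h a hx

/-- The same orbit point under two commuting semiregular elements comes from equal orders. -/
theorem orderOf_eq_of_comm {G : Type*} [Group G] [MulAction G α] {M₁ M₂ : Subgroup G}
    (hc : ∀ u w : G, u ∈ M₁ → w ∈ M₂ → Commute u w) {a : α} (h₁ : stabilizer M₁ a = ⊥)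
    (h₂ : stabilizer M₂ a = ⊥) {u w : G} (hu : u ∈ M₁) (hw : w ∈ M₂) (he : w • a = u • a) :
    orderOf u = orderOf w := by
  have hk : ∀ k : ℕ, w ^ k • a = u ^ k • a := by
    intro k
    induction k with
    | zero => simp
    | succ k ih =>
      rw [pow_succ', mul_smul, ih, ← mul_smul, ← ((hc u w hu hw).pow_left k).eq, mul_smul, he,
        ← mul_smul, ← pow_succ]
  refine orderOf_eq_orderOf_iff.2 fun k => ⟨fun h => ?_, fun h => ?_⟩
  · have hm : (⟨w ^ k, M₂.pow_mem hw k⟩ : M₂) ∈ stabilizer M₂ a := by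
      show (w ^ k) • a = a
      rw [hk, h, one_smul]
    rw [h₂, Subgroup.mem_bot] at hm
    exact congrArg Subtype.val hm
  · have hm : (⟨u ^ k, M₁.pow_mem hu k⟩ : M₁) ∈ stabilizer M₁ a := by
      show (u ^ k) • a = a
      rw [← hk, h, one_smul]
    rw [h₁, Subgroup.mem_bot] at hm
    exact congrArg Subtype.val hm

/-- A non-regular minimal normal subgroup of a doubly transitive group is simple. -/
theorem isSimpleGroup_of_minimal [Finite α] (G : Subgroup (Equiv.Perm α))
    (h2 : IsMultiplyPretransitive G α 2) (N : Subgroup G) [hn : N.Normal] (hN : N ≠ ⊥)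
    (hmin : ∀ M : Subgroup G, M.Normal → M ≤ N → M = ⊥ ∨ M = N) (hNp : IsPreprimitive N α)
    (a : α) (ha : stabilizer N a ≠ ⊥) : IsSimpleGroup N := by
  classical
  obtain ⟨m, V, hm, hV, hinj, hind, hsup, hsimple, hconj⟩ :=
    Cfsg.Agent.Perm.CharSimple.exists_decomposition_minimal_normal N hN hmin
  set i₀ : Fin m := ⟨0, hm⟩
  rcases Nat.lt_or_ge m 2 with hm1 | hm2
  · obtain rfl : m = 1 := by omega
    have h1 : V i₀ = ⊤ := by
      rw [← top_le_iff, ← hsup, iSup_le_iff]
      intro i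
      rw [Subsingleton.elim i i₀]
    have := hsimple i₀
    exact ((Subgroup.topEquiv.symm.trans (MulEquiv.subgroupCongr h1.symm)).isSimpleGroup)
  exfalso
  set i₁ : Fin m := ⟨1, hm2⟩
  have h01 : i₀ ≠ i₁ := by simp [i₀, i₁, Fin.ext_iff]
  let W : Fin m → Subgroup G := fun i => (V i).map N.subtype
  have : FaithfulSMul N α := ⟨fun {x y} h => Subtype.ext (FaithfulSMul.eq_of_smul_eq_smul h)⟩
  have hWt : ∀ i, IsPretransitive (W i) α := by
    intro i
    have := (hV i).1
    have ht := Cfsg.Agent.Perm.NormalPrimitive.isPretransitive_of_normal inferInstance (V i)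
      (hV i).2.1 (G := N) (X := α)
    refine ⟨fun u v => ?_⟩
    obtain ⟨t, ht'⟩ := exists_smul_eq (V i) u v
    exact ⟨⟨_, t, t.2, rfl⟩, ht'⟩
  have hWc : ∀ i j, i ≠ j → ∀ u w : G, u ∈ W i → w ∈ W j → u * w = w * u := by
    rintro i j hij _ _ ⟨u, hu, rfl⟩ ⟨w, hw, rfl⟩
    exact congrArg (fun z : N => (z : G))
      ((hV i).commute (hV j) (fun he => hij (hinj he)) u w hu hw).eq
  have hnea : Nonempty α := ⟨a⟩
  -- there are exactly two factors
  have htwo : ∀ j, j = i₀ ∨ j = i₁ := by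
    intro j
    by_contra h
    push Not at h
    have hsub : V j ≤ V i₁ := by
      intro u hu
      have he := Cfsg.Agent.Perm.CentralizerTransitive.centralizer_eq_of_comm (W i₀) (W i₁)
        (hWt i₀) (hWt i₁) (hWc i₀ i₁ h01)
      have hu' : ((u : G) : Equiv.Perm α) ∈ (W i₁).map G.subtype := by
        rw [← he, Subgroup.mem_centralizer_iff]
        rintro _ ⟨w, hw, rfl⟩
        exact congrArg Subtype.val (hWc i₀ j (Ne.symm h.1) w u hw ⟨u, hu, rfl⟩)
      obtain ⟨w, ⟨t, ht, rfl⟩, hwu⟩ := hu'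
      have : t = u := Subtype.ext (Subtype.ext hwu)
      exact this ▸ ht
    have := hV j
    rcases (hV i₁).2.2 (V j) (hV j).1 hsub with h' | h'
    · exact (hV j).2.1 h'
    · exact h.2 (hinj h')
  have hreg₀ := Cfsg.Agent.Perm.CentralizerTransitive.stabilizer_eq_bot_of_comm (W i₁) (W i₀)
    (hWt i₁) (hWc i₁ i₀ h01.symm)
  have hreg₁ := Cfsg.Agent.Perm.CentralizerTransitive.stabilizer_eq_bot_of_comm (W i₀) (W i₁)
    (hWt i₀) (hWc i₀ i₁ h01)
  -- all non-trivial elements of the first factor have the same order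
  have hord : ∀ u v : G, u ∈ W i₀ → v ∈ W i₀ → u ≠ 1 → v ≠ 1 → orderOf u = orderOf v := by
    intro u v hu hv hu1 hv1
    have hne : ∀ w : G, w ∈ W i₀ → w ≠ 1 → w • a ≠ a := by
      intro w hw hw1 he
      have : (⟨w, hw⟩ : W i₀) ∈ stabilizer (W i₀) a := he
      rw [hreg₀ a, Subgroup.mem_bot] at this
      exact hw1 (congrArg Subtype.val this)
    obtain ⟨g, hga, hgv⟩ :=
      is_two_pretransitive_iff.1 h2 (hne v hv hv1).symm (hne u hu hu1).symm
    have hga' : g⁻¹ • a = a := inv_smul_eq_iff.2 hga.symm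
    obtain ⟨t, ht, rfl⟩ := hv
    obtain ⟨i, hi⟩ : ∃ i, g * (t : G) * g⁻¹ ∈ W i := by
      have h1 := (hV i₀).map (MulAut.conjNormal g : MulAut N)
      by_contra hnot
      push Not at hnot
      have hne' : ∀ i, (V i₀).map (MulAut.conjNormal g : MulAut N).toMonoidHom ≠ V i := by
        intro i hi
        refine hnot i ⟨(MulAut.conjNormal g : MulAut N) t, hi ▸ ⟨t, ht, rfl⟩, ?_⟩
        exact MulAut.conjNormal_apply g t
      have hsub : (V i₀).map (MulAut.conjNormal g : MulAut N).toMonoidHom ≤ V i₁ := by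
        intro w hw
        have he := Cfsg.Agent.Perm.CentralizerTransitive.centralizer_eq_of_comm (W i₀) (W i₁)
          (hWt i₀) (hWt i₁) (hWc i₀ i₁ h01)
        have hw' : ((w : G) : Equiv.Perm α) ∈ (W i₁).map G.subtype := by
          rw [← he, Subgroup.mem_centralizer_iff]
          rintro _ ⟨_, ⟨s, hs, rfl⟩, rfl⟩
          exact congrArg (fun z : N => ((z : G) : Equiv.Perm α))
            (((hV i₀).commute h1 (fun he => hne' i₀ he.symm) s w hs hw).eq)
        obtain ⟨_, ⟨s, hs, rfl⟩, hsw⟩ := hw'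
        have : s = w := Subtype.ext (Subtype.ext hsw)
        exact this ▸ hs
      rcases (hV i₁).2.2 _ h1.1 hsub with h' | h'
      · exact h1.2.1 h'
      · exact hne' i₁ h'
    have hpt : (g * (t : G) * g⁻¹) • a = u • a := by
      rw [mul_smul, mul_smul, hga']
      exact hgv
    have hconj' : orderOf (g * (t : G) * g⁻¹) = orderOf (t : G) := by
      exact (MulAut.conj g).orderOf_eq (t : G)
    rcases htwo i with rfl | rfl
    · have h1 : (⟨_, hi⟩ : W i₀) = ⟨u, hu⟩ :=
        (Cfsg.Agent.Perm.Basic.orbitMap_bijective (W i₀) (hWt i₀) hreg₀ a).injective hpt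
      have h1' : g * (t : G) * g⁻¹ = u := congrArg Subtype.val h1
      rw [← h1']
      exact hconj'
    · rw [orderOf_eq_of_comm (fun x y hx hy => hWc i₀ i₁ h01 x y hx hy) (hreg₀ a) (hreg₁ a)
        hu hi hpt]
      exact hconj'
  have : Nontrivial (V i₀) := (Subgroup.nontrivial_iff_ne_bot _).2 (hV i₀).2.1
  have hc1 : Nat.card (V i₀) ≠ 1 := Finite.one_lt_card.ne'
  set p := (Nat.card (V i₀)).minFac
  have hpp : p.Prime := Nat.minFac_prime hc1
  have : Fact p.Prime := ⟨hpp⟩
  obtain ⟨x, hx⟩ := exists_prime_orderOf_dvd_card' (G := V i₀) p (Nat.minFac_dvd _)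
  have hpg : IsPGroup p (V i₀) := by
    intro y
    by_cases hy : y = 1
    · exact ⟨0, by simp [hy]⟩
    refine ⟨1, ?_⟩
    rw [pow_one, ← hx]
    have hx1 : x ≠ 1 := fun hh => by simp [hh] at hx; exact hpp.ne_one hx.symm
    have he := hord ((y : N) : G) ((x : N) : G) ⟨y, y.2, rfl⟩ ⟨x, x.2, rfl⟩
      (fun h => hy (Subtype.ext (Subtype.ext h))) (fun h => hx1 (Subtype.ext (Subtype.ext h)))
    rw [Subgroup.orderOf_coe, Subgroup.orderOf_coe, Subgroup.orderOf_coe,
      Subgroup.orderOf_coe] at he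
    rw [← he, pow_orderOf_eq_one]
  have := hsimple i₀
  have hcomm : ∀ u w : V i₀, u * w = w * u := by
    intro u w
    rcases IsSimpleGroup.eq_bot_or_eq_top_of_normal (Subgroup.center (V i₀)) inferInstance with
      h | h
    · have := hpg.center_nontrivial
      rw [h] at this
      exact absurd (inferInstance : Subsingleton (⊥ : Subgroup (V i₀))) (not_subsingleton _)
    · exact (Subgroup.mem_center_iff.1 (h ▸ Subgroup.mem_top w) u)
  have hab₀ : ∀ u w : G, u ∈ W i₀ → w ∈ W i₀ → u * w = w * u := by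
    rintro _ _ ⟨u, hu, rfl⟩ ⟨w, hw, rfl⟩
    exact congrArg (fun z : V i₀ => ((z : N) : G)) (hcomm ⟨u, hu⟩ ⟨w, hw⟩)
  have he := Cfsg.Agent.Perm.CentralizerTransitive.centralizer_eq_of_comm (W i₀) (W i₀)
    (hWt i₀) (hWt i₀) hab₀
  have he' := Cfsg.Agent.Perm.CentralizerTransitive.centralizer_eq_of_comm (W i₀) (W i₁)
    (hWt i₀) (hWt i₁) (hWc i₀ i₁ h01)
  rw [he] at he'
  exact h01 (hinj (Subgroup.map_injective N.subtype_injective
    (Subgroup.map_injective G.subtype_injective he')))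

end Cfsg.Agent.Perm.Burnside
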