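import Mathlib

/-!
# Babai's bound on the minimal degree of a primitive group

For a group that is not doubly transitive, two distinct points are distinguished by at least
`(√n - 1) / 2` points; for a doubly transitive group, averaging gives two conjugates meeting in
one point, hence a 3-cycle.
-/

set_option autoImplicit false
set_option linter.unusedSectionVars false

namespace Cfsg.Agent.Perm.MinimalDegree

open Finset

variable {G Ω : Type*} [Group G] [MulAction G Ω] [Fintype Ω]

variable (G) in
/-- Two pairs of points in one orbit. -/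
def Rel (p q : Ω × Ω) : Prop := ∃ g : G, g • p = q

theorem rel_refl (p : Ω × Ω) : Rel G p p := ⟨1, one_smul _ _⟩

theorem rel_symm {p q : Ω × Ω} : Rel G p q → Rel G q p := by
  rintro ⟨g, rfl⟩
  exact ⟨g⁻¹, inv_smul_smul g p⟩

theorem rel_trans {p q r : Ω × Ω} : Rel G p q → Rel G q r → Rel G p r := by
  rintro ⟨g, rfl⟩ ⟨h, rfl⟩
  exact ⟨h * g, mul_smul h g p⟩

theorem rel_smul (g : G) (p : Ω × Ω) : Rel G p (g • p) := ⟨g, rfl⟩

theorem rel_swap {p q : Ω × Ω} : Rel G p q → Rel G p.swap q.swap := by
  rintro ⟨g, rfl⟩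
  exact ⟨g, rfl⟩

theorem rel_diag {x y z : Ω} (h : Rel G (x, x) (y, z)) : y = z := by
  obtain ⟨g, hg⟩ := h
  exact (congrArg Prod.fst hg).symm.trans (congrArg Prod.snd hg)

open Classical in
variable (G) in
/-- The number of points distinguishing `x` from `y`. -/
noncomputable def D (x y : Ω) : ℕ := #{z | ¬ Rel G (x, z) (y, z)}

theorem D_self (x : Ω) : D G x x = 0 := by
  simp [D, rel_refl]

theorem D_symm (x y : Ω) : D G x y = D G y x := by
  classical
  unfold D
  congr 1
  exact filter_congr fun z _ => not_congr ⟨rel_symm, rel_symm⟩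

theorem D_triangle (x y z : Ω) : D G x z ≤ D G x y + D G y z := by
  classical
  refine (card_le_card fun w hw => ?_).trans (card_union_le _ _)
  simp only [mem_filter, mem_univ, true_and, mem_union] at hw ⊢
  by_contra h
  push Not at h
  exact hw (rel_trans h.1 h.2)

theorem D_smul (g : G) (x y : Ω) : D G (g • x) (g • y) = D G x y := by
  classical
  unfold D
  refine (card_bij (fun z _ => g • z) (fun z hz => ?_) (fun _ _ _ _ h => MulAction.injective g h)
    fun z hz => ⟨g⁻¹ • z, ?_, smul_inv_smul g z⟩).symm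
  · simp only [mem_filter, mem_univ, true_and] at hz ⊢
    exact fun h => hz (rel_trans (rel_trans (rel_smul g (x, z)) h) (rel_symm (rel_smul g (y, z))))
  · simp only [mem_filter, mem_univ, true_and] at hz ⊢
    intro h
    apply hz
    have h1 := rel_trans (rel_symm (rel_smul g (x, g⁻¹ • z))) (rel_trans h (rel_smul g (y, g⁻¹ • z)))
    rwa [Prod.smul_mk, Prod.smul_mk, smul_inv_smul] at h1

theorem D_congr {x y u v : Ω} (h : Rel G (x, y) (u, v)) : D G x y = D G u v := by
  obtain ⟨g, hg⟩ := h
  rw [Prod.smul_mk, Prod.mk.injEq] at hg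
  rw [← hg.1, ← hg.2, D_smul]

variable (G) in
/-- The orbital graph of a pair, orientation forgotten. -/
def graph (a b : Ω) : SimpleGraph Ω := SimpleGraph.fromRel fun x y => Rel G (a, b) (x, y)

theorem adj_iff {a b x y : Ω} :
    (graph G a b).Adj x y ↔ x ≠ y ∧ (Rel G (a, b) (x, y) ∨ Rel G (a, b) (y, x)) :=
  SimpleGraph.fromRel_adj _ _ _

theorem adj_smul {a b : Ω} (g : G) {x y : Ω} (h : (graph G a b).Adj x y) :
    (graph G a b).Adj (g • x) (g • y) := by
  rw [adj_iff] at h ⊢
  exact ⟨fun e => h.1 (MulAction.injective g e), h.2.imp (fun h' => rel_trans h' (rel_smul g _))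
    fun h' => rel_trans h' (rel_smul g _)⟩

theorem D_of_adj {a b x y : Ω} (h : (graph G a b).Adj x y) : D G x y = D G a b := by
  rcases (adj_iff.1 h).2 with h | h
  · exact (D_congr h).symm
  · exact (D_symm x y).trans (D_congr h).symm

/-- Translation by a group element as a map of the graph. -/
def smulHom (a b : Ω) (g : G) : graph G a b →g graph G a b :=
  ⟨fun x => g • x, fun h => adj_smul g h⟩

section Connected

variable [MulAction.IsPreprimitive G Ω] {a b : Ω}

theorem connected (hab : a ≠ b) : (graph G a b).Connected := by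
  classical
  haveI : Nonempty Ω := ⟨a⟩
  set Γ := graph G a b
  let B : Set Ω := {x | Γ.Reachable a x}
  have hB : MulAction.IsBlock G B := by
    rw [MulAction.isBlock_iff_smul_eq_of_nonempty]
    rintro g ⟨_, ⟨u, hu, rfl⟩, hgu⟩
    have hga : Γ.Reachable a (g • a) := hgu.trans (hu.map (smulHom a b g)).symm
    apply Set.eq_of_subset_of_ncard_le ?_ ?_ (Set.toFinite _)
    · rintro _ ⟨x, hx, rfl⟩
      exact hga.trans (hx.map (smulHom a b g))
    · exact (Set.ncard_image_of_injective _ (MulAction.injective g)).ge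
  rcases hB.subsingleton_or_eq_univ with h | h
  · refine absurd (h (SimpleGraph.Reachable.refl a) (SimpleGraph.Adj.reachable ?_)) hab
    exact adj_iff.2 ⟨hab, Or.inl (rel_refl _)⟩
  · exact ⟨fun x y => (h ▸ Set.mem_univ x : x ∈ B).symm.trans (h ▸ Set.mem_univ y : y ∈ B)⟩

theorem dist_smul (hab : a ≠ b) (g : G) (x y : Ω) :
    (graph G a b).dist (g • x) (g • y) = (graph G a b).dist x y := by
  have key : ∀ (g : G) x y, (graph G a b).dist (g • x) (g • y) ≤ (graph G a b).dist x y := by
    intro g x y
    obtain ⟨w, hw⟩ := (connected (G := G) hab).exists_walk_length_eq_dist x y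
    calc _ ≤ (w.map (smulHom a b g)).length := SimpleGraph.dist_le _
      _ = _ := by rw [SimpleGraph.Walk.length_map, hw]
  refine le_antisymm (key g x y) ?_
  simpa using key g⁻¹ (g • x) (g • y)

theorem dist_congr (hab : a ≠ b) {x y u v : Ω} (h : Rel G (x, y) (u, v)) :
    (graph G a b).dist x y = (graph G a b).dist u v := by
  obtain ⟨g, hg⟩ := h
  rw [Prod.smul_mk, Prod.mk.injEq] at hg
  rw [← hg.1, ← hg.2, dist_smul hab]

theorem D_le_walk {x y : Ω} (w : (graph G a b).Walk x y) : D G x y ≤ w.length * D G a b := by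
  induction w with
  | nil => simp [D_self]
  | @cons u v z h p ih =>
    rw [SimpleGraph.Walk.length_cons, add_mul, one_mul]
    have h1 := D_triangle (G := G) u v z
    rw [D_of_adj h] at h1
    omega

theorem D_le_dist (hab : a ≠ b) (x y : Ω) : D G x y ≤ (graph G a b).dist x y * D G a b := by
  obtain ⟨w, hw⟩ := (connected (G := G) hab).exists_walk_length_eq_dist x y
  exact hw ▸ D_le_walk w

/-- A geodesic. -/
theorem exists_geodesic (hab : a ≠ b) (x y : Ω) : ∃ f : ℕ → Ω, f 0 = x ∧
    f ((graph G a b).dist x y) = y ∧ ∀ i j, i ≤ j → j ≤ (graph G a b).dist x y →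
      (graph G a b).dist (f i) (f j) = j - i := by
  obtain ⟨w, hw⟩ := (connected (G := G) hab).exists_walk_length_eq_dist x y
  refine ⟨w.getVert, w.getVert_zero, hw ▸ w.getVert_length, fun i j hij hj => ?_⟩
  have hle : ∀ i j, i ≤ j → (graph G a b).dist (w.getVert i) (w.getVert j) ≤ j - i := by
    intro i j hij
    have h1 := SimpleGraph.dist_le ((w.drop i).take (j - i))
    simp only [SimpleGraph.Walk.drop_getVert, Nat.add_sub_cancel' hij,
      SimpleGraph.Walk.take_length] at h1
    exact h1.trans (min_le_left _ _)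
  refine le_antisymm (hle i j hij) ?_
  have h1 : (graph G a b).dist x (w.getVert i) ≤ i := by simpa using hle 0 i (Nat.zero_le i)
  have h2 := hle j w.length (by omega)
  rw [w.getVert_length] at h2
  have h3 := (connected (G := G) hab).dist_triangle (u := x) (v := w.getVert i) (w := y)
  have h4 := (connected (G := G) hab).dist_triangle (u := w.getVert i) (v := w.getVert j) (w := y)
  omega

theorem dist_add_one_le (hab : a ≠ b) {x y : Ω} (hxy : x ≠ y) :
    (graph G a b).dist x y + 1 ≤ D G a b := by
  classical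
  obtain ⟨f, hf0, hfd, hf⟩ := exists_geodesic (G := G) hab x y
  set d := (graph G a b).dist x y with hd
  have hd1 : 1 ≤ d := (connected hab).pos_dist_of_ne hxy
  have hadj : (graph G a b).Adj (f 0) (f 1) := SimpleGraph.dist_eq_one_iff_adj.1 (hf 0 1 zero_le_one hd1)
  rw [← D_of_adj hadj]
  calc d + 1 = ((range (d + 1)).image f).card := by
        rw [card_image_of_injOn, card_range]
        intro i hi j hj hij
        simp only [coe_range, Set.mem_Iio] at hi hj
        have h1 := hf 0 i (Nat.zero_le _) (by omega)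
        have h2 := hf 0 j (Nat.zero_le _) (by omega)
        rw [hij] at h1
        omega
    _ ≤ D G (f 0) (f 1) := by
        refine card_le_card fun z hz => ?_
        obtain ⟨j, hj, rfl⟩ := mem_image.1 hz
        rw [Finset.mem_range] at hj
        simp only [mem_filter, mem_univ, true_and]
        intro h
        have h1 := dist_congr hab h
        rw [hf 0 j (Nat.zero_le _) (by omega)] at h1
        rcases Nat.eq_zero_or_pos j with rfl | hj0
        · rw [SimpleGraph.dist_comm, hf 0 1 zero_le_one hd1] at h1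
          omega
        · rw [hf 1 j hj0 (by omega)] at h1
          omega

theorem D_lt_sq (hab : a ≠ b) {x y : Ω} (hxy : x ≠ y) : D G x y < D G a b * D G a b := by
  have h1 := D_le_dist (G := G) hab x y
  have h2 := dist_add_one_le (G := G) hab hxy
  have h3 : ((graph G a b).dist x y + 1) * D G a b ≤ D G a b * D G a b := Nat.mul_le_mul_right _ h2
  rw [add_mul, one_mul] at h3
  omega

end Connected

section Classes

variable [MulAction.IsPretransitive G Ω]

open Classical in
variable (G) in
/-- The out-neighbours of `x` in the orbital of `(a, b)`. -/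
noncomputable def out (a b x : Ω) : Finset Ω := {z | Rel G (a, b) (x, z)}

theorem mem_out {a b x z : Ω} : z ∈ out G a b x ↔ Rel G (a, b) (x, z) := by simp [out]

theorem card_out (a b x y : Ω) : #(out G a b x) = #(out G a b y) := by
  classical
  have key : ∀ x y : Ω, #(out G a b x) ≤ #(out G a b y) := by
    intro x y
    obtain ⟨g, rfl⟩ := MulAction.exists_smul_eq G x y
    refine card_le_card_of_injOn (fun z => g • z) (fun z hz => ?_) (MulAction.injective g).injOn
    exact mem_out.2 (rel_trans (mem_out.1 hz) (rel_smul g (x, z)))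
  exact le_antisymm (key x y) (key y x)

/-- The in-valency equals the out-valency. -/
theorem card_out_swap (a b x : Ω) : #(out G b a x) = #(out G a b x) := by
  classical
  have h := sum_card_bipartiteAbove_eq_sum_card_bipartiteBelow (s := (univ : Finset Ω))
    (t := (univ : Finset Ω)) (fun u v => Rel G (a, b) (u, v))
  have h1 : ∀ u : Ω, #(bipartiteAbove (fun u v => Rel G (a, b) (u, v)) univ u) = #(out G a b x) := by
    intro u
    rw [card_out a b x u]
    rfl
  have h2 : ∀ u : Ω, #(bipartiteBelow (fun u v => Rel G (a, b) (u, v)) univ u) = #(out G b a x) := by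
    intro u
    rw [card_out b a x u]
    congr 1
    ext v
    simp only [bipartiteBelow, mem_filter, mem_univ, true_and, mem_out]
    exact ⟨fun h => rel_swap h, fun h => rel_swap h⟩
  simp only [h1, h2, sum_const, smul_eq_mul] at h
  exact (Nat.eq_of_mul_eq_mul_left (card_pos.2 ⟨x, mem_univ _⟩) h).symm

end Classes

section Bound

variable [MulAction.IsPreprimitive G Ω]

theorem bound_of_small {a b : Ω} (hab : a ≠ b)
    (hsmall : ∀ u v : Ω, u ≠ v → 4 * #(out G u v u) ≤ 3 * Fintype.card Ω) :
    Fintype.card Ω ≤ (2 * D G a b + 1) ^ 2 := by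
  classical
  haveI : Nontrivial Ω := ⟨a, b, hab⟩
  have hn : 2 ≤ Fintype.card Ω := Fintype.one_lt_card
  have hsum : Fintype.card Ω * Fintype.card Ω ≤ ∑ x, 4 * D G x a := by
    have h1 : ∀ z, Fintype.card Ω ≤ 4 * #{x | ¬ Rel G (x, z) (a, z)} := by
      intro z
      have h2 := card_filter_add_card_filter_not (s := (univ : Finset Ω))
        (fun x => Rel G (x, z) (a, z))
      rw [card_univ] at h2
      suffices h3 : 4 * #{x | Rel G (x, z) (a, z)} ≤ 3 * Fintype.card Ω by omega
      by_cases hz : a = z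
      · subst hz
        have h4 : #{x | Rel G (x, a) (a, a)} ≤ 1 := card_le_one.2 fun x hx y hy => by
          rw [mem_filter] at hx hy
          exact (rel_diag (rel_symm hx.2)).trans (rel_diag (rel_symm hy.2)).symm
        omega
      · have h4 : ({x | Rel G (x, z) (a, z)} : Finset Ω) = out G z a z := by
          ext x
          simp only [mem_filter, mem_univ, true_and, mem_out]
          exact ⟨fun h => rel_swap (rel_symm h), fun h => rel_symm (rel_swap h)⟩
        rw [h4]
        exact hsmall z a (Ne.symm hz)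
    calc Fintype.card Ω * Fintype.card Ω ≤ ∑ z, 4 * #{x | ¬ Rel G (x, z) (a, z)} := by
          have := sum_le_sum (s := (univ : Finset Ω)) fun z _ => h1 z
          rwa [sum_const, card_univ, smul_eq_mul] at this
      _ = ∑ x, 4 * D G x a := by
          rw [← mul_sum, ← mul_sum]
          congr 1
          exact (sum_card_bipartiteAbove_eq_sum_card_bipartiteBelow
            (fun x z => ¬ Rel G (x, z) (a, z))).symm
  obtain ⟨x, -, hx⟩ := exists_le_of_sum_le (s := (univ : Finset Ω)) (f := fun _ => Fintype.card Ω)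
    (g := fun x => 4 * D G x a) univ_nonempty (by rwa [sum_const, card_univ, smul_eq_mul])
  have hxa : x ≠ a := by
    rintro rfl
    simp only [D_self] at hx
    omega
  have := D_lt_sq (G := G) hab hxa
  nlinarith

variable {A B : Ω} (hAB : A ≠ B) (hbig : 3 * Fintype.card Ω < 4 * #(out G A B A))

include hAB hbig

theorem big_symm : Rel G (A, B) (B, A) := by
  classical
  have h1 : #(out G B A A) = #(out G A B A) := card_out_swap A B A
  have h2 := card_union_add_card_inter (out G A B A) (out G B A A)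
  have h3 := card_le_univ (out G A B A ∪ out G B A A)
  obtain ⟨z, hz⟩ := card_pos.1 (by omega : 0 < #(out G A B A ∩ out G B A A))
  rw [mem_inter, mem_out, mem_out] at hz
  exact rel_trans hz.1 (rel_symm hz.2)

open Classical in
/-- The neighbourhood in the complement of the big orbital. -/
theorem exists_rho {a b : Ω} (hab : a ≠ b) (hne : ¬ Rel G (A, B) (a, b)) :
    ∃ ρ : ℕ, Fintype.card Ω ≤ (ρ + 1) ^ 2 ∧ ρ ≤ D G A B := by
  classical
  have hsymm := big_symm hAB hbig
  have hM : ∀ x y, Rel G (A, B) (x, y) → Rel G (A, B) (y, x) := fun x y h =>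
    rel_trans hsymm (rel_swap h)
  let N : Ω → Finset Ω := fun x => {z | z ≠ x ∧ ¬ Rel G (A, B) (x, z)}
  have hN : ∀ x z, z ∈ N x ↔ z ≠ x ∧ ¬ Rel G (A, B) (x, z) := fun x z => by simp [N]
  have hNs : ∀ x z, z ∈ N x → x ∈ N z := fun x z h => by
    rw [hN] at h ⊢
    exact ⟨Ne.symm h.1, fun h' => h.2 (hM _ _ h')⟩
  set nM := #(out G A B A) with hnM
  have hρ : ∀ x, #(N x) + nM + 1 = Fintype.card Ω := by
    intro x
    have h2 := card_filter_add_card_filter_not (s := (univ.erase x : Finset Ω))
      (fun z => Rel G (A, B) (x, z))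
    have h3 : (univ.erase x).filter (fun z => Rel G (A, B) (x, z)) = out G A B x := by
      ext z
      simp only [mem_filter, mem_erase, mem_univ, and_true, mem_out, and_iff_right_iff_imp]
      rintro h rfl
      exact hAB (rel_diag (rel_symm h))
    have h4 : (univ.erase x).filter (fun z => ¬ Rel G (A, B) (x, z)) = N x := by
      ext z
      simp [N]
    rw [h3, h4, card_erase_of_mem (mem_univ _), card_univ, card_out A B x A] at h2
    have : 0 < Fintype.card Ω := Fintype.card_pos_iff.2 ⟨A⟩
    omega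
  set ρ := #(N A) with hρA
  have hρ' : ∀ x, #(N x) = ρ := fun x => by have := hρ x; have := hρ A; omega
  set μ := #(N A ∩ N B) with hμ
  have hμ' : ∀ x z, Rel G (A, B) (x, z) → #(N x ∩ N z) = μ := by
    rintro x z ⟨g, hg⟩
    rw [Prod.smul_mk, Prod.mk.injEq] at hg
    rw [← hg.1, ← hg.2]
    have key : ∀ (g : G) (x y : Ω), y ∈ N x → g • y ∈ N (g • x) := fun g x y h => by
      rw [hN] at h ⊢
      exact ⟨fun e => h.1 (MulAction.injective g e),
        fun h' => h.2 (rel_trans h' (rel_symm (rel_smul g (x, y))))⟩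
    refine (card_bij (fun y _ => g • y) (fun y hy => ?_) (fun _ _ _ _ h => MulAction.injective g h)
      fun y hy => ⟨g⁻¹ • y, ?_, smul_inv_smul g y⟩).symm
    · rw [mem_inter] at hy ⊢
      exact ⟨key g A y hy.1, key g B y hy.2⟩
    · rw [mem_inter] at hy ⊢
      have e1 := key g⁻¹ _ _ hy.1
      have e2 := key g⁻¹ _ _ hy.2
      rw [inv_smul_smul] at e1 e2
      exact ⟨e1, e2⟩
  -- double counting the common neighbours
  have hcount : nM * μ ≤ ρ * ρ := by
    calc nM * μ = ∑ z ∈ out G A B A, #(N A ∩ N z) := by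
          rw [sum_congr rfl fun z hz => hμ' A z (mem_out.1 hz), sum_const, smul_eq_mul]
      _ ≤ ∑ z, #(N A ∩ N z) := sum_le_sum_of_subset (subset_univ _)
      _ = ∑ z, #(bipartiteAbove (fun z w => w ∈ N z) (N A) z) := by
          refine sum_congr rfl fun z _ => ?_
          congr 1
      _ = ∑ w ∈ N A, #(bipartiteBelow (fun z w => w ∈ N z) univ w) :=
          sum_card_bipartiteAbove_eq_sum_card_bipartiteBelow _
      _ ≤ ρ * ρ := by
          rw [← smul_eq_mul]
          refine sum_le_card_nsmul _ _ _ fun w _ => ?_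
          rw [← hρ' w]
          exact card_le_card fun z hz => hNs _ _ (mem_filter.1 hz).2
  -- some pair of the big orbital has a common neighbour
  have hμ1 : 1 ≤ μ := by
    obtain ⟨f, hf0, hfd, hf⟩ := exists_geodesic (G := G) hab A B
    have hnadj : ∀ x y, (graph G a b).Adj x y → y ∈ N x := fun x y h => by
      obtain ⟨hxy, h⟩ := adj_iff.1 h
      refine (hN _ _).2 ⟨hxy.symm, fun h' => hne ?_⟩
      rcases h with h | h
      · exact rel_trans h' (rel_symm h)
      · exact rel_trans (hM _ _ h') (rel_symm h)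
    let Γ : SimpleGraph Ω := SimpleGraph.fromRel fun x y => y ∈ N x
    have hadj : ∀ x y, Γ.Adj x y ↔ y ∈ N x := fun x y => by
      rw [SimpleGraph.fromRel_adj]
      exact ⟨fun h => h.2.elim id (hNs y x), fun h => ⟨Ne.symm ((hN _ _).1 h).1, Or.inl h⟩⟩
    have hconn : Γ.Connected :=
      (connected (G := G) hab).mono fun x y h => (hadj x y).2 (hnadj x y h)
    obtain ⟨w, hw⟩ := hconn.exists_walk_length_eq_dist A B
    have h2 : 2 ≤ w.length := by
      rcases Nat.lt_or_ge w.length 2 with h | h
      · exfalso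
        rw [hw] at h
        rcases Nat.le_one_iff_eq_zero_or_eq_one.1 (Nat.lt_succ_iff.1 h) with h0 | h1
        · exact hAB (hconn.dist_eq_zero_iff.1 h0)
        · exact ((hN _ _).1 ((hadj _ _).1 (SimpleGraph.dist_eq_one_iff_adj.1 h1))).2 (rel_refl _)
      · exact h
    have a1 : Γ.Adj (w.getVert 0) (w.getVert 1) := w.adj_getVert_succ (by omega)
    have a2 : Γ.Adj (w.getVert 1) (w.getVert 2) := w.adj_getVert_succ (by omega)
    have hnot : ¬ Γ.Adj (w.getVert 0) (w.getVert 2) ∧ w.getVert 0 ≠ w.getVert 2 := by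
      have hd := hconn.dist_triangle (u := A) (v := w.getVert 2) (w := B)
      have hd2 := SimpleGraph.dist_le (w.drop 2)
      rw [SimpleGraph.Walk.drop_length] at hd2
      rw [w.getVert_zero]
      constructor
      · intro h
        rw [← SimpleGraph.dist_eq_one_iff_adj] at h
        omega
      · intro h
        rw [← h, SimpleGraph.dist_self] at hd
        rw [← h] at hd2
        omega
    have hrel : Rel G (A, B) (w.getVert 0, w.getVert 2) := by
      by_contra h
      exact hnot.1 ((hadj _ _).2 ((hN _ _).2 ⟨Ne.symm hnot.2, h⟩))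
    rw [← hμ' _ _ hrel]
    exact card_pos.2 ⟨w.getVert 1, mem_inter.2 ⟨(hadj _ _).1 a1, hNs _ _ ((hadj _ _).1 a2)⟩⟩
  have hsub : (N A \ N B) ∪ (N B \ N A) ⊆ ({z | ¬ Rel G (A, z) (B, z)} : Finset Ω) := by
    intro z hz
    simp only [mem_union, mem_sdiff, hN] at hz
    simp only [mem_filter, mem_univ, true_and]
    intro h
    rcases hz with ⟨⟨hzA, h1⟩, h2⟩ | ⟨⟨hzB, h1⟩, h2⟩
    · by_cases hzB : z = B
      · subst hzB; exact hAB (rel_diag (rel_symm h))
      · push Not at h2
        exact h1 (rel_trans (h2 hzB) (rel_symm h))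
    · by_cases hzA : z = A
      · subst hzA; exact hAB (rel_diag h).symm
      · push Not at h2
        exact h1 (rel_trans (h2 hzA) h)
  have hD : #(N A \ N B) + #(N B \ N A) ≤ D G A B := by
    rw [← card_union_of_disjoint disjoint_sdiff_sdiff]
    exact card_le_card hsub
  have e1 := card_sdiff_add_card_inter (N A) (N B)
  have e2 := card_sdiff_add_card_inter (N B) (N A)
  rw [inter_comm, hρ' B] at e2
  have hA' := hρ A
  refine ⟨ρ, ?_, ?_⟩
  · nlinarith
  · have : 2 * μ ≤ ρ := by nlinarith
    omega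

theorem bound_of_big {a b : Ω} (hab : a ≠ b) (hne : ¬ Rel G (A, B) (a, b)) :
    Fintype.card Ω ≤ (2 * D G a b + 1) ^ 2 ∧ Fintype.card Ω ≤ (2 * D G A B + 1) ^ 2 := by
  classical
  obtain ⟨ρ, hn, hρ⟩ := exists_rho hAB hbig hab hne
  refine ⟨?_, hn.trans (Nat.pow_le_pow_left (by omega) 2)⟩
  obtain ⟨f, hf0, hfd, hf⟩ := exists_geodesic (G := G) hab A B
  set δ := (graph G a b).dist A B with hδ
  have hDM : D G A B ≤ δ * D G a b := D_le_dist hab A B
  rcases Nat.lt_or_ge δ 3 with hlt | hge
  · have : δ * D G a b ≤ 2 * D G a b := Nat.mul_le_mul_right _ (by omega)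
    exact hn.trans (Nat.pow_le_pow_left (by omega) 2)
  let Nb : Ω → Finset Ω := fun x => {y | (graph G a b).Adj x y}
  have hNb : ∀ x y, y ∈ Nb x ↔ (graph G a b).Adj x y := fun x y => by simp [Nb]
  have hk : ∀ x y, #(Nb x) ≤ #(Nb y) := by
    intro x y
    obtain ⟨g, rfl⟩ := MulAction.exists_smul_eq G x y
    exact card_le_card_of_injOn (fun z => g • z) (fun z hz => (hNb _ _).2 (adj_smul g ((hNb _ _).1 hz)))
      (MulAction.injective g).injOn
  -- neighbourhoods at distance three are disjoint
  have h3 : (graph G a b).dist (f 0) (f 3) = 3 := hf 0 3 (by omega) hge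
  have hDk : 2 * #(Nb A) ≤ 3 * D G a b := by
    have h1 := D_le_dist (G := G) hab (f 0) (f 3)
    rw [h3] at h1
    refine le_trans ?_ h1
    have hdis : Disjoint (Nb (f 0)) (Nb (f 3)) := disjoint_left.2 fun z hz hz' => by
      have := (connected (G := G) hab).dist_triangle (u := f 0) (v := z) (w := f 3)
      rw [h3, SimpleGraph.dist_eq_one_iff_adj.2 ((hNb _ _).1 hz), SimpleGraph.dist_comm,
        SimpleGraph.dist_eq_one_iff_adj.2 ((hNb _ _).1 hz')] at this
      omega
    have hsub : Nb (f 0) ∪ Nb (f 3) ⊆ ({z | ¬ Rel G (f 0, z) (f 3, z)} : Finset Ω) := by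
      intro z hz
      rw [mem_union, hNb, hNb] at hz
      simp only [mem_filter, mem_univ, true_and]
      intro h
      have e := dist_congr hab h
      have := (connected (G := G) hab).dist_triangle (u := f 0) (v := z) (w := f 3)
      rw [h3, SimpleGraph.dist_comm (u := z) (v := f 3), ← e] at this
      rcases hz with hz | hz
      · rw [SimpleGraph.dist_eq_one_iff_adj.2 hz] at this
        omega
      · rw [e, SimpleGraph.dist_eq_one_iff_adj.2 hz] at this
        omega
    have := card_le_card hsub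
    rw [card_union_of_disjoint hdis] at this
    have := hk A (f 0)
    have := hk A (f 3)
    change _ ≤ #_
    omega
  have hDM' : #(out G A B A) ≤ #(Nb A) * D G a b := by
    have hsub : out G A B A ⊆ (Nb A).biUnion fun y => ({z | ¬ Rel G (A, z) (y, z)} : Finset Ω) := by
      intro z hz
      rw [mem_out] at hz
      have hdz : (graph G a b).dist A z = δ := (dist_congr hab hz).symm
      obtain ⟨f', hf'0, hf'd, hf'⟩ := exists_geodesic (G := G) hab A z
      rw [hdz] at hf'd hf'
      refine mem_biUnion.2 ⟨f' 1, (hNb _ _).2 ?_, ?_⟩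
      · rw [← SimpleGraph.dist_eq_one_iff_adj, ← hf'0]
        exact hf' 0 1 zero_le_one (by omega)
      · simp only [mem_filter, mem_univ, true_and]
        intro h
        have e := dist_congr hab h
        rw [hdz, ← hf'd, hf' 1 δ (by omega) le_rfl] at e
        omega
    refine (card_le_card hsub).trans (card_biUnion_le.trans ?_)
    rw [← smul_eq_mul]
    refine sum_le_card_nsmul _ _ _ fun y hy => le_of_eq ?_
    exact D_of_adj ((hNb _ _).1 hy)
  nlinarith

end Bound

section DoublyTransitive

open Equiv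

variable [DecidableEq Ω]

theorem exists_threeCycle [FaithfulSMul G Ω] [Finite G] [MulAction.IsPreprimitive G Ω]
    (h2 : ∀ x y u v : Ω, x ≠ y → u ≠ v → Rel G (x, y) (u, v)) {g : G} (hg : g ≠ 1)
    (hsmall : (2 * #(Finset.univ.filter fun x : Ω => g • x ≠ x) + 1) ^ 2 < Fintype.card Ω) :
    ∃ σ ∈ (MulAction.toPermHom G Ω).range, σ.IsThreeCycle := by
  classical
  haveI := Fintype.ofFinite G
  set S : Finset Ω := {x | g • x ≠ x} with hS
  have hmem : ∀ x, x ∈ S ↔ g • x ≠ x := fun x => by simp [hS]
  obtain ⟨a, ha⟩ : ∃ a, a ∈ S := by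
    by_contra h
    push Not at h
    exact hg (eq_of_smul_eq_smul (α := Ω) fun x => by
      rw [one_smul]
      by_contra h'
      exact h x ((hmem x).2 h'))
  -- averaging over the stabiliser of `a`
  let H : Finset G := {h | h • a = a}
  let cnt : Ω → Ω → ℕ := fun s t => #(H.filter fun h => h • s = t)
  have hcnt : ∀ s s' t t', s ≠ a → s' ≠ a → t ≠ a → t' ≠ a → cnt s t ≤ cnt s' t' := by
    intro s s' t t' hs hs' ht ht'
    obtain ⟨u, hu⟩ := h2 a s' a s hs'.symm hs.symm
    obtain ⟨v, hv⟩ := h2 a t a t' ht.symm ht'.symm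
    rw [Prod.smul_mk, Prod.mk.injEq] at hu hv
    refine card_le_card_of_injOn (fun h => v * h * u) (fun h hh => ?_) fun h _ h' _ e => by
      simpa using e
    simp only [H, coe_filter, mem_filter, mem_univ, true_and, Set.mem_setOf_eq] at hh ⊢
    simp only [mul_smul, hu.1, hu.2, hh.1, hh.2, hv.1, hv.2, and_self]
  set m := #S with hm
  have hone : ∃ h ∈ H, ∀ s ∈ S, s ≠ a → h • s ∈ S → False := by
    by_contra hno
    push Not at hno
    obtain ⟨b, hb⟩ : ∃ b, b ≠ a := ⟨g • a, (hmem a).1 ha⟩
    have htot : #H = (Fintype.card Ω - 1) * cnt b b := by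
      have hmap : ∀ h ∈ H, h • b ∈ (univ.erase a : Finset Ω) := fun h hh => by
        refine mem_erase.2 ⟨fun e => hb ?_, mem_univ _⟩
        simp only [H, mem_filter, mem_univ, true_and] at hh
        exact MulAction.injective h (e.trans hh.symm)
      rw [card_eq_sum_card_fiberwise hmap,
        sum_congr rfl fun t ht => le_antisymm (hcnt b b t b hb hb (mem_erase.1 ht).1 hb)
          (hcnt b b b t hb hb hb (mem_erase.1 ht).1),
        sum_const, card_erase_of_mem (mem_univ _), card_univ, smul_eq_mul]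
    have hle : #H ≤ ((m - 1) * (m - 1)) * cnt b b := by
      calc #H ≤ #(((S.erase a) ×ˢ (S.erase a)).biUnion
            fun p => H.filter fun h => h • p.1 = p.2) := by
            refine card_le_card fun h hh => ?_
            obtain ⟨s, hs, hsa, hts⟩ := hno h hh
            refine mem_biUnion.2 ⟨(s, h • s), mem_product.2 ⟨mem_erase.2 ⟨hsa, hs⟩,
              mem_erase.2 ⟨fun e => hsa ?_, hts.1⟩⟩, mem_filter.2 ⟨hh, rfl⟩⟩
            simp only [H, mem_filter, mem_univ, true_and] at hh
            exact MulAction.injective h (e.trans hh.symm)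
        _ ≤ ∑ p ∈ (S.erase a) ×ˢ (S.erase a), cnt p.1 p.2 := card_biUnion_le
        _ ≤ _ := by
            refine (sum_le_card_nsmul _ _ (cnt b b) fun p hp => ?_).trans_eq ?_
            · rw [mem_product, mem_erase, mem_erase] at hp
              exact hcnt _ _ _ _ hp.1.1 hb hp.2.1 hb
            · rw [card_product, card_erase_of_mem ha, smul_eq_mul]
    have hpos : 0 < cnt b b := card_pos.2 ⟨1, by simp [H]⟩
    have hlt : (m - 1) * (m - 1) < Fintype.card Ω - 1 := by
      have h1 : (m - 1) * (m - 1) ≤ m * m := Nat.mul_le_mul (Nat.sub_le _ _) (Nat.sub_le _ _)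
      have h3 : m * m + 1 < (2 * m + 1) ^ 2 := by
        have : 0 < m := card_pos.2 ⟨a, ha⟩
        nlinarith
      omega
    have := Nat.mul_lt_mul_of_pos_right hlt hpos
    omega
  obtain ⟨h, hh, hone⟩ := hone
  simp only [H, mem_filter, mem_univ, true_and] at hh
  -- `g` and its conjugate by `h` have supports meeting in `a` only
  set g' := h * g * h⁻¹ with hg'
  have hmem' : ∀ x, g' • x ≠ x ↔ h⁻¹ • x ∈ S := fun x => by
    rw [hmem, hg', mul_smul, mul_smul]
    exact not_congr ⟨fun e => MulAction.injective h (e.trans (smul_inv_smul h x).symm),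
      fun e => by rw [e, smul_inv_smul]⟩
  have hinv : h⁻¹ • a = a := inv_smul_eq_iff.2 hh.symm
  have honly : ∀ x, g • x ≠ x → g' • x ≠ x → x = a := fun x h1 h3 => by
    by_contra hxa
    refine hone (h⁻¹ • x) ((hmem' x).1 h3) (fun e => hxa ?_) (by rwa [smul_inv_smul, hmem])
    exact MulAction.injective h⁻¹ (e.trans hinv.symm)
  have ha' : g' • a ≠ a := (hmem' a).2 (by rwa [hinv])
  have haS : g • a ≠ a := (hmem a).1 ha
  have mvd : ∀ (k : G) (x : Ω), k • x ≠ x → k • (k • x) ≠ k • x := fun k x hx e =>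
    hx (MulAction.injective k e)
  have moveInv : ∀ (k : G) (x : Ω), k • x ≠ x → k • (k⁻¹ • x) ≠ k⁻¹ • x := fun k x hx e => by
    rw [smul_inv_smul] at e
    exact hx (smul_eq_iff_eq_inv_smul k |>.2 e)
  set b := g • a with hb
  set c := g' • a with hc
  have hbfix : g' • b = b := by
    by_contra e
    exact haS (honly b (mvd g a haS) e)
  have hcfix : g • c = c := by
    by_contra e
    exact ha' (honly c e (mvd g' a ha'))
  have hbc : b ≠ c := fun e => by
    apply mvd g a haS
    rw [← hb, e]
    exact hcfix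
  have hfix1 : ∀ x, g • x ≠ x → x ≠ a → g' • x = x := fun x h1 h3 => by
    by_contra e
    exact h3 (honly x h1 e)
  have hfix2 : ∀ x, g' • x ≠ x → x ≠ a → g • x = x := fun x h1 h3 => by
    by_contra e
    exact h3 (honly x e h1)
  have ifix : ∀ (k : G) (x : Ω), k • x = x → k⁻¹ • x = x := fun k x hx => inv_smul_eq_iff.2 hx.symm
  refine ⟨MulAction.toPermHom G Ω (g * g' * g⁻¹ * g'⁻¹), ⟨_, rfl⟩, ?_⟩
  have hab' : a ≠ b := fun e => haS e.symm
  have hac' : a ≠ c := fun e => ha' e.symm
  convert Perm.isThreeCycle_swap_mul_swap_same hac' hab' hbc.symm using 1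
  refine Equiv.ext fun x => ?_
  show (g * g' * g⁻¹ * g'⁻¹) • x = Equiv.swap a c (Equiv.swap a b x)
  simp only [mul_smul]
  by_cases hxa : x = a
  · subst hxa
    rw [Equiv.swap_apply_left, Equiv.swap_apply_of_ne_of_ne hab'.symm hbc]
    have h1 : g • (g'⁻¹ • x) = g'⁻¹ • x :=
      hfix2 _ (moveInv g' x ha') fun e => ha' (smul_eq_iff_eq_inv_smul g' |>.2 e.symm)
    rw [ifix g _ h1, smul_inv_smul]
  by_cases hxb : x = b
  · subst hxb
    rw [Equiv.swap_apply_right, Equiv.swap_apply_left, ifix g' _ hbfix]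
    rw [show g⁻¹ • b = a by rw [hb, inv_smul_smul], ← hc, hcfix]
  rw [Equiv.swap_apply_of_ne_of_ne hxa hxb]
  by_cases hxc : x = c
  · subst hxc
    rw [Equiv.swap_apply_right, show g'⁻¹ • c = a by rw [hc, inv_smul_smul]]
    have h1 : g' • (g⁻¹ • a) = g⁻¹ • a :=
      hfix1 _ (moveInv g a haS) fun e => haS (smul_eq_iff_eq_inv_smul g |>.2 e.symm)
    rw [h1, smul_inv_smul]
  rw [Equiv.swap_apply_of_ne_of_ne hxa hxc]
  by_cases hx' : g' • x = x
  · rw [ifix g' x hx']
    by_cases hx : g • x = x
    · rw [ifix g x hx, hx', hx]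
    · have h1 : g' • (g⁻¹ • x) = g⁻¹ • x :=
        hfix1 _ (moveInv g x hx) fun e => hxb (by rw [hb, ← e, smul_inv_smul])
      rw [h1, smul_inv_smul]
  · have h1 : g • (g'⁻¹ • x) = g'⁻¹ • x :=
      hfix2 _ (moveInv g' x hx') fun e => hxc (by rw [hc, ← e, smul_inv_smul])
    rw [ifix g _ h1, smul_inv_smul]
    exact hfix2 x hx' hxa

end DoublyTransitive

/-- The minimal degree bound. -/
theorem le_support [DecidableEq Ω] [FaithfulSMul G Ω] [Finite G]
    (hprim : MulAction.IsPreprimitive G Ω)
    (hA : ¬ alternatingGroup Ω ≤ (MulAction.toPermHom G Ω).range) {g : G} (hg : g ≠ 1) :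
    Fintype.card Ω ≤ (2 * #(Finset.univ.filter fun x : Ω => g • x ≠ x) + 1) ^ 2 := by
  classical
  haveI := hprim
  obtain ⟨a, ha⟩ : ∃ a : Ω, g • a ≠ a := by
    by_contra h
    push Not at h
    exact hg (eq_of_smul_eq_smul (α := Ω) fun x => by rw [one_smul]; exact h x)
  have hD : D G a (g • a) ≤ #(Finset.univ.filter fun x : Ω => g • x ≠ x) := by
    refine card_le_card fun z hz => ?_
    simp only [mem_filter, mem_univ, true_and] at hz ⊢
    intro e
    exact hz ⟨g, by rw [Prod.smul_mk, e]⟩
  by_cases h2 : ∀ x y u v : Ω, x ≠ y → u ≠ v → Rel G (x, y) (u, v)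
  · by_contra hlt
    obtain ⟨σ, hσ, hσ3⟩ := exists_threeCycle h2 hg (Nat.lt_of_not_le hlt)
    refine hA (Equiv.Perm.alternatingGroup_le_of_isPreprimitive_of_isThreeCycle_mem ?_ hσ3 hσ)
    let f : Ω →ₑ[(MulAction.toPermHom G Ω).rangeRestrict] Ω := ⟨id, fun _ _ => rfl⟩
    exact MulAction.IsPreprimitive.of_surjective (f := f) Function.surjective_id
  · refine le_trans ?_ (Nat.pow_le_pow_left (by omega : 2 * D G a (g • a) + 1 ≤ _) 2)
    by_cases hbig : ∀ u v : Ω, u ≠ v → 4 * #(out G u v u) ≤ 3 * Fintype.card Ω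
    · exact bound_of_small ha.symm hbig
    · push Not at hbig
      obtain ⟨A, B, hAB, hbig⟩ := hbig
      by_cases hM : Rel G (A, B) (a, g • a)
      · push Not at h2
        obtain ⟨x, y, u, v, hxy, huv, hne⟩ := h2
        obtain ⟨p, q, hpq, hno⟩ : ∃ p q : Ω, p ≠ q ∧ ¬ Rel G (A, B) (p, q) := by
          by_cases h : Rel G (A, B) (x, y)
          · exact ⟨u, v, huv, fun h' => hne (rel_trans (rel_symm h) h')⟩
          · exact ⟨x, y, hxy, h⟩
        rw [← D_congr hM]
        exact (bound_of_big hAB hbig hpq hno).2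
      · exact (bound_of_big hAB hbig ha.symm hM).1

end Cfsg.Agent.Perm.MinimalDegree
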