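import Mathlib

/-!
# The bound `2|G|/n` for the number of derangements

An elementary proof: the Cameron–Cohen counting reduces the bound to doubly transitive groups, and
there it reduces to an inequality on the fixed point numbers of the stabiliser `K` of two points.
If `K` has few orbits the Cauchy–Schwarz inequality gives it; if almost all orbits of `K` have
length `2` an argument on stabilisers of three points shows `|K| = 2`.
-/

namespace Cfsg.Agent.DerangementTwo

open scoped Classical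
open MulAction Finset

variable {G Ω : Type*} [Group G] [Finite G] [MulAction G Ω] [Fintype Ω]

/-- The number of fixed points. -/
noncomputable def fx (g : G) : ℕ := (univ.filter (fun w : Ω => g • w = w)).card

variable (Ω) in
/-- Double transitivity in the form used here. -/
def TwoTrans (G : Type*) [Group G] [MulAction G Ω] : Prop :=
  ∀ a b c d : Ω, a ≠ b → c ≠ d → ∃ g : G, g • a = c ∧ g • b = d

lemma fx_le (g : G) : fx (Ω := Ω) g ≤ Fintype.card Ω := Finset.card_le_univ _

lemma fx_conj (g x : G) : fx (Ω := Ω) (g * x * g⁻¹) = fx (Ω := Ω) x := by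
  unfold fx
  refine Finset.card_bij' (fun w _ => g⁻¹ • w) (fun w _ => g • w) ?_ ?_ ?_ ?_
  · intro w hw
    simp only [Finset.mem_filter, Finset.mem_univ, true_and] at hw ⊢
    have := congrArg (fun z => g⁻¹ • z) hw
    simpa [mul_smul] using this
  · intro w hw
    simp only [Finset.mem_filter, Finset.mem_univ, true_and] at hw ⊢
    simp [mul_smul, hw]
  · intro w _
    simp
  · intro w _
    simp

lemma fx_one : fx (Ω := Ω) (1 : G) = Fintype.card Ω := by
  simp [fx]

/-- Sum of the fixed point numbers in a transitive action. -/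
lemma sum_fx [Fintype G] [IsPretransitive G Ω] [Nonempty Ω] :
    ∑ g : G, fx (Ω := Ω) g = Fintype.card G := by
  have h := MulAction.sum_card_fixedBy_eq_card_orbits_mul_card_group G Ω
  have h1 : Fintype.card (Quotient (orbitRel G Ω)) = 1 := by
    have := (pretransitive_iff_subsingleton_quotient G Ω).1 inferInstance
    rw [Fintype.card_eq_one_iff]
    exact ⟨Quotient.mk'' (Classical.arbitrary Ω), fun x => Subsingleton.elim _ _⟩
  rw [h1, one_mul] at h
  refine Eq.trans ?_ h
  refine Finset.sum_congr rfl fun g _ => ?_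
  rw [fx, ← Fintype.card_subtype]
  exact Fintype.card_congr (Equiv.refl _)

/-- Outside double transitivity the rank is at least three. -/
lemma sum_fx_sq [Fintype G] [IsPretransitive G Ω] (h2 : ¬ TwoTrans Ω G) :
    3 * Fintype.card G ≤ ∑ g : G, fx (Ω := Ω) g * fx (Ω := Ω) g := by
  have h := MulAction.sum_card_fixedBy_eq_card_orbits_mul_card_group G (Ω × Ω)
  have hq : 3 ≤ Fintype.card (Quotient (orbitRel G (Ω × Ω))) := by
    unfold TwoTrans at h2
    push Not at h2
    obtain ⟨a, b, c, d, hab, hcd, hno⟩ := h2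
    obtain ⟨g, hg⟩ := exists_smul_eq G a c
    let q : Ω × Ω → Quotient (orbitRel G (Ω × Ω)) := Quotient.mk''
    have key : ∀ p r : Ω × Ω, q p = q r → ∃ u : G, u • r.1 = p.1 ∧ u • r.2 = p.2 := by
      intro p r hpr
      have := Quotient.eq''.1 hpr
      rw [orbitRel_apply] at this
      obtain ⟨u, hu⟩ := this
      exact ⟨u, congrArg Prod.fst hu, congrArg Prod.snd hu⟩
    have n1 : q (a, a) ≠ q (a, b) := by
      intro e
      obtain ⟨u, hu1, hu2⟩ := key _ _ e
      exact hab (MulAction.injective u (hu1.trans hu2.symm))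
    have n2 : q (a, a) ≠ q (c, d) := by
      intro e
      obtain ⟨u, hu1, hu2⟩ := key _ _ e
      exact hcd (MulAction.injective u (hu1.trans hu2.symm))
    have n3 : q (a, b) ≠ q (c, d) := by
      intro e
      obtain ⟨u, hu1, hu2⟩ := key _ _ e.symm
      exact hno u hu1 hu2
    calc 3 = ({q (a, a), q (a, b), q (c, d)} :
          Finset (Quotient (orbitRel G (Ω × Ω)))).card := by
          rw [Finset.card_insert_of_notMem (by simp [n1, n2]),
            Finset.card_insert_of_notMem (by simp [n3]), Finset.card_singleton]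
      _ ≤ _ := Finset.card_le_univ _
  have e : ∀ g : G, Fintype.card (fixedBy (Ω × Ω) g) = fx (Ω := Ω) g * fx (Ω := Ω) g := by
    intro g
    rw [fx, ← Finset.card_product]
    rw [← Set.toFinset_card]
    congr 1
    ext p
    simp [Prod.ext_iff]
  rw [Finset.sum_congr rfl (fun g _ => e g)] at h
  rw [h]
  exact Nat.mul_le_mul_right _ hq

/-- The counting identity behind everything. -/
lemma quad_sum [Fintype G] [IsPretransitive G Ω] [Nonempty Ω] :
    ∑ g : G, ((fx (Ω := Ω) g : ℤ) - 1) * ((fx (Ω := Ω) g : ℤ) - Fintype.card Ω) =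
      (∑ g : G, ((fx (Ω := Ω) g : ℤ) * fx (Ω := Ω) g)) - Fintype.card G := by
  have h1 : (∑ g : G, (fx (Ω := Ω) g : ℤ)) = Fintype.card G := by
    exact_mod_cast sum_fx (G := G) (Ω := Ω)
  have e : ∀ g : G, ((fx (Ω := Ω) g : ℤ) - 1) * ((fx (Ω := Ω) g : ℤ) - Fintype.card Ω) =
      ((fx (Ω := Ω) g : ℤ) * fx (Ω := Ω) g) - (Fintype.card Ω + 1) * (fx (Ω := Ω) g : ℤ) +
        Fintype.card Ω := by
    intro g; ring
  rw [Finset.sum_congr rfl (fun g _ => e g), Finset.sum_add_distrib, Finset.sum_sub_distrib,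
    ← Finset.mul_sum, h1]
  simp only [Finset.sum_const, Finset.card_univ, nsmul_eq_mul]
  ring

/-- Derangements. -/
noncomputable def der (G Ω : Type*) [Group G] [MulAction G Ω] [Fintype Ω] [Fintype G] : ℕ :=
  (univ.filter (fun g : G => fx (Ω := Ω) g = 0)).card

lemma natCard_der [Fintype G] :
    Nat.card {g : G // ∀ w : Ω, g • w ≠ w} = der G Ω := by
  rw [Nat.card_eq_fintype_card, Fintype.card_subtype, der]
  congr 1
  ext g
  simp [fx, Finset.filter_eq_empty_iff]

/-- Rank at least three. -/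
lemma bound_not_twoTrans [Fintype G] [IsPretransitive G Ω] [Nonempty Ω] (h2 : ¬ TwoTrans Ω G) :
    2 * Fintype.card G ≤ Fintype.card Ω * der G Ω := by
  have hsq : (3 * Fintype.card G : ℤ) ≤ ∑ g : G, ((fx (Ω := Ω) g : ℤ) * fx (Ω := Ω) g) := by
    exact_mod_cast sum_fx_sq (G := G) (Ω := Ω) h2
  have hle : ∑ g : G, ((fx (Ω := Ω) g : ℤ) - 1) * ((fx (Ω := Ω) g : ℤ) - Fintype.card Ω) ≤
      ∑ g : G, (if fx (Ω := Ω) g = 0 then (Fintype.card Ω : ℤ) else 0) := by
    refine Finset.sum_le_sum fun g _ => ?_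
    split_ifs with h
    · rw [h]; simp
    · have h1 : (1 : ℤ) ≤ fx (Ω := Ω) g := by exact_mod_cast Nat.pos_of_ne_zero h
      have h3 : (fx (Ω := Ω) g : ℤ) ≤ Fintype.card Ω := by exact_mod_cast fx_le g
      exact mul_nonpos_of_nonneg_of_nonpos (by linarith) (by linarith)
  rw [quad_sum, ← Finset.sum_filter, Finset.sum_const, nsmul_eq_mul] at hle
  have : (2 * Fintype.card G : ℤ) ≤ (Fintype.card Ω : ℤ) * der G Ω := by
    unfold der
    linarith
  exact_mod_cast this

/-- Stabiliser of two points. -/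
abbrev S2 (G : Type*) [Group G] {Ω : Type*} [MulAction G Ω] (a b : Ω) : Subgroup G :=
  stabilizer G a ⊓ stabilizer G b

lemma mem_S2 {a b : Ω} {g : G} : g ∈ S2 G a b ↔ g • a = a ∧ g • b = b := by
  simp [Subgroup.mem_inf, mem_stabilizer_iff]

/-! ### The doubly transitive case -/

section Two

variable [Fintype G] (h2 : TwoTrans Ω G)

include h2 in
/-- Class functions summed over the fixed pairs. -/
lemma pair_sum {a b : Ω} (hab : a ≠ b) (φ : G → ℚ) (hφ : ∀ g x, φ (g * x * g⁻¹) = φ x) :
    ∑ g : G, ((fx (Ω := Ω) g : ℚ) * ((fx (Ω := Ω) g : ℚ) - 1)) * φ g =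
      (Fintype.card Ω : ℚ) * ((Fintype.card Ω : ℚ) - 1) *
        ∑ g ∈ univ.filter (fun g : G => g • a = a ∧ g • b = b), φ g := by
  have e1 : ∀ g : G, ((fx (Ω := Ω) g : ℚ) * ((fx (Ω := Ω) g : ℚ) - 1)) * φ g =
      ∑ p ∈ (univ : Finset Ω).offDiag, (if g • p.1 = p.1 ∧ g • p.2 = p.2 then φ g else 0) := by
    intro g
    rw [← Finset.sum_filter, Finset.sum_const, nsmul_eq_mul]
    congr 1
    have : (univ : Finset Ω).offDiag.filter (fun p => g • p.1 = p.1 ∧ g • p.2 = p.2) =
        (univ.filter (fun w : Ω => g • w = w)).offDiag := by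
      ext p
      simp only [Finset.mem_filter, Finset.mem_offDiag, Finset.mem_univ, true_and]
      tauto
    rw [this, Finset.offDiag_card, Nat.cast_sub (Nat.le_mul_self _)]
    push_cast
    unfold fx
    ring
  rw [Finset.sum_congr rfl (fun g _ => e1 g), Finset.sum_comm]
  have e2 : ∀ p ∈ (univ : Finset Ω).offDiag,
      (∑ g : G, (if g • p.1 = p.1 ∧ g • p.2 = p.2 then φ g else 0)) =
        ∑ g ∈ univ.filter (fun g : G => g • a = a ∧ g • b = b), φ g := by
    intro p hp
    simp only [Finset.mem_offDiag, Finset.mem_univ, true_and] at hp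
    obtain ⟨u, hu1, hu2⟩ := h2 a b p.1 p.2 hab hp
    rw [Finset.sum_filter]
    refine (Fintype.sum_equiv (MulAut.conj u).toEquiv _ _ (fun g => ?_)).symm
    simp only [MulEquiv.toEquiv_eq_coe, MulEquiv.coe_toEquiv, MulAut.conj_apply, hφ]
    have i1 : (u * g * u⁻¹) • p.1 = p.1 ↔ g • a = a := by
      rw [← hu1]; simp [mul_smul]
    have i2 : (u * g * u⁻¹) • p.2 = p.2 ↔ g • b = b := by
      rw [← hu2]; simp [mul_smul]
    simp only [i1, i2]
  rw [Finset.sum_congr rfl e2, Finset.sum_const, nsmul_eq_mul, Finset.offDiag_card,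
    Nat.cast_sub (Nat.le_mul_self _)]
  simp only [Finset.card_univ, Nat.cast_mul]
  ring

include h2 in
/-- The order of a doubly transitive group. -/
lemma card_eq {a b : Ω} (hab : a ≠ b) :
    Fintype.card G = Fintype.card Ω * (Fintype.card Ω - 1) *
      (univ.filter (fun g : G => g • a = a ∧ g • b = b)).card := by
  have h := Finset.card_eq_sum_card_fiberwise (s := (univ : Finset G))
    (t := (univ : Finset Ω).offDiag) (f := fun g => (g • a, g • b))
    (fun g _ => by simpa using fun e => hab (MulAction.injective g e))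
  rw [Finset.card_univ] at h
  rw [h, Finset.sum_congr rfl (g := fun _ => (univ.filter (fun g : G => g • a = a ∧ g • b = b)).card),
    Finset.sum_const, smul_eq_mul, Finset.offDiag_card, Finset.card_univ, Nat.mul_sub_one]
  intro p hp
  simp only [Finset.mem_offDiag, Finset.mem_univ, true_and] at hp
  obtain ⟨u, hu1, hu2⟩ := h2 a b p.1 p.2 hab hp
  refine Finset.card_bij' (fun g _ => u⁻¹ * g) (fun g _ => u * g) ?_ ?_ ?_ ?_
  · intro g hg
    simp only [Finset.mem_filter, Finset.mem_univ, true_and, Prod.ext_iff] at hg ⊢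
    constructor
    · rw [mul_smul, hg.1, ← hu1, inv_smul_smul]
    · rw [mul_smul, hg.2, ← hu2, inv_smul_smul]
  · intro g hg
    simp only [Finset.mem_filter, Finset.mem_univ, true_and, Prod.ext_iff] at hg ⊢
    constructor
    · rw [mul_smul, hg.1, hu1]
    · rw [mul_smul, hg.2, hu2]
  · intro g _; group
  · intro g _; group

include h2 in
lemma isPretransitive (hn : 1 < Fintype.card Ω) : IsPretransitive G Ω := by
  refine ⟨fun x y => ?_⟩
  obtain ⟨x', hx'⟩ := Fintype.exists_ne_of_one_lt_card hn x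
  obtain ⟨y', hy'⟩ := Fintype.exists_ne_of_one_lt_card hn y
  obtain ⟨g, hg, -⟩ := h2 x x' y y' hx'.symm hy'.symm
  exact ⟨g, hg⟩

include h2 in
/-- Derangements of a doubly transitive group, from the fixed point numbers of `K`. -/
lemma two_identity [Nonempty Ω] [IsPretransitive G Ω] {a b : Ω} (hab : a ≠ b) :
    (Fintype.card Ω : ℚ) * der G Ω = (Fintype.card G : ℚ) +
      (Fintype.card Ω : ℚ) * ((Fintype.card Ω : ℚ) - 1) *
        ∑ g ∈ univ.filter (fun g : G => g • a = a ∧ g • b = b),
          ((Fintype.card Ω : ℚ) - fx (Ω := Ω) g) / fx (Ω := Ω) g := by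
  rw [← pair_sum h2 hab (fun g => ((Fintype.card Ω : ℚ) - fx (Ω := Ω) g) / fx (Ω := Ω) g)
    (fun g x => by simp only [fx_conj])]
  have hone := pair_sum h2 hab (fun _ => (1 : ℚ)) (fun _ _ => rfl)
  simp only [mul_one, Finset.sum_const, nsmul_eq_mul] at hone
  have hcard : (Fintype.card G : ℚ) = (Fintype.card Ω : ℚ) * ((Fintype.card Ω : ℚ) - 1) *
      ((univ.filter (fun g : G => g • a = a ∧ g • b = b)).card : ℚ) := by
    have hn : 1 ≤ Fintype.card Ω := Fintype.card_pos
    conv_lhs => rw [card_eq h2 hab]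
    push_cast [Nat.cast_sub hn]
    ring
  rw [← hcard] at hone
  have hsum : (∑ g : G, (fx (Ω := Ω) g : ℚ)) = Fintype.card G := by
    exact_mod_cast sum_fx (G := G) (Ω := Ω)
  have e : ∀ g : G, ((fx (Ω := Ω) g : ℚ) * ((fx (Ω := Ω) g : ℚ) - 1)) *
      (((Fintype.card Ω : ℚ) - fx (Ω := Ω) g) / fx (Ω := Ω) g) =
      -((fx (Ω := Ω) g : ℚ) * ((fx (Ω := Ω) g : ℚ) - 1)) +
        ((Fintype.card Ω : ℚ) * fx (Ω := Ω) g - Fintype.card Ω) +
        (if fx (Ω := Ω) g = 0 then (Fintype.card Ω : ℚ) else 0) := by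
    intro g
    split_ifs with h
    · rw [h]; simp
    · field_simp
      ring
  rw [Finset.sum_congr rfl (fun g _ => e g), Finset.sum_add_distrib, Finset.sum_add_distrib,
    Finset.sum_neg_distrib, hone, Finset.sum_sub_distrib, ← Finset.mul_sum, hsum,
    ← Finset.sum_filter, Finset.sum_const, Finset.sum_const, Finset.card_univ, nsmul_eq_mul,
    nsmul_eq_mul]
  unfold der
  ring

end Two

/-! ### Inequalities -/

/-- Cauchy–Schwarz: few orbits of the two point stabiliser are enough. -/
lemma cauchy (n : ℕ) (s : Finset G) (p : G → ℕ) (h1 : (1 : G) ∈ s) (hp1 : p 1 = n)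
    (hs : 2 ≤ s.card) (hpos : ∀ g ∈ s, 0 < p g)
    (hT : (n : ℚ) * ((s.card : ℚ) - 1) ^ 2 ≥
      (2 * (s.card : ℚ) - 1) * ((∑ g ∈ s, (p g : ℚ)) - n)) :
    (s.card : ℚ) ≤ ∑ g ∈ s, ((n : ℚ) - p g) / p g := by
  have hn : 0 < n := hp1 ▸ hpos 1 h1
  rw [← Finset.add_sum_erase s _ h1, hp1, sub_self, zero_div, zero_add]
  have hc : ((s.erase 1).card : ℚ) = (s.card : ℚ) - 1 := by
    rw [Finset.card_erase_of_mem h1, Nat.cast_sub (by omega), Nat.cast_one]
  have hT' : (∑ g ∈ s, (p g : ℚ)) - n = ∑ g ∈ s.erase 1, (p g : ℚ) := by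
    rw [← Finset.add_sum_erase s _ h1, hp1]; ring
  have hne : (s.erase 1).Nonempty := by
    rw [← Finset.card_pos, Finset.card_erase_of_mem h1]; omega
  have hTpos : 0 < ∑ g ∈ s.erase 1, (p g : ℚ) :=
    Finset.sum_pos (fun g hg => by exact_mod_cast hpos g (Finset.mem_of_mem_erase hg)) hne
  have hcs := Finset.sq_sum_div_le_sum_sq_div (s.erase 1) (fun _ => (1 : ℚ))
    (g := fun g => (p g : ℚ))
    (fun g hg => by exact_mod_cast hpos g (Finset.mem_of_mem_erase hg))
  simp only [one_pow, Finset.sum_const, nsmul_eq_mul, mul_one, hc] at hcs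
  have e : ∀ g ∈ s.erase 1, ((n : ℚ) - p g) / p g = (n : ℚ) * (1 / (p g : ℚ)) - 1 := by
    intro g hg
    have : (p g : ℚ) ≠ 0 := by
      exact_mod_cast (hpos g (Finset.mem_of_mem_erase hg)).ne'
    field_simp
  rw [Finset.sum_congr rfl e, Finset.sum_sub_distrib, ← Finset.mul_sum, Finset.sum_const,
    nsmul_eq_mul, mul_one, hc]
  rw [hT'] at hT
  have h3 : (2 * (s.card : ℚ) - 1) ≤
      (n : ℚ) * (((s.card : ℚ) - 1) ^ 2 / ∑ g ∈ s.erase 1, (p g : ℚ)) := by
    rw [← mul_div_assoc, le_div_iff₀ hTpos]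
    exact hT
  have h4 := mul_le_mul_of_nonneg_left hcs (Nat.cast_nonneg (α := ℚ) n)
  linarith

/-- A uniform upper bound on the fixed points is enough. -/
lemma uniform (n f : ℕ) (s : Finset G) (p : G → ℕ) (h1 : (1 : G) ∈ s) (hp1 : p 1 = n)
    (hf : ∀ g ∈ s, g ≠ 1 → 0 < p g ∧ p g ≤ f)
    (hk : (s.card : ℚ) * f ≤ ((s.card : ℚ) - 1) * ((n : ℚ) - f)) (hf0 : 0 < f) :
    (s.card : ℚ) ≤ ∑ g ∈ s, ((n : ℚ) - p g) / p g := by
  rw [← Finset.add_sum_erase s _ h1, hp1, sub_self, zero_div, zero_add]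
  have hs : 1 ≤ s.card := Finset.card_pos.2 ⟨1, h1⟩
  have hfq : (0 : ℚ) < f := by exact_mod_cast hf0
  have e : ∀ g ∈ s.erase 1, ((n : ℚ) - f) / f ≤ ((n : ℚ) - p g) / p g := by
    intro g hg
    obtain ⟨hg1, hg2⟩ := Finset.mem_erase.1 hg
    obtain ⟨hp, hp'⟩ := hf g hg2 hg1
    have hpq : (0 : ℚ) < p g := by exact_mod_cast hp
    have hpf : (p g : ℚ) ≤ f := by exact_mod_cast hp'
    rw [div_le_div_iff₀ hfq hpq]
    nlinarith [Nat.cast_nonneg (α := ℚ) n]
  refine le_trans ?_ (Finset.sum_le_sum e)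
  rw [Finset.sum_const, nsmul_eq_mul, Finset.card_erase_of_mem h1, Nat.cast_sub hs, Nat.cast_one,
    ← mul_div_assoc, le_div_iff₀ hfq]
  exact hk

/-! ### Orbits of subgroups on points -/

/-- Orbit of `w` under the subgroup `X`. -/
noncomputable def orb (X : Subgroup G) (w : Ω) : Finset Ω :=
  univ.filter (fun v => ∃ x ∈ X, x • w = v)

lemma mem_orb {X : Subgroup G} {w v : Ω} : v ∈ orb X w ↔ ∃ x ∈ X, x • w = v := by
  simp [orb]

/-- Orbit–stabiliser. -/
lemma orb_mul (X : Subgroup G) (w : Ω) :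
    (orb X w).card * Nat.card ↥(X ⊓ stabilizer G w) = Nat.card ↥X := by
  have h := Nat.card_congr (MulAction.orbitProdStabilizerEquivGroup ↥X w)
  rw [Nat.card_prod] at h
  rw [← h]
  congr 1
  · rw [orb, ← Fintype.card_subtype, ← Nat.card_eq_fintype_card]
    refine Nat.card_congr (Equiv.subtypeEquivRight fun v => ?_)
    constructor
    · rintro ⟨x, hx, hxw⟩
      exact ⟨⟨x, hx⟩, hxw⟩
    · rintro ⟨⟨x, hx⟩, hxw⟩
      exact ⟨x, hx, hxw⟩
  · refine Nat.card_congr
      { toFun := fun g => ⟨⟨g.1, g.2.1⟩, g.2.2⟩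
        invFun := fun g => ⟨g.1.1, g.1.2, g.2⟩
        left_inv := fun g => rfl
        right_inv := fun g => rfl }

lemma orb_le_one_iff {X : Subgroup G} {w : Ω} : (∀ x ∈ X, x • w = w) ↔ orb X w = {w} := by
  constructor
  · intro h
    ext v
    rw [mem_orb, Finset.mem_singleton]
    constructor
    · rintro ⟨x, hx, rfl⟩
      exact h x hx
    · rintro rfl
      exact ⟨1, X.one_mem, one_smul _ _⟩
  · intro h x hx
    have : x • w ∈ orb X w := mem_orb.2 ⟨x, hx, rfl⟩
    rw [h] at this
    simpa using this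

lemma orb_eq_of_mem {X : Subgroup G} {w v : Ω} (h : v ∈ orb X w) : orb X v = orb X w := by
  obtain ⟨x, hx, rfl⟩ := mem_orb.1 h
  ext u
  rw [mem_orb, mem_orb]
  constructor
  · rintro ⟨y, hy, rfl⟩
    exact ⟨y * x, X.mul_mem hy hx, mul_smul _ _ _⟩
  · rintro ⟨y, hy, rfl⟩
    exact ⟨y * x⁻¹, X.mul_mem hy (X.inv_mem hx), by rw [mul_smul, inv_smul_smul]⟩

lemma self_mem_orb (X : Subgroup G) (w : Ω) : w ∈ orb X w :=
  mem_orb.2 ⟨1, X.one_mem, one_smul _ _⟩

lemma orb_pair {X : Subgroup G} {c : Ω} (h : (orb X c).card = 2) {y : G} (hy : y ∈ X)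
    (hyc : y • c ≠ c) : orb X c = {c, y • c} := by
  refine (Finset.eq_of_subset_of_card_le ?_ ?_).symm
  · intro v hv
    simp only [Finset.mem_insert, Finset.mem_singleton] at hv
    rcases hv with rfl | rfl
    · exact self_mem_orb X _
    · exact mem_orb.2 ⟨y, hy, rfl⟩
  · rw [h, Finset.card_insert_of_notMem (by simpa using Ne.symm hyc), Finset.card_singleton]

lemma fix_other {X : Subgroup G} {c : Ω} (h : (orb X c).card = 2) {y g : G} (hy : y ∈ X)
    (hyc : y • c ≠ c) (hg : g ∈ X) (hgc : g • c = c) : g • (y • c) = y • c := by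
  have h1 : g • (y • c) ∈ orb X c := mem_orb.2 ⟨g * y, X.mul_mem hg hy, mul_smul _ _ _⟩
  rw [orb_pair h hy hyc] at h1
  simp only [Finset.mem_insert, Finset.mem_singleton] at h1
  rcases h1 with h1 | h1
  · exact absurd (MulAction.injective g (h1.trans hgc.symm)) hyc
  · exact h1

lemma smul_ne_exists {X : Subgroup G} {w : Ω} (h : ¬ X ≤ stabilizer G w) :
    ∃ x ∈ X, x • w ≠ w := by
  by_contra hne
  push Not at hne
  exact h fun x hx => mem_stabilizer_iff.2 (hne x hx)

/-- Moving a pair and a point transports the stabilisers and the orbit lengths. -/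
lemma card_S2_smul (g : G) (a b : Ω) :
    Nat.card ↥(S2 G (g • a) (g • b)) = Nat.card ↥(S2 G a b) := by
  refine Nat.card_congr
    { toFun := fun x => ⟨g⁻¹ * x * g, ?_⟩
      invFun := fun x => ⟨g * x * g⁻¹, ?_⟩
      left_inv := fun x => Subtype.ext (by simp [mul_assoc])
      right_inv := fun x => Subtype.ext (by simp [mul_assoc]) }
  · obtain ⟨h1, h2⟩ := mem_S2.1 x.2
    rw [mem_S2, mul_smul, mul_smul, mul_smul, mul_smul, h1, h2, inv_smul_smul, inv_smul_smul]
    exact ⟨rfl, rfl⟩
  · obtain ⟨h1, h2⟩ := mem_S2.1 x.2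
    rw [mem_S2]
    simp [mul_smul, h1, h2]

lemma orb_card_smul (g : G) (a b w : Ω) :
    (orb (S2 G (g • a) (g • b)) (g • w)).card = (orb (S2 G a b) w).card := by
  refine Finset.card_bij' (fun v _ => g⁻¹ • v) (fun v _ => g • v) ?_ ?_ ?_ ?_
  · intro v hv
    obtain ⟨x, hx, rfl⟩ := mem_orb.1 hv
    obtain ⟨h1, h2⟩ := mem_S2.1 hx
    refine mem_orb.2 ⟨g⁻¹ * x * g, ?_, by simp [mul_smul]⟩
    rw [mem_S2, mul_smul, mul_smul, mul_smul, mul_smul, h1, h2, inv_smul_smul, inv_smul_smul]
    exact ⟨rfl, rfl⟩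
  · intro v hv
    obtain ⟨x, hx, rfl⟩ := mem_orb.1 hv
    obtain ⟨h1, h2⟩ := mem_S2.1 hx
    exact mem_orb.2 ⟨g * x * g⁻¹, by rw [mem_S2]; simp [mul_smul, h1, h2], by simp [mul_smul]⟩
  · intro v _; simp
  · intro v _; simp

/-- Two subgroups, one inside the other, of the same order are equal. -/
lemma eq_of_le_card {A B : Subgroup G} (h : A ≤ B) (hc : Nat.card ↥B ≤ Nat.card ↥A) : A = B :=
  Subgroup.eq_of_le_of_card_ge h hc

section Lines

variable (h2 : TwoTrans Ω G)

include h2 in
lemma card_S2 {a b u v : Ω} (hab : a ≠ b) (huv : u ≠ v) :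
    Nat.card ↥(S2 G u v) = Nat.card ↥(S2 G a b) := by
  obtain ⟨g, rfl, rfl⟩ := h2 a b u v hab huv
  exact card_S2_smul g a b

include h2 in
/-- If the orbits of length two of the two point stabilisers never meet orbits of length four,
then all those of `S2 a b` have the same point stabiliser. -/
lemma hyperplane_unique (h4 : ∀ u v w : Ω, u ≠ v → (orb (S2 G u v) w).card ≠ 4)
    {a b c d : Ω} (hab : a ≠ b) (hc : (orb (S2 G a b) c).card = 2)
    (hd : (orb (S2 G a b) d).card = 2) :
    S2 G a b ⊓ stabilizer G c = S2 G a b ⊓ stabilizer G d := by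
  by_contra hne
  set K := S2 G a b with hK
  set Hc := K ⊓ stabilizer G c with hHc
  set Hd := K ⊓ stabilizer G d with hHd
  have cK : 2 * Nat.card ↥Hc = Nat.card ↥K := by rw [← hc]; exact orb_mul K c
  have cK' : 2 * Nat.card ↥Hd = Nat.card ↥K := by rw [← hd]; exact orb_mul K d
  have nHc : ¬ Hc ≤ stabilizer G d := fun h =>
    hne (eq_of_le_card (A := Hc) (B := Hd) (le_inf (inf_le_left) h) (by omega))
  have nHd : ¬ Hd ≤ stabilizer G c := fun h =>
    hne (eq_of_le_card (A := Hd) (B := Hc) (le_inf (inf_le_left) h) (by omega)).symm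
  obtain ⟨x, hx, hxd⟩ := smul_ne_exists nHc
  obtain ⟨y, hy, hyc⟩ := smul_ne_exists nHd
  have hyd : y • d = d := mem_stabilizer_iff.1 hy.2
  have hxc : x • c = c := mem_stabilizer_iff.1 hx.2
  -- `M` has index four in `K`
  set M := Hc ⊓ stabilizer G d with hM
  have cM : 2 * Nat.card ↥M = Nat.card ↥Hc := by
    have h := orb_mul Hc d
    have hle : (orb Hc d).card ≤ 2 := by
      rw [← hd]
      refine Finset.card_le_card fun v hv => ?_
      obtain ⟨g, hg, rfl⟩ := mem_orb.1 hv
      exact mem_orb.2 ⟨g, hg.1, rfl⟩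
    have hge : 1 < (orb Hc d).card :=
      Finset.one_lt_card.2 ⟨d, self_mem_orb _ _, x • d, mem_orb.2 ⟨x, hx, rfl⟩, Ne.symm hxd⟩
    rw [show 2 = (orb Hc d).card by omega]
    exact h
  have hyK : y ∈ K := hy.1
  have fixc : ∀ g ∈ Hc, g • (y • c) = y • c := fun g hg =>
    fix_other hc hyK hyc hg.1 (mem_stabilizer_iff.1 hg.2)
  -- the two lines through `c`
  have main : ∀ z : Ω, z ≠ c → z ≠ d → K ≤ stabilizer G z →
      S2 G z c ≤ stabilizer G (y • c) := by
    intro z hzc hzd hKz
    by_contra hnot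
    have cX : Nat.card ↥(S2 G z c) = Nat.card ↥K := card_S2 h2 hab hzc
    have hHcX : Hc ≤ S2 G z c := fun g hg => ⟨hKz hg.1, hg.2⟩
    set W := S2 G z c ⊓ stabilizer G d with hW
    have hMW : M ≤ W := fun g hg => ⟨hHcX hg.1, hg.2⟩
    have hWmul := orb_mul (S2 G z c) d
    obtain ⟨i, hi⟩ := Subgroup.card_dvd_of_le hMW
    have hMpos : 0 < Nat.card ↥M := Nat.card_pos
    have hm : (orb (S2 G z c) d).card * i = 4 := by
      rw [← hW, hi, cX] at hWmul
      have : (orb (S2 G z c) d).card * i * Nat.card ↥M = 4 * Nat.card ↥M := by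
        rw [mul_assoc, mul_comm i (Nat.card ↥M)]
        omega
      exact Nat.eq_of_mul_eq_mul_right hMpos this
    have hm1 : 1 < (orb (S2 G z c) d).card :=
      Finset.one_lt_card.2 ⟨d, self_mem_orb _ _, x • d, mem_orb.2 ⟨x, hHcX hx, rfl⟩,
        Ne.symm hxd⟩
    have hm2 : (orb (S2 G z c) d).card = 2 := by
      have h4' := h4 z c d hzc
      have hdvd : (orb (S2 G z c) d).card ∣ 4 := ⟨i, hm.symm⟩
      have hle := Nat.le_of_dvd (by norm_num) hdvd
      interval_cases h : (orb (S2 G z c) d).card <;> omega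
    rw [← hW, hm2, cX] at hWmul
    -- the same for the pair `(z, d)`
    have cY : Nat.card ↥(S2 G z d) = Nat.card ↥K := card_S2 h2 hab hzd
    have hyY : y ∈ S2 G z d := ⟨hKz hyK, hy.2⟩
    have eW : S2 G z d ⊓ stabilizer G c = W := by
      ext g
      simp only [hW, Subgroup.mem_inf, mem_stabilizer_iff]
      tauto
    have hY := orb_mul (S2 G z d) c
    rw [eW, cY] at hY
    have hWpos : 0 < Nat.card ↥W := Nat.card_pos
    have hY2 : (orb (S2 G z d) c).card = 2 :=
      Nat.eq_of_mul_eq_mul_right hWpos (hY.trans hWmul.symm)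
    have fixW : ∀ g ∈ W, g • (y • c) = y • c := fun g hg =>
      fix_other hY2 hyY hyc ⟨hg.1.1, hg.2⟩ (mem_stabilizer_iff.1 hg.1.2)
    set V := S2 G z c ⊓ stabilizer G (y • c) with hV
    have hWV : W ≤ V := fun g hg => ⟨hg.1, mem_stabilizer_iff.2 (fixW g hg)⟩
    have hHV : Hc ≤ V := fun g hg => ⟨hHcX hg, mem_stabilizer_iff.2 (fixc g hg)⟩
    have hVmul := orb_mul (S2 G z c) (y • c)
    rw [← hV, cX] at hVmul
    have hVorb : 1 < (orb (S2 G z c) (y • c)).card := by
      obtain ⟨g, hg, hgc⟩ := smul_ne_exists hnot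
      exact Finset.one_lt_card.2 ⟨_, self_mem_orb _ _, g • (y • c), mem_orb.2 ⟨g, hg, rfl⟩,
        Ne.symm hgc⟩
    have hVle : 2 * Nat.card ↥V ≤ Nat.card ↥K := by
      rw [← hVmul]
      exact Nat.mul_le_mul_right _ hVorb
    have e1 : W = V := eq_of_le_card hWV (by omega)
    have e2 : Hc = V := eq_of_le_card hHV (by omega)
    exact nHc (e2.trans e1.symm ▸ inf_le_right)
  have hca : a ≠ c := by
    rintro rfl
    exact hyc (mem_stabilizer_iff.1 hyK.1)
  have hcb : b ≠ c := by
    rintro rfl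
    exact hyc (mem_stabilizer_iff.1 hyK.2)
  have hda : a ≠ d := by
    rintro rfl
    exact hxd (mem_stabilizer_iff.1 hx.1.1)
  have hdb : b ≠ d := by
    rintro rfl
    exact hxd (mem_stabilizer_iff.1 hx.1.2)
  have ha := main a hca hda inf_le_left
  have hb := main b hcb hdb inf_le_right
  have hcc : c ≠ y • c := Ne.symm hyc
  have ea : S2 G a c = S2 G c (y • c) := eq_of_le_card (le_inf inf_le_right ha)
    (le_of_eq (by rw [card_S2 h2 hab hcc, card_S2 h2 hab hca]))
  have eb : S2 G b c = S2 G c (y • c) := eq_of_le_card (le_inf inf_le_right hb)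
    (le_of_eq (by rw [card_S2 h2 hab hcc, card_S2 h2 hab hcb]))
  have hle : S2 G a c ≤ Hc := by
    intro g hg
    have hg' : g ∈ S2 G b c := by rw [eb, ← ea]; exact hg
    exact ⟨⟨hg.1, hg'.1⟩, hg.2⟩
  have := Subgroup.card_le_card_group Hc
  have h' : Nat.card ↥(S2 G a c) ≤ Nat.card ↥Hc :=
    Nat.le_of_dvd Nat.card_pos (Subgroup.card_dvd_of_le hle)
  rw [card_S2 h2 hab hca, ← hK] at h'
  have : 0 < Nat.card ↥Hc := Nat.card_pos
  omega

/-- The points fixed by the stabiliser of two points. -/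
noncomputable def line (G : Type*) [Group G] {Ω : Type*} [MulAction G Ω] [Fintype Ω] (a b : Ω) :
    Finset Ω :=
  univ.filter (fun w => S2 G a b ≤ stabilizer G w)

lemma left_mem_line (a b : Ω) : a ∈ line G a b := by simp [line]

lemma right_mem_line (a b : Ω) : b ∈ line G a b := by simp [line]

include h2 in
lemma line_card {a b u v : Ω} (hab : a ≠ b) (huv : u ≠ v) :
    (line G u v).card = (line G a b).card := by
  obtain ⟨g, rfl, rfl⟩ := h2 a b u v hab huv
  refine Finset.card_bij' (fun w _ => g⁻¹ • w) (fun w _ => g • w) ?_ ?_ ?_ ?_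
  · intro w hw
    simp only [line, Finset.mem_filter, Finset.mem_univ, true_and] at hw ⊢
    intro x hx
    obtain ⟨h1, h3⟩ := mem_S2.1 hx
    have hm : g * x * g⁻¹ ∈ S2 G (g • a) (g • b) := by
      rw [mem_S2]; simp [mul_smul, h1, h3]
    have := mem_stabilizer_iff.1 (hw hm)
    rw [mem_stabilizer_iff]
    have h5 := congrArg (fun z => g⁻¹ • z) this
    simpa [mul_smul] using h5
  · intro w hw
    simp only [line, Finset.mem_filter, Finset.mem_univ, true_and] at hw ⊢
    intro x hx
    obtain ⟨h1, h3⟩ := mem_S2.1 hx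
    have hm : g⁻¹ * x * g ∈ S2 G a b := by
      rw [mem_S2, mul_smul, mul_smul, mul_smul, mul_smul, h1, h3, inv_smul_smul, inv_smul_smul]
      exact ⟨rfl, rfl⟩
    have := mem_stabilizer_iff.1 (hw hm)
    rw [mem_stabilizer_iff]
    have h5 := congrArg (fun z => g • z) this
    simpa [mul_smul] using h5
  · intro w _; simp
  · intro w _; simp

include h2 in
/-- A non-identity element fixes at most `(n - 1)/(ℓ - 1)` points. -/
lemma fx_mul_le [FaithfulSMul G Ω] {a b : Ω} (hab : a ≠ b) {x : G} (hx : x ≠ 1) :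
    fx (Ω := Ω) x * ((line G a b).card - 1) ≤ Fintype.card Ω - 1 := by
  obtain ⟨d, hd⟩ : ∃ d : Ω, x • d ≠ d := by
    by_contra h
    push Not at h
    exact hx (FaithfulSMul.eq_of_smul_eq_smul (α := Ω) fun w => by rw [h, one_smul])
  set F := univ.filter (fun w : Ω => x • w = w) with hF
  have hdF : ∀ f ∈ F, d ≠ f := by
    rintro f hf rfl
    exact hd (Finset.mem_filter.1 hf).2
  have hdisj : ∀ f ∈ F, ∀ f' ∈ F, f ≠ f' →
      Disjoint ((line G d f).erase d) ((line G d f').erase d) := by
    intro f hf f' hf' hne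
    rw [Finset.disjoint_left]
    intro w hw hw'
    simp only [Finset.mem_erase, line, Finset.mem_filter, Finset.mem_univ, true_and] at hw hw'
    have hdw : d ≠ w := Ne.symm hw.1
    have e1 : S2 G d f = S2 G d w := eq_of_le_card (le_inf inf_le_left hw.2)
      (le_of_eq (by rw [card_S2 h2 hab hdw, card_S2 h2 hab (hdF f hf)]))
    have e2 : S2 G d f' = S2 G d w := eq_of_le_card (le_inf inf_le_left hw'.2)
      (le_of_eq (by rw [card_S2 h2 hab hdw, card_S2 h2 hab (hdF f' hf')]))
    have e3 : S2 G d f ≤ S2 G f f' := le_inf inf_le_right ((e1.trans e2.symm).le.trans inf_le_right)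
    have e4 : S2 G d f = S2 G f f' := eq_of_le_card e3
      (le_of_eq (by rw [card_S2 h2 hab hne, card_S2 h2 hab (hdF f hf)]))
    have hxm : x ∈ S2 G f f' := mem_S2.2 ⟨(Finset.mem_filter.1 hf).2, (Finset.mem_filter.1 hf').2⟩
    rw [← e4] at hxm
    exact hd (mem_S2.1 hxm).1
  have hsub : F.biUnion (fun f => (line G d f).erase d) ⊆ univ.erase d := by
    intro w hw
    simp only [Finset.mem_biUnion, Finset.mem_erase] at hw
    obtain ⟨f, -, hwd, -⟩ := hw
    simp [hwd]
  have h := Finset.card_le_card hsub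
  rw [Finset.card_biUnion hdisj, Finset.card_erase_of_mem (Finset.mem_univ d), Finset.card_univ] at h
  refine le_trans (le_of_eq ?_) h
  rw [Finset.sum_congr rfl (g := fun _ => (line G a b).card - 1), Finset.sum_const, smul_eq_mul]
  · rfl
  intro f hf
  rw [Finset.card_erase_of_mem (left_mem_line d f), line_card h2 hab (hdF f hf)]

/-- A non-trivial permutation moving at most three points forces the alternating group. -/
lemma alternating_le (hn : 1 < Fintype.card Ω) [IsPreprimitive G Ω] [FaithfulSMul G Ω]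
    {y : G} (hy : y ≠ 1) (hsupp : (univ.filter (fun w : Ω => y • w ≠ w)).card ≤ 3) :
    ∀ σ : Equiv.Perm Ω, σ.IsThreeCycle → ∃ g : G, ∀ w : Ω, g • w = σ w := by
  intro σ hσ
  set P := (MulAction.toPermHom G Ω).range with hP
  have hprim : IsPreprimitive ↥P Ω := by
    let φ : G → ↥P := fun g => ⟨MulAction.toPermHom G Ω g, g, rfl⟩
    let f : Ω →ₑ[φ] Ω := { toFun := id, map_smul' := fun g w => rfl }
    exact IsPreprimitive.of_surjective (f := f) Function.surjective_id
  set τ := MulAction.toPermHom G Ω y with hτ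
  have hτP : τ ∈ P := ⟨y, rfl⟩
  have hτs : τ.support = univ.filter (fun w : Ω => y • w ≠ w) := by
    ext w
    simp [hτ, Equiv.Perm.mem_support, MulAction.toPermHom]
  have hτ1 : τ ≠ 1 := fun h => hy (FaithfulSMul.eq_of_smul_eq_smul (α := Ω) fun w => by
    rw [one_smul]
    exact congrArg (fun p : Equiv.Perm Ω => p w) h)
  have hA : alternatingGroup Ω ≤ P := by
    have h2le := Equiv.Perm.two_le_card_support_of_ne_one hτ1
    rw [← hτs] at hsupp
    rcases (show τ.support.card = 2 ∨ τ.support.card = 3 by omega) with h | h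
    · rw [Equiv.Perm.subgroup_eq_top_of_isPreprimitive_of_isSwap_mem hprim τ
        (Equiv.Perm.card_support_eq_two.1 h) hτP]
      exact le_top
    · exact Equiv.Perm.alternatingGroup_le_of_isPreprimitive_of_isThreeCycle_mem hprim
        (card_support_eq_three_iff.1 h) hτP
  obtain ⟨g, hg⟩ := hA hσ.mem_alternatingGroup
  exact ⟨g, fun w => congrArg (fun p : Equiv.Perm Ω => p w) hg⟩

include h2 in
/-- There is no doubly transitive group of degree `7` and order `84`. -/
lemma not_order_84 [FaithfulSMul G Ω] (h7 : Fintype.card Ω = 7) : Nat.card G ≠ 84 := by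
  intro hG
  haveI : Fact (Nat.Prime 7) := ⟨by norm_num⟩
  have hn : 1 < Fintype.card Ω := by omega
  haveI : Fintype G := Fintype.ofFinite G
  haveI := isPretransitive h2 hn
  obtain ⟨P⟩ := (inferInstance : Nonempty (Sylow 7 G))
  have hP : Nat.card ↥(P : Subgroup G) = 7 := by
    rw [Sylow.card_eq_multiplicity, hG]
    rw [show (84 : ℕ) = 12 * 7 from rfl, Nat.factorization_mul (by norm_num) (by norm_num),
      Finsupp.add_apply, (by norm_num : Nat.Prime 7).factorization_self,
      Nat.factorization_eq_zero_of_not_dvd (by norm_num)]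
    rfl
  have hidx : (P : Subgroup G).index = 12 := by
    have := Subgroup.card_mul_index (P : Subgroup G)
    rw [hP, hG] at this
    omega
  have hnum : Nat.card (Sylow 7 G) = 1 := by
    have h1 := Sylow.card_dvd_index P
    rw [hidx] at h1
    have h3 := card_sylow_modEq_one 7 G
    have h4 := Nat.le_of_dvd (by norm_num) h1
    unfold Nat.ModEq at h3
    interval_cases h : Nat.card (Sylow 7 G) <;> simp_all
  haveI : Subsingleton (Sylow 7 G) := (Nat.card_eq_one_iff_unique.1 hnum).1
  haveI : (P : Subgroup G).Normal := Sylow.normal_of_subsingleton P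
  obtain ⟨a⟩ : Nonempty Ω := Fintype.card_pos_iff.1 (by omega)
  have hPtrans : ∀ w : Ω, ∃ p ∈ (P : Subgroup G), p • a = w := by
    have hdiv := orb_mul (P : Subgroup G) a
    rw [hP] at hdiv
    rcases (Nat.dvd_prime (by norm_num : Nat.Prime 7)).1 (Dvd.intro _ hdiv) with h | h
    · exfalso
      obtain ⟨v, hv⟩ := Finset.card_eq_one.1 h
      have hva : orb (P : Subgroup G) a = {a} := by
        have := self_mem_orb (P : Subgroup G) a
        rw [hv] at this ⊢
        rw [Finset.mem_singleton.1 this]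
      have hfix := orb_le_one_iff.2 hva
      have : (P : Subgroup G) = ⊥ := by
        rw [eq_bot_iff]
        intro p hp
        rw [Subgroup.mem_bot]
        refine FaithfulSMul.eq_of_smul_eq_smul (α := Ω) fun w => ?_
        obtain ⟨g, rfl⟩ := exists_smul_eq G a w
        rw [one_smul]
        have hc : g⁻¹ * p * g ∈ (P : Subgroup G) := by
          simpa using (inferInstance : (P : Subgroup G).Normal).conj_mem p hp g⁻¹
        have := congrArg (fun z => g • z) (hfix _ hc)
        simpa [mul_smul] using this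
      rw [this, Subgroup.card_bot] at hP
      omega
    · intro w
      have : orb (P : Subgroup G) a = univ := Finset.eq_univ_of_card _ (h.trans h7.symm)
      exact mem_orb.1 (this ▸ Finset.mem_univ w)
  let φ : ↥(stabilizer G a) →* MulAut ↥(P : Subgroup G) :=
    (MulAut.conjNormal (H := (P : Subgroup G))).comp (stabilizer G a).subtype
  have hinj : Function.Injective φ := by
    rw [injective_iff_map_eq_one]
    intro g hg
    refine Subtype.ext (FaithfulSMul.eq_of_smul_eq_smul (α := Ω) fun w => ?_)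
    obtain ⟨p, hp, rfl⟩ := hPtrans w
    rw [Subgroup.coe_one, one_smul]
    have e : (g : G) * p * (g : G)⁻¹ = p := by
      have := congrArg (fun f : MulAut ↥(P : Subgroup G) => ((f ⟨p, hp⟩ : ↥(P : Subgroup G)) : G)) hg
      simpa [φ] using this
    have e' : (g : G) * p = p * (g : G) := by
      rw [← mul_inv_eq_iff_eq_mul]; exact e
    rw [← mul_smul, e', mul_smul, mem_stabilizer_iff.1 g.2]
  haveI : IsCyclic ↥(P : Subgroup G) := isCyclic_of_prime_card hP
  have hle := Nat.card_le_card_of_injective φ hinj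
  rw [IsCyclic.card_mulAut, hP, Nat.totient_prime (by norm_num : Nat.Prime 7)] at hle
  have hS := MulAction.card_orbit_mul_card_stabilizer_eq_card_group G a
  rw [← Nat.card_eq_fintype_card, ← Nat.card_eq_fintype_card, ← Nat.card_eq_fintype_card,
    hG] at hS
  have : Nat.card (orbit G a) = 7 := by
    rw [orbit_eq_univ, Nat.card_univ, Nat.card_eq_fintype_card, h7]
  rw [this] at hS
  omega

include h2 in
/-- The main inequality on the two point stabiliser. -/
lemma key [FaithfulSMul G Ω] [Fintype G] (hn : 7 ≤ Fintype.card Ω) {a b : Ω} (hab : a ≠ b)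
    (hk : 2 ≤ (univ.filter (fun g : G => g • a = a ∧ g • b = b)).card) :
    ((univ.filter (fun g : G => g • a = a ∧ g • b = b)).card : ℚ) ≤
      ∑ g ∈ univ.filter (fun g : G => g • a = a ∧ g • b = b),
        ((Fintype.card Ω : ℚ) - fx (Ω := Ω) g) / fx (Ω := Ω) g := by
  set Ks := univ.filter (fun g : G => g • a = a ∧ g • b = b) with hKs
  set k := Ks.card with hkdef
  set n := Fintype.card Ω with hndef
  set L := line G a b with hL
  set K := S2 G a b with hK
  have hkK : Nat.card ↥K = k := by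
    rw [hkdef, hKs, Nat.card_eq_fintype_card, ← Fintype.card_subtype]
    exact Fintype.card_congr (Equiv.subtypeEquivRight fun g => mem_S2)
  have h1 : (1 : G) ∈ Ks := by simp [hKs]
  have hp1 : fx (Ω := Ω) (1 : G) = n := fx_one
  have hpos : ∀ g ∈ Ks, 0 < fx (Ω := Ω) g := fun g hg =>
    Finset.card_pos.2 ⟨a, by simpa [hKs] using (Finset.mem_filter.1 hg).2.1⟩
  have hl2 : 2 ≤ L.card :=
    Finset.one_lt_card.2 ⟨a, left_mem_line a b, b, right_mem_line a b, hab⟩
  have hfx : ∀ x : G, x ≠ 1 → fx (Ω := Ω) x * (L.card - 1) ≤ n - 1 := fun x hx =>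
    fx_mul_le h2 hab hx
  -- four or more fixed points of `K`
  rcases Nat.lt_or_ge 3 L.card with hl | hl
  · refine uniform n ((n - 1) / 3) Ks _ h1 hp1 (fun g hg hg1 => ⟨hpos g hg, ?_⟩) ?_ ?_
    · rw [Nat.le_div_iff_mul_le (by norm_num)]
      exact le_trans (Nat.mul_le_mul_left _ (by omega)) (hfx g hg1)
    · have h3 : 3 * ((n - 1) / 3) + 1 ≤ n := by omega
      have h3' : (3 : ℚ) * (((n - 1) / 3 : ℕ) : ℚ) + 1 ≤ n := by exact_mod_cast h3
      have hk' : (2 : ℚ) ≤ k := by exact_mod_cast hk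
      have hf0 : (0 : ℚ) ≤ (((n - 1) / 3 : ℕ) : ℚ) := Nat.cast_nonneg _
      rw [← hkdef]
      nlinarith
    · omega
  -- three fixed points and `K` large
  by_cases hbig : L.card = 3 ∧ n + 1 ≤ 2 * k
  · obtain ⟨hl3, hbig⟩ := hbig
    refine uniform n ((n - 1) / 2) Ks _ h1 hp1 (fun g hg hg1 => ⟨hpos g hg, ?_⟩) ?_ ?_
    · rw [Nat.le_div_iff_mul_le (by norm_num)]
      have := hfx g hg1
      rw [hl3] at this
      simpa using this
    · have h3 : 2 * ((n - 1) / 2) + 1 ≤ n := by omega
      have h3' : (2 : ℚ) * (((n - 1) / 2 : ℕ) : ℚ) + 1 ≤ n := by exact_mod_cast h3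
      have hk' : (2 : ℚ) ≤ k := by exact_mod_cast hk
      have hb' : (n : ℚ) + 1 ≤ 2 * k := by exact_mod_cast hbig
      rw [← hkdef]
      nlinarith
    · omega
  -- the remaining cases use the number of orbits
  set kw : Ω → ℕ := fun w => Nat.card ↥(K ⊓ stabilizer G w) with hkw
  have hT : (∑ g ∈ Ks, (fx (Ω := Ω) g : ℚ)) = ((∑ w : Ω, kw w : ℕ) : ℚ) := by
    rw [← Nat.cast_sum]
    congr 1
    simp only [fx, Finset.card_filter]
    rw [Finset.sum_comm]
    refine Finset.sum_congr rfl fun w _ => ?_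
    rw [← Finset.card_filter, hkw]
    simp only
    rw [hKs, Finset.filter_filter, ← Fintype.card_subtype, Nat.card_eq_fintype_card]
    refine Fintype.card_congr (Equiv.subtypeEquivRight fun g => ?_)
    simp [hK, Subgroup.mem_inf, mem_S2, and_assoc]
  have hmul : ∀ w, (orb K w).card * kw w = k := fun w => (orb_mul K w).trans hkK
  have hLw : ∀ w, w ∈ L ↔ (orb K w).card = 1 := by
    intro w
    simp only [hL, line, Finset.mem_filter, Finset.mem_univ, true_and]
    rw [Finset.card_eq_one]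
    constructor
    · intro h
      exact ⟨w, orb_le_one_iff.1 fun x hx => mem_stabilizer_iff.1 (h hx)⟩
    · rintro ⟨v, hv⟩ x hx
      have := self_mem_orb K w
      rw [hv, Finset.mem_singleton] at this
      exact mem_stabilizer_iff.2 (orb_le_one_iff.2 (this ▸ hv) x hx)
  have horb2 : ∀ w, w ∉ L → 2 ≤ (orb K w).card := by
    intro w hw
    have : 0 < (orb K w).card := Finset.card_pos.2 ⟨w, self_mem_orb K w⟩
    rw [hLw] at hw
    omega
  have hkL : ∀ w ∈ L, kw w = k := fun w hw => by
    have := hmul w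
    rwa [(hLw w).1 hw, one_mul] at this
  have hkw2 : ∀ w, w ∉ L → 2 * kw w ≤ k := fun w hw => by
    rw [← hmul w]
    exact Nat.mul_le_mul_right _ (horb2 w hw)
  have crit : ∀ T : ℕ, (∑ w, kw w) ≤ T →
      (2 * k - 1 : ℚ) * ((T : ℚ) - n) ≤ (n : ℚ) * ((k : ℚ) - 1) ^ 2 →
      ((k : ℕ) : ℚ) ≤ ∑ g ∈ Ks, ((n : ℚ) - fx (Ω := Ω) g) / fx (Ω := Ω) g := by
    intro T hT' hineq
    refine cauchy n Ks _ h1 hp1 hk hpos ?_
    rw [hT, ← hkdef]
    have hk' : (2 : ℚ) ≤ k := by exact_mod_cast hk
    have : ((∑ w, kw w : ℕ) : ℚ) ≤ T := by exact_mod_cast hT'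
    nlinarith
  -- the orbits outside `L`
  have hrest : ∀ O : Finset Ω, Disjoint O L →
      2 * (∑ w, kw w) + O.card * k + L.card * k ≤
        n * k + 2 * L.card * k + 2 * ∑ w ∈ O, kw w := by
    intro O hO
    have e : (∑ w, kw w) = (∑ w ∈ O, kw w) + (∑ w ∈ L, kw w) + ∑ w ∈ univ \ (O ∪ L), kw w := by
      rw [← Finset.sum_union hO, add_comm, Finset.sum_sdiff (Finset.subset_univ _)]
    have eL : (∑ w ∈ L, kw w) = L.card * k := by
      rw [Finset.sum_congr rfl hkL, Finset.sum_const, smul_eq_mul]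
    have hR : 2 * (∑ w ∈ univ \ (O ∪ L), kw w) ≤ (univ \ (O ∪ L)).card * k := by
      rw [Finset.mul_sum, ← smul_eq_mul (α := ℕ) _ k, ← Finset.sum_const]
      refine Finset.sum_le_sum fun w hw => hkw2 w ?_
      simp only [Finset.mem_sdiff, Finset.mem_union, not_or] at hw
      exact hw.2.2
    have hc : (univ \ (O ∪ L)).card + O.card + L.card = n := by
      rw [add_assoc, ← Finset.card_union_of_disjoint hO, Finset.card_sdiff_add_card_eq_card
        (Finset.subset_univ _), Finset.card_univ]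
    rw [e, eL]
    have : (univ \ (O ∪ L)).card * k + O.card * k + L.card * k = n * k := by
      rw [← add_mul, ← add_mul, hc]
    linarith
  have hsumO : ∀ c, (∑ w ∈ orb K c, kw w) = k := by
    intro c
    rw [Finset.sum_congr rfl (g := fun _ => kw c), Finset.sum_const, smul_eq_mul, hmul c]
    intro w hw
    have h1' := hmul w
    rw [orb_eq_of_mem hw] at h1'
    have hp : 0 < (orb K c).card := Finset.card_pos.2 ⟨w, hw⟩
    exact Nat.eq_of_mul_eq_mul_left hp (h1'.trans (hmul c).symm)
  have hdisjL : ∀ c, c ∉ L → Disjoint (orb K c) L := by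
    intro c hc
    rw [Finset.disjoint_left]
    intro w hw hwL
    rw [hLw, orb_eq_of_mem hw, ← hLw] at hwL
    exact hc hwL
  have htake : ∀ T : ℕ, 2 * (∑ w, kw w) ≤ T → T = (n + L.card - 2) * k →
      ((k : ℕ) : ℚ) ≤ ∑ g ∈ Ks, ((n : ℚ) - fx (Ω := Ω) g) / fx (Ω := Ω) g := by
    intro T hT' hTe
    refine cauchy n Ks _ h1 hp1 hk hpos ?_
    rw [hT, ← hkdef]
    have hk' : (2 : ℚ) ≤ k := by exact_mod_cast hk
    rcases (show L.card = 2 ∨ L.card = 3 by omega) with hl' | hl'
    · rw [hl'] at hTe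
      have e : 2 * (∑ w, kw w) ≤ n * k := by
        refine le_trans hT' (le_of_eq ?_)
        simpa using hTe
      have e' : (2 : ℚ) * ((∑ w, kw w : ℕ) : ℚ) ≤ n * k := by exact_mod_cast e
      have hn' : (0 : ℚ) ≤ n := Nat.cast_nonneg _
      nlinarith
    · rw [hl'] at hTe
      have e : 2 * (∑ w, kw w) ≤ (n + 1) * k := by
        refine le_trans hT' (le_of_eq ?_)
        rw [hTe, show n + 3 - 2 = n + 1 by omega]
      have e' : (2 : ℚ) * ((∑ w, kw w : ℕ) : ℚ) ≤ (n + 1) * k := by exact_mod_cast e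
      have hsm : 2 * k ≤ n := by
        by_contra h
        exact hbig ⟨hl', by omega⟩
      have hsm' : (2 : ℚ) * k ≤ n := by exact_mod_cast hsm
      have hn' : (0 : ℚ) ≤ n := Nat.cast_nonneg _
      nlinarith
  by_cases h4 : ∃ c, c ∉ L ∧ 4 ≤ (orb K c).card
  · obtain ⟨c, hc, hc4⟩ := h4
    refine htake _ ?_ rfl
    have := hrest _ (hdisjL c hc)
    rw [hsumO c] at this
    have h4k : 4 * k ≤ (orb K c).card * k := Nat.mul_le_mul_right _ hc4
    have e : (n + L.card - 2) * k + 2 * k = n * k + L.card * k := by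
      rw [← add_mul, ← add_mul]
      congr 1
      omega
    linarith
  push Not at h4
  by_cases h33 : ∃ c d, c ∉ L ∧ d ∉ L ∧ (orb K c).card = 3 ∧ (orb K d).card = 3 ∧ d ∉ orb K c
  · obtain ⟨c, d, hc, hd, hc3, hd3, hdc⟩ := h33
    have hdj : Disjoint (orb K c) (orb K d) := by
      rw [Finset.disjoint_left]
      intro w hw hw'
      exact hdc ((orb_eq_of_mem hw).symm.trans (orb_eq_of_mem hw') ▸ self_mem_orb K d)
    refine htake _ ?_ rfl
    have := hrest (orb K c ∪ orb K d)
      (Finset.disjoint_union_left.2 ⟨hdisjL c hc, hdisjL d hd⟩)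
    rw [Finset.sum_union hdj, hsumO c, hsumO d, Finset.card_union_of_disjoint hdj, hc3, hd3]
      at this
    have e : (n + L.card - 2) * k + 2 * k = n * k + L.card * k := by
      rw [← add_mul, ← add_mul]
      congr 1
      omega
    linarith
  push Not at h33
  -- now there are no orbits of length four, for every pair
  have hno4 : ∀ u v w : Ω, u ≠ v → (orb (S2 G u v) w).card ≠ 4 := by
    intro u v w huv h
    obtain ⟨g, hg1, hg2⟩ := h2 a b u v hab huv
    rw [← hg1, ← hg2, ← smul_inv_smul g w, orb_card_smul] at h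
    have hnL : g⁻¹ • w ∉ L := by
      have h' : (orb K (g⁻¹ • w)).card = 4 := h
      rw [hLw, h']
      norm_num
    have := h4 _ hnL
    have h' : (orb K (g⁻¹ • w)).card = 4 := h
    omega
  obtain ⟨c₂, hc₂L, hc₂⟩ : ∃ c, c ∉ L ∧ (orb K c).card = 2 := by
    by_contra hne
    push Not at hne
    obtain ⟨c, hc⟩ : ∃ c, c ∉ L := by
      by_contra h
      push Not at h
      have : n ≤ L.card := by
        rw [hndef, ← Finset.card_univ]
        exact Finset.card_le_card fun w _ => h w
      omega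
    have h3 : ∀ w, w ∉ L → (orb K w).card = 3 := by
      intro w hw
      have := horb2 w hw
      have := h4 w hw
      have := hne w hw
      omega
    have hsub : univ \ L ⊆ orb K c := fun w hw => by
      simp only [Finset.mem_sdiff, Finset.mem_univ, true_and] at hw
      exact h33 c w hc hw (h3 c hc) (h3 w hw)
    have := Finset.card_le_card hsub
    rw [h3 c hc, Finset.card_sdiff_of_subset (Finset.subset_univ _), Finset.card_univ] at this
    omega
  set H := K ⊓ stabilizer G c₂ with hH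
  have hH2 : ∀ w, w ∉ L → (orb K w).card = 2 → ∀ x ∈ H, x • w = w := by
    intro w _ hw x hx
    have e : H = K ⊓ stabilizer G w := hyperplane_unique h2 hno4 hab hc₂ hw
    rw [e] at hx
    exact mem_stabilizer_iff.1 hx.2
  have hHL : ∀ w ∈ L, ∀ x ∈ H, x • w = w := fun w hw x hx => by
    simp only [hL, line, Finset.mem_filter, Finset.mem_univ, true_and] at hw
    exact mem_stabilizer_iff.1 (hw hx.1)
  have hHk : 2 * Nat.card ↥H = k := by rw [← hc₂]; exact hmul c₂
  by_cases h3 : ∃ c, c ∉ L ∧ (orb K c).card = 3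
  · exfalso
    obtain ⟨c₃, hc₃L, hc₃⟩ := h3
    have hHne : H ≠ ⊥ := by
      intro h
      rw [h, Subgroup.card_bot] at hHk
      have := hmul c₃
      rw [hc₃] at this
      omega
    obtain ⟨y, hy, hy1⟩ := (Subgroup.ne_bot_iff_exists_ne_one.1 hHne).elim
      fun y hy => (⟨y.1, y.2, fun h => hy (Subtype.ext h)⟩ : ∃ y ∈ H, y ≠ 1)
    have hsupp : (univ.filter (fun w : Ω => y • w ≠ w)) ⊆ orb K c₃ := by
      intro w hw
      simp only [Finset.mem_filter, Finset.mem_univ, true_and] at hw
      have hwL : w ∉ L := fun h => hw (hHL w h y hy)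
      have h2' := horb2 w hwL
      have := h4 w hwL
      rcases (show (orb K w).card = 2 ∨ (orb K w).card = 3 by omega) with h | h
      · exact absurd (hH2 w hwL h y hy) hw
      · exact h33 c₃ w hc₃L hwL hc₃ h
    have hsupp3 : (univ.filter (fun w : Ω => y • w ≠ w)).card ≤ 3 :=
      (Finset.card_le_card hsupp).trans hc₃.le
    rcases (show L.card = 2 ∨ L.card = 3 by omega) with hl' | hl'
    · haveI : IsPreprimitive G Ω := by
        refine isPreprimitive_of_is_two_pretransitive ?_
        rw [is_two_pretransitive_iff]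
        exact fun {a b c d} hab hcd => h2 a b c d hab hcd
      have hA := alternating_le (G := G) (Ω := Ω) (by omega) hy1 hsupp3
      -- two more points outside `L` and outside the orbit of `c₂`
      have hbig' : 2 ≤ (univ \ (L ∪ orb K c₂)).card := by
        rw [Finset.card_sdiff_of_subset (Finset.subset_univ _), Finset.card_univ,
          Finset.card_union_of_disjoint (hdisjL c₂ hc₂L).symm, hc₂]
        omega
      obtain ⟨d, hd, e, he, hde⟩ := Finset.one_lt_card.1 hbig'
      simp only [Finset.mem_sdiff, Finset.mem_univ, true_and, Finset.mem_union, not_or] at hd he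
      have hcd : c₂ ≠ d := fun h => hd.2 (h ▸ self_mem_orb K c₂)
      have hce : c₂ ≠ e := fun h => he.2 (h ▸ self_mem_orb K c₂)
      obtain ⟨g, hg⟩ := hA _ (Equiv.Perm.isThreeCycle_swap_mul_swap_same hcd hce hde)
      have hga : ∀ z ∈ L, g • z = z := by
        intro z hz
        rw [hg]
        have z1 : z ≠ c₂ := fun h => hc₂L (h ▸ hz)
        have z2 : z ≠ d := fun h => hd.1 (h ▸ hz)
        have z3 : z ≠ e := fun h => he.1 (h ▸ hz)
        simp [Equiv.swap_apply_of_ne_of_ne, z1, z2, z3]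
      have hgK : g ∈ K := mem_S2.2 ⟨hga a (left_mem_line a b), hga b (right_mem_line a b)⟩
      refine he.2 (mem_orb.2 ⟨g, hgK, ?_⟩)
      rw [hg]
      simp [Equiv.swap_apply_of_ne_of_ne, hce.symm, hde.symm, hcd, hce]
    · have := hfx y hy1
      rw [hl'] at this
      have e : fx (Ω := Ω) y + (univ.filter (fun w : Ω => y • w ≠ w)).card = n :=
        Finset.card_filter_add_card_filter_not _
      omega
  push Not at h3
  have horb : ∀ w, w ∉ L → (orb K w).card = 2 := by
    intro w hw
    have := horb2 w hw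
    have := h4 w hw
    have := h3 w hw
    omega
  have hHbot : H = ⊥ := by
    rw [eq_bot_iff]
    intro x hx
    rw [Subgroup.mem_bot]
    refine FaithfulSMul.eq_of_smul_eq_smul (α := Ω) fun w => ?_
    rw [one_smul]
    by_cases hw : w ∈ L
    · exact hHL w hw x hx
    · exact hH2 w hw (horb w hw) x hx
  have hk2 : k = 2 := by rw [hHbot, Subgroup.card_bot] at hHk; omega
  have hTeq : (∑ w, kw w) = n + L.card := by
    have e : ∀ w, kw w = if w ∈ L then 2 else 1 := by
      intro w
      split_ifs with hw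
      · rw [hkL w hw, hk2]
      · have := hmul w
        rw [horb w hw, hk2] at this
        omega
    rw [Finset.sum_congr rfl (fun w _ => e w), Finset.sum_ite, Finset.sum_const, Finset.sum_const,
      smul_eq_mul, smul_eq_mul, Finset.filter_mem_eq_inter, Finset.univ_inter]
    have e2 : (univ.filter (fun w => w ∉ L)).card + L.card = n := by
      rw [Finset.filter_notMem_eq_sdiff, Finset.card_sdiff_add_card_eq_card
        (Finset.subset_univ _), Finset.card_univ]
    omega
  refine crit (n + L.card) hTeq.le ?_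
  rw [hk2]
  push_cast
  have hbound : 3 * L.card ≤ n := by
    by_contra hlt
    have hl3 : L.card = 3 := by omega
    have hn8 : n = 7 ∨ n = 8 := by omega
    rcases hn8 with h7 | h8
    · refine not_order_84 h2 h7 ?_
      rw [Nat.card_eq_fintype_card, card_eq h2 hab, ← hKs, ← hkdef, hk2, ← hndef, h7]
    · haveI : Fact (Nat.Prime 2) := ⟨Nat.prime_two⟩
      have hp : IsPGroup 2 ↥K := IsPGroup.of_card (n := 1) (by rw [hkK, hk2]; rfl)
      have hmod := hp.card_modEq_card_fixedPoints Ω
      have hfix : Nat.card (MulAction.fixedPoints ↥K Ω) = 3 := by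
        rw [← hl3, Nat.card_eq_fintype_card, ← Set.toFinset_card]
        congr 1
        ext w
        simp only [Set.mem_toFinset, MulAction.mem_fixedPoints, hL, line, Finset.mem_filter,
          Finset.mem_univ, true_and]
        constructor
        · intro h x hx
          exact mem_stabilizer_iff.2 (h ⟨x, hx⟩)
        · rintro h ⟨x, hx⟩
          exact mem_stabilizer_iff.1 (h hx)
      rw [hfix, Nat.card_eq_fintype_card, ← hndef, h8] at hmod
      unfold Nat.ModEq at hmod
      norm_num at hmod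
  have : (3 : ℚ) * L.card ≤ n := by exact_mod_cast hbound
  nlinarith

end Lines

end Cfsg.Agent.DerangementTwo
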