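import Mathlib
import Cfsg.Agent.Lib.CharTheory.DoubleCover
import Cfsg.Agent.Solvable.Gaschutz

/-!
# Involutions in double covers of small alternating groups
-/

set_option autoImplicit false

namespace Cfsg.Agent.Perm.DoubleCoverInv

open Cfsg.Agent.Coprime

variable {n : ℕ}

/-- a lift of a dihedral Sylow 2-subgroup splits the cover -/
theorem exists_complement {H A : Type*} [Group H] [Finite H] [Group A] (π : H →* A)
    (hπ : Function.Surjective π) (hker : π.ker = Subgroup.center H)
    (hZ : Nat.card (Subgroup.center H) = 2)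
    (hinv : ∀ y : H, orderOf (π y) = 2 → y ^ 2 = 1)
    (u v : A) (hu : orderOf u = 2) (hv : orderOf v = 2) {k : ℕ}
    (hm : orderOf (u * v) = 2 ^ (k + 1)) (hnot : u ∉ Subgroup.zpowers (u * v))
    (hodd : ∃ r, Odd r ∧ Nat.card A = r * (2 * 2 ^ (k + 1))) :
    ∃ L : Subgroup H, (Subgroup.center H).IsComplement' L := by
  obtain ⟨x, rfl⟩ := hπ u
  obtain ⟨y, rfl⟩ := hπ v
  have hxy : (x * y) ^ 2 ^ (k + 1) = 1 := by
    rw [pow_succ, pow_mul]
    refine hinv _ ?_
    rw [map_pow, map_mul]
    have h := orderOf_pow_of_dvd (x := π x * π y) (n := 2 ^ k) (by positivity) ?_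
    · rw [h, hm, pow_succ, Nat.mul_div_cancel_left _ (by positivity)]
    · rw [hm]; exact pow_dvd_pow 2 (Nat.le_succ k)
  have hx2 : x ^ 2 = 1 := hinv x hu
  have hy2 : y ^ 2 = 1 := hinv y hv
  have hxi : x⁻¹ = x := inv_eq_of_mul_eq_one_right (by rw [← pow_two, hx2])
  have hyi : y⁻¹ = y := inv_eq_of_mul_eq_one_right (by rw [← pow_two, hy2])
  set R := Subgroup.zpowers (x * y) with hR
  set T := Subgroup.zpowers x with hT
  have hTR : T ≤ Subgroup.normalizer (R : Set H) := by
    rw [hT, Subgroup.zpowers_le, Subgroup.mem_normalizer_iff_map_conj_eq, MonoidHom.map_zpowers]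
    have : (MulAut.conj x : H →* H) (x * y) = (x * y)⁻¹ := by
      show x * (x * y) * x⁻¹ = _
      rw [mul_inv_rev, hyi, hxi, ← mul_assoc, ← pow_two, hx2, one_mul]
    rw [this, Subgroup.zpowers_inv]
  have hordR : orderOf (x * y) = 2 ^ (k + 1) :=
    Nat.dvd_antisymm (orderOf_dvd_of_pow_eq_one hxy) (by
      rw [← hm, ← map_mul]; exact orderOf_map_dvd π _)
  have hordT : orderOf x = 2 := Nat.dvd_antisymm (orderOf_dvd_of_pow_eq_one hx2)
    (hu ▸ orderOf_map_dvd π _)
  have hdisj : Disjoint R T := by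
    rw [Subgroup.disjoint_def]
    rintro z ⟨i, rfl⟩ ⟨j, hj : x ^ j = (x * y) ^ i⟩
    rcases Int.even_or_odd j with ⟨j', rfl⟩ | ⟨j', rfl⟩
    · show (x * y) ^ i = 1
      rw [← hj, ← two_mul, zpow_mul, zpow_ofNat, hx2, one_zpow]
    · exfalso
      rw [zpow_add_one, zpow_mul, zpow_ofNat, hx2, one_zpow, one_mul] at hj
      apply hnot
      exact ⟨i, by show (π x * π y) ^ i = π x; rw [← map_mul, ← map_zpow, ← hj]⟩
  set L := R ⊔ T
  have hLcard : Nat.card L = 2 * 2 ^ (k + 1) := by
    rw [card_sup_of_disjoint hTR hdisj, hR, hT, Nat.card_zpowers, Nat.card_zpowers, hordR, hordT,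
      mul_comm]
  have hZL : Subgroup.center H ⊓ L = ⊥ := by
    rw [Subgroup.eq_bot_iff_forall]
    rintro z ⟨hzc, hzL⟩
    obtain ⟨a, ⟨i, rfl⟩, b, ⟨j, rfl⟩, rfl⟩ := (mem_sup_of_le_normalizer hTR).1 hzL
    have h1 : (π x * π y) ^ i * π x ^ j = 1 := by
      have hzc' : π ((x * y) ^ i * x ^ j) = 1 := (SetLike.ext_iff.1 hker _).2 hzc
      simpa only [map_mul, map_zpow] using hzc'
    have hu2 : π x ^ 2 = 1 := by rw [← map_pow, hx2, map_one]
    rcases Int.even_or_odd j with ⟨j', rfl⟩ | ⟨j', rfl⟩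
    · rw [← two_mul, zpow_mul, zpow_ofNat, hu2, one_zpow, mul_one,
        ← orderOf_dvd_iff_zpow_eq_one, hm, ← hordR, orderOf_dvd_iff_zpow_eq_one] at h1
      show (x * y) ^ i * x ^ (j' + j') = 1
      rw [h1, one_mul, ← two_mul, zpow_mul, zpow_ofNat, hx2, one_zpow]
    · exfalso
      rw [zpow_add_one, zpow_mul, zpow_ofNat, hu2, one_zpow, one_mul] at h1
      exact hnot ⟨-i, by show (π x * π y) ^ (-i) = π x; rw [zpow_neg]; exact inv_eq_of_mul_eq_one_right h1⟩
  haveI : IsMulCommutative (Subgroup.center H) := inferInstance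
  have hUcard : Nat.card ↥(Subgroup.center H ⊔ L) = 2 * (2 * 2 ^ (k + 1)) := by
    rw [card_sup_of_disjoint Subgroup.le_normalizer_of_normal
      (disjoint_iff.2 hZL), hZ, hLcard]
  obtain ⟨r, hr, hA⟩ := hodd
  have hH : Nat.card H = 2 * (r * (2 * 2 ^ (k + 1))) := by
    have h := (Subgroup.center H).index_mul_card
    rw [hZ, ← hker, Subgroup.index_ker, MonoidHom.range_eq_top.2 hπ, Subgroup.card_top, hA] at h
    omega
  have hidx : (Subgroup.center H ⊔ L).index = r := by
    have h := (Subgroup.center H ⊔ L).index_mul_card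
    rw [hUcard, hH] at h
    exact Nat.eq_of_mul_eq_mul_right (by positivity) (h.trans (mul_left_comm 2 r _))
  exact Solvable.Gaschutz.exists_complement' le_sup_left
    (by rw [hZ, hidx]; exact hr.coprime_two_left) (A := L) le_sup_right
    (by rwa [inf_comm]) rfl

/-- products of two transpositions are even -/
theorem mem_two {i j k l : Fin n} (h : i ≠ j) (h' : k ≠ l) :
    Equiv.swap i j * Equiv.swap k l ∈ alternatingGroup (Fin n) := by
  simp [Equiv.Perm.mem_alternatingGroup, Equiv.Perm.sign_swap h, Equiv.Perm.sign_swap h']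

/-- involutions of a small alternating group are conjugate -/
theorem conj_involutions (hn : n ≤ 7) (s t : alternatingGroup (Fin n)) (hs : orderOf s = 2)
    (ht : orderOf t = 2) : ∃ g : alternatingGroup (Fin n), g * s * g⁻¹ = t := by
  have htype : ∀ w : alternatingGroup (Fin n), orderOf w = 2 →
      (w : Equiv.Perm (Fin n)).cycleType = Multiset.replicate 2 2 := by
    intro w hw
    haveI : Fact (Nat.Prime 2) := ⟨Nat.prime_two⟩
    obtain ⟨k, hk⟩ := Equiv.Perm.cycleType_prime_order (σ := (w : Equiv.Perm (Fin n)))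
      (by rw [Subgroup.orderOf_coe, hw]; exact Nat.prime_two)
    rw [Subgroup.orderOf_coe, hw] at hk
    have h1 := Equiv.Perm.sum_cycleType (w : Equiv.Perm (Fin n))
    have h2 := (Finset.card_le_univ (w : Equiv.Perm (Fin n)).support)
    rw [hk, Multiset.sum_replicate, smul_eq_mul] at h1
    rw [Fintype.card_fin, ← h1] at h2
    have hsign := Equiv.Perm.sign_of_cycleType (w : Equiv.Perm (Fin n))
    rw [Equiv.Perm.mem_alternatingGroup.1 w.2, hk, Multiset.sum_replicate, Multiset.card_replicate,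
      smul_eq_mul] at hsign
    obtain rfl | rfl | rfl : k = 0 ∨ k = 1 ∨ k = 2 := by omega
    · exact absurd hsign (by decide)
    · exact hk
    · exact absurd hsign (by decide)
  obtain ⟨c, hc⟩ := isConj_iff.1 (Equiv.Perm.isConj_iff_cycleType_eq.2
    ((htype s hs).trans (htype t ht).symm))
  rcases Int.units_eq_one_or (Equiv.Perm.sign c) with h | h
  · exact ⟨⟨c, Equiv.Perm.mem_alternatingGroup.2 h⟩, Subtype.ext hc⟩
  · obtain ⟨i, hi⟩ : ∃ i, (s : Equiv.Perm (Fin n)) i ≠ i := by
      by_contra! h'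
      have : s = 1 := Subtype.ext (Equiv.ext h')
      simp [this] at hs
    set τ := Equiv.swap i ((s : Equiv.Perm (Fin n)) i)
    have hss : (s : Equiv.Perm (Fin n)) ((s : Equiv.Perm (Fin n)) i) = i := by
      have : s * s = 1 := by rw [← pow_two, ← hs, pow_orderOf_eq_one]
      exact congrArg (fun w : alternatingGroup (Fin n) => (w : Equiv.Perm (Fin n)) i) this
    have hτ : τ * s * τ⁻¹ = (s : Equiv.Perm (Fin n)) := by
      rw [mul_inv_eq_iff_eq_mul, show (s : Equiv.Perm (Fin n)) * τ =
        Equiv.swap ((s : Equiv.Perm (Fin n)) i) ((s : Equiv.Perm (Fin n)) ((s : Equiv.Perm (Fin n)) i)) * s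
        from Equiv.mul_swap_eq_swap_mul _ _ _, hss, Equiv.swap_comm]
    refine ⟨⟨c * τ, ?_⟩, Subtype.ext ?_⟩
    · rw [Equiv.Perm.mem_alternatingGroup, map_mul, h, Equiv.Perm.sign_swap hi.symm]
      rfl
    · show c * τ * (s : Equiv.Perm (Fin n)) * (c * τ)⁻¹ = t
      rw [mul_inv_rev, show c * τ * (s : Equiv.Perm (Fin n)) * (τ⁻¹ * c⁻¹) =
        c * (τ * s * τ⁻¹) * c⁻¹ by group, hτ, hc]

/-- membership in a cyclic subgroup -/
theorem mem_zpowers_exists {G : Type*} [Group G] [Finite G] {x y : G}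
    (h : y ∈ Subgroup.zpowers x) : ∃ j < orderOf x, x ^ j = y := by
  classical
  rw [mem_zpowers_iff_mem_range_orderOf, Finset.mem_image] at h
  obtain ⟨j, hj, e⟩ := h
  exact ⟨j, Finset.mem_range.1 hj, e⟩

/-- The unique involution. -/
theorem unique_involution (hn : n ≤ 7) {H : Type*} [Group H] [Finite H]
    (π : H →* alternatingGroup (Fin n)) (hπ : Function.Surjective π)
    (hker : π.ker = Subgroup.center H) (hZ : Nat.card (Subgroup.center H) = 2)
    (hsplit : ∀ L : Subgroup H, ¬ (Subgroup.center H).IsComplement' L) (x : H)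
    (hx : orderOf x = 2) : x ∈ Subgroup.center H := by
  by_contra hxc
  have hs : orderOf (π x) = 2 := orderOf_eq_prime (by
    rw [← map_pow, ← hx, pow_orderOf_eq_one, map_one]) (fun h => hxc (hker ▸ h))
  have hinv : ∀ y : H, orderOf (π y) = 2 → y ^ 2 = 1 := by
    intro y hy
    obtain ⟨g, hg⟩ := conj_involutions hn (π x) (π y) hs hy
    obtain ⟨g, rfl⟩ := hπ g
    have hc : (g * x * g⁻¹)⁻¹ * y ∈ Subgroup.center H := by
      rw [← hker, MonoidHom.mem_ker]
      rw [map_mul, map_inv, map_mul, map_mul, map_inv, hg, inv_mul_cancel]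
    have h2 : ((g * x * g⁻¹)⁻¹ * y) ^ 2 = 1 := by
      have := pow_card_eq_one' (x := (⟨_, hc⟩ : Subgroup.center H))
      rw [hZ] at this
      exact congrArg Subtype.val this
    have e : y = (g * x * g⁻¹) * ((g * x * g⁻¹)⁻¹ * y) := (mul_inv_cancel_left _ _).symm
    rw [e, (show Commute (g * x * g⁻¹) ((g * x * g⁻¹)⁻¹ * y) from
      Subgroup.mem_center_iff.1 hc _).mul_pow, h2, conj_pow, ← hx, pow_orderOf_eq_one]
    group
  have hA2 : n ≤ 3 → False := fun h3 => by
    have h1 : orderOf (π x) ∣ 3 := by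
      refine (orderOf_dvd_natCard _).trans ?_
      interval_cases n <;> rw [Nat.card_eq_fintype_card] <;> decide
    rw [hs] at h1
    omega
  rcases lt_or_ge n 4 with h | h
  · exact hA2 (by omega)
  have hcard : 2 * Nat.card (alternatingGroup (Fin n)) = n.factorial := by
    haveI : Nontrivial (Fin n) := Fin.nontrivial_iff_two_le.2 (by omega)
    rw [two_mul_nat_card_alternatingGroup, Nat.card_perm, Nat.card_fin]
  interval_cases n
  · obtain ⟨L, hL⟩ := exists_complement π hπ hker hZ hinv (k := 0)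
      ⟨Equiv.swap 0 1 * Equiv.swap 2 3, mem_two (by decide) (by decide)⟩ ⟨Equiv.swap 0 2 * Equiv.swap 1 3, mem_two (by decide) (by decide)⟩
      (orderOf_eq_prime (by decide) (by decide)) (orderOf_eq_prime (by decide) (by decide))
      (by rw [zero_add, pow_one]; exact orderOf_eq_prime (by decide) (by decide))
      (fun hm => by
        obtain ⟨j, hj, e⟩ := mem_zpowers_exists hm
        rw [orderOf_eq_prime (p := 2) (by decide) (by decide)] at hj
        interval_cases j <;> revert e <;> decide)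
      ⟨3, ⟨1, rfl⟩, by rw [show Nat.factorial 4 = 24 from rfl] at hcard; omega⟩
    exact hsplit L hL
  · obtain ⟨L, hL⟩ := exists_complement π hπ hker hZ hinv (k := 0)
      ⟨Equiv.swap 0 1 * Equiv.swap 2 3, mem_two (by decide) (by decide)⟩ ⟨Equiv.swap 0 2 * Equiv.swap 1 3, mem_two (by decide) (by decide)⟩
      (orderOf_eq_prime (by decide) (by decide)) (orderOf_eq_prime (by decide) (by decide))
      (by rw [zero_add, pow_one]; exact orderOf_eq_prime (by decide) (by decide))
      (fun hm => by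
        obtain ⟨j, hj, e⟩ := mem_zpowers_exists hm
        rw [orderOf_eq_prime (p := 2) (by decide) (by decide)] at hj
        interval_cases j <;> revert e <;> decide)
      ⟨15, ⟨7, rfl⟩, by rw [show Nat.factorial 5 = 120 from rfl] at hcard; omega⟩
    exact hsplit L hL
  · obtain ⟨L, hL⟩ := exists_complement π hπ hker hZ hinv (k := 1)
      ⟨Equiv.swap 0 1 * Equiv.swap 2 3, mem_two (by decide) (by decide)⟩ ⟨Equiv.swap 1 2 * Equiv.swap 4 5, mem_two (by decide) (by decide)⟩
      (orderOf_eq_prime (by decide) (by decide)) (orderOf_eq_prime (by decide) (by decide))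
      (orderOf_eq_prime_pow (by decide) (by decide))
      (fun hm => by
        obtain ⟨j, hj, e⟩ := mem_zpowers_exists hm
        rw [orderOf_eq_prime_pow (p := 2) (n := 1) (by decide) (by decide)] at hj
        interval_cases j <;> revert e <;> decide)
      ⟨45, ⟨22, rfl⟩, by rw [show Nat.factorial 6 = 720 from rfl] at hcard; omega⟩
    exact hsplit L hL
  · obtain ⟨L, hL⟩ := exists_complement π hπ hker hZ hinv (k := 1)
      ⟨Equiv.swap 0 1 * Equiv.swap 2 3, mem_two (by decide) (by decide)⟩ ⟨Equiv.swap 1 2 * Equiv.swap 4 5, mem_two (by decide) (by decide)⟩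
      (orderOf_eq_prime (by decide) (by decide)) (orderOf_eq_prime (by decide) (by decide))
      (orderOf_eq_prime_pow (by decide) (by decide))
      (fun hm => by
        obtain ⟨j, hj, e⟩ := mem_zpowers_exists hm
        rw [orderOf_eq_prime_pow (p := 2) (n := 1) (by decide) (by decide)] at hj
        interval_cases j <;> revert e <;> decide)
      ⟨315, ⟨157, rfl⟩, by rw [show Nat.factorial 7 = 5040 from rfl] at hcard; omega⟩
    exact hsplit L hL

/-- a double cover of the alternating group of degree eight with two involutions -/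
theorem cover_eight : ∃ (Γ : Type) (_ : Group Γ) (_ : Finite Γ),
    (Nat.card (Subgroup.center Γ) = 2 ∧
      Nonempty (Γ ⧸ Subgroup.center Γ ≃* alternatingGroup (Fin 8)) ∧
      ∀ L : Subgroup Γ, ¬ (Subgroup.center Γ).IsComplement' L) ∧
      ∃ x y : Γ, x ≠ y ∧ orderOf x = 2 ∧ orderOf y = 2 := by
  obtain ⟨Γ, i1, i2, z, hzc, hz, hzcomm, hn, ⟨e⟩⟩ :=
    CharTheory.DoubleCover.exists_double_cover 8 (by norm_num)
  let π : Γ →* alternatingGroup (Fin 8) := e.toMonoidHom.comp (QuotientGroup.mk' _)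
  have hπ : Function.Surjective π := e.surjective.comp (QuotientGroup.mk'_surjective _)
  have hker : π.ker = Subgroup.zpowers z := by
    ext a
    simp [π, MonoidHom.mem_ker]
  have hA : Subgroup.center (alternatingGroup (Fin 8)) = ⊥ :=
    alternatingGroup.center_eq_bot (by simp)
  have hcen : Subgroup.center Γ = Subgroup.zpowers z := by
    refine le_antisymm (fun a ha => ?_) (Subgroup.zpowers_le.2 hzc)
    rw [← hker, MonoidHom.mem_ker, ← Subgroup.mem_bot, ← hA, Subgroup.mem_center_iff]
    intro w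
    obtain ⟨w, rfl⟩ := hπ w
    rw [← map_mul, ← map_mul, Subgroup.mem_center_iff.1 ha w]
  have hcard : Nat.card (Subgroup.center Γ) = 2 := by rw [hcen, Nat.card_zpowers, hz]
  have hz2 : ∀ c ∈ Subgroup.center Γ, c ^ 2 = 1 := fun c hc => by
    have h := pow_card_eq_one' (x := (⟨c, hc⟩ : Subgroup.center Γ))
    rw [hcard] at h
    exact congrArg Subtype.val h
  refine ⟨Γ, i1, i2, ⟨hcard, ⟨(QuotientGroup.quotientMulEquivOfEq hcen).trans e⟩, ?_⟩, ?_⟩
  · intro L hL
    have hi : L.index = 2 := by rw [hL.index_eq_card, hcard]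
    haveI := Subgroup.normal_of_index_eq_two hi
    have hcomm : commutator Γ ≤ L := by
      haveI : IsCyclic (Γ ⧸ L) := isCyclic_of_prime_card (p := 2) (by rw [← Subgroup.index_eq_card, hi])
      letI := IsCyclic.commGroup (α := Γ ⧸ L)
      have h := Abelianization.commutator_subset_ker (QuotientGroup.mk' L)
      rwa [QuotientGroup.ker_mk'] at h
    have : z = 1 := Subgroup.disjoint_def.1 hL.disjoint hzc (hcomm hzcomm)
    simp [this] at hz
  -- the lift of a product of four transpositions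
  let u : alternatingGroup (Fin 8) := ⟨Equiv.swap 0 1 * Equiv.swap 2 3, mem_two (by decide) (by decide)⟩
  let g : alternatingGroup (Fin 8) :=
    ⟨Equiv.swap 0 4 * Equiv.swap 1 5 * Equiv.swap 2 6 * Equiv.swap 3 7, by
      rw [mul_assoc]; exact mul_mem (mem_two (by decide) (by decide)) (mem_two (by decide) (by decide))⟩
  let a : alternatingGroup (Fin 8) := ⟨Equiv.swap 4 5 * Equiv.swap 5 6, mem_two (by decide) (by decide)⟩
  let b : alternatingGroup (Fin 8) := ⟨Equiv.swap 5 6 * Equiv.swap 6 7, mem_two (by decide) (by decide)⟩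
  obtain ⟨x, hx⟩ := hπ u
  obtain ⟨k, hk⟩ := hπ g
  obtain ⟨a', ha'⟩ := hπ a
  obtain ⟨b', hb'⟩ := hπ b
  have hcub : ∀ w : Γ, π w ^ 3 = 1 → Commute (π x) (π w) → Commute x w := by
    intro w hw3 hw
    set c := x * w * x⁻¹ * w⁻¹
    have hc : c ∈ Subgroup.center Γ := by
      rw [hcen, ← hker, MonoidHom.mem_ker]
      simp only [c, map_mul, map_inv]
      rw [hw.eq]; group
    have hw3' : w ^ 3 ∈ Subgroup.center Γ := by rw [hcen, ← hker, MonoidHom.mem_ker, map_pow, hw3]
    have h1 : x * w * x⁻¹ = c * w := by simp [c]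
    have h2 := congrArg (· ^ 3) h1
    simp only [conj_pow] at h2
    rw [(show Commute c w from (Subgroup.mem_center_iff.1 hc w).symm).mul_pow,
      Subgroup.mem_center_iff.1 hw3' x, mul_inv_cancel_right, eq_comm, mul_eq_right] at h2
    have hc1 : c = 1 := by
      have e2 := hz2 c hc
      rw [pow_succ, e2, one_mul] at h2
      exact h2
    rw [hc1, one_mul] at h1
    exact mul_inv_eq_iff_eq_mul.1 h1
  have hab : g * u * g⁻¹ = a * b := by decide
  have hxa : Commute x a' := hcub a' (by rw [ha']; decide) (by rw [hx, ha']; show _ = _; decide)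
  have hxb : Commute x b' := hcub b' (by rw [hb']; decide) (by rw [hx, hb']; show _ = _; decide)
  set y := k * x * k⁻¹
  have hc : (a' * b')⁻¹ * y ∈ Subgroup.center Γ := by
    rw [hcen, ← hker, MonoidHom.mem_ker]
    simp [y, hx, hk, ha', hb', hab]
  have hxy : Commute x y := by
    rw [show y = (a' * b') * ((a' * b')⁻¹ * y) by group]
    exact (hxa.mul_right hxb).mul_right (Subgroup.mem_center_iff.1 hc x)
  have hx2 : x ^ 2 ∈ Subgroup.center Γ := by
    rw [hcen, ← hker, MonoidHom.mem_ker, map_pow, hx]; decide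
  have hsq : (x * y) ^ 2 = 1 := by
    rw [hxy.mul_pow, show y ^ 2 = x ^ 2 by
      rw [conj_pow, Subgroup.mem_center_iff.1 hx2 k, mul_inv_cancel_right], ← pow_two, hz2 _ hx2]
  have hne : π (x * y) ≠ 1 := by
    simp only [y, map_mul, map_inv, hx, hk]
    decide
  refine ⟨x * y, z, fun h => hne ?_, orderOf_eq_prime hsq fun h => hne (by rw [h, map_one]), hz⟩
  rw [← MonoidHom.mem_ker, hker, h]
  exact Subgroup.mem_zpowers z

end Cfsg.Agent.Perm.DoubleCoverInv
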