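import Cfsg.Agent.Lib.Perm.ThreeCycleFStar
import Cfsg.Agent.Lib.Involutions.AltUniqueMaxPos

/-!
# Groups containing the even flips of a pairing

A group of permutations containing all even flips of a pairing, with a quasisimple normal subgroup
containing its centralizer, contains a 3-cycle.
-/

namespace Cfsg.Agent.Perm.DoubleTranspFStar

open Equiv Subgroup

variable {α : Type*} [Fintype α] [DecidableEq α]

theorem swap_fix {a b w : α} (h1 : w ≠ a) (h2 : w ≠ b) : swap a b w = w :=
  swap_apply_of_ne_of_ne h1 h2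

section Pairing

variable (ρ : Perm α) (hρ : ∀ x, ρ (ρ x) = x)

/-- Even permutations moving each point within its pair. -/
def E : Subgroup (Perm α) where
  carrier := {g | g ∈ alternatingGroup α ∧ (∀ x, g x = x ∨ g x = ρ x) ∧ ∀ x, ρ (g x) = g (ρ x)}
  one_mem' := ⟨one_mem _, fun x => Or.inl rfl, fun x => rfl⟩
  mul_mem' := fun {a b} ha hb => ⟨mul_mem ha.1 hb.1, fun x => by
    show a (b x) = x ∨ a (b x) = ρ x
    rcases hb.2.1 x with h | h
    · rw [h]; exact ha.2.1 x
    · rw [h, ← ha.2.2]
      rcases ha.2.1 x with h' | h'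
      · rw [h']; exact Or.inr rfl
      · rw [h']; exact Or.inl (hρ x), fun x => by
    show ρ (a (b x)) = a (b (ρ x))
    rw [ha.2.2, hb.2.2]⟩
  inv_mem' := fun {a} ha => ⟨inv_mem ha.1, fun x => by
    have hx : a (a⁻¹ x) = x := by simp
    rcases ha.2.1 (a⁻¹ x) with h | h
    · left; rw [hx] at h; exact h.symm
    · right
      rw [hx] at h
      conv_rhs => rw [h]
      exact (hρ _).symm, fun x => by
    apply a.injective
    rw [← ha.2.2]
    simp⟩

theorem mem_E {g : Perm α} :
    g ∈ E ρ hρ ↔ g ∈ alternatingGroup α ∧ (∀ x, g x = x ∨ g x = ρ x) ∧ ∀ x, ρ (g x) = g (ρ x) :=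
  Iff.rfl

theorem E_sq {g : Perm α} (hg : g ∈ E ρ hρ) : g * g = 1 := by
  ext x
  obtain ⟨-, h2, h3⟩ := hg
  show g (g x) = x
  rcases h2 x with h | h
  · rw [h, h]
  · rw [h, ← h3, h, hρ]

/-- The flip of two pairs. -/
theorem flip_mem {a b : α} (ha : ρ a ≠ a) (hb : ρ b ≠ b) (hab : b ≠ a) (hab' : b ≠ ρ a) :
    swap a (ρ a) * swap b (ρ b) ∈ E ρ hρ := by
  have hab'' : ρ b ≠ a := fun h => hab' (by rw [← h, hρ])
  have hab3 : ρ b ≠ ρ a := fun h => hab (ρ.injective h)
  refine ⟨Involutions.AltUniqueMax.doubleSwap_mem_alternatingGroup (Ne.symm ha) (Ne.symm hb), ?_⟩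
  have key : ∀ x, (swap a (ρ a) * swap b (ρ b)) x =
      if x = a ∨ x = ρ a ∨ x = b ∨ x = ρ b then ρ x else x := by
    intro x
    rw [Perm.mul_apply]
    by_cases h1 : x = b
    · subst h1; rw [swap_apply_left, swap_fix hab'' hab3]; simp
    by_cases h2 : x = ρ b
    · subst h2; rw [swap_apply_right, swap_fix hab hab']; simp [hρ]
    rw [swap_fix h1 h2]
    by_cases h3 : x = a
    · subst h3; rw [swap_apply_left]; simp
    by_cases h4 : x = ρ a
    · subst h4; rw [swap_apply_right]; simp [hρ]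
    rw [swap_fix h3 h4]; simp [h1, h2, h3, h4]
  constructor
  · intro x; rw [key]; split <;> simp
  · intro x
    rw [key, key]
    have hiff : (ρ x = a ∨ ρ x = ρ a ∨ ρ x = b ∨ ρ x = ρ b) ↔ (x = a ∨ x = ρ a ∨ x = b ∨ x = ρ b) := by
      have e : ∀ q, ρ x = q ↔ x = ρ q := fun q => ⟨fun h => by rw [← h, hρ], fun h => by rw [h, hρ]⟩
      rw [e a, e (ρ a), e b, e (ρ b), hρ, hρ]
      tauto
    split <;> rename_i h
    · rw [if_pos (hiff.2 h)]
    · rw [if_neg (fun h' => h (hiff.1 h'))]

end Pairing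

variable {ρ : Perm α} {hρ : ∀ x, ρ (ρ x) = x}

section NoThreeCycle

variable {H : Subgroup (Perm α)} (hE : E ρ hρ ≤ H) (hno : ∀ g ∈ H, ¬ g.IsThreeCycle)

/-- A conjugated flip lies in the group. -/
theorem conj_flip_mem (hE : E ρ hρ ≤ H) {h : Perm α} (hh : h ∈ H) {x y : α}
    (hx : (h * ρ * h⁻¹) x ≠ x) (hy : (h * ρ * h⁻¹) y ≠ y) (hyx : y ≠ x)
    (hyx' : y ≠ (h * ρ * h⁻¹) x) :
    swap x ((h * ρ * h⁻¹) x) * swap y ((h * ρ * h⁻¹) y) ∈ H := by
  simp only [Perm.mul_apply] at hx hy hyx' ⊢
  have hm := mul_mem (mul_mem hh (hE (flip_mem ρ hρ (a := h⁻¹ x) (b := h⁻¹ y)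
    (fun e => hx (by rw [e]; simp)) (fun e => hy (by rw [e]; simp))
    (fun e => hyx (h⁻¹.injective e)) (fun e => hyx' (by rw [← e]; simp))))) (inv_mem hh)
  have e : h * (swap (h⁻¹ x) (ρ (h⁻¹ x)) * swap (h⁻¹ y) (ρ (h⁻¹ y))) * h⁻¹ =
      swap x (h (ρ (h⁻¹ x))) * swap y (h (ρ (h⁻¹ y))) := by
    calc h * (swap (h⁻¹ x) (ρ (h⁻¹ x)) * swap (h⁻¹ y) (ρ (h⁻¹ y))) * h⁻¹
        = (h * swap (h⁻¹ x) (ρ (h⁻¹ x)) * h⁻¹) * (h * swap (h⁻¹ y) (ρ (h⁻¹ y)) * h⁻¹) := by group
      _ = _ := by
        rw [← Equiv.swap_apply_apply, ← Equiv.swap_apply_apply]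
        simp
  rwa [e] at hm

include hE hno

/-- Two flips sharing one point give a 3-cycle. -/
theorem absurd_share_one {h : Perm α} (hh : h ∈ H) {x c y z e : α}
    (hxc : (h * ρ * h⁻¹) x = c) (hcx : c ≠ x) (hyz : (h * ρ * h⁻¹) y = z) (hzy : z ≠ y)
    (hx : ρ x ≠ x) (he : ρ e ≠ e)
    (hd : List.Nodup [x, c, ρ x, y, z, e, ρ e]) : False := by
  have h1 : swap x c * swap y z ∈ H := by
    rw [← hxc, ← hyz]
    simp only [List.nodup_cons, List.mem_cons, not_or, List.not_mem_nil] at hd
    exact conj_flip_mem hE hh (hxc.symm ▸ hcx) (hyz.symm ▸ hzy) (Ne.symm hd.1.2.2.1)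
      (hxc.symm ▸ Ne.symm hd.2.1.2.1)
  have h2 : swap x (ρ x) * swap e (ρ e) ∈ H := by
    simp only [List.nodup_cons, List.mem_cons, not_or, List.not_mem_nil] at hd
    exact hE (flip_mem ρ hρ hx he (Ne.symm hd.1.2.2.2.2.1) (Ne.symm hd.2.2.1.2.2.1))
  exact hno _ (mul_mem (mul_mem h1 h2) (mul_mem h1 h2))
    (Involutions.AltUniqueMax.isThreeCycle_of_share_one hd)

/-- A common pair next to a crossing gives a 3-cycle. -/
theorem absurd_common_pair {h : Perm α} (hh : h ∈ H) {x c y : α}
    (hxc : (h * ρ * h⁻¹) x = c) (hcx : c ≠ x) (hyz : (h * ρ * h⁻¹) y = ρ y) (hy : ρ y ≠ y)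
    (hx : ρ x ≠ x) (hcx' : c ≠ ρ x) (h1 : y ≠ x) (h2 : y ≠ c) (h3 : y ≠ ρ x) (h4 : ρ y ≠ c) :
    False := by
  have m1 : swap x c * swap y (ρ y) ∈ H := by
    rw [← hxc, ← hyz]
    exact conj_flip_mem hE hh (hxc.symm ▸ hcx) (hyz.symm ▸ hy) h1 (hxc.symm ▸ h2)
  have m2 : swap x (ρ x) * swap y (ρ y) ∈ H := hE (flip_mem ρ hρ hx hy h1 h3)
  have hcomm : Commute (swap x (ρ x)) (swap y (ρ y)) :=
    (Involutions.AltUniqueMax.swap_mul_swap_comm (Ne.symm h1) (fun e => h3 (by rw [e, hρ]))
      (Ne.symm h3) (fun e => h1 (ρ.injective e).symm)).symm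
  have e : swap x c * swap y (ρ y) * (swap x (ρ x) * swap y (ρ y)) = swap x c * swap x (ρ x) := by
    rw [mul_assoc, ← mul_assoc (swap y (ρ y)), ← hcomm.eq, mul_assoc (swap x (ρ x)), swap_mul_self,
      mul_one]
  exact hno _ (e ▸ mul_mem m1 m2)
    (Perm.isThreeCycle_swap_mul_swap_same (Ne.symm hcx) (Ne.symm hx) hcx')

omit hE hno in
theorem exists_notMem (S : Finset α) (hS : S.card < Fintype.card α) : ∃ e, e ∉ S := by
  obtain ⟨e, -, he⟩ := Finset.exists_mem_notMem_of_card_lt_card (s := S) (t := Finset.univ)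
    (by rwa [Finset.card_univ])
  exact ⟨e, he⟩

variable (huniq : ∀ x y, ρ x = x → ρ y = y → x = y)

include huniq in
/-- Generic contradiction: some spare pair is left over. -/
theorem absurd_crossing {h : Perm α} (hh : h ∈ H) {x c y : α}
    (hxc : (h * ρ * h⁻¹) x = c) (hcx : c ≠ x) (hy : (h * ρ * h⁻¹) y ≠ y)
    (hx : ρ x ≠ x) (hcx' : c ≠ ρ x) (h1 : y ≠ x) (h2 : y ≠ c) (h3 : y ≠ ρ x)
    (h4 : (h * ρ * h⁻¹) y ≠ ρ x)
    (S : Finset α) (hS : ∀ w, w ∈ [x, ρ x, c, ρ c, y, ρ y, (h * ρ * h⁻¹) y, ρ ((h * ρ * h⁻¹) y)] → w ∈ S)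
    (hfix : ∀ w, ρ w = w → w ∈ S) (hcard : S.card < Fintype.card α) : False := by
  obtain ⟨e, he⟩ := exists_notMem S hcard
  have hinv : ∀ u, (h * ρ * h⁻¹) ((h * ρ * h⁻¹) u) = u := fun u => by simp [hρ]
  set z := (h * ρ * h⁻¹) y with hz
  have hem : ρ e ≠ e := fun h' => he (hfix e h')
  have hne : ∀ w, w ∈ [x, ρ x, c, ρ c, y, ρ y, z, ρ z] → e ≠ w := fun w hw h' => he (h' ▸ hS w hw)
  have hρe : ∀ w, ρ e = w → e = ρ w := fun w h' => by rw [← h', hρ]
  refine absurd_share_one hE hno hh (e := e) hxc hcx hz.symm hy hx hem ?_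
  have hzx : z ≠ x := fun h' => h2 (by rw [← hxc, ← h', hz, hinv])
  have hzc : z ≠ c := fun h' => h1 (by
    have := congrArg (h * ρ * h⁻¹) (h'.trans hxc.symm)
    rwa [hz, hinv, hinv] at this)
  simp only [List.nodup_cons, List.mem_cons, not_or, List.not_mem_nil, not_false_eq_true,
    List.nodup_nil, and_true]
  refine ⟨⟨Ne.symm hcx, Ne.symm hx, Ne.symm h1, Ne.symm hzx, Ne.symm (hne x (by simp)), ?_⟩,
    ⟨hcx', Ne.symm h2, Ne.symm hzc, Ne.symm (hne c (by simp)), ?_⟩,
    ⟨Ne.symm h3, Ne.symm h4, Ne.symm (hne _ (by simp)), ?_⟩,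
    ⟨Ne.symm hy, Ne.symm (hne y (by simp)), ?_⟩,
    ⟨Ne.symm (hne z (by simp)), ?_⟩, Ne.symm hem⟩
  · exact fun h' => hne (ρ x) (by simp) (hρe _ h'.symm)
  · exact fun h' => hne (ρ c) (by simp) (hρe _ h'.symm)
  · exact fun h' => hne x (by simp) (ρ.injective h'.symm)
  · exact fun h' => hne (ρ y) (by simp) (hρe _ h'.symm)
  · exact fun h' => hne (ρ z) (by simp) (hρe _ h'.symm)

omit hE hno in
theorem fixed_card_le (huniq : ∀ x y, ρ x = x → ρ y = y → x = y) :
    (Finset.univ.filter fun w => ρ w = w).card ≤ 1 :=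
  Finset.card_le_one.2 fun a ha b hb => huniq a b (Finset.mem_filter.1 ha).2 (Finset.mem_filter.1 hb).2

include huniq in
/-- All conjugates of the pairing fix the same points. -/
theorem conj_fix (h8 : 8 ≤ Fintype.card α) {h : Perm α} (hh : h ∈ H) (w : α) :
    (h * ρ * h⁻¹) w = w ↔ ρ w = w := by
  set ρ' := h * ρ * h⁻¹ with hρ'
  have hinv : ∀ u, ρ' (ρ' u) = u := fun u => by simp [hρ', hρ]
  have huniq' : ∀ a b, ρ' a = a → ρ' b = b → a = b := by
    intro a b ha hb
    have key : ∀ u, ρ' u = u → ρ (h⁻¹ u) = h⁻¹ u := fun u hu => by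
      apply h.injective
      simpa [hρ'] using hu
    exact h⁻¹.injective (huniq _ _ (key a ha) (key b hb))
  have step : ∀ v, ρ v = v → ρ' v = v := by
    intro v hv
    by_contra hne
    set x := ρ' v with hx
    have hxm : ρ x ≠ x := fun h' => hne (huniq _ _ h' hv)
    have hcx' : v ≠ ρ x := fun h' => hne (by
      have := congrArg ρ h'
      rw [hv, hρ] at this
      exact this.symm)
    -- a pair of `ρ'` away from `x`, `v` and `ρ x`
    obtain ⟨y, hy⟩ := exists_notMem
      ({x, v, ρ x, ρ' (ρ x)} ∪ Finset.univ.filter fun u => ρ' u = u) (by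
        refine (Finset.card_union_le _ _).trans_lt ?_
        have h1 : ({x, v, ρ x, ρ' (ρ x)} : Finset α).card ≤ 4 := Finset.card_le_four
        have h2 : (Finset.univ.filter fun u => ρ' u = u).card ≤ 1 :=
          Finset.card_le_one.2 fun a ha b hb => huniq' a b (Finset.mem_filter.1 ha).2 (Finset.mem_filter.1 hb).2
        omega)
    simp only [Finset.mem_union, Finset.mem_insert, Finset.mem_singleton, Finset.mem_filter,
      Finset.mem_univ, true_and, not_or] at hy
    obtain ⟨⟨y1, y2, y3, y4⟩, y5⟩ := hy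
    refine absurd_crossing hE hno huniq hh (x := x) (c := v) (y := y)
      (by rw [hx, ← hρ', hinv]) (Ne.symm hne) y5 hxm hcx' y1 y2 y3
      (fun h' => y4 (by rw [← h', ← hρ', hinv]))
      {x, ρ x, v, y, ρ y, ρ' y, ρ (ρ' y)} (fun u hu => ?_) (fun u hu => ?_) ?_
    · simp only [List.mem_cons, List.not_mem_nil, or_false, hv, ← hρ'] at hu
      simp only [Finset.mem_insert, Finset.mem_singleton]
      tauto
    · rw [huniq u v hu hv]; simp
    · refine lt_of_le_of_lt (b := 7) ?_ (by omega)
      refine (Finset.card_insert_le _ _).trans (Nat.succ_le_succ ?_)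
      exact Finset.card_le_six
  constructor
  · intro hw
    have hcards : (Finset.univ.filter fun u => ρ u = u) = Finset.univ.filter fun u => ρ' u = u := by
      refine Finset.eq_of_subset_of_card_le (fun u hu => ?_) ?_
      · simp only [Finset.mem_filter, Finset.mem_univ, true_and] at hu ⊢
        exact step u hu
      · rw [← Finset.card_image_of_injective (Finset.univ.filter fun u => ρ u = u) h.injective]
        refine Finset.card_le_card fun u hu => Finset.mem_image.2 ⟨h⁻¹ u, ?_, by simp⟩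
        simp only [Finset.mem_filter, Finset.mem_univ, true_and] at hu ⊢
        apply h.injective
        simpa [hρ'] using hu
    have : w ∈ Finset.univ.filter fun u => ρ u = u := hcards ▸ (by simpa using hw)
    simpa using this
  · exact step w

include huniq in
/-- Conjugates of the pairing: equal to it in degree at least ten; otherwise commuting with it,
and agreeing with it nowhere unless equal. -/
theorem conj_cases (h8 : 8 ≤ Fintype.card α) {h : Perm α} (hh : h ∈ H) :
    Commute ρ (h * ρ * h⁻¹) ∧ (10 ≤ Fintype.card α → h * ρ * h⁻¹ = ρ) ∧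
      ((∃ w, ρ w ≠ w ∧ (h * ρ * h⁻¹) w = ρ w) → h * ρ * h⁻¹ = ρ) := by
  have hfix := conj_fix hE hno huniq h8 hh
  set ρ' := h * ρ * h⁻¹ with hρ'
  have hinv : ∀ u, ρ' (ρ' u) = u := fun u => by simp [hρ', hρ]
  have hmem : ∀ u, ρ u ≠ u → ρ (ρ' u) ≠ ρ' u := fun u hu e => hu ((hfix u).1 (by
    have := (hfix _).2 e
    rw [hinv] at this
    exact this.symm))
  refine ⟨?_, fun h10 => ?_, ?_⟩
  · refine Equiv.ext fun c => ?_
    show ρ (ρ' c) = ρ' (ρ c)
    by_cases hc : ρ c = c
    · rw [(hfix c).2 hc, hc, (hfix c).2 hc]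
    set x := ρ' c with hx
    have hxc : ρ' x = c := hinv c
    have hxm : ρ x ≠ x := hmem c hc
    by_cases hcross : c = ρ x
    · rw [← hcross, hcross, hρ, hxc, ← hcross]
    by_contra hne
    have hcne : c ≠ x := fun e => hc ((hfix c).1 (by rw [← hx, ← e]))
    refine absurd_crossing hE hno huniq hh (x := x) (c := c) (y := ρ c) hxc hcne
      (fun e => hc ((hfix c).1 ?_)) hxm hcross ?_ ?_ ?_ ?_
      ({x, ρ x, c, ρ c, ρ' (ρ c), ρ (ρ' (ρ c))} ∪ Finset.univ.filter fun u => ρ u = u)
      (fun u hu => ?_) (fun u hu => by simp [hu]) ?_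
    · have := (hfix _).1 e
      rw [hρ] at this
      exact absurd this.symm hc
    · exact fun e => hcross (by rw [← e, hρ])
    · exact hc
    · exact fun e => hcne (ρ.injective e)
    · exact fun e => hne e.symm
    · simp only [List.mem_cons, List.not_mem_nil, or_false, hρ, ← hρ'] at hu
      simp only [Finset.mem_union, Finset.mem_insert, Finset.mem_singleton]
      tauto
    · refine (Finset.card_union_le _ _).trans_lt ?_
      have h1 : ({x, ρ x, c, ρ c, ρ' (ρ c), ρ (ρ' (ρ c))} : Finset α).card ≤ 6 := Finset.card_le_six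
      have h2 := fixed_card_le huniq
      omega
  · refine Equiv.ext fun x => ?_
    by_cases hx : ρ x = x
    · rw [(hfix x).2 hx, hx]
    by_contra hne
    set c := ρ' x with hc
    have hcx : c ≠ x := fun e => hx ((hfix x).1 e)
    obtain ⟨y, hy⟩ := exists_notMem
      ({x, c, ρ x, ρ' (ρ x)} ∪ Finset.univ.filter fun u => ρ u = u) (by
        refine (Finset.card_union_le _ _).trans_lt ?_
        have h1 : ({x, c, ρ x, ρ' (ρ x)} : Finset α).card ≤ 4 := Finset.card_le_four
        have h2 := fixed_card_le huniq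
        omega)
    simp only [Finset.mem_union, Finset.mem_insert, Finset.mem_singleton, Finset.mem_filter,
      Finset.mem_univ, true_and, not_or] at hy
    obtain ⟨⟨y1, y2, y3, y4⟩, y5⟩ := hy
    refine absurd_crossing hE hno huniq hh (x := x) (c := c) (y := y) rfl hcx
      (fun e => y5 ((hfix y).1 e)) hx hne y1 y2 y3 (fun e => y4 (by rw [← e, ← hρ', hinv]))
      (({x, ρ x, c, ρ c} ∪ {y, ρ y, ρ' y, ρ (ρ' y)}) ∪ Finset.univ.filter fun u => ρ u = u)
      (fun u hu => ?_) (fun u hu => by simp [hu]) ?_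
    · simp only [List.mem_cons, List.not_mem_nil, or_false, ← hρ'] at hu
      simp only [Finset.mem_union, Finset.mem_insert, Finset.mem_singleton]
      tauto
    · refine (Finset.card_union_le _ _).trans_lt ?_
      refine lt_of_le_of_lt (Nat.add_le_add_right (Finset.card_union_le _ _) _) ?_
      have h1 : ({x, ρ x, c, ρ c} : Finset α).card ≤ 4 := Finset.card_le_four
      have h1' : ({y, ρ y, ρ' y, ρ (ρ' y)} : Finset α).card ≤ 4 := Finset.card_le_four
      have h2 := fixed_card_le huniq
      omega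
  · rintro ⟨y, hy, hyy⟩
    refine Equiv.ext fun x => ?_
    by_cases hx : ρ x = x
    · rw [(hfix x).2 hx, hx]
    by_contra hne
    set c := ρ' x with hc
    have hcx : c ≠ x := fun e => hx ((hfix x).1 e)
    have h1 : y ≠ x := fun e => hne (by rw [hc, ← e]; exact hyy)
    have h2 : y ≠ c := fun e => hne (by
      rw [e, hc, hinv] at hyy
      rw [hyy, hρ])
    have h3 : y ≠ ρ x := fun e => hne (by
      rw [e, hρ] at hyy
      have := congrArg ρ' hyy
      rw [hinv] at this
      exact this.symm)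
    have h4 : ρ y ≠ c := fun e => h1 (ρ'.injective (hyy.trans e))
    exact absurd_common_pair hE hno hh rfl hcx hyy hy hx hne h1 h2 h3 h4

end NoThreeCycle

/-- An abelian normal subgroup centralizes a quasisimple normal subgroup. -/
theorem le_centralizer_of_abelian {G : Type*} [Group G] {K A : Subgroup G} (hKn : K.Normal)
    (hK : Cfsg.IsQuasisimple K) (hA : A.Normal) (hAc : ∀ a ∈ A, ∀ b ∈ A, a * b = b * a) :
    A ≤ centralizer (K : Set G) := by
  haveI := hKn
  haveI := hA
  have hKK : ⁅K, K⁆ = K := Components.Basic.component_commutator_self ⟨hKn.isSubnormal, hK⟩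
  rcases Components.Basic.quasisimple_eq_top_or_le_center_of_normal hK (A.subgroupOf K) with
    htop | hcen
  · exfalso
    refine Components.Basic.quasisimple_center_ne_top hK ?_
    rw [eq_top_iff]
    intro a _
    rw [mem_center_iff]
    intro b
    exact Subtype.ext (hAc _ (subgroupOf_eq_top.1 htop b.2) _ (subgroupOf_eq_top.1 htop a.2))
  have h1 : ⁅⁅K, A⁆, K⁆ = ⊥ := by
    rw [commutator_eq_bot_iff_le_centralizer]
    intro u hu
    have hu' : u ∈ K ⊓ A := commutator_le_inf K A hu
    rw [mem_centralizer_iff]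
    intro k hk
    exact congrArg Subtype.val
      (mem_center_iff.1 (hcen (show (⟨u, hu'.1⟩ : K) ∈ A.subgroupOf K from hu'.2)) ⟨k, hk⟩)
  have h2 := Components.Basic.commutator_eq_bot_of_perfect hKK h1
  rwa [commutator_comm, commutator_eq_bot_iff_le_centralizer] at h2

/-- The main statement. -/
theorem exists_threeCycle {H : Subgroup (Perm α)} (hE : E ρ hρ ≤ H)
    (huniq : ∀ x y, ρ x = x → ρ y = y → x = y) (h8 : 8 ≤ Fintype.card α)
    (hsign : Fintype.card α < 10 → ρ ∈ alternatingGroup α) {K : Subgroup H} (hKn : K.Normal)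
    (hK : Cfsg.IsQuasisimple K) : ∃ t ∈ H, t.IsThreeCycle := by
  by_contra hno
  push Not at hno
  have hcases := fun {h : Perm α} (hh : h ∈ H) => conj_cases hE hno huniq h8 hh
  -- `K` has exponent two, which is absurd
  suffices hexp : ∀ g : K, g * g = 1 by
    refine Components.Basic.quasisimple_center_ne_top hK ?_
    rw [eq_top_iff]
    intro a _
    rw [mem_center_iff]
    intro b
    have h1 : ∀ g : K, g⁻¹ = g := fun g => inv_eq_of_mul_eq_one_right (hexp g)
    calc b * a = b⁻¹ * a⁻¹ := by rw [h1, h1]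
      _ = (a * b)⁻¹ := (mul_inv_rev a b).symm
      _ = a * b := h1 _
  -- points fixed by the pairing are fixed by what commutes with it
  have hfixed : ∀ g : Perm α, Commute g ρ → ∀ w, ρ w = w → g w = w := fun g hg w hw =>
    huniq _ _ (by
      have := Perm.congr_fun hg.eq w
      simp only [Perm.mul_apply] at this
      rw [← this, hw]) hw
  by_cases hall : ∀ h ∈ H, h * ρ * h⁻¹ = ρ
  · -- the even flips form a normal subgroup
    let A : Subgroup H := (E ρ hρ).subgroupOf H
    have hA : A.Normal := by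
      refine ⟨fun a ha h => ?_⟩
      obtain ⟨h1, h2, h3⟩ := (mem_E ρ hρ).1 (mem_subgroupOf.1 ha)
      have hc : ∀ u, (h : Perm α) (ρ u) = ρ ((h : Perm α) u) := fun u =>
        Perm.congr_fun (mul_inv_eq_iff_eq_mul.1 (hall h h.2)) u
      refine mem_subgroupOf.2 ((mem_E ρ hρ).2 ⟨?_, fun u => ?_, fun u => ?_⟩)
      · rw [Perm.mem_alternatingGroup] at h1 ⊢
        simp only [Subgroup.coe_mul, InvMemClass.coe_inv, map_mul, map_inv, h1, mul_one,
          mul_inv_cancel]
      · simp only [Subgroup.coe_mul, InvMemClass.coe_inv, Perm.mul_apply]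
        rcases h2 ((h : Perm α)⁻¹ u) with e | e
        · left; rw [e]; simp
        · right; rw [e, hc]; simp
      · simp only [Subgroup.coe_mul, InvMemClass.coe_inv, Perm.mul_apply]
        have hc' : (h : Perm α)⁻¹ (ρ u) = ρ ((h : Perm α)⁻¹ u) := by
          apply (h : Perm α).injective
          rw [hc]; simp
        rw [← hc, h3, ← hc']
    have hAc : ∀ a ∈ A, ∀ b ∈ A, a * b = b * a := by
      intro a ha b hb
      have h1 : ∀ g ∈ E ρ hρ, g⁻¹ = g := fun g hg => inv_eq_of_mul_eq_one_right (E_sq ρ hρ hg)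
      apply Subtype.ext
      show (a : Perm α) * b = b * a
      have ha' := mem_subgroupOf.1 ha
      have hb' := mem_subgroupOf.1 hb
      calc (a : Perm α) * b = ((a : Perm α) * b)⁻¹ := (h1 _ (mul_mem ha' hb')).symm
        _ = _ := by rw [mul_inv_rev, h1 _ ha', h1 _ hb']
    have hcent := le_centralizer_of_abelian hKn hK hA hAc
    have hflip : ∀ g : K, ∀ a b, ρ a ≠ a → ρ b ≠ b → b ≠ a → b ≠ ρ a →
        ((g : H) : Perm α) a = a ∨ ((g : H) : Perm α) a = ρ a ∨ ((g : H) : Perm α) a = b ∨
          ((g : H) : Perm α) a = ρ b := by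
      intro g a b ha hb hab hab'
      have hm := flip_mem ρ hρ ha hb hab hab'
      have := hcent (show (⟨_, hE hm⟩ : H) ∈ A from hm)
      have h1 : ((g : H) : Perm α) * (swap a (ρ a) * swap b (ρ b)) =
          (swap a (ρ a) * swap b (ρ b)) * ((g : H) : Perm α) :=
        congrArg Subtype.val (mem_centralizer_iff.1 this g g.2)
      by_contra hh
      push Not at hh
      have h2 := Perm.congr_fun h1 a
      simp only [Perm.mul_apply] at h2
      rw [swap_fix (Ne.symm hab) (fun e => hab' (by rw [e, hρ])), swap_apply_left,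
        swap_fix hh.2.2.1 hh.2.2.2, swap_fix hh.1 hh.2.1] at h2
      exact ha (((g : H) : Perm α).injective h2)
    intro g
    apply Subtype.ext
    apply Subtype.ext
    refine Equiv.ext fun a => ?_
    show ((g : H) : Perm α) (((g : H) : Perm α) a) = a
    have hcomm : Commute ((g : H) : Perm α) ρ := mul_inv_eq_iff_eq_mul.1 (hall _ (g : H).2)
    by_cases ha : ρ a = a
    · rw [hfixed _ hcomm a ha, hfixed _ hcomm a ha]
    obtain ⟨b, hb⟩ := exists_notMem ({a, ρ a} ∪ Finset.univ.filter fun u => ρ u = u) (by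
      refine (Finset.card_union_le _ _).trans_lt ?_
      have h1 : ({a, ρ a} : Finset α).card ≤ 2 := Finset.card_le_two
      have h2 := fixed_card_le huniq
      omega)
    obtain ⟨b', hb'⟩ := exists_notMem ({a, ρ a, b, ρ b} ∪ Finset.univ.filter fun u => ρ u = u) (by
      refine (Finset.card_union_le _ _).trans_lt ?_
      have h1 : ({a, ρ a, b, ρ b} : Finset α).card ≤ 4 := Finset.card_le_four
      have h2 := fixed_card_le huniq
      omega)
    simp only [Finset.mem_union, Finset.mem_insert, Finset.mem_singleton, Finset.mem_filter,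
      Finset.mem_univ, true_and, not_or] at hb hb'
    have hga : ((g : H) : Perm α) a = a ∨ ((g : H) : Perm α) a = ρ a := by
      have e1 := hflip g a b ha hb.2 hb.1.1 hb.1.2
      have e2 := hflip g a b' ha hb'.2 hb'.1.1 hb'.1.2.1
      by_contra hh
      push Not at hh
      rcases e1 with e | e | e | e
      · exact hh.1 e
      · exact hh.2 e
      all_goals
        rcases e2 with e' | e' | e' | e'
        · exact hh.1 e'
        · exact hh.2 e'
        · first
            | exact hb'.1.2.2.1 (e'.symm.trans e)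
            | exact hb'.1.2.2.2 (e'.symm.trans e)
        · first
            | exact hb'.1.2.2.2 (by rw [← e, e', hρ])
            | exact hb'.1.2.2.1 (ρ.injective (e'.symm.trans e))
    rcases hga with e | e
    · rw [e, e]
    · rw [e]
      have := Perm.congr_fun hcomm.eq a
      simp only [Perm.mul_apply] at this
      rw [this, e, hρ]
  -- otherwise the conjugates generate an abelian normal subgroup
  push Not at hall
  obtain ⟨h₀, hh₀, hne⟩ := hall
  have hlt : Fintype.card α < 10 := by
    by_contra h10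
    exact hne ((hcases hh₀).2.1 (by omega))
  have hEρ : ρ ∈ E ρ hρ := (mem_E ρ hρ).2 ⟨hsign hlt, fun u => Or.inr rfl, fun u => rfl⟩
  let r : H := ⟨ρ, hE hEρ⟩
  let A : Subgroup H := normalClosure {r}
  have hA : A.Normal := normalClosure_normal
  have hcommAll : ∀ h₁ h₂ : H, Commute (h₁ * r * h₁⁻¹) (h₂ * r * h₂⁻¹) := by
    intro h₁ h₂
    apply Subtype.ext
    have hc := (hcases (h₁⁻¹ * h₂).2).1
    have hc' := congrArg (fun u : Perm α => (h₁ : Perm α) * u * (h₁ : Perm α)⁻¹) hc.eq
    simpa [mul_assoc] using hc'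
  have hAc : ∀ a ∈ A, ∀ b ∈ A, a * b = b * a := by
    have hconj : ∀ u ∈ Group.conjugatesOfSet ({r} : Set H), ∃ h : H, u = h * r * h⁻¹ := by
      intro u hu
      obtain ⟨s, hs, hsu⟩ := Group.mem_conjugatesOfSet_iff.1 hu
      rw [Set.mem_singleton_iff] at hs
      subst hs
      obtain ⟨h, rfl⟩ := isConj_iff.1 hsu
      exact ⟨h, rfl⟩
    intro a ha b hb
    have h1 : A ≤ centralizer (Group.conjugatesOfSet ({r} : Set H)) := by
      refine (closure_le _).2 fun u hu => mem_centralizer_iff.2 fun v hv => ?_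
      obtain ⟨h₁, rfl⟩ := hconj u hu
      obtain ⟨h₂, rfl⟩ := hconj v hv
      exact (hcommAll h₂ h₁).eq
    have h2 : A ≤ centralizer (A : Set H) := by
      refine (closure_le _).2 fun u hu => mem_centralizer_iff.2 fun v hv => ?_
      exact (mem_centralizer_iff.1 (h1 hv) u hu).symm
    exact (mem_centralizer_iff.1 (h2 ha) b hb).symm
  have hcent := le_centralizer_of_abelian hKn hK hA hAc
  set ρ' := h₀ * ρ * h₀⁻¹ with hρ'def
  have hcρ : ∀ g : K, Commute ((g : H) : Perm α) ρ := fun g =>
    congrArg Subtype.val (mem_centralizer_iff.1 (hcent (subset_normalClosure rfl)) g g.2)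
  have hcρ' : ∀ g : K, Commute ((g : H) : Perm α) ρ' := fun g =>
    congrArg Subtype.val (mem_centralizer_iff.1
      (hcent (hA.conj_mem r (subset_normalClosure rfl) ⟨h₀, hh₀⟩)) g g.2)
  have hinv : ∀ u, ρ' (ρ' u) = u := fun u => by simp [hρ'def, hρ]
  have hfix := conj_fix hE hno huniq h8 hh₀
  have hρρ' : ∀ u, ρ (ρ' u) = ρ' (ρ u) := fun u => Perm.congr_fun (hcases hh₀).1.eq u
  -- the quad of a point
  let Q : α → Finset α := fun c => {c, ρ c, ρ' c, ρ (ρ' c)}
  have hQcard : ∀ c, ρ c ≠ c → (Q c).card = 4 := by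
    intro c hc
    have h1 : ρ' c ≠ c := fun e => hc ((hfix c).1 e)
    have h2 : ρ' c ≠ ρ c := fun e => hne ((hcases hh₀).2.2 ⟨c, hc, e⟩)
    have h3 : ρ (ρ' c) ≠ c := fun e => h2 (by conv_rhs => rw [← e]; rw [hρ])
    have h4 : ρ (ρ' c) ≠ ρ c := fun e => h1 (ρ.injective e)
    have h5 : ρ (ρ' c) ≠ ρ' c := fun e => hc (by
      have := (hfix _).2 e
      rw [hinv] at this
      exact (hfix c).1 this.symm)
    simp only [Q]
    rw [Finset.card_insert_of_notMem, Finset.card_insert_of_notMem, Finset.card_pair (Ne.symm h5)]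
    · simp [Ne.symm h2, Ne.symm h4]
    · simp [Ne.symm hc, Ne.symm h1, Ne.symm h3]
  have hQmem : ∀ c q, q ∈ Q c → Q q = Q c := by
    intro c q hq
    simp only [Q, Finset.mem_insert, Finset.mem_singleton] at hq
    rcases hq with rfl | rfl | rfl | rfl <;> ext w <;>
      simp only [Q, Finset.mem_insert, Finset.mem_singleton, hρ, hinv, hρρ'] <;> tauto
  have hgQ : ∀ (g : K) c, (Q c).image (((g : H) : Perm α)) = Q (((g : H) : Perm α) c) := by
    intro g c
    have e1 : ∀ u, ((g : H) : Perm α) (ρ u) = ρ (((g : H) : Perm α) u) := fun u =>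
      Perm.congr_fun (hcρ g).eq u
    have e2 : ∀ u, ((g : H) : Perm α) (ρ' u) = ρ' (((g : H) : Perm α) u) := fun u =>
      Perm.congr_fun (hcρ' g).eq u
    simp only [Q, Finset.image_insert, Finset.image_singleton, e1, e2]
  have hmoved : ∀ (g : K) c, ρ c ≠ c → ρ (((g : H) : Perm α) c) ≠ ((g : H) : Perm α) c := by
    intro g c hc e
    have := Perm.congr_fun (hcρ g).eq c
    simp only [Perm.mul_apply] at this
    exact hc (((g : H) : Perm α).injective (this.trans e))
  -- `K` is perfect, so fixes each quad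
  have hstay : ∀ c, ρ c ≠ c → ∀ g : K, ((g : H) : Perm α) c ∈ Q c := by
    intro c hc
    by_contra hh
    push Not at hh
    obtain ⟨g₀, hg₀⟩ := hh
    set d := ((g₀ : H) : Perm α) c with hd
    have hdm : ρ d ≠ d := hmoved g₀ c hc
    have hdisj : Disjoint (Q c) (Q d) := by
      rw [Finset.disjoint_left]
      intro q hq hq'
      apply hg₀
      rw [← hQmem c q hq, hQmem d q hq']
      simp [Q]
    -- every moved point lies in one of the two quads
    have hcover : ∀ u, ρ u ≠ u → u ∈ Q c ∨ u ∈ Q d := by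
      intro u hu
      by_contra hh'
      push Not at hh'
      have hd1 : Disjoint (Q u) (Q c) := by
        rw [Finset.disjoint_left]
        intro q hq hq'
        apply hh'.1
        rw [← hQmem c q hq', hQmem u q hq]
        simp [Q]
      have hd2 : Disjoint (Q u) (Q d) := by
        rw [Finset.disjoint_left]
        intro q hq hq'
        apply hh'.2
        rw [← hQmem d q hq', hQmem u q hq]
        simp [Q]
      have hle := Finset.card_le_univ (Q u ∪ (Q c ∪ Q d))
      rw [Finset.card_union_of_disjoint (Finset.disjoint_union_right.2 ⟨hd1, hd2⟩),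
        Finset.card_union_of_disjoint hdisj, hQcard u hu, hQcard c hc, hQcard d hdm] at hle
      omega
    classical
    let f : K →* Multiplicative (ZMod 2) :=
      { toFun := fun g => Multiplicative.ofAdd (if ((g : H) : Perm α) c ∈ Q c then 0 else 1)
        map_one' := by simp [Q]
        map_mul' := fun a b => by
          rw [← ofAdd_add]
          congr 1
          have hab : (((a * b : K) : H) : Perm α) c = ((a : H) : Perm α) (((b : H) : Perm α) c) := rfl
          have hQc : ∀ u, u ∈ Q c → (((a : H) : Perm α) u ∈ Q c ↔ ((a : H) : Perm α) c ∈ Q c) := by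
            intro u hu
            have : ((a : H) : Perm α) u ∈ Q (((a : H) : Perm α) c) := by
              rw [← hgQ]; exact Finset.mem_image_of_mem _ hu
            constructor <;> intro hm
            · rw [← hQmem _ _ hm, hQmem _ _ this]; simp [Q]
            · rw [← hQmem _ _ hm]; exact this
          by_cases hb : ((b : H) : Perm α) c ∈ Q c
          · by_cases ha : ((a : H) : Perm α) c ∈ Q c
            · simp [hab, hb, ha, (hQc _ hb).2 ha]
            · simp only [hab, hb, if_true]
              rw [if_neg (fun h => ha ((hQc _ hb).1 h)), if_neg ha]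
              decide
          · have hbd := ((hcover _ (hmoved b c hc)).resolve_left hb)
            by_cases ha : ((a : H) : Perm α) c ∈ Q c
            · have : ((a : H) : Perm α) (((b : H) : Perm α) c) ∉ Q c := by
                intro h
                have h1 : (Q c).image ((a : H) : Perm α) = Q c := by rw [hgQ, hQmem _ _ ha]
                rw [← h1] at h
                obtain ⟨v, hv, hv'⟩ := Finset.mem_image.1 h
                exact hb (((a : H) : Perm α).injective hv' ▸ hv)
              simp [hab, hb, ha, this]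
            · have : ((a : H) : Perm α) (((b : H) : Perm α) c) ∈ Q c := by
                by_contra h
                have h1 := (hcover _ (hmoved a _ (hmoved b c hc))).resolve_left h
                have h2 : (Q c).image ((a : H) : Perm α) = Q d := by
                  rw [hgQ, hQmem d _ ((hcover _ (hmoved a c hc)).resolve_left ha)]
                rw [← h2] at h1
                obtain ⟨v, hv, hv'⟩ := Finset.mem_image.1 h1
                exact hb (((a : H) : Perm α).injective hv' ▸ hv)
              simp only [hab, hb, ha, this, if_true, if_false]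
              decide }
    haveI : Group.IsPerfect K := hK.1
    have htriv : f.ker = ⊤ := by
      rw [eq_top_iff, ← Group.IsPerfect.commutator_eq_top (G := K)]
      exact Abelianization.commutator_subset_ker f
    have := (MonoidHom.mem_ker).1 (htriv ▸ mem_top g₀ : g₀ ∈ f.ker)
    simp [f, ← hd, hg₀] at this
  intro g
  apply Subtype.ext
  apply Subtype.ext
  refine Equiv.ext fun c => ?_
  show ((g : H) : Perm α) (((g : H) : Perm α) c) = c
  by_cases hc : ρ c = c
  · rw [hfixed _ (hcρ g) c hc, hfixed _ (hcρ g) c hc]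
  have e1 : ∀ u, ((g : H) : Perm α) (ρ u) = ρ (((g : H) : Perm α) u) := fun u =>
    Perm.congr_fun (hcρ g).eq u
  have e2 : ∀ u, ((g : H) : Perm α) (ρ' u) = ρ' (((g : H) : Perm α) u) := fun u =>
    Perm.congr_fun (hcρ' g).eq u
  have := hstay c hc g
  simp only [Q, Finset.mem_insert, Finset.mem_singleton] at this
  rcases this with e | e | e | e
  · rw [e, e]
  · rw [e, e1, e, hρ]
  · rw [e, e2, e, hinv]
  · rw [e, e1, e2, e, ← hρρ', hρ, hinv]

end Cfsg.Agent.Perm.DoubleTranspFStar
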