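import Mathlib

/-!
Regular normal subgroups of half-transitive groups which are not Frobenius groups.
-/

set_option autoImplicit false

namespace Cfsg.Agent.HalfTransitiveRegular

open MulAction Subgroup
open scoped Pointwise

variable {G Ω : Type*} [Group G] [MulAction G Ω]

/-- A finite invariant set all of whose orbits have size `l` has size divisible by `l`. -/
lemma dvd_ncard_of_orbits [Finite Ω] (S : Subgroup G) (Q : Set Ω) (hQ : ∀ s : S, ∀ x ∈ Q, s • x ∈ Q)
    {l : ℕ} (hl : ∀ x ∈ Q, Nat.card (orbit S x) = l) : l ∣ Q.ncard := by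
  classical
  let Qs : SubMulAction S Ω := ⟨Q, fun s _ hx => hQ s _ hx⟩
  have hor : ∀ x : Qs, Nat.card (orbit S x) = l := fun x => by
    rw [← hl (x : Ω) x.2, ← SubMulAction.val_image_orbit x, Nat.card_image_of_injective Subtype.val_injective]
  have : Fintype (orbitRel.Quotient S Qs) := Fintype.ofFinite _
  have hc : Q.ncard = Nat.card Qs := (Nat.card_coe_set_eq Q).symm
  rw [hc, Nat.card_congr (selfEquivSigmaOrbits S Qs), Nat.card_sigma]
  exact Finset.dvd_sum fun x _ => (hor _).symm.dvd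

variable [Finite G] [Finite Ω]

/-- The hypotheses: transitive, half-transitive stabilizer, regular normal subgroup. -/
structure Setup (a : Ω) (N : Subgroup G) : Prop where
  normal : N.Normal
  trans : IsPretransitive N Ω
  regular : ∀ x : Ω, stabilizer N x = ⊥
  half : ∀ b c : Ω, b ≠ a → c ≠ a → Nat.card (orbit (stabilizer G a) b) = Nat.card (orbit (stabilizer G a) c)

variable {a : Ω} {N : Subgroup G}

namespace Setup

lemma eq_of_smul (h : Setup a N) {u v : G} (hu : u ∈ N) (hv : v ∈ N) (he : u • a = v • a) : u = v := by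
  have h1 : (⟨v⁻¹ * u, N.mul_mem (N.inv_mem hv) hu⟩ : N) ∈ stabilizer N a := by
    show (v⁻¹ * u) • a = a
    rw [mul_smul, he, inv_smul_smul]
  rw [h.regular, mem_bot, Subtype.ext_iff] at h1
  exact (inv_mul_eq_one.mp h1).symm

lemma exists_eq_smul (h : Setup a N) (x : Ω) : ∃ u ∈ N, u • a = x := by
  have := h.trans
  obtain ⟨⟨u, hu⟩, he⟩ := exists_smul_eq N a x
  exact ⟨u, hu, he⟩

lemma smul_eq (h : Setup a N) {u g : G} (hu : u ∈ N) (hg : g ∈ stabilizer G a) :
    g • u • a = (g * u * g⁻¹) • a ∧ g * u * g⁻¹ ∈ N := by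
  refine ⟨?_, h.normal.conj_mem u hu g⟩
  rw [mul_smul, mul_smul, show g⁻¹ • a = a from (stabilizer G a).inv_mem hg]

lemma mem_stab_iff (h : Setup a N) {u g : G} (hu : u ∈ N) (hg : g ∈ stabilizer G a) :
    g ∈ stabilizer G (u • a) ↔ g * u = u * g := by
  obtain ⟨he, hm⟩ := h.smul_eq hu hg
  rw [mem_stabilizer_iff, he]
  exact ⟨fun h' => mul_inv_eq_iff_eq_mul.mp (h.eq_of_smul hm hu h'),
    fun h' => by rw [h', mul_inv_cancel_right]⟩

/-- The stabilizers of the other points all have the same order. -/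
lemma card_stab (h : Setup a N) {b c : Ω} (hb : b ≠ a) (hc : c ≠ a) :
    Nat.card ↥(stabilizer G a ⊓ stabilizer G b) = Nat.card ↥(stabilizer G a ⊓ stabilizer G c) := by
  have key : ∀ x : Ω, Nat.card ↥(stabilizer G a ⊓ stabilizer G x) * Nat.card (orbit (stabilizer G a) x) =
      Nat.card ↥(stabilizer G a) := by
    intro x
    have hs : stabilizer (stabilizer G a) x = (stabilizer G x).subgroupOf (stabilizer G a) := rfl
    have h1 := (stabilizer (stabilizer G a) x).card_mul_index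
    rw [index_stabilizer, ← Nat.card_coe_set_eq, hs] at h1
    rwa [← Subgroup.card_map_of_injective (stabilizer G a).subtype_injective, subgroupOf_map_subtype,
      inf_comm] at h1
  have : Nonempty (orbit (stabilizer G a) b) := ⟨⟨b, mem_orbit_self b⟩⟩
  refine Nat.eq_of_mul_eq_mul_right (Nat.card_pos (α := orbit (stabilizer G a) b)) ?_
  rw [key b, h.half b c hb hc, key c]

/-- A subgroup of the stabilizer of `a` preserving a set `Q` of size prime to the common orbit length, and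
containing the stabilizers of its points, fixes `Q` pointwise. -/
lemma stab_eq (h : Setup a N) {Q : Set Ω} (hQa : a ∉ Q) {S : Subgroup G} (hSa : S ≤ stabilizer G a)
    (hQ : ∀ s ∈ S, ∀ x ∈ Q, s • x ∈ Q) (hQS : ∀ x ∈ Q, stabilizer G a ⊓ stabilizer G x ≤ S)
    (hcard : Q.ncard ∣ Nat.card N) {x : Ω} (hx : x ∈ Q) : S = stabilizer G a ⊓ stabilizer G x := by
  set H := stabilizer G a with hH
  set l := (H ⊓ stabilizer G x).relIndex S with hl
  have horb : ∀ y ∈ Q, Nat.card (orbit S y) = l := by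
    intro y hy
    have hya : y ≠ a := fun e => hQa (e ▸ hy)
    have hxa : x ≠ a := fun e => hQa (e ▸ hx)
    have h1 := relIndex_mul_relIndex (⊥ : Subgroup G) (H ⊓ stabilizer G x) S bot_le (hQS x hx)
    have h2 := relIndex_mul_relIndex (⊥ : Subgroup G) (H ⊓ stabilizer G y) S bot_le (hQS y hy)
    rw [relIndex_bot_left, relIndex_bot_left] at h1 h2
    rw [h.card_stab hya hxa] at h2
    have h3 : (H ⊓ stabilizer G y).relIndex S = l := Nat.eq_of_mul_eq_mul_left Nat.card_pos (h2.trans h1.symm)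
    have h4 : stabilizer S y = (H ⊓ stabilizer G y).subgroupOf S := by
      ext s
      exact ⟨fun hs => ⟨hSa s.2, hs⟩, fun hs => hs.2⟩
    rw [Nat.card_coe_set_eq, ← index_stabilizer, h4]
    exact h3
  have hlQ : l ∣ Q.ncard := dvd_ncard_of_orbits S Q (fun s y hy => hQ s s.2 y hy) horb
  -- `l` divides the common orbit length, hence `|N| - 1`
  have hlk : l ∣ Nat.card (orbit H x) := by
    rw [Nat.card_coe_set_eq, ← index_stabilizer]
    refine dvd_trans (Dvd.intro _ (relIndex_mul_relIndex (H ⊓ stabilizer G x) S H (hQS x hx) hSa)) ?_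
    rw [inf_relIndex_left]
    rfl
  have hk : Nat.card (orbit H x) ∣ ({a}ᶜ : Set Ω).ncard := by
    refine dvd_ncard_of_orbits H _ (fun s y hy => ?_)
      fun y hy => h.half y x (Set.mem_compl_singleton_iff.mp hy) fun e => hQa (e ▸ hx)
    rw [Set.mem_compl_singleton_iff] at hy ⊢
    intro hsy
    have : s • y = s • a := hsy.trans (show (s : G) • a = a from s.2).symm
    exact hy (MulAction.injective s this)
  have hN : Nat.card N = Nat.card Ω := by
    refine Nat.card_congr (Equiv.ofBijective (fun u : N => (u : G) • a) ⟨fun u v he =>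
      Subtype.ext (h.eq_of_smul u.2 v.2 he), fun y => ?_⟩)
    obtain ⟨u, hu, he⟩ := h.exists_eq_smul y
    exact ⟨⟨u, hu⟩, he⟩
  have hone : l = 1 := by
    rw [Set.ncard_compl, Set.ncard_singleton, ← hN] at hk
    have hpos : 0 < Nat.card N := Nat.card_pos
    have := Nat.dvd_sub (hlQ.trans hcard) (hlk.trans hk)
    rw [show Nat.card N - (Nat.card N - 1) = 1 by omega] at this
    exact Nat.dvd_one.mp this
  exact le_antisymm (relIndex_eq_one.mp hone) (hQS x hx)

/-- All conjugates in `N` of an element of `N` have the same two-point stabilizer. -/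
lemma stab_conj (h : Setup a N) {u n : G} (hu : u ∈ N) (hu1 : u ≠ 1) (hn : n ∈ N) :
    stabilizer G a ⊓ stabilizer G (u • a) = stabilizer G a ⊓ stabilizer G ((n * u * n⁻¹) • a) := by
  set Q : Set Ω := (fun m : N => ((m : G) * u * (m : G)⁻¹) • a) '' Set.univ with hQdef
  have hQa : a ∉ Q := by
    rintro ⟨m, -, he⟩
    refine hu1 (conj_eq_one_iff.mp (h.eq_of_smul (N.mul_mem (N.mul_mem m.2 hu) (N.inv_mem m.2)) N.one_mem ?_))
    rw [one_smul]
    exact he
  have hstep : ∀ (g : G), g ∈ stabilizer G a → ∀ m ∈ N,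
      g • (m * u * m⁻¹) • a = ((g * m * g⁻¹) * (g * u * g⁻¹) * (g * m * g⁻¹)⁻¹) • a := by
    intro g hg m hm
    rw [(h.smul_eq (N.mul_mem (N.mul_mem hm hu) (N.inv_mem hm)) hg).1]
    congr 1
    group
  let S : Subgroup G := stabilizer G a ⊓ stabilizer G Q
  have hS : ∀ g ∈ stabilizer G a, (∃ m₀ ∈ N, g * u * g⁻¹ = m₀ * u * m₀⁻¹) → g ∈ S := by
    rintro g hg ⟨m₀, hm₀, he⟩
    refine ⟨hg, mem_stabilizer_set_iff_subset_smul_set Q.toFinite |>.mpr ?_⟩
    rintro _ ⟨m, -, rfl⟩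
    refine ⟨_, ⟨⟨g⁻¹ * ((m : G) * m₀⁻¹) * g, by
      simpa using h.normal.conj_mem _ (N.mul_mem m.2 (N.inv_mem hm₀)) g⁻¹⟩, trivial, rfl⟩, ?_⟩
    show g • _ = _
    rw [hstep g hg _ (by simpa using h.normal.conj_mem _ (N.mul_mem m.2 (N.inv_mem hm₀)) g⁻¹), he]
    congr 1
    group
  have hSQ : ∀ s ∈ S, ∀ x ∈ Q, s • x ∈ Q := fun s hs x hx => by
    have : s • Q = Q := hs.2
    rw [← this]
    exact Set.smul_mem_smul_set hx
  have hmem : ∀ m ∈ N, (m * u * m⁻¹) • a ∈ Q := fun m hm => ⟨⟨m, hm⟩, trivial, rfl⟩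
  have hQS : ∀ x ∈ Q, stabilizer G a ⊓ stabilizer G x ≤ S := by
    rintro _ ⟨m, -, rfl⟩ g ⟨hg, hgx⟩
    refine hS g hg ⟨(g * m * g⁻¹)⁻¹ * m, N.mul_mem (N.inv_mem (h.normal.conj_mem _ m.2 g)) m.2, ?_⟩
    have he := (h.mem_stab_iff (N.mul_mem (N.mul_mem m.2 hu) (N.inv_mem m.2)) hg).mp hgx
    calc g * u * g⁻¹ = (g * m * g⁻¹)⁻¹ * ((g * (m * u * (m : G)⁻¹)) * g⁻¹) * (g * m * g⁻¹) := by group
      _ = (g * m * g⁻¹)⁻¹ * (((m * u * (m : G)⁻¹) * g) * g⁻¹) * (g * m * g⁻¹) := by rw [he]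
      _ = _ := by group
  have hcard : Q.ncard ∣ Nat.card N := by
    let f : N → G := fun m => (m : G) * u * (m : G)⁻¹
    have h1 : Q.ncard = (Set.range f).ncard := by
      have : Q = (fun v : G => v • a) '' Set.range f := by
        rw [hQdef, Set.image_univ, ← Set.range_comp]
        rfl
      rw [this]
      refine Set.InjOn.ncard_image ?_
      rintro _ ⟨m, rfl⟩ _ ⟨m', rfl⟩ he
      exact h.eq_of_smul (N.mul_mem (N.mul_mem m.2 hu) (N.inv_mem m.2))
        (N.mul_mem (N.mul_mem m'.2 hu) (N.inv_mem m'.2)) he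
    have h2 : Set.range f = Subtype.val '' orbit (ConjAct N) (⟨u, hu⟩ : N) := by
      ext x
      constructor
      · rintro ⟨m, rfl⟩
        exact ⟨_, ⟨ConjAct.toConjAct m, rfl⟩, by simp [f, ConjAct.toConjAct_smul]⟩
      · rintro ⟨_, ⟨m, rfl⟩, rfl⟩
        exact ⟨ConjAct.ofConjAct m, by simp [f, ConjAct.smul_def]⟩
    rw [h1, h2, Set.ncard_image_of_injective _ Subtype.val_injective, ← index_stabilizer]
    exact (index_dvd_card _).trans (dvd_of_eq (Nat.card_congr ConjAct.ofConjAct.toEquiv))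
  have hu' : u • a ∈ Q := by simpa using hmem 1 N.one_mem
  rw [← h.stab_eq hQa inf_le_left hSQ hQS hcard hu', ← h.stab_eq hQa inf_le_left hSQ hQS hcard (hmem n hn)]

/-- A two-point stabilizer centralizing all of `N` is trivial. -/
lemma stab_eq_bot_of_forall [FaithfulSMul G Ω] (h : Setup a N) {K : Subgroup G} (hK : K ≤ stabilizer G a)
    (hc : ∀ v ∈ N, v ≠ 1 → K ≤ stabilizer G (v • a)) : K = ⊥ := by
  refine eq_bot_iff.mpr fun g hg => mem_bot.mpr (eq_of_smul_eq_smul fun x : Ω => ?_)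
  rw [one_smul]
  obtain ⟨v, hv, rfl⟩ := h.exists_eq_smul x
  rcases eq_or_ne v 1 with rfl | hv1
  · rw [one_smul]
    exact hK hg
  · exact hc v hv hv1 hg

/-- Two non-trivial elements with different two-point stabilizers commute. -/
lemma commute_of_ne (h : Setup a N) {u w : G} (hu : u ∈ N) (hu1 : u ≠ 1) (hw : w ∈ N) (hw1 : w ≠ 1)
    (hne : stabilizer G a ⊓ stabilizer G (u • a) ≠ stabilizer G a ⊓ stabilizer G (w • a)) : u * w = w * u := by
  by_contra hc
  have hw' : w⁻¹ ∈ N := N.inv_mem hw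
  set c := u * w * u⁻¹ * w⁻¹ with hcdef
  have hc1 : c ≠ 1 := fun e => hc (by
    have := congrArg (· * w * u) e
    simpa [hcdef] using this)
  have hcN : c ∈ N := N.mul_mem (N.mul_mem (N.mul_mem hu hw) (N.inv_mem hu)) hw'
  have key : ∀ x y : G, x ∈ N → x ≠ 1 → y ∈ N → y ≠ 1 → x * y ≠ 1 →
      stabilizer G a ⊓ stabilizer G (x • a) = stabilizer G a ⊓ stabilizer G (y • a) →
      stabilizer G a ⊓ stabilizer G ((x * y) • a) = stabilizer G a ⊓ stabilizer G (x • a) := by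
    intro x y hx hx1 hy hy1 hxy he
    have hle : stabilizer G a ⊓ stabilizer G (x • a) ≤ stabilizer G a ⊓ stabilizer G ((x * y) • a) := by
      intro g hg
      have h1 := (h.mem_stab_iff hx hg.1).mp hg.2
      have h2 := (h.mem_stab_iff hy hg.1).mp (he ▸ hg : g ∈ stabilizer G a ⊓ stabilizer G (y • a)).2
      refine ⟨hg.1, (h.mem_stab_iff (N.mul_mem hx hy) hg.1).mpr ?_⟩
      rw [← mul_assoc, h1, mul_assoc, h2, mul_assoc]
    have hne' : ∀ z ∈ N, z ≠ 1 → z • a ≠ a := fun z hz hz1 e =>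
      hz1 (h.eq_of_smul hz N.one_mem (by rw [one_smul, e]))
    exact (eq_of_le_of_card_ge hle (h.card_stab (hne' x hx hx1) (hne' _ (N.mul_mem hx hy) hxy)).ge).symm
  have huinv : ∀ x : G, x ∈ N → stabilizer G a ⊓ stabilizer G (x⁻¹ • a) = stabilizer G a ⊓ stabilizer G (x • a) := by
    intro x hx
    ext g
    simp only [mem_inf]
    refine and_congr_right fun hg => ?_
    rw [h.mem_stab_iff (N.inv_mem hx) hg, h.mem_stab_iff hx hg]
    exact ⟨fun e => (Commute.inv_right (show Commute g x⁻¹ from e)).symm.symm.eq |> fun e' => by simpa using e',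
      fun e => ((show Commute g x from e).inv_right).eq⟩
  refine hne ?_
  have h1 : stabilizer G a ⊓ stabilizer G (c • a) = stabilizer G a ⊓ stabilizer G (u • a) := by
    have e : c = u * (w * u⁻¹ * w⁻¹) := by rw [hcdef]; group
    rw [e]
    refine key u _ hu hu1 (N.mul_mem (N.mul_mem hw (N.inv_mem hu)) hw')
      (fun e' => hu1 (inv_eq_one.mp (conj_eq_one_iff.mp e'))) (e ▸ hc1) ?_
    rw [← h.stab_conj (N.inv_mem hu) (fun e' => hu1 (inv_eq_one.mp e')) hw, huinv u hu]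
  have h2 : stabilizer G a ⊓ stabilizer G (c • a) = stabilizer G a ⊓ stabilizer G (w • a) := by
    have e : c = (u * w * u⁻¹) * w⁻¹ := rfl
    rw [h.stab_conj hw hw1 hu, e]
    refine key _ _ (N.mul_mem (N.mul_mem hu hw) (N.inv_mem hu)) (fun e' => hw1 (conj_eq_one_iff.mp e'))
      hw' (fun e' => hw1 (inv_eq_one.mp e')) (e ▸ hc1) ?_
    rw [← h.stab_conj hw hw1 hu, huinv w hw]
  exact h1.symm.trans h2

lemma ne_self (h : Setup a N) {z : G} (hz : z ∈ N) (hz1 : z ≠ 1) : z • a ≠ a := fun e =>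
  hz1 (h.eq_of_smul hz N.one_mem (by rw [one_smul, e]))

/-- A stabilizer fixing two elements fixes their product. -/
lemma stab_mul (h : Setup a N) {x y : G} (hx : x ∈ N) (hx1 : x ≠ 1) (hy : y ∈ N) (hxy : x * y ≠ 1)
    (he : stabilizer G a ⊓ stabilizer G (x • a) = stabilizer G a ⊓ stabilizer G (y • a)) :
    stabilizer G a ⊓ stabilizer G ((x * y) • a) = stabilizer G a ⊓ stabilizer G (x • a) := by
  have hle : stabilizer G a ⊓ stabilizer G (x • a) ≤ stabilizer G a ⊓ stabilizer G ((x * y) • a) := by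
    intro g hg
    have h1 := (h.mem_stab_iff hx hg.1).mp hg.2
    have h2 := (h.mem_stab_iff hy hg.1).mp (he ▸ hg : g ∈ stabilizer G a ⊓ stabilizer G (y • a)).2
    refine ⟨hg.1, (h.mem_stab_iff (N.mul_mem hx hy) hg.1).mpr ?_⟩
    rw [← mul_assoc, h1, mul_assoc, h2, mul_assoc]
  exact (eq_of_le_of_card_ge hle (h.card_stab (h.ne_self hx hx1) (h.ne_self (N.mul_mem hx hy) hxy)).ge).symm

lemma stab_inv (h : Setup a N) {x : G} (hx : x ∈ N) :
    stabilizer G a ⊓ stabilizer G (x⁻¹ • a) = stabilizer G a ⊓ stabilizer G (x • a) := by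
  ext g
  simp only [mem_inf]
  refine and_congr_right fun hg => ?_
  rw [h.mem_stab_iff (N.inv_mem hx) hg, h.mem_stab_iff hx hg]
  exact ⟨fun e => by simpa using (show Commute g x⁻¹ from e).inv_right.eq,
    fun e => (show Commute g x from e).inv_right.eq⟩

lemma stab_pow (h : Setup a N) {x : G} (hx : x ∈ N) (hx1 : x ≠ 1) {j : ℕ} (hj : x ^ j ≠ 1) :
    stabilizer G a ⊓ stabilizer G ((x ^ j) • a) = stabilizer G a ⊓ stabilizer G (x • a) := by
  have hle : stabilizer G a ⊓ stabilizer G (x • a) ≤ stabilizer G a ⊓ stabilizer G ((x ^ j) • a) := fun g hg =>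
    ⟨hg.1, (h.mem_stab_iff (N.pow_mem hx j) hg.1).mpr
      ((show Commute g x from (h.mem_stab_iff hx hg.1).mp hg.2).pow_right j).eq⟩
  exact (eq_of_le_of_card_ge hle (h.card_stab (h.ne_self hx hx1) (h.ne_self (N.pow_mem hx j) hj)).ge).symm

lemma exists_ne [FaithfulSMul G Ω] (h : Setup a N) {b : Ω} (hb : b ≠ a)
    (hne : stabilizer G a ⊓ stabilizer G b ≠ ⊥) {x : G} (hx : x ∈ N) (hx1 : x ≠ 1) :
    ∃ w ∈ N, w ≠ 1 ∧ stabilizer G a ⊓ stabilizer G (x • a) ≠ stabilizer G a ⊓ stabilizer G (w • a) := by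
  by_contra hcon
  push Not at hcon
  have hbot := h.stab_eq_bot_of_forall (K := stabilizer G a ⊓ stabilizer G (x • a)) inf_le_left
    fun v hv hv1 => (hcon v hv hv1).le.trans inf_le_right
  have hc := h.card_stab (h.ne_self hx hx1) hb
  rw [hbot, card_bot] at hc
  exact hne (card_eq_one.mp hc.symm)

lemma commute [FaithfulSMul G Ω] (h : Setup a N) {b : Ω} (hb : b ≠ a)
    (hne : stabilizer G a ⊓ stabilizer G b ≠ ⊥) {x y : G} (hx : x ∈ N) (hy : y ∈ N) : x * y = y * x := by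
  rcases eq_or_ne x 1 with rfl | hx1
  · simp
  rcases eq_or_ne y 1 with rfl | hy1
  · simp
  by_cases he : stabilizer G a ⊓ stabilizer G (x • a) = stabilizer G a ⊓ stabilizer G (y • a)
  swap
  · exact h.commute_of_ne hx hx1 hy hy1 he
  obtain ⟨w, hw, hw1, hxw⟩ := h.exists_ne hb hne hx hx1
  have h1 := h.commute_of_ne hx hx1 hw hw1 hxw
  have hyw1 : y * w ≠ 1 := fun e => hxw (by rw [← h.stab_inv hw, ← eq_inv_of_mul_eq_one_left e, he])
  have hne' : stabilizer G a ⊓ stabilizer G (x • a) ≠ stabilizer G a ⊓ stabilizer G ((y * w) • a) := by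
    intro e
    refine hxw ?_
    have e2 : stabilizer G a ⊓ stabilizer G (y⁻¹ • a) = stabilizer G a ⊓ stabilizer G ((y * w) • a) := by
      rw [h.stab_inv hy, ← he, e]
    have := h.stab_mul (N.inv_mem hy) (inv_ne_one.mpr hy1) (N.mul_mem hy hw) (by simpa using hw1) e2
    rw [inv_mul_cancel_left] at this
    rw [this, h.stab_inv hy, he]
  have h2 := h.commute_of_ne hx hx1 (N.mul_mem hy hw) hyw1 hne'
  have h3 : x * y * w = y * x * w := by rw [mul_assoc, h2, mul_assoc, ← h1, ← mul_assoc]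
  exact mul_right_cancel h3

lemma orderOf_eq [FaithfulSMul G Ω] (h : Setup a N) {b : Ω} (hb : b ≠ a)
    (hne : stabilizer G a ⊓ stabilizer G b ≠ ⊥) {u w : G} (hu : u ∈ N) (hu1 : u ≠ 1) (hw : w ∈ N) (hw1 : w ≠ 1)
    (hd : stabilizer G a ⊓ stabilizer G (u • a) ≠ stabilizer G a ⊓ stabilizer G (w • a)) :
    orderOf u = orderOf w := by
  suffices key : ∀ u w : G, u ∈ N → u ≠ 1 → w ∈ N → w ≠ 1 →
      stabilizer G a ⊓ stabilizer G (u • a) ≠ stabilizer G a ⊓ stabilizer G (w • a) → orderOf w ∣ orderOf u from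
    Nat.dvd_antisymm (key w u hw hw1 hu hu1 (Ne.symm hd)) (key u w hu hu1 hw hw1 hd)
  intro u w hu hu1 hw hw1 hd
  by_contra hdvd
  have hj : w ^ orderOf u ≠ 1 := fun e => hdvd (orderOf_dvd_of_pow_eq_one e)
  have huw1 : u * w ≠ 1 := fun e => hd (by rw [← h.stab_inv hw, ← eq_inv_of_mul_eq_one_left e])
  have hp : (u * w) ^ orderOf u = w ^ orderOf u := by
    rw [(show Commute u w from h.commute hb hne hu hw).mul_pow, pow_orderOf_eq_one, one_mul]
  have h1 : stabilizer G a ⊓ stabilizer G ((u * w) • a) = stabilizer G a ⊓ stabilizer G (w • a) := by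
    rw [← h.stab_pow (N.mul_mem hu hw) huw1 (j := orderOf u) (by rw [hp]; exact hj), hp, h.stab_pow hw hw1 hj]
  refine hd ?_
  have := h.stab_mul (N.mul_mem hu hw) huw1 (N.inv_mem hw) (by simpa using hu1)
    (h1.trans (h.stab_inv hw).symm)
  rw [mul_inv_cancel_right] at this
  rw [this, h1]

lemma prime_exponent [FaithfulSMul G Ω] (h : Setup a N) {b : Ω} (hb : b ≠ a)
    (hne : stabilizer G a ⊓ stabilizer G b ≠ ⊥) : ∃ p : ℕ, p.Prime ∧ ∀ x ∈ N, x ^ p = 1 := by
  obtain ⟨u, hu, hub⟩ := h.exists_eq_smul b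
  have hu1 : u ≠ 1 := fun e => hb (by rw [← hub, e, one_smul])
  obtain ⟨w, hw, hw1, hd⟩ := h.exists_ne hb hne hu hu1
  have hpr : (orderOf u).Prime := by
    obtain ⟨q, hq, hqd⟩ := Nat.exists_prime_and_dvd (fun e => hu1 (orderOf_eq_one_iff.mp e))
    have hj : u ^ (orderOf u / q) ≠ 1 := pow_ne_one_of_lt_orderOf
      (Nat.div_pos (Nat.le_of_dvd (orderOf_pos u) hqd) hq.pos).ne' (Nat.div_lt_self (orderOf_pos u) hq.one_lt)
    have ho : orderOf (u ^ (orderOf u / q)) = q := orderOf_pow_orderOf_div (orderOf_pos u).ne' hqd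
    have h1 := h.orderOf_eq hb hne (N.pow_mem hu _) hj hw hw1 (by rw [h.stab_pow hu hu1 hj]; exact hd)
    rw [← h.orderOf_eq hb hne hu hu1 hw hw1 hd, ho] at h1
    exact h1 ▸ hq
  refine ⟨orderOf u, hpr, fun x hx => ?_⟩
  rcases eq_or_ne x 1 with rfl | hx1
  · exact one_pow _
  suffices hox : orderOf x = orderOf u by rw [← hox, pow_orderOf_eq_one]
  by_cases he : stabilizer G a ⊓ stabilizer G (x • a) = stabilizer G a ⊓ stabilizer G (u • a)
  · rw [h.orderOf_eq hb hne hx hx1 hw hw1 (he ▸ hd), h.orderOf_eq hb hne hu hu1 hw hw1 hd]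
  · exact h.orderOf_eq hb hne hx hx1 hu hu1 he

/-- Every non-trivial normal subgroup contains `N`. -/
lemma le_of_normal [FaithfulSMul G Ω] (h : Setup a N) {b : Ω} (hb : b ≠ a)
    (hne : stabilizer G a ⊓ stabilizer G b ≠ ⊥) (M : Subgroup G) [hM : M.Normal] (hM1 : M ≠ ⊥) : N ≤ M := by
  have := h.normal
  have hW : M ⊓ N ≠ ⊥ := by
    intro hbot
    refine hM1 (eq_bot_iff.mpr fun g hg => mem_bot.mpr ?_)
    have hcomm : ∀ v ∈ N, g * v = v * g := fun v hv =>
      Subgroup.commute_of_normal_of_disjoint M N hM h.normal (disjoint_iff.mpr hbot) g v hg hv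
    obtain ⟨n, hn, hna⟩ := h.exists_eq_smul (g • a)
    have hk : n⁻¹ * g ∈ stabilizer G a := by
      rw [mem_stabilizer_iff, mul_smul, ← hna, inv_smul_smul]
    have hz : zpowers (n⁻¹ * g) = ⊥ := h.stab_eq_bot_of_forall (zpowers_le.mpr hk) fun v hv _ =>
      zpowers_le.mpr ((h.mem_stab_iff hv hk).mpr (by
        rw [mul_assoc, hcomm v hv, ← mul_assoc, h.commute hb hne (N.inv_mem hn) hv, mul_assoc]))
    rw [zpowers_eq_bot, inv_mul_eq_one] at hz
    exact mem_bot.mp (hbot ▸ (⟨hg, hz ▸ hn⟩ : g ∈ M ⊓ N))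
  intro u hu
  by_contra huM
  obtain ⟨w₀, hw₀, hw₀1⟩ := (M ⊓ N).bot_or_exists_ne_one.resolve_left hW
  -- a coset of `M ⊓ N`
  have key : ∀ v ∈ N, v ∉ M → ∀ w ∈ M ⊓ N, w ≠ 1 →
      stabilizer G a ⊓ stabilizer G (v • a) = stabilizer G a ⊓ stabilizer G (w • a) := by
    intro v hv hvM w hw hw1
    set Q : Set Ω := (fun z : ↥(M ⊓ N) => (v * (z : G)) • a) '' Set.univ with hQdef
    have hQa : a ∉ Q := by
      rintro ⟨z, -, he⟩
      refine hvM ?_
      have := h.eq_of_smul (N.mul_mem hv z.2.2) N.one_mem (by rw [one_smul]; exact he)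
      rw [eq_inv_of_mul_eq_one_left this]
      exact M.inv_mem z.2.1
    let S : Subgroup G := stabilizer G a ⊓ stabilizer G Q
    have hSQ : ∀ s ∈ S, ∀ x ∈ Q, s • x ∈ Q := fun s hs x hx => by
      have : s • Q = Q := hs.2
      rw [← this]
      exact Set.smul_mem_smul_set hx
    have hQS : ∀ x ∈ Q, stabilizer G a ⊓ stabilizer G x ≤ S := by
      rintro _ ⟨z, -, rfl⟩ g ⟨hg, hgx⟩
      have he := (h.mem_stab_iff (N.mul_mem hv z.2.2) hg).mp hgx
      refine ⟨hg, mem_stabilizer_set_iff_subset_smul_set Q.toFinite |>.mpr ?_⟩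
      rintro _ ⟨y, -, rfl⟩
      have hy : (z : G) * (g⁻¹ * ((z : G)⁻¹ * (y : G)) * g) ∈ M ⊓ N :=
        (M ⊓ N).mul_mem z.2 (by
          simpa using (inferInstance : (M ⊓ N).Normal).conj_mem _ ((M ⊓ N).mul_mem ((M ⊓ N).inv_mem z.2) y.2) g⁻¹)
      refine ⟨_, ⟨⟨_, hy⟩, trivial, rfl⟩, ?_⟩
      show g • (v * ((z : G) * (g⁻¹ * ((z : G)⁻¹ * (y : G)) * g))) • a = (v * (y : G)) • a
      rw [(h.smul_eq (N.mul_mem hv hy.2) hg).1]
      congr 1
      calc g * (v * ((z : G) * (g⁻¹ * ((z : G)⁻¹ * (y : G)) * g))) * g⁻¹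
          = g * (v * z) * g⁻¹ * ((z : G)⁻¹ * y) := by group
        _ = v * z * g * g⁻¹ * ((z : G)⁻¹ * y) := by rw [he]
        _ = v * y := by group
    have hcard : Q.ncard ∣ Nat.card N := by
      rw [hQdef, Set.ncard_image_of_injective _ (fun z z' he => Subtype.ext (mul_left_cancel
        (h.eq_of_smul (N.mul_mem hv z.2.2) (N.mul_mem hv z'.2.2) he))), Set.ncard_univ]
      exact card_dvd_of_le inf_le_right
    have hv' : v • a ∈ Q := ⟨1, trivial, by simp⟩
    have hw' : (v * w) • a ∈ Q := ⟨⟨w, hw⟩, trivial, rfl⟩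
    have heq := (h.stab_eq hQa inf_le_left hSQ hQS hcard hw').symm.trans
      (h.stab_eq hQa inf_le_left hSQ hQS hcard hv')
    have hv1 : v ≠ 1 := fun e => hvM (e ▸ M.one_mem)
    have h1 := h.stab_mul (N.inv_mem hv) (inv_ne_one.mpr hv1) (N.mul_mem hv hw.2) (by simpa using hw1)
      ((h.stab_inv hv).trans heq.symm)
    rw [inv_mul_cancel_left] at h1
    rw [h1, h.stab_inv hv]
  have hu1 : u ≠ 1 := fun e => huM (e ▸ M.one_mem)
  obtain ⟨w, hw, hw1, hd⟩ := h.exists_ne hb hne hu hu1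
  refine hd ?_
  by_cases hwM : w ∈ M
  · exact key u hu huM w ⟨hwM, hw⟩ hw1
  · rw [key u hu huM w₀ hw₀ hw₀1, key w hw hwM w₀ hw₀ hw₀1]

end Setup

end Cfsg.Agent.HalfTransitiveRegular
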