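import Mathlib

/-!
# Jordan sets of fewer than half the points give six-fold transitivity

`Γ` is a Jordan set: the pointwise stabiliser of its complement is transitive on it.  The plane of a
set `F` consists of the points lying in no translate of `Γ` that avoids `F`.  If planes of `k`-sets
are trivial, a `k`-transitive group is `(k + 1)`-transitive.
-/

set_option autoImplicit false

namespace Cfsg.Agent.Perm.JordanSet

open MulAction
open scoped Pointwise

variable {G Ω : Type*} [Group G] [MulAction G Ω]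

/-- The points in no translate of `Γ` avoiding `F`. -/
def plane (G : Type*) [Group G] [MulAction G Ω] (Γ F : Set Ω) : Set Ω :=
  {y | ∀ g : G, Disjoint F (g • Γ) → y ∉ g • Γ}

/-- Being joined by translates of `Γ` avoiding `F`. -/
def Joined (G : Type*) [Group G] [MulAction G Ω] (Γ F : Set Ω) : Ω → Ω → Prop :=
  Relation.EqvGen fun x y => ∃ g : G, Disjoint F (g • Γ) ∧ x ∈ g • Γ ∧ y ∈ g • Γ

/-- Maps any ordered `k`-tuple of distinct points to any other. -/
def TupleTrans (G Ω : Type*) [Group G] [MulAction G Ω] (k : ℕ) : Prop :=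
  ∀ e e' : Fin k ↪ Ω, ∃ g : G, ∀ i, g • e i = e' i

variable {Γ : Set Ω}

theorem subset_plane (F : Set Ω) : F ⊆ plane G Γ F :=
  fun _ hy _ hg h => Set.disjoint_left.1 hg hy h

theorem plane_mono {F F' : Set Ω} (h : F' ⊆ plane G Γ F) : plane G Γ F' ⊆ plane G Γ F :=
  fun _ hy g hg => hy g (Set.disjoint_left.2 fun _ hz hz' => h hz g hg hz')

theorem plane_smul (h : G) (F : Set Ω) : plane G Γ (h • F) = h • plane G Γ F := by
  ext y
  rw [Set.mem_smul_set_iff_inv_smul_mem]
  constructor
  · intro hy g hg hmem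
    refine hy (h * g) ?_ ?_
    · rwa [mul_smul, Set.disjoint_smul_set]
    · rw [mul_smul, Set.mem_smul_set_iff_inv_smul_mem]; exact hmem
  · intro hy g hg hmem
    refine hy (h⁻¹ * g) ?_ ?_
    · rw [mul_smul, ← Set.disjoint_smul_set (a := h), smul_inv_smul]; exact hg
    · rw [mul_smul, Set.smul_mem_smul_set_iff]; exact hmem

theorem joined_smul {F : Set Ω} {x y : Ω} (h : G) (hs : Joined G Γ F x y) :
    Joined G Γ (h • F) (h • x) (h • y) := by
  induction hs with
  | rel x y hxy =>
    obtain ⟨g, h1, h2, h3⟩ := hxy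
    exact Relation.EqvGen.rel _ _ ⟨h * g, by rwa [mul_smul, Set.disjoint_smul_set],
      by rwa [mul_smul, Set.smul_mem_smul_set_iff], by rwa [mul_smul, Set.smul_mem_smul_set_iff]⟩
  | refl x => exact Relation.EqvGen.refl _
  | symm x y _ ih => exact Relation.EqvGen.symm _ _ ih
  | trans x y z _ _ ih ih' => exact Relation.EqvGen.trans _ _ _ ih ih'

theorem joined_avoid {F : Set Ω} {x y : Ω} (hs : Joined G Γ F x y) : x ∈ F ↔ y ∈ F := by
  induction hs with
  | rel x y hxy =>
    obtain ⟨g, h1, h2, h3⟩ := hxy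
    exact ⟨fun h => absurd h2 (Set.disjoint_left.1 h1 h),
      fun h => absurd h3 (Set.disjoint_left.1 h1 h)⟩
  | refl x => exact Iff.rfl
  | symm x y _ ih => exact ih.symm
  | trans x y z _ _ ih ih' => exact ih.trans ih'

theorem joined_restrict {F F' : Set Ω} {x y z : Ω} (hd : ∀ q ∈ F', ¬ Joined G Γ F x q)
    (hs : Joined G Γ F y z) :
    (Joined G Γ F x y ↔ Joined G Γ F x z) ∧ (Joined G Γ F x y → Joined G Γ F' y z) := by
  induction hs with
  | rel y z hyz =>
    obtain ⟨g, h1, h2, h3⟩ := hyz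
    refine ⟨⟨fun h => Relation.EqvGen.trans _ _ _ h (Relation.EqvGen.rel _ _ ⟨g, h1, h2, h3⟩),
      fun h => Relation.EqvGen.trans _ _ _ h (Relation.EqvGen.rel _ _ ⟨g, h1, h3, h2⟩)⟩, fun h => ?_⟩
    refine Relation.EqvGen.rel _ _ ⟨g, Set.disjoint_left.2 fun q hq hq' => hd q hq ?_, h2, h3⟩
    exact Relation.EqvGen.trans _ _ _ h (Relation.EqvGen.rel _ _ ⟨g, h1, h2, hq'⟩)
  | refl y => exact ⟨Iff.rfl, fun _ => Relation.EqvGen.refl _⟩
  | symm y z _ ih => exact ⟨ih.1.symm, fun h => Relation.EqvGen.symm _ _ (ih.2 (ih.1.2 h))⟩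
  | trans y w z _ _ ih ih' =>
    exact ⟨ih.1.trans ih'.1, fun h => Relation.EqvGen.trans _ _ _ (ih.2 h) (ih'.2 (ih.1.1 h))⟩

theorem joined_move (htr : ∀ x ∈ Γ, ∀ y ∈ Γ, ∃ g : G, (∀ z ∉ Γ, g • z = z) ∧ g • x = y)
    {F : Set Ω} {x y : Ω} (hs : Joined G Γ F x y) :
    ∃ k : G, (∀ q ∈ F, k • q = q) ∧ k • x = y := by
  induction hs with
  | rel x y hxy =>
    obtain ⟨g, h1, h2, h3⟩ := hxy
    rw [Set.mem_smul_set_iff_inv_smul_mem] at h2 h3
    obtain ⟨k, hk, hkxy⟩ := htr _ h2 _ h3
    refine ⟨g * k * g⁻¹, fun q hq => ?_, by rw [mul_smul, mul_smul, hkxy, smul_inv_smul]⟩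
    rw [mul_smul, mul_smul, hk, smul_inv_smul]
    rw [← Set.mem_smul_set_iff_inv_smul_mem]
    exact Set.disjoint_left.1 h1 hq
  | refl x => exact ⟨1, fun _ _ => one_smul _ _, one_smul _ _⟩
  | symm x y _ ih =>
    obtain ⟨k, hk, hxy⟩ := ih
    exact ⟨k⁻¹, fun q hq => inv_smul_eq_iff.2 (hk q hq).symm, inv_smul_eq_iff.2 hxy.symm⟩
  | trans x y z _ _ ih ih' =>
    obtain ⟨k, hk, hxy⟩ := ih
    obtain ⟨l, hl, hyz⟩ := ih'
    exact ⟨l * k, fun q hq => by rw [mul_smul, hk q hq, hl q hq], by rw [mul_smul, hxy, hyz]⟩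

variable [Finite Ω]

theorem exists_smul_set {k : ℕ} (hk : TupleTrans G Ω k) {F F' : Set Ω} (hF : F.ncard = k)
    (hF' : F'.ncard = k) : ∃ g : G, g • F = F' := by
  let e : Fin k ↪ Ω := ((Finite.equivFinOfCardEq (α := F) (by rw [Nat.card_coe_set_eq, hF])).symm).toEmbedding.trans
    (Function.Embedding.subtype _)
  let e' : Fin k ↪ Ω := ((Finite.equivFinOfCardEq (α := F') (by rw [Nat.card_coe_set_eq, hF'])).symm).toEmbedding.trans
    (Function.Embedding.subtype _)
  obtain ⟨g, hg⟩ := hk e e'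
  refine ⟨g, Set.eq_of_subset_of_ncard_le ?_ (by rw [Set.ncard_smul_set, hF, hF']) (Set.toFinite _)⟩
  rintro _ ⟨q, hq, rfl⟩
  obtain ⟨i, hi⟩ := (Finite.equivFinOfCardEq (α := F) (by rw [Nat.card_coe_set_eq, hF])).symm.surjective ⟨q, hq⟩
  have : e i = q := congrArg Subtype.val hi
  change g • q ∈ F'
  rw [← this, hg]
  exact ((Finite.equivFinOfCardEq (α := F') (by rw [Nat.card_coe_set_eq, hF'])).symm i).2

/-- Trivial planes give one more degree of transitivity. -/
theorem tupleTrans_succ {k : ℕ} (hk1 : 1 ≤ k) (hk : TupleTrans G Ω k)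
    (h2t : ∀ a b c d : Ω, a ≠ b → c ≠ d → ∃ g : G, g • a = c ∧ g • b = d) (h1 : 1 < Γ.ncard)
    (htr : ∀ x ∈ Γ, ∀ y ∈ Γ, ∃ g : G, (∀ z ∉ Γ, g • z = z) ∧ g • x = y)
    (hpl : ∀ F : Set Ω, F.ncard = k → plane G Γ F ⊆ F) : TupleTrans G Ω (k + 1) := by
  classical
  have hcover : ∀ F : Set Ω, F.ncard = k → ∀ y ∉ F,
      ∃ g : G, Disjoint F (g • Γ) ∧ y ∈ g • Γ := by
    intro F hF y hy
    by_contra hcon
    exact hy (hpl F hF fun g hg hmem => hcon ⟨g, hg, hmem⟩)
  have hconn : ∀ F : Set Ω, F.ncard = k → ∀ x y, x ∉ F → y ∉ F → Joined G Γ F x y := by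
    by_contra hcon
    push Not at hcon
    obtain ⟨F₁, hF₁, x₁, y₁, hx₁, hy₁, hn₁⟩ := hcon
    let T := {t : Set Ω × Ω // t.1.ncard = k ∧ t.2 ∉ t.1}
    haveI : Nonempty T := ⟨⟨(F₁, x₁), hF₁, hx₁⟩⟩
    obtain ⟨⟨⟨F, x⟩, hF, hx⟩, hmax⟩ :=
      Finite.exists_max fun t : T => {y | Joined G Γ t.1.1 t.1.2 y}.ncard
    simp only at hF hx hmax
    set W := {y | Joined G Γ F x y} with hW
    have hxW : x ∈ W := Relation.EqvGen.refl _
    have hWF : ∀ y ∈ W, y ∉ F := fun y hy h => hx ((joined_avoid hy).2 h)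
    obtain ⟨z, hzW, hzF⟩ : ∃ z, z ∉ W ∧ z ∉ F := by
      by_contra hcon2
      push Not at hcon2
      obtain ⟨g, hg⟩ := exists_smul_set hk hF hF₁
      have hin : ∀ w, w ∉ F₁ → Joined G Γ F₁ (g • x) w := by
        intro w hw
        have hw' : g⁻¹ • w ∈ W := by
          by_contra h
          have := hcon2 _ h
          rw [← Set.mem_smul_set_iff_inv_smul_mem, hg] at this
          exact hw this
        have := joined_smul g hw'
        rwa [hg, smul_inv_smul] at this
      exact hn₁ (Relation.EqvGen.trans _ _ _ (Relation.EqvGen.symm _ _ (hin x₁ hx₁)) (hin y₁ hy₁))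
    obtain ⟨g₀, hgF, hgz⟩ := hcover F hF z hzF
    have hsub : g₀ • Γ ∪ F ⊆ Wᶜ := by
      rintro w (hw | hw) hwW
      · exact hzW (Relation.EqvGen.trans _ _ _ hwW (Relation.EqvGen.rel _ _ ⟨g₀, hgF, hw, hgz⟩))
      · exact hWF w hwW hw
    have hsize : Γ.ncard + k ≤ Wᶜ.ncard := by
      have := Set.ncard_le_ncard hsub (Set.toFinite _)
      rwa [Set.ncard_union_eq hgF.symm (Set.toFinite _) (Set.toFinite _), Set.ncard_smul_set, hF]
        at this
    have hstable : ∀ F' : Set Ω, F'.ncard = k → F' ⊆ Wᶜ → {y | Joined G Γ F' x y} = W := by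
      intro F' hF' hsub'
      refine (Set.eq_of_subset_of_ncard_le
        (fun y hy => (joined_restrict (fun q hq => hsub' hq) hy).2 hxW) ?_ (Set.toFinite _)).symm
      exact hmax ⟨(F', x), hF', fun h => hsub' h hxW⟩
    obtain ⟨a, ha⟩ := Set.nonempty_of_ncard_ne_zero (s := F) (by omega)
    obtain ⟨u, hu, v, hv, huv⟩ := (Set.one_lt_ncard (Set.toFinite _)).1 h1
    obtain ⟨l, hlu, hlv⟩ := h2t u v x a huv (fun h => hx (h ▸ ha))
    have hxl : x ∈ l • Γ := hlu ▸ Set.smul_mem_smul_set hu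
    have hal : a ∈ l • Γ := hlv ▸ Set.smul_mem_smul_set hv
    have hsmall : (Wᶜ \ (l • Γ)).ncard < k := by
      by_contra h
      obtain ⟨F', hF's, hF'⟩ := Set.exists_subset_card_eq (not_lt.1 h)
      have hd : Disjoint F' (l • Γ) := Set.disjoint_left.2 fun q hq => (hF's hq).2
      have : a ∈ W := hstable F' hF' (fun q hq => (hF's hq).1) ▸
        (Relation.EqvGen.rel _ _ ⟨l, hd, hxl, hal⟩ : Joined G Γ F' x a)
      exact hWF a this ha
    have hinter : (Wᶜ ∩ (l • Γ)).ncard + 1 ≤ Γ.ncard := by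
      rw [← Set.ncard_smul_set l Γ]
      have h' := Set.ncard_le_ncard
        (Set.insert_subset hxl Set.inter_subset_right : insert x (Wᶜ ∩ l • Γ) ⊆ l • Γ) (Set.toFinite _)
      rwa [Set.ncard_insert_of_notMem (fun h => h.1 hxW) (Set.toFinite _)] at h'
    have := Set.ncard_inter_add_ncard_diff_eq_ncard Wᶜ (l • Γ) (Set.toFinite _)
    omega
  intro e e'
  obtain ⟨g, hg⟩ := hk (Fin.castSuccEmb.trans e) (Fin.castSuccEmb.trans e')
  set F : Set Ω := Set.range (fun i : Fin k => e' i.castSucc) with hF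
  have hFk : F.ncard = k := by
    rw [hF, Set.ncard_range_of_injective (fun i j h => Fin.castSucc_injective k (e'.injective h)),
      Nat.card_fin]
  obtain ⟨l, hl, hl'⟩ := joined_move htr (hconn F hFk (g • e (Fin.last k)) (e' (Fin.last k))
    (by
      rintro ⟨i, hi⟩
      have h1 : g • e i.castSucc = g • e (Fin.last k) := (hg i).trans hi
      exact (Fin.castSucc_lt_last i).ne (e.injective (smul_left_cancel g h1)))
    (by
      rintro ⟨i, hi⟩
      exact (Fin.castSucc_lt_last i).ne (e'.injective hi)))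
  refine ⟨l * g, fun i => ?_⟩
  rw [mul_smul]
  refine Fin.lastCases ?_ (fun j => ?_) i
  · exact hl'
  · rw [show g • e j.castSucc = e' j.castSucc from hg j]
    exact hl _ ⟨j, rfl⟩

theorem plane_eq {k : ℕ} (hk : TupleTrans G Ω k) {F F' : Set Ω} (hF : F.ncard = k)
    (hF' : F'.ncard = k) (h : F' ⊆ plane G Γ F) : plane G Γ F' = plane G Γ F := by
  refine Set.eq_of_subset_of_ncard_le (plane_mono h) ?_ (Set.toFinite _)
  obtain ⟨g, hg⟩ := exists_smul_set hk hF hF'
  rw [← hg, plane_smul, Set.ncard_smul_set]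

/-- Planes are trivial when `Γ` has fewer than half the points. -/
theorem plane_trivial {k : ℕ} (hk2 : 2 ≤ k) (hk5 : k ≤ 5) (hk : TupleTrans G Ω k)
    (hm : 4 ≤ Γ.ncard) (hn : 2 * Γ.ncard < Nat.card Ω) :
    ∀ F : Set Ω, F.ncard = k → plane G Γ F ⊆ F := by
  classical
  by_contra hcon
  push Not at hcon
  obtain ⟨F₀, hF₀, hF₀s⟩ := hcon
  have hbig : k < (plane G Γ F₀).ncard := by
    rw [← hF₀]
    exact Set.ncard_lt_ncard ⟨subset_plane F₀, hF₀s⟩ (Set.toFinite _)
  have hsize : ∀ F : Set Ω, F.ncard = k → (plane G Γ F).ncard = (plane G Γ F₀).ncard := by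
    intro F hF
    obtain ⟨g, rfl⟩ := exists_smul_set hk hF₀ hF
    rw [plane_smul, Set.ncard_smul_set]
  have hΔ : ∀ F : Set Ω, Disjoint F Γ → ∀ y ∈ plane G Γ F, y ∉ Γ := fun F hF y hy => by
    simpa using hy 1 (by rwa [one_smul])
  -- at most `k - 1` points outside `Γ` in a plane that meets it
  have hfew : ∀ F : Set Ω, F.ncard = k → ∀ F' : Set Ω, F' ⊆ plane G Γ F → Disjoint F' Γ →
      F'.ncard = k → Disjoint (plane G Γ F) Γ := by
    intro F hF F' hsub hd hF'
    rw [← plane_eq hk hF hF' hsub, Set.disjoint_left]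
    exact hΔ F' hd
  set D : Set Ω := Γᶜ with hD
  have hDcard : Γ.ncard + D.ncard = Nat.card Ω := Set.ncard_add_ncard_compl Γ
  -- the line through `x` and a `(k - 2)`-set outside
  have key : ∀ E : Set Ω, Disjoint E Γ → E.ncard = k - 2 → ∀ x ∈ Γ, ∀ f ∉ Γ, f ∉ E →
      (∀ y ∈ plane G Γ (insert x (insert f E)), y ∉ insert x (insert f E) →
        y ∈ Γ \ {x}) := by
    intro E hE hEk x hx f hf hfE y hy hyF
    have hxE : x ∉ E := fun h => Set.disjoint_left.1 hE h hx
    have hxf : x ≠ f := fun h => hf (h ▸ hx)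
    have hFk : (insert x (insert f E)).ncard = k := by
      rw [Set.ncard_insert_of_notMem (by simp [hxE, hxf]) (Set.toFinite _),
        Set.ncard_insert_of_notMem hfE (Set.toFinite _), hEk]
      omega
    refine ⟨?_, fun h => hyF (Or.inl h)⟩
    by_contra hyΓ
    have hd := hfew _ hFk (insert y (insert f E))
      (Set.insert_subset hy fun q hq => subset_plane _ (Or.inr hq))
      (by
        rw [Set.disjoint_insert_left, Set.disjoint_insert_left]
        exact ⟨hyΓ, hf, hE⟩)
      (by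
        rw [Set.ncard_insert_of_notMem (fun h => hyF (Or.inr h)) (Set.toFinite _),
          Set.ncard_insert_of_notMem hfE (Set.toFinite _), hEk]
        omega)
    exact Set.disjoint_left.1 hd (subset_plane _ (Or.inl rfl)) hx
  have hcardF : ∀ E : Set Ω, Disjoint E Γ → E.ncard = k - 2 → ∀ x ∈ Γ, ∀ f ∉ Γ, f ∉ E →
      (insert x (insert f E)).ncard = k := by
    intro E hE hEk x hx f hf hfE
    rw [Set.ncard_insert_of_notMem
        (by
          rintro (h | h)
          · exact hf (h ▸ hx)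
          · exact Set.disjoint_left.1 hE h hx)
        (Set.toFinite _),
      Set.ncard_insert_of_notMem hfE (Set.toFinite _), hEk]
    omega
  -- distinct lines share no further point of `Γ`
  have hdisj : ∀ E : Set Ω, Disjoint E Γ → E.ncard = k - 2 → ∀ x ∈ Γ, ∀ f ∉ Γ, f ∉ E →
      ∀ f' ∉ Γ, f' ∉ E → ∀ y, y ∈ Γ \ {x} → y ∈ plane G Γ (insert x (insert f E)) →
        y ∈ plane G Γ (insert x (insert f' E)) → f = f' := by
    intro E hE hEk x hx f hf hfE f' hf' hf'E y hy hy1 hy2
    by_contra hne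
    have hyk : (insert x (insert y E)).ncard = k := by
      rw [Set.ncard_insert_of_notMem (by
          rintro (h | h)
          · exact hy.2 h.symm
          · exact Set.disjoint_left.1 hE h hx)
          (Set.toFinite _),
        Set.ncard_insert_of_notMem (fun h => Set.disjoint_left.1 hE h hy.1) (Set.toFinite _), hEk]
      omega
    have e1 := plane_eq hk (hcardF E hE hEk x hx f hf hfE) hyk (Set.insert_subset
      (subset_plane _ (Or.inl rfl)) (Set.insert_subset hy1 fun q hq => subset_plane _ (Or.inr (Or.inr hq))))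
    have e2 := plane_eq hk (hcardF E hE hEk x hx f' hf' hf'E) hyk (Set.insert_subset
      (subset_plane _ (Or.inl rfl)) (Set.insert_subset hy2 fun q hq => subset_plane _ (Or.inr (Or.inr hq))))
    have hmem : f' ∈ plane G Γ (insert x (insert f E)) :=
      e1 ▸ e2.symm ▸ subset_plane _ (Or.inr (Or.inl rfl))
    have := key E hE hEk x hx f hf hfE f' hmem (by
      simp [Ne.symm hne, hf'E, show f' ≠ x from fun h => hf' (h ▸ hx)])
    exact hf' this.1
  -- a chosen further point
  have hext : ∀ E : Set Ω, Disjoint E Γ → E.ncard = k - 2 → ∀ x ∈ Γ, ∀ f : ↥(D \ E),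
      ∃ y, y ∈ Γ \ {x} ∧ y ∈ plane G Γ (insert x (insert (f : Ω) E)) := by
    intro E hE hEk x hx ⟨f, hf, hfE⟩
    have hF := hcardF E hE hEk x hx f hf hfE
    obtain ⟨y, hy, hyF⟩ := Set.exists_mem_notMem_of_ncard_lt_ncard
      (t := plane G Γ (insert x (insert f E))) (s := insert x (insert f E))
      (by rw [hF, hsize _ hF]; exact hbig) (Set.toFinite _)
    exact ⟨y, key E hE hEk x hx f hf hfE y hy hyF, hy⟩
  obtain ⟨x, hx⟩ := Set.nonempty_of_ncard_ne_zero (s := Γ) (by omega)
  obtain ⟨E, hE, hEk⟩ := Set.exists_subset_card_eq (s := D) (n := k - 2) (by omega)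
  have hEd : Disjoint E Γ := Set.disjoint_left.2 fun q hq => hE hq
  have hDE : (D \ E).ncard + k = D.ncard + 2 := by
    rw [Set.ncard_diff hE (Set.toFinite _), hEk]; omega
  have hinjcard : ∀ E : Set Ω, Disjoint E Γ → E.ncard = k - 2 → ∀ x ∈ Γ,
      ∃ t : ↥(D \ E) → ↥(Γ \ {x}), Function.Injective t ∧
        ∀ f : ↥(D \ E), (t f : Ω) ∈ plane G Γ (insert x (insert (f : Ω) E)) := by
    intro E hE hEk x hx
    choose t ht ht' using hext E hE hEk x hx
    refine ⟨fun f => ⟨t f, ht f⟩, fun f f' h => Subtype.ext ?_, ht'⟩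
    have h' : t f = t f' := congrArg Subtype.val h
    exact hdisj E hE hEk x hx f f.2.1 f.2.2 f' f'.2.1 f'.2.2 (t f) (ht f) (ht' f) (h' ▸ ht' f')
  have hΓx : ∀ x ∈ Γ, (Γ \ {x}).ncard = Γ.ncard - 1 := fun x hx =>
    Set.ncard_diff_singleton_of_mem hx
  obtain ⟨t, htinj, ht⟩ := hinjcard E hEd hEk x hx
  have hle := Nat.card_le_card_of_injective t htinj
  rw [Nat.card_coe_set_eq, Nat.card_coe_set_eq, hΓx x hx] at hle
  rcases (by omega : D.ncard + 3 = Γ.ncard + k ∨ (k = 5 ∧ D.ncard = Γ.ncard + 1)) with hcase | hcase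
  · -- the lines cover `Γ`
    have hfull : ∀ E : Set Ω, Disjoint E Γ → E.ncard = k - 2 → ∀ x ∈ Γ, ∀ y ∈ Γ \ {x},
        ∃ f, f ∉ Γ ∧ f ∉ E ∧ y ∈ plane G Γ (insert x (insert f E)) ∧
          ∀ w ∈ plane G Γ (insert x (insert f E)), w ∈ Γ → w = x ∨ w = y := by
      intro E hE hEk x hx y hy
      obtain ⟨t, htinj, ht⟩ := hinjcard E hE hEk x hx
      have hDE' : (D \ E).ncard + k = D.ncard + 2 := by
        rw [Set.ncard_diff (show E ⊆ D from fun q hq => Set.disjoint_left.1 hE hq) (Set.toFinite _),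
          hEk]
        omega
      have hbij : Function.Bijective t := htinj.bijective_of_nat_card_le (by
        rw [Nat.card_coe_set_eq, Nat.card_coe_set_eq, hΓx x hx]; omega)
      obtain ⟨f, hf⟩ := hbij.2 ⟨y, hy⟩
      refine ⟨f, f.2.1, f.2.2, by simpa [hf] using ht f, fun w hw hwΓ => ?_⟩
      by_contra hne
      push Not at hne
      obtain ⟨f', hf'⟩ := hbij.2 ⟨w, hwΓ, hne.1⟩
      have heq : f' = f := Subtype.ext (hdisj E hE hEk x hx f' f'.2.1 f'.2.2 f f.2.1 f.2.2 w
        ⟨hwΓ, hne.1⟩ (by simpa [hf'] using ht f') hw)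
      rw [heq, hf] at hf'
      exact hne.2 (congrArg Subtype.val hf').symm
    obtain ⟨X, hX, hX3⟩ := Set.exists_subset_card_eq (s := Γ) (n := 3) (by omega)
    obtain ⟨a, b, c, hab, hac, hbc, rfl⟩ := Set.ncard_eq_three.1 hX3
    have ha : a ∈ Γ := hX (by simp)
    have hb : b ∈ Γ := hX (by simp)
    have hc : c ∈ Γ := hX (by simp)
    obtain ⟨E₀, hE₀, hE₀k⟩ := Set.exists_subset_card_eq (s := D) (n := k - 4) (by omega)
    have hE₀d : Disjoint E₀ Γ := Set.disjoint_left.2 fun q hq => hE₀ hq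
    set X : Set Ω := {a, b, c} with hXdef
    have hXE : Disjoint X E₀ := Set.disjoint_left.2 fun q hq hq' => hE₀ hq' (hX hq)
    have hbase : ∀ e ∉ Γ, e ∉ E₀ → (insert e (E₀ ∪ X)).ncard = k := by
      intro e he he0
      rw [Set.ncard_insert_of_notMem (by
          rintro (h | h)
          · exact he0 h
          · exact he (hX h)) (Set.toFinite _),
        Set.ncard_union_eq hXE.symm (Set.toFinite _) (Set.toFinite _), hX3, hE₀k]
      omega
    have hextra : ∀ e : ↥(D \ E₀), ∃ w, w ∈ Γ \ X ∧ w ∈ plane G Γ (insert (e : Ω) (E₀ ∪ X)) ∧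
        ∀ y ∈ plane G Γ (insert (e : Ω) (E₀ ∪ X)), y ∉ Γ → y = (e : Ω) ∨ y ∈ E₀ := by
      intro ⟨e, he, he0⟩
      have honly : ∀ y ∈ plane G Γ (insert e (E₀ ∪ X)), y ∉ Γ → y = e ∨ y ∈ E₀ := by
        intro y hy hyΓ
        by_contra hne
        push Not at hne
        have hE' : (insert y (insert e E₀)).ncard = k - 2 := by
          rw [Set.ncard_insert_of_notMem (by simp [hne.1, hne.2]) (Set.toFinite _),
            Set.ncard_insert_of_notMem he0 (Set.toFinite _), hE₀k]
          omega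
        have hE'd : Disjoint (insert y (insert e E₀)) Γ := by
          rw [Set.disjoint_insert_left, Set.disjoint_insert_left]
          exact ⟨hyΓ, he, hE₀d⟩
        obtain ⟨f, hf, hfE, hbf, honly2⟩ := hfull _ hE'd hE' a ha b ⟨hb, hab.symm⟩
        set E' := insert y (insert e E₀) with hE'def
        have hk' : (insert a (insert b E')).ncard = k := by
          rw [Set.ncard_insert_of_notMem (by
              rintro (h | h)
              · exact hab h
              · exact Set.disjoint_left.1 hE'd h ha) (Set.toFinite _),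
            Set.ncard_insert_of_notMem (fun h => Set.disjoint_left.1 hE'd h hb) (Set.toFinite _), hE']
          omega
        have hin1 : insert a (insert b E') ⊆ plane G Γ (insert e (E₀ ∪ X)) := by
          refine Set.insert_subset (subset_plane _ (by simp [hXdef])) (Set.insert_subset
            (subset_plane _ (by simp [hXdef])) ?_)
          refine Set.insert_subset hy (Set.insert_subset (subset_plane _ (Or.inl rfl)) ?_)
          exact fun q hq => subset_plane _ (Or.inr (Or.inl hq))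
        have hin2 : insert a (insert b E') ⊆ plane G Γ (insert a (insert f E')) :=
          Set.insert_subset (subset_plane _ (Or.inl rfl))
            (Set.insert_subset hbf fun q hq => subset_plane _ (Or.inr (Or.inr hq)))
        have hc' : c ∈ plane G Γ (insert a (insert f E')) := by
          rw [← plane_eq hk (hcardF _ hE'd hE' a ha f hf hfE) hk' hin2,
            plane_eq hk (hbase e he he0) hk' hin1]
          exact subset_plane _ (by simp [hXdef])
        rcases honly2 c hc' hc with h | h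
        · exact hac h.symm
        · exact hbc h.symm
      obtain ⟨w, hw, hwF⟩ := Set.exists_mem_notMem_of_ncard_lt_ncard
        (t := plane G Γ (insert e (E₀ ∪ X))) (s := insert e (E₀ ∪ X))
        (by rw [hbase e he he0, hsize _ (hbase e he he0)]; exact hbig) (Set.toFinite _)
      refine ⟨w, ⟨?_, fun h => hwF (Or.inr (Or.inr h))⟩, hw, honly⟩
      by_contra hwΓ
      rcases honly w hw hwΓ with h | h
      · exact hwF (Or.inl h)
      · exact hwF (Or.inr (Or.inl h))
    choose w hwmem hwpl hwonly using hextra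
    have hwinj : Function.Injective fun e => (⟨w e, hwmem e⟩ : ↥(Γ \ X)) := by
      intro e e' h
      have h' : w e = w e' := congrArg Subtype.val h
      have hk' : (insert (w e) (E₀ ∪ X)).ncard = k := by
        rw [Set.ncard_insert_of_notMem (by
            rintro (h | h)
            · exact hE₀ h (hwmem e).1
            · exact (hwmem e).2 h) (Set.toFinite _),
          Set.ncard_union_eq hXE.symm (Set.toFinite _) (Set.toFinite _), hX3, hE₀k]
        omega
      have e1 := plane_eq hk (hbase e e.2.1 e.2.2) hk' (Set.insert_subset (hwpl e)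
        fun q hq => subset_plane _ (Or.inr hq))
      have e2 := plane_eq hk (hbase e' e'.2.1 e'.2.2) hk' (Set.insert_subset (h' ▸ hwpl e')
        fun q hq => subset_plane _ (Or.inr hq))
      have hmem : (e' : Ω) ∈ plane G Γ (insert (e : Ω) (E₀ ∪ X)) :=
        e1 ▸ e2.symm ▸ subset_plane _ (Or.inl rfl)
      rcases hwonly e _ hmem e'.2.1 with h | h
      · exact (Subtype.ext h).symm
      · exact absurd h e'.2.2
    have hle' := Nat.card_le_card_of_injective _ hwinj
    rw [Nat.card_coe_set_eq, Nat.card_coe_set_eq, Set.ncard_diff hE₀ (Set.toFinite _), hE₀k,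
      Set.ncard_diff hX (Set.toFinite _), hX3] at hle'
    omega
  · -- `k = 5`, `n = 2 m + 1`: planes have six points, pairing up an odd number of points
    obtain ⟨rfl, hcase⟩ := hcase
    have hsix : ∀ F : Set Ω, F.ncard = 5 → (plane G Γ F).ncard = 6 := by
      intro F hF
      rw [hsize F hF]
      by_contra hne
      -- two further points on each line
      have htwo : ∀ f : ↥(D \ E), ∃ y z, y ≠ z ∧ (y ∈ Γ \ {x} ∧ z ∈ Γ \ {x}) ∧
          y ∈ plane G Γ (insert x (insert (f : Ω) E)) ∧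
          z ∈ plane G Γ (insert x (insert (f : Ω) E)) := by
        intro ⟨f, hf, hfE⟩
        have hF5 := hcardF E hEd hEk x hx f hf hfE
        have h2 : 1 < (plane G Γ (insert x (insert f E)) \ insert x (insert f E)).ncard := by
          rw [Set.ncard_diff (subset_plane _) (Set.toFinite _), hsize _ hF5, hF5]
          omega
        obtain ⟨y, hy, z, hz, hyz⟩ := (Set.one_lt_ncard (Set.toFinite _)).1 h2
        exact ⟨y, z, hyz, ⟨key E hEd hEk x hx f hf hfE y hy.1 hy.2,
          key E hEd hEk x hx f hf hfE z hz.1 hz.2⟩, hy.1, hz.1⟩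
      choose y z hyz hmem hy hz using htwo
      let φ : ↥(D \ E) ⊕ ↥(D \ E) → ↥(Γ \ {x}) :=
        Sum.elim (fun f => ⟨y f, (hmem f).1⟩) (fun f => ⟨z f, (hmem f).2⟩)
      have hφ : Function.Injective φ := by
        have hsame : ∀ f f' : ↥(D \ E), ∀ q, q ∈ Γ \ {x} →
            q ∈ plane G Γ (insert x (insert (f : Ω) E)) →
            q ∈ plane G Γ (insert x (insert (f' : Ω) E)) → f = f' := fun f f' q h1 h2 h3 =>
          Subtype.ext (hdisj E hEd hEk x hx f f.2.1 f.2.2 f' f'.2.1 f'.2.2 q h1 h2 h3)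
        rintro (f | f) (f' | f') h <;> simp only [φ, Sum.elim_inl, Sum.elim_inr, Subtype.mk.injEq] at h
        · rw [hsame f f' _ (hmem f).1 (hy f) (h ▸ hy f')]
        · obtain rfl := hsame f f' _ (hmem f).1 (hy f) (h ▸ hz f')
          exact absurd h (hyz f)
        · obtain rfl := hsame f f' _ (hmem f).2 (hz f) (h ▸ hy f')
          exact absurd h.symm (hyz f)
        · rw [hsame f f' _ (hmem f).2 (hz f) (h ▸ hz f')]
      have h2 := Nat.card_le_card_of_injective φ hφ
      rw [Nat.card_sum, Nat.card_coe_set_eq, Nat.card_coe_set_eq, hΓx x hx] at h2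
      omega
    set R : Set Ω := insert x E with hR
    have hRk : R.ncard = 4 := by
      rw [hR, Set.ncard_insert_of_notMem (fun h => Set.disjoint_left.1 hEd h hx) (Set.toFinite _),
        hEk]
    have hpart : ∀ w : ↥(Rᶜ), ∃ w' : ↥(Rᶜ), w' ≠ w ∧
        plane G Γ (insert (w : Ω) R) = insert (w' : Ω) (insert (w : Ω) R) := by
      intro ⟨w, hw⟩
      have h5 : (insert w R).ncard = 5 := by
        rw [Set.ncard_insert_of_notMem hw (Set.toFinite _), hRk]
      obtain ⟨w', hw', hw'F⟩ := Set.exists_mem_notMem_of_ncard_lt_ncard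
        (t := plane G Γ (insert w R)) (s := insert w R) (by rw [h5, hsix _ h5]; norm_num)
        (Set.toFinite _)
      refine ⟨⟨w', fun h => hw'F (Or.inr h)⟩, fun h => hw'F (Or.inl (congrArg Subtype.val h)), ?_⟩
      refine (Set.eq_of_subset_of_ncard_le (Set.insert_subset hw' (subset_plane _)) ?_
        (Set.toFinite _)).symm
      rw [Set.ncard_insert_of_notMem hw'F (Set.toFinite _), h5, hsix _ h5]
    choose σ hσne hσ using hpart
    have hinv : Function.Involutive σ := by
      intro w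
      have h5 : (insert (w : Ω) R).ncard = 5 := by
        rw [Set.ncard_insert_of_notMem w.2 (Set.toFinite _), hRk]
      have h5' : (insert (σ w : Ω) R).ncard = 5 := by
        rw [Set.ncard_insert_of_notMem (σ w).2 (Set.toFinite _), hRk]
      have e := plane_eq (Γ := Γ) hk h5 h5' (by
        rw [hσ w]
        exact Set.insert_subset (Or.inl rfl) fun q hq => Or.inr (Or.inr hq))
      have hmem : (σ (σ w) : Ω) ∈ plane G Γ (insert (w : Ω) R) := by
        rw [← e, hσ]; exact Or.inl rfl
      rw [hσ w] at hmem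
      rcases hmem with h | h | h
      · exact absurd (Subtype.ext h) (hσne (σ w))
      · exact Subtype.ext h
      · exact absurd h (σ (σ w)).2
    haveI : Fintype ↥(Rᶜ) := Fintype.ofFinite _
    haveI : Fact (Nat.Prime 2) := ⟨Nat.prime_two⟩
    have hfix := Equiv.Perm.card_fixedPoints_modEq (f := σ) (p := 2) (n := 1)
      (by funext w; exact hinv w)
    have h0 : Fintype.card (Function.fixedPoints σ) = 0 := by
      rw [Fintype.card_eq_zero_iff]
      exact ⟨fun w => hσne w.1 w.2⟩
    rw [h0, ← Nat.card_eq_fintype_card, Nat.card_coe_set_eq, Set.ncard_compl, hRk] at hfix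
    unfold Nat.ModEq at hfix
    omega

/-- A primitive group with a Jordan set of fewer than half the points is six-fold transitive,
unless the set is very small. -/
theorem six_transitive
    (h2t : ∀ a b c d : Ω, a ≠ b → c ≠ d → ∃ g : G, g • a = c ∧ g • b = d)
    (hm : 4 ≤ Γ.ncard) (hn : 2 * Γ.ncard < Nat.card Ω)
    (htr : ∀ x ∈ Γ, ∀ y ∈ Γ, ∃ g : G, (∀ z ∉ Γ, g • z = z) ∧ g • x = y) :
    TupleTrans G Ω 6 := by
  have h2 : TupleTrans G Ω 2 := by
    intro e e'
    obtain ⟨g, hg0, hg1⟩ := h2t (e 0) (e 1) (e' 0) (e' 1) (e.injective.ne (by decide))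
      (e'.injective.ne (by decide))
    exact ⟨g, fun i => by fin_cases i <;> assumption⟩
  have step : ∀ k, 2 ≤ k → k ≤ 5 → TupleTrans G Ω k → TupleTrans G Ω (k + 1) :=
    fun k hk2 hk5 hk => tupleTrans_succ (by omega) hk h2t (by omega) htr
      (plane_trivial hk2 hk5 hk hm hn)
  exact step 5 (by norm_num) le_rfl (step 4 (by norm_num) (by norm_num)
    (step 3 (by norm_num) (by norm_num) (step 2 le_rfl (by norm_num) h2)))

end Cfsg.Agent.Perm.JordanSet
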