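import Cfsg.Agent.Lib.Perm.JordanSetSupport

/-!
# Quasiprimitive groups with a Jordan set of fewer than half the points

They contain the alternating group.  In the primitive case the planes argument gives six-fold
transitivity and the small element does the rest; an imprimitive quasiprimitive group would act
faithfully on a block system as an alternating or symmetric group, which is impossible.
-/

set_option autoImplicit false

namespace Cfsg.Agent.Perm.JordanSet

open Equiv MulAction
open scoped Pointwise

/-- The primitive case. -/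
theorem le_of_primitive {α : Type*} [Fintype α] [DecidableEq α] {G : Subgroup (Perm α)}
    (hprim : IsPreprimitive G α) (Γ : Set α) (h1 : 1 < Γ.ncard)
    (h2 : 2 * Γ.ncard < Fintype.card α)
    (htr : ∀ x ∈ Γ, ∀ y ∈ Γ, ∃ g : G, (∀ z ∉ Γ, g • z = z) ∧ g • x = y) :
    alternatingGroup α ≤ G := by
  classical
  obtain ⟨u, hu, v, hv, huv⟩ := (Set.one_lt_ncard (Set.toFinite _)).1 h1
  obtain ⟨g, hg, hgu⟩ := htr u hu v hv
  have hne : (g : Perm α) ≠ 1 := fun h => huv (by
    rw [← hgu, Subgroup.smul_def, h, one_smul])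
  have hsub : (g : Perm α).support ⊆ Γ.toFinset := by
    intro x hx
    rw [Set.mem_toFinset]
    by_contra hxΓ
    exact Perm.mem_support.1 hx (hg x hxΓ)
  have hcard := Finset.card_le_card hsub
  rw [← Set.ncard_eq_toFinset_card'] at hcard
  rcases Nat.lt_or_ge Γ.ncard 4 with hlt | hge
  · have h2' := Perm.two_le_card_support_of_ne_one hne
    rcases (by omega : (g : Perm α).support.card = 2 ∨ (g : Perm α).support.card = 3) with h | h
    · rw [Perm.subgroup_eq_top_of_isPreprimitive_of_isSwap_mem hprim _
        (Perm.card_support_eq_two.1 h) g.2]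
      exact le_top
    · exact Perm.alternatingGroup_le_of_isPreprimitive_of_isThreeCycle_mem hprim
        (card_support_eq_three_iff.1 h) g.2
  have hn : Γᶜ.ncard = Nat.card α - Γ.ncard := Set.ncard_compl Γ
  rw [Nat.card_eq_fintype_card] at hn
  have h2t : IsMultiplyPretransitive G α 2 := by
    refine hprim.is_two_pretransitive (s := Γᶜ) (n := Γᶜ.ncard - 1) (by omega)
      (by rw [Nat.card_eq_fintype_card]; omega) ?_
    refine ⟨fun x y => ?_⟩
    obtain ⟨k, hk, hkxy⟩ := htr x.1 (not_not.1 x.2) y.1 (not_not.1 y.2)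
    exact ⟨⟨k, (mem_fixingSubgroup_iff G).2 fun z hz => hk z hz⟩, Subtype.ext hkxy⟩
  have h6 := six_transitive (G := G) (fun a b c d hab hcd =>
    (MulAction.is_two_pretransitive_iff).1 h2t hab hcd) hge
    (by rwa [Nat.card_eq_fintype_card]) htr
  exact le_of_six_transitive hprim h6 g.2 hne (by omega)

/-- A group normalised by the alternating group and containing a three-cycle. -/
theorem alternating_le {β : Type*} [Fintype β] [DecidableEq β] (N : Subgroup (Perm β)) {t : Perm β}
    (ht : t.IsThreeCycle) (htN : t ∈ N)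
    (hconj : ∀ s : Perm β, Perm.sign s = 1 → ∀ x ∈ N, s * x * s⁻¹ ∈ N) :
    alternatingGroup β ≤ N := by
  rw [← Equiv.Perm.closure_three_cycles_eq_alternating, Subgroup.closure_le]
  intro x hx
  obtain ⟨s, rfl⟩ := isConj_iff.1 (Perm.isConj_iff_cycleType_eq.2
    ((show t.cycleType = {3} from ht).trans (show x.cycleType = {3} from hx).symm))
  rcases Int.units_eq_one_or (Perm.sign s) with hs | hs
  · exact hconj s hs t htN
  · -- a transposition inside the cycle inverts it
    obtain ⟨a, ha⟩ : t.support.Nonempty := by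
      rw [← Finset.card_pos, ht.card_support]; norm_num
    set q := Equiv.swap a (t a) with hq
    have hqa : a ≠ t a := (Perm.mem_support.1 ha).symm
    have hinv : q * t * q⁻¹ = t⁻¹ := by
      have h3 : t (t (t a)) = a := by
        have := congrArg (fun f : Perm β => f a) (show t ^ 3 = 1 by
          rw [← ht.orderOf]; exact pow_orderOf_eq_one t)
        simpa [pow_succ, Perm.mul_apply] using this
      have hsupp : t.support = {a, t a, t (t a)} := by
        refine (Finset.eq_of_subset_of_card_le ?_ ?_).symm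
        · intro y hy
          simp only [Finset.mem_insert, Finset.mem_singleton] at hy
          rcases hy with rfl | rfl | rfl
          · exact ha
          · exact Perm.apply_mem_support.2 ha
          · exact Perm.apply_mem_support.2 (Perm.apply_mem_support.2 ha)
        · have e1 : t a ≠ t (t a) := fun h => hqa (t.injective h)
          have e2 : a ≠ t (t a) := by
            intro h
            have := congrArg t h
            rw [h3] at this
            exact hqa this.symm
          rw [ht.card_support, Finset.card_insert_of_notMem (by simp [hqa, e2]),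
            Finset.card_pair e1]
      have e1 : t a ≠ t (t a) := fun h => hqa (t.injective h)
      have e2 : a ≠ t (t a) := fun h => hqa (by
        have := congrArg t h
        rw [h3] at this
        exact this.symm)
      rw [Equiv.swap_inv]
      refine eq_inv_of_mul_eq_one_left ?_
      ext y
      simp only [Perm.mul_apply, Perm.one_apply]
      by_cases hy : y ∈ t.support
      · rw [hsupp] at hy
        simp only [Finset.mem_insert, Finset.mem_singleton] at hy
        rcases hy with rfl | rfl | rfl
        · simp [q, h3, Equiv.swap_apply_of_ne_of_ne, e1.symm, e2.symm]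
        · simp [q, h3, Equiv.swap_apply_of_ne_of_ne, e1.symm, e2.symm]
        · simp [q, h3, Equiv.swap_apply_of_ne_of_ne, e1.symm, e2.symm]
      · have hya : y ≠ a := fun h => hy (h ▸ ha)
        have hyb : y ≠ t a := fun h => hy (h ▸ Perm.apply_mem_support.2 ha)
        rw [Perm.notMem_support.1 hy, Equiv.swap_apply_of_ne_of_ne hya hyb,
          Perm.notMem_support.1 hy, Equiv.swap_apply_of_ne_of_ne hya hyb]
    have hs' : Perm.sign (s * q) = 1 := by rw [map_mul, hs, Perm.sign_swap hqa]; rfl
    have := hconj (s * q) hs' t⁻¹ (N.inv_mem htN)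
    rwa [← hinv, show (s * q) * (q * t * q⁻¹) * (s * q)⁻¹ = s * (q * q) * t * (q * q)⁻¹ * s⁻¹ by
      group, show q * q = 1 from Equiv.swap_mul_self _ _, inv_one, mul_one, mul_one] at this

universe u

/-- The quasiprimitive case, by induction on the degree. -/
theorem le_of_quasiprimitive (n : ℕ) : ∀ {α : Type u} [Fintype α] [DecidableEq α]
    {G : Subgroup (Perm α)},
    (∀ N : Subgroup G, N.Normal → N ≠ ⊥ → IsPretransitive N α) →
    ∀ Γ : Set α, Fintype.card α = n → 1 < Γ.ncard → 2 * Γ.ncard < Fintype.card α →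
    (∀ x ∈ Γ, ∀ y ∈ Γ, ∃ g : G, (∀ z ∉ Γ, g • z = z) ∧ g • x = y) →
    alternatingGroup α ≤ G := by
  induction n using Nat.strong_induction_on with
  | _ n ih =>
    intro α _ _ G hqp Γ hcard h1 h2 htr
    classical
    obtain ⟨u, hu, v, hv, huv⟩ := (Set.one_lt_ncard (Set.toFinite _)).1 h1
    obtain ⟨g₀, hg₀, hg₀u⟩ := htr u hu v hv
    have hg₀ne : g₀ ≠ 1 := fun h => huv (by rw [← hg₀u, h, one_smul])
    haveI htrans : IsPretransitive G α := by
      have hnt : (⊤ : Subgroup G) ≠ ⊥ := fun h => hg₀ne (Subgroup.mem_bot.1 (h ▸ Subgroup.mem_top g₀))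
      haveI := hqp ⊤ inferInstance hnt
      exact ⟨fun a b => by
        obtain ⟨k, hk⟩ := exists_smul_eq (⊤ : Subgroup G) a b
        exact ⟨k, hk⟩⟩
    by_cases hprim : IsPreprimitive G α
    · exact le_of_primitive hprim Γ h1 h2 htr
    exfalso
    obtain ⟨B, hB, hB1, hBu⟩ : ∃ B : Set α, IsBlock G B ∧ ¬ B.Subsingleton ∧ B ≠ Set.univ := by
      by_contra hcon
      apply hprim
      refine ⟨fun {B} hB => ?_⟩
      by_contra h
      obtain ⟨h3, h4⟩ := not_or.1 h
      exact hcon ⟨B, hB, h3, h4⟩
    obtain ⟨b₀, hb₀⟩ : B.Nonempty := by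
      rw [Set.nonempty_iff_ne_empty]
      rintro rfl
      exact hB1 Set.subsingleton_empty
    haveI : Fintype ↥(orbit G B) := Fintype.ofFinite _
    -- the block system
    have hblk : ∀ C : orbit G B, IsBlock G (C : Set α) := fun C => by
      obtain ⟨g, hg⟩ := C.2
      rw [← hg]
      exact hB.translate g
    have hnonempty : ∀ C : orbit G B, (C : Set α).Nonempty := fun C => by
      obtain ⟨g, hg⟩ := C.2
      rw [← hg]
      exact ⟨g • b₀, Set.smul_mem_smul_set hb₀⟩
    have hcover : ∀ a : α, ∃ C : orbit G B, a ∈ (C : Set α) := fun a => by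
      obtain ⟨g, hg⟩ := exists_smul_eq G b₀ a
      exact ⟨⟨g • B, g, rfl⟩, hg ▸ Set.smul_mem_smul_set hb₀⟩
    have hdisj : ∀ (C D : orbit G B) (a : α), a ∈ (C : Set α) → a ∈ (D : Set α) → C = D := by
      intro C D a haC haD
      obtain ⟨g, hg⟩ := C.2
      obtain ⟨h, hh⟩ := D.2
      apply Subtype.ext
      rw [← hg, ← hh]
      by_contra hne
      rw [← hg] at haC
      rw [← hh] at haD
      exact Set.disjoint_left.1 (hB hne) haC haD
    have hmem : ∀ (g : G) (C : orbit G B) (a : α), a ∈ (C : Set α) →
        g • a ∈ ((g • C : orbit G B) : Set α) := fun g C a ha => Set.smul_mem_smul_set ha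
    -- blocks meeting the complement are fixed
    have hfixC : ∀ k : G, (∀ z ∉ Γ, k • z = z) → ∀ (C : orbit G B) (a : α), a ∈ (C : Set α) →
        a ∉ Γ → k • C = C := fun k hk C a ha haΓ =>
      hdisj _ _ a (hk a haΓ ▸ hmem k C a ha) ha
    -- faithfulness
    let φ : G →* Perm ↥(orbit G B) := MulAction.toPermHom G ↥(orbit G B)
    have hφ : ∀ g C, φ g C = g • C := fun g C => rfl
    have hker : φ.ker = ⊥ := by
      by_contra hne
      haveI := hqp φ.ker inferInstance hne
      apply hBu
      refine Set.eq_univ_of_forall fun a => ?_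
      obtain ⟨⟨k, hk⟩, hka⟩ := exists_smul_eq φ.ker b₀ a
      have : k • (⟨B, mem_orbit_self B⟩ : orbit G B) = ⟨B, mem_orbit_self B⟩ := by
        rw [← hφ, hk]; rfl
      have h3 : k • b₀ ∈ B := by
        have := congrArg Subtype.val this
        change k • B = B at this
        rw [← this]
        exact Set.smul_mem_smul_set hb₀
      rwa [show k • b₀ = a from hka] at h3
    have hinj : Function.Injective φ := (MonoidHom.ker_eq_bot_iff φ).1 hker
    -- every block meeting `Γ` lies in it
    have hblock : ∀ (C : orbit G B) (a : α), a ∈ (C : Set α) → a ∈ Γ → (C : Set α) ⊆ Γ := by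
      intro C a haC haΓ d hd
      by_contra hdΓ
      -- then `Γ` lies in `C` and the Jordan group fixes all blocks
      have hsub : ∀ y ∈ Γ, y ∈ (C : Set α) := fun y hy => by
        obtain ⟨k, hk, hka⟩ := htr a haΓ y hy
        rw [← hka, ← hfixC k hk C d hd hdΓ]
        exact hmem k C a haC
      have : φ g₀ = 1 := by
        ext1 D
        rw [hφ, Perm.one_apply]
        by_cases hD : D = C
        · rw [hD]; exact hfixC g₀ hg₀ C d hd hdΓ
        · obtain ⟨e, he⟩ := hnonempty D
          exact hfixC g₀ hg₀ D e he fun h => hD (hdisj _ _ e he (hsub e h))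
      exact hg₀ne (hinj (this.trans (map_one φ).symm))
    -- the Jordan set of blocks
    set Γ' : Set ↥(orbit G B) := {C | (C : Set α) ⊆ Γ} with hΓ'
    have hBcard : 2 ≤ B.ncard := by
      rw [Set.not_subsingleton_iff] at hB1
      exact (Set.one_lt_ncard (Set.toFinite _)).2 hB1
    have hCcard : ∀ C : orbit G B, (C : Set α).ncard = B.ncard := fun C => by
      obtain ⟨g, hg⟩ := C.2
      rw [← hg]
      exact Set.ncard_smul_set g B
    have hcount : ∀ X : Finset ↥(orbit G B), (⋃ C ∈ X, (C : Set α)).ncard = X.card * B.ncard := by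
      intro X
      induction X using Finset.induction_on with
      | empty => simp
      | insert C X hC ih' =>
        rw [Finset.set_biUnion_insert, Set.ncard_union_eq ?_ (Set.toFinite _) (Set.toFinite _), ih',
          hCcard, Finset.card_insert_of_notMem hC]
        · ring
        · rw [Set.disjoint_left]
          intro a ha ha'
          simp only [Set.mem_iUnion] at ha'
          obtain ⟨D, hD, haD⟩ := ha'
          exact hC (hdisj C D a ha haD ▸ hD)
    have hΓcard : Γ'.ncard * B.ncard = Γ.ncard := by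
      rw [Set.ncard_eq_toFinset_card', ← hcount]
      congr 1
      ext a
      simp only [Set.mem_iUnion, Set.mem_toFinset, hΓ', Set.mem_ofPred_eq]
      constructor
      · rintro ⟨C, hC, haC⟩; exact hC haC
      · intro ha
        obtain ⟨C, hC⟩ := hcover a
        exact ⟨C, hblock C a hC ha, hC⟩
    have hncard : Fintype.card ↥(orbit G B) * B.ncard = Fintype.card α := by
      rw [← Finset.card_univ, ← hcount, ← Nat.card_eq_fintype_card, ← Set.ncard_univ]
      congr 1
      ext a
      simpa using hcover a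
    have h1' : 1 < Γ'.ncard := by
      by_contra h
      have h0 : Γ'.ncard ≠ 0 := fun h0 => by rw [h0, zero_mul] at hΓcard; omega
      -- a single block: fixed by the Jordan group, and so are all others
      obtain ⟨C₀, hC₀⟩ := Set.ncard_eq_one.1 (show Γ'.ncard = 1 by omega)
      have : φ g₀ = 1 := by
        ext1 D
        rw [hφ, Perm.one_apply]
        by_cases hD : ∃ e ∈ (D : Set α), e ∉ Γ
        · obtain ⟨e, he, he'⟩ := hD
          exact hfixC g₀ hg₀ D e he he'
        · push Not at hD
          have hD' : D ∈ Γ' := hD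
          rw [hC₀, Set.mem_singleton_iff] at hD'
          subst hD'
          by_contra hne
          obtain ⟨e, he⟩ := hnonempty (g₀ • D)
          by_cases heΓ : e ∈ Γ
          · have : g₀ • D ∈ Γ' := hblock _ e he heΓ
            rw [hC₀, Set.mem_singleton_iff] at this
            exact hne this
          · exact hne (by
              have := hfixC g₀ hg₀ (g₀ • D) e he heΓ
              exact MulAction.injective g₀ this)
      exact hg₀ne (hinj (this.trans (map_one φ).symm))
    have h2' : 2 * Γ'.ncard < Fintype.card ↥(orbit G B) := by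
      by_contra h
      have h3 : Fintype.card ↥(orbit G B) * B.ncard ≤ 2 * Γ'.ncard * B.ncard :=
        Nat.mul_le_mul_right _ (not_lt.1 h)
      rw [mul_assoc, hΓcard, hncard] at h3
      omega
    have hlt : Fintype.card ↥(orbit G B) < n := by
      rw [← hcard, ← hncard]
      have : 0 < Fintype.card ↥(orbit G B) := by omega
      nlinarith
    -- the induced group is quasiprimitive
    have hqp' : ∀ N : Subgroup φ.range, N.Normal → N ≠ ⊥ →
        IsPretransitive N ↥(orbit G B) := by
      intro N hN hne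
      have hne' : N.comap φ.rangeRestrict ≠ ⊥ := fun h => hne (by
        rw [← Subgroup.map_comap_eq_self_of_surjective φ.rangeRestrict_surjective N, h,
          Subgroup.map_bot])
      haveI := hqp _ (hN.comap φ.rangeRestrict) hne'
      refine ⟨fun C D => ?_⟩
      obtain ⟨a, ha⟩ := hnonempty C
      obtain ⟨d, hd⟩ := hnonempty D
      obtain ⟨⟨k, hk⟩, hka⟩ := exists_smul_eq (N.comap φ.rangeRestrict) a d
      refine ⟨⟨φ.rangeRestrict k, hk⟩, ?_⟩
      change k • C = D
      exact hdisj _ _ d ((show k • a = d from hka) ▸ hmem k C a ha) hd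
    have hA : alternatingGroup ↥(orbit G B) ≤ φ.range := by
      refine ih _ hlt hqp' Γ' rfl h1' h2' fun C hC D hD => ?_
      obtain ⟨a, ha⟩ := hnonempty C
      obtain ⟨d, hd⟩ := hnonempty D
      obtain ⟨k, hk, hkad⟩ := htr a (hC ha) d (hD hd)
      refine ⟨⟨φ k, k, rfl⟩, fun E hE => ?_, ?_⟩
      · obtain ⟨e, he, heΓ⟩ := Set.not_subset.1 hE
        exact hfixC k hk E e he heΓ
      · change k • C = D
        exact hdisj _ _ d (hkad ▸ hmem k C a ha) hd
    -- a block outside, and the elements fixing it pointwise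
    set r := Fintype.card ↥(orbit G B) with hr
    obtain ⟨C, hC⟩ : ∃ C, C ∉ Γ' := by
      by_contra hcon
      push Not at hcon
      have : Γ'.ncard = r := by
        rw [Set.eq_univ_of_forall hcon, Set.ncard_univ, Nat.card_eq_fintype_card]
      omega
    obtain ⟨c, hcC, hcΓ⟩ := Set.not_subset.1 hC
    let N : Subgroup G :=
      { carrier := {k | ∀ x ∈ (C : Set α), k • x = x}
        one_mem' := fun x _ => one_smul G x
        mul_mem' := fun {k l} hk hl x hx => by rw [mul_smul, hl x hx, hk x hx]
        inv_mem' := fun {k} hk x hx => inv_smul_eq_iff.2 (hk x hx).symm }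
    have hNC : ∀ k ∈ N, k • C = C := fun k hk => hdisj _ _ c (hk c hcC ▸ hmem k C c hcC) hcC
    have hg₀N : g₀ ∈ N := fun x hx => hg₀ x fun h => hC (hblock C x hx h)
    let β := {D : ↥(orbit G B) // D ≠ C}
    let ι : Perm β →* Perm ↥(orbit G B) := Perm.ofSubtype
    have hιC : ∀ s : Perm β, ι s C = C := fun s =>
      Perm.ofSubtype_apply_of_not_mem s (fun h => h rfl)
    let N' : Subgroup (Perm β) := (N.map φ).comap ι
    have hconj : ∀ s : Perm β, Perm.sign s = 1 → ∀ x ∈ N', s * x * s⁻¹ ∈ N' := by
      intro s hs x hx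
      obtain ⟨k, hk, hkx⟩ := hx
      obtain ⟨l, hl⟩ := hA (show ι s ∈ alternatingGroup ↥(orbit G B) by
        rw [Perm.mem_alternatingGroup, Perm.sign_ofSubtype]; exact hs)
      have hlC : l • C = C := by rw [← hφ, hl]; exact hιC s
      refine ⟨l * k * l⁻¹, fun y hy => ?_, by rw [map_mul, map_mul, map_inv, hl, hkx, map_mul,
        map_mul, map_inv]⟩
      have h4 : l⁻¹ • y ∈ (C : Set α) := by
        have := hmem l⁻¹ C y hy
        rwa [inv_smul_eq_iff.2 hlC.symm] at this
      rw [mul_smul, mul_smul, hk _ h4, smul_inv_smul]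
    -- a three-cycle in it
    obtain ⟨a, haΓ', hamv⟩ : ∃ a, a ∈ Γ' ∧ φ g₀ a ≠ a := by
      by_contra hcon
      push Not at hcon
      apply hg₀ne
      apply hinj
      rw [map_one]
      ext1 D
      rw [Perm.one_apply]
      by_cases hD : D ∈ Γ'
      · exact hcon D hD
      · obtain ⟨e, he, heΓ⟩ := Set.not_subset.1 hD
        exact hfixC g₀ hg₀ D e he heΓ
    have hout : ∀ D, D ∉ Γ' → φ g₀ D = D := fun D hD => by
      obtain ⟨e, he, heΓ⟩ := Set.not_subset.1 hD
      exact hfixC g₀ hg₀ D e he heΓ
    have ha' : φ g₀ a ∈ Γ' := by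
      by_contra h
      exact hamv ((φ g₀).injective (hout _ h))
    set a' := φ g₀ a with ha'def
    have hcompl : Γ'ᶜ.ncard + Γ'.ncard = r := by
      rw [add_comm, Set.ncard_add_ncard_compl, Nat.card_eq_fintype_card]
    obtain ⟨c₁, hc₁, c₂, hc₂, hc12⟩ := (Set.one_lt_ncard (Set.toFinite (Γ'ᶜ \ {C}))).1 (by
      rw [Set.ncard_diff_singleton_of_mem (show C ∈ Γ'ᶜ from hC)]; omega)
    have haC : a ≠ C := fun h => hC (h ▸ haΓ')
    have ha'C : a' ≠ C := fun h => hC (h ▸ ha')
    have hac₁ : a ≠ c₁ := fun h => hc₁.1 (h ▸ haΓ')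
    have hac₂ : a ≠ c₂ := fun h => hc₂.1 (h ▸ haΓ')
    have ha'c₁ : a' ≠ c₁ := fun h => hc₁.1 (h ▸ ha')
    have ha'c₂ : a' ≠ c₂ := fun h => hc₂.1 (h ▸ ha')
    let A : β := ⟨a, haC⟩
    let A' : β := ⟨a', ha'C⟩
    let C₁ : β := ⟨c₁, hc₁.2⟩
    let C₂ : β := ⟨c₂, hc₂.2⟩
    let g' : Perm β := (φ g₀).subtypePerm (fun D => by
      refine ⟨fun h => ?_, fun h => ?_⟩
      · intro e
        exact h (by rw [e]; exact hout C hC)
      · intro e
        exact h ((φ g₀).injective (e.trans (hout C hC).symm)))
    have hg'N : g' ∈ N' := by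
      refine ⟨g₀, hg₀N, ?_⟩
      refine Equiv.ext fun D => ?_
      by_cases hD : D = C
      · rw [hD, hιC]; exact hout C hC
      · rw [Perm.ofSubtype_apply_of_mem (p := fun x => x ≠ C) _ hD]; rfl
    let τ : Perm β := Equiv.swap A C₁ * Equiv.swap C₁ C₂
    have hτ : Perm.sign τ = 1 := by
      simp only [τ, map_mul]
      rw [Perm.sign_swap (Subtype.coe_ne_coe.1 hac₁), Perm.sign_swap (Subtype.coe_ne_coe.1 hc12)]
      rfl
    have hmemN : g' * τ * g'⁻¹ * τ⁻¹ ∈ N' := by
      rw [show g' * τ * g'⁻¹ * τ⁻¹ = g' * (τ * g'⁻¹ * τ⁻¹) by group]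
      exact N'.mul_mem hg'N (hconj τ hτ _ (N'.inv_mem hg'N))
    have e0 : g' A = A' := rfl
    have e1 : g' C₁ = C₁ := Subtype.ext (hout c₁ hc₁.1)
    have e2 : g' C₂ = C₂ := Subtype.ext (hout c₂ hc₂.1)
    have hthree : (g' * τ * g'⁻¹ * τ⁻¹).IsThreeCycle := by
      have hform : g' * τ * g'⁻¹ * τ⁻¹ =
          (Equiv.swap A' C₁ * Equiv.swap C₁ C₂) * (Equiv.swap C₁ C₂ * Equiv.swap A C₁) := by
        rw [show g' * τ * g'⁻¹ =
          (g' * Equiv.swap A C₁ * g'⁻¹) * (g' * Equiv.swap C₁ C₂ * g'⁻¹) by
            simp only [τ]; group, ← Equiv.swap_apply_apply, ← Equiv.swap_apply_apply, e0, e1, e2]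
        simp only [τ, mul_inv_rev, Equiv.swap_inv]
      rw [hform, show (Equiv.swap A' C₁ * Equiv.swap C₁ C₂) * (Equiv.swap C₁ C₂ * Equiv.swap A C₁) =
        Equiv.swap A' C₁ * (Equiv.swap C₁ C₂ * Equiv.swap C₁ C₂) * Equiv.swap A C₁ by group,
        Equiv.swap_mul_self, mul_one, Equiv.swap_comm A' C₁, Equiv.swap_comm A C₁]
      exact Perm.isThreeCycle_swap_mul_swap_same (Subtype.coe_ne_coe.1 ha'c₁.symm)
        (Subtype.coe_ne_coe.1 hac₁.symm) (Subtype.coe_ne_coe.1 hamv)
    have hA' : alternatingGroup β ≤ N' := alternating_le N' hthree hmemN hconj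
    -- the preimage of the alternating group is transitive, but fixes `C` pointwise
    let M : Subgroup G := (alternatingGroup ↥(orbit G B)).comap φ
    have hM : M ≠ ⊥ := by
      intro h
      obtain ⟨k, hk⟩ := hA (show Equiv.swap a c₁ * Equiv.swap c₁ c₂ ∈ alternatingGroup _ by
        rw [Perm.mem_alternatingGroup, map_mul, Perm.sign_swap hac₁, Perm.sign_swap hc12]; rfl)
      have hk1 : k ∈ M := by
        change φ k ∈ alternatingGroup _
        rw [hk, Perm.mem_alternatingGroup, map_mul, Perm.sign_swap hac₁, Perm.sign_swap hc12]; rfl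
      rw [h, Subgroup.mem_bot] at hk1
      subst hk1
      rw [map_one] at hk
      have := congrArg (fun f : Perm ↥(orbit G B) => f c₂) hk
      simp only [Perm.one_apply, Perm.mul_apply, Equiv.swap_apply_right] at this
      exact hac₂ this.symm
    haveI := hqp M (Subgroup.Normal.comap inferInstance φ) hM
    obtain ⟨c', hc', hc'ne⟩ : ∃ c' ∈ (C : Set α), c' ≠ c := by
      have : 1 < (C : Set α).ncard := by rw [hCcard]; omega
      exact Set.exists_ne_of_one_lt_ncard this c
    obtain ⟨⟨k, hk⟩, hkc⟩ := exists_smul_eq M c c'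
    have hkc' : k • c = c' := hkc
    have hkC : k • C = C := hdisj _ _ c' (hkc' ▸ hmem k C c hcC) hc'
    let k' : Perm β := (φ k).subtypePerm (fun D => by
      refine ⟨fun h => ?_, fun h => ?_⟩
      · intro e
        exact h (by rw [e]; exact hkC)
      · intro e
        exact h ((φ k).injective (e.trans hkC.symm)))
    have hk'φ : ι k' = φ k := by
      refine Equiv.ext fun D => ?_
      by_cases hD : D = C
      · rw [hD, hιC]; exact hkC.symm
      · rw [Perm.ofSubtype_apply_of_mem (p := fun x => x ≠ C) _ hD]; rfl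
    have hk'A : k' ∈ alternatingGroup β := by
      rw [Perm.mem_alternatingGroup, ← Perm.sign_ofSubtype]
      change Perm.sign (ι k') = 1
      rw [hk'φ]
      exact Perm.mem_alternatingGroup.1 hk
    obtain ⟨l, hl, hlk⟩ := hA' hk'A
    rw [hk'φ] at hlk
    obtain rfl := hinj hlk
    exact hc'ne (hkc'.symm.trans (hl c hcC))

end Cfsg.Agent.Perm.JordanSet
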