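import Cfsg.Agent.Lib.Perm.JordanSetPlanes

/-!
# Six-fold transitive groups with a small element

If a six-fold transitive group of degree `n` has a non-trivial element moving fewer than `n / 2`
points, a commutator with a suitable conjugate moves fewer points still: on average over the
conjugates with four prescribed values.  So the group contains the alternating group.
-/

set_option autoImplicit false

namespace Cfsg.Agent.Perm.JordanSet

open Equiv MulAction
open scoped Finset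

variable {α : Type*} [Fintype α] [DecidableEq α] {G : Subgroup (Perm α)}

theorem tupleTrans_of_le {k l : ℕ} (h : TupleTrans G α l) (hkl : k ≤ l)
    (hl : l ≤ Fintype.card α) : TupleTrans G α k := by
  haveI : IsMultiplyPretransitive G α l := by
    rw [isMultiplyPretransitive_iff]
    intro e e'
    obtain ⟨g, hg⟩ := h e e'
    exact ⟨g, Function.Embedding.ext fun i => hg i⟩
  have := isMultiplyPretransitive_of_le (G := G) (α := α) (n := l) hkl
    (by rwa [Nat.card_eq_fintype_card])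
  intro e e'
  obtain ⟨g, hg⟩ := (isMultiplyPretransitive_iff (n := k)).1 this (x := e) (y := e')
  exact ⟨g, fun i => congrArg (fun f : Fin k ↪ α => f i) hg⟩

/-- Fixing four points, two further points go anywhere. -/
theorem exists_move (h6 : TupleTrans G α 6) (F : Fin 4 ↪ α) {y y' w w' : α}
    (hy : y ∉ Finset.univ.map F) (hy' : y' ∉ Finset.univ.map F) (hne : y ≠ y')
    (hw : w ∉ Finset.univ.map F) (hw' : w' ∉ Finset.univ.map F) (hne' : w ≠ w') :
    ∃ g : G, (∀ i, (g : Perm α) (F i) = F i) ∧ (g : Perm α) y = w ∧ (g : Perm α) y' = w' := by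
  simp only [Finset.mem_map, Finset.mem_univ, true_and, not_exists] at hy hy' hw hw'
  have hinj : ∀ a b : α, (∀ i, F i ≠ a) → (∀ i, F i ≠ b) → a ≠ b →
      Function.Injective (Fin.cons a (Fin.cons b F) : Fin 6 → α) := by
    intro a b ha hb hab
    refine Fin.cons_injective_iff.2 ⟨?_, Fin.cons_injective_iff.2 ⟨?_, F.injective⟩⟩
    · rintro ⟨i, hi⟩
      refine Fin.cases (motive := fun i => (Fin.cons b F : Fin 5 → α) i = a → False) ?_ ?_ i hi
      · intro h; exact hab h.symm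
      · intro j h; exact ha j (by simpa using h)
    · rintro ⟨i, hi⟩; exact hb i hi
  obtain ⟨g, hg⟩ := h6 ⟨_, hinj y y' hy hy' hne⟩ ⟨_, hinj w w' hw hw' hne'⟩
  exact ⟨g, fun i => by simpa [Subgroup.smul_def] using hg i.succ.succ,
    by simpa [Subgroup.smul_def] using hg 0, by simpa [Subgroup.smul_def] using hg (Fin.succ 0)⟩

theorem commutator_support (σ τ : Perm α) :
    (σ * τ * σ⁻¹ * τ⁻¹).support ⊆ (σ.support ∩ τ.support) ∪
      (σ.support ∩ τ.support).image σ ∪ (σ.support ∩ τ.support).image τ := by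
  intro y hy
  by_contra hcon
  simp only [Finset.mem_union, Finset.mem_image, not_or, not_exists, not_and] at hcon
  obtain ⟨⟨h1, h2⟩, h3⟩ := hcon
  rw [Finset.mem_inter] at h1
  apply Perm.mem_support.1 hy
  simp only [Perm.mul_apply]
  by_cases hyτ : y ∈ τ.support
  · have hyσ : y ∉ σ.support := fun h => h1 ⟨h, hyτ⟩
    have h4 : τ⁻¹ y ∈ τ.support := by
      rw [← Perm.apply_mem_support, show τ (τ⁻¹ y) = y from τ.apply_symm_apply y]
      exact hyτ
    have h5 : τ⁻¹ y ∉ σ.support := fun h =>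
      h3 _ (Finset.mem_inter.2 ⟨h, h4⟩) (τ.apply_symm_apply y)
    rw [show σ⁻¹ (τ⁻¹ y) = τ⁻¹ y from by
      rw [Perm.inv_eq_iff_eq]; exact (Perm.notMem_support.1 h5).symm]
    rw [show τ (τ⁻¹ y) = y from τ.apply_symm_apply y, Perm.notMem_support.1 hyσ]
  · rw [show τ⁻¹ y = y from by rw [Perm.inv_eq_iff_eq]; exact (Perm.notMem_support.1 hyτ).symm]
    have h5 : τ (σ⁻¹ y) = σ⁻¹ y := by
      by_contra h
      have hτ : σ⁻¹ y ∈ τ.support := Perm.mem_support.2 h
      by_cases hyσ : y ∈ σ.support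
      · refine h2 _ (Finset.mem_inter.2 ⟨?_, hτ⟩) (σ.apply_symm_apply y)
        rw [← Perm.apply_mem_support, show σ (σ⁻¹ y) = y from σ.apply_symm_apply y]
        exact hyσ
      · rw [show σ⁻¹ y = y from by
          rw [Perm.inv_eq_iff_eq]; exact (Perm.notMem_support.1 hyσ).symm] at hτ
        exact hyτ hτ
    rw [h5]
    exact σ.apply_symm_apply y

theorem arith {μ N : ℕ} (hμ : 4 ≤ μ) (hN : 2 * μ ≤ N + 3) :
    2 * (N * (N - 1)) + (N * (N - 1) - (μ - 4) * (N - 1)) + (μ - 4) * (μ - 1) * (N - 1) +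
      (μ - 2) * ((μ - 4) * (N - (μ - 4))) + ((μ - 4) * ((μ - 1) * (N - (μ - 1))) +
        (μ - 1) * (μ - 2)) < μ * (N * (N - 1)) := by
  obtain ⟨a, rfl⟩ : ∃ a, μ = 4 + a := ⟨μ - 4, by omega⟩
  obtain ⟨d, rfl⟩ : ∃ d, N = 5 + 2 * a + d := ⟨N - (5 + 2 * a), by omega⟩
  rw [show 4 + a - 4 = a by omega, show 4 + a - 1 = 3 + a by omega,
    show 4 + a - 2 = 2 + a by omega, show 5 + 2 * a + d - 1 = 4 + 2 * a + d by omega,
    show 5 + 2 * a + d - a = 5 + a + d by omega, show 5 + 2 * a + d - (3 + a) = 2 + a + d by omega,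
    show (5 + 2 * a + d) * (4 + 2 * a + d) - a * (4 + 2 * a + d) =
      (5 + a + d) * (4 + 2 * a + d) by
        rw [← Nat.sub_mul, show 5 + 2 * a + d - a = 5 + a + d by omega]]
  nlinarith [Nat.zero_le (a * a * d), Nat.zero_le (a * d * d), Nat.zero_le (a * a),
    Nat.zero_le (a * d), Nat.zero_le (d * d)]

open Classical in
/-- A smaller element. -/
theorem exists_smaller (h6 : TupleTrans G α 6) {σ : Perm α} (hσ : σ ∈ G)
    (hμ : 4 ≤ σ.support.card) (hn : 2 * σ.support.card < Fintype.card α) :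
    ∃ π ∈ G, π ≠ 1 ∧ π.support.card < σ.support.card := by
  by_contra hcon
  push Not at hcon
  set S := σ.support with hS
  have hσS : ∀ x ∈ S, σ x ∈ S := fun x hx => Perm.apply_mem_support.2 hx
  have hσne : ∀ x ∈ S, σ x ≠ x := fun x hx => Perm.mem_support.1 hx
  obtain ⟨u, hu⟩ := Finset.card_pos.1 (show 0 < #S by omega)
  set b := σ u with hb
  have hbS : b ∈ S := hσS u hu
  have hbu : b ≠ u := hσne u hu
  obtain ⟨z, hz, hz'⟩ := Finset.exists_mem_notMem_of_card_lt_card
    (s := ({u, b, σ⁻¹ u} : Finset α)) (t := S) (Finset.card_le_three.trans_lt (by omega))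
  simp only [Finset.mem_insert, Finset.mem_singleton, not_or] at hz'
  set z₁ := σ z with hz₁
  have hz₁S : z₁ ∈ S := hσS z hz
  have hz₁u : z₁ ≠ u := fun h => hz'.2.2 (by rw [← h]; exact (σ.symm_apply_apply z).symm)
  have hz₁b : z₁ ≠ b := fun h => hz'.1 (σ.injective h)
  have hz₁z : z₁ ≠ z := hσne z hz
  obtain ⟨O, hO, hO3⟩ := Finset.exists_subset_card_eq (s := Sᶜ) (n := 3)
    (by rw [Finset.card_compl]; omega)
  obtain ⟨v, v₁, v₂, hv1, hv2, hv12, rfl⟩ := Finset.card_eq_three.1 hO3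
  have hv : v ∉ S := Finset.mem_compl.1 (hO (by simp))
  have hv₁ : v₁ ∉ S := Finset.mem_compl.1 (hO (by simp))
  have hv₂ : v₂ ∉ S := Finset.mem_compl.1 (hO (by simp))
  let src : Fin 4 ↪ α := ⟨![u, b, z, z₁], by
    intro i j h
    fin_cases i <;> fin_cases j <;> first | rfl | (exfalso; simp at h; tauto)⟩
  let dst : Fin 4 ↪ α := ⟨![u, v, v₁, v₂], by
    intro i j h
    have e1 : u ≠ v := fun h => hv (h ▸ hu)
    have e2 : u ≠ v₁ := fun h => hv₁ (h ▸ hu)
    have e3 : u ≠ v₂ := fun h => hv₂ (h ▸ hu)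
    fin_cases i <;> fin_cases j <;> first | rfl | (exfalso; simp at h; tauto)⟩
  set Y := (Finset.univ.map src)ᶜ with hY
  set W := (Finset.univ.map dst)ᶜ with hW
  set N := Fintype.card α - 4 with hN
  have hYN : #Y = N := by rw [hY, Finset.card_compl, Finset.card_map]; simp [hN]
  have hWN : #W = N := by rw [hW, Finset.card_compl, Finset.card_map]; simp [hN]
  have hYmem : ∀ x, x ∈ Y ↔ x ≠ u ∧ x ≠ b ∧ x ≠ z ∧ x ≠ z₁ := by
    intro x
    simp only [hY, Finset.mem_compl, Finset.mem_map, Finset.mem_univ, true_and, not_exists]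
    exact ⟨fun h => ⟨Ne.symm (h 0), Ne.symm (h 1), Ne.symm (h 2), Ne.symm (h 3)⟩,
      fun ⟨h0, h1, h2, h3⟩ i => by
        fin_cases i <;> [exact h0.symm; exact h1.symm; exact h2.symm; exact h3.symm]⟩
  have hWmem : ∀ x, x ∈ W ↔ x ≠ u ∧ x ≠ v ∧ x ≠ v₁ ∧ x ≠ v₂ := by
    intro x
    simp only [hW, Finset.mem_compl, Finset.mem_map, Finset.mem_univ, true_and, not_exists]
    exact ⟨fun h => ⟨Ne.symm (h 0), Ne.symm (h 1), Ne.symm (h 2), Ne.symm (h 3)⟩,
      fun ⟨h0, h1, h2, h3⟩ i => by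
        fin_cases i <;> [exact h0.symm; exact h1.symm; exact h2.symm; exact h3.symm]⟩
  set Gc : Finset G := Finset.univ.filter fun g => ∀ i, (g : Perm α) (src i) = dst i with hGc
  have hGmap : ∀ g ∈ Gc, ∀ x, x ∈ Y ↔ (g : Perm α) x ∈ W := by
    intro g hg x
    have hgi := (Finset.mem_filter.1 hg).2
    simp only [hY, hW, Finset.mem_compl, Finset.mem_map, Finset.mem_univ, true_and]
    refine not_congr ⟨fun ⟨i, hi⟩ => ⟨i, by rw [← hgi i, hi]⟩, fun ⟨i, hi⟩ => ⟨i, ?_⟩⟩
    exact (g : Perm α).injective (by rw [hgi i, hi])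
  have hGcne : Gc.Nonempty := by
    obtain ⟨g, hg⟩ := tupleTrans_of_le (k := 4) h6 (by omega) (by omega) src dst
    exact ⟨g, Finset.mem_filter.2 ⟨Finset.mem_univ _, hg⟩⟩
  -- the counts do not depend on the points
  let cnt : α → α → α → α → ℕ := fun y y' w w' =>
    #(Gc.filter fun g : G => (g : Perm α) y = w ∧ (g : Perm α) y' = w')
  have hconst : ∀ y y' w w' y₀ y₀' w₀ w₀', y ∈ Y → y' ∈ Y → y ≠ y' → w ∈ W → w' ∈ W → w ≠ w' →
      y₀ ∈ Y → y₀' ∈ Y → y₀ ≠ y₀' → w₀ ∈ W → w₀' ∈ W → w₀ ≠ w₀' →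
      cnt y y' w w' ≤ cnt y₀ y₀' w₀ w₀' := by
    intro y y' w w' y₀ y₀' w₀ w₀' h1 h2 h3 h4 h5 h6' k1 k2 k3 k4 k5 k6
    obtain ⟨h, hh, hhw, hhw'⟩ := exists_move h6 dst (Finset.mem_compl.1 h4) (Finset.mem_compl.1 h5)
      h6' (Finset.mem_compl.1 k4) (Finset.mem_compl.1 k5) k6
    obtain ⟨l, hl, hly, hly'⟩ := exists_move h6 src (Finset.mem_compl.1 k1) (Finset.mem_compl.1 k2)
      k3 (Finset.mem_compl.1 h1) (Finset.mem_compl.1 h2) h3
    refine Finset.card_le_card_of_injOn (fun g => h * g * l) (fun g hg => ?_)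
      (fun g _ g' _ e => mul_left_cancel (mul_right_cancel e))
    obtain ⟨hgc, hg1, hg2⟩ := Finset.mem_filter.1 hg
    refine Finset.mem_filter.2 ⟨Finset.mem_filter.2 ⟨Finset.mem_univ _, fun i => ?_⟩, ?_, ?_⟩
    · simp only [Subgroup.coe_mul, Perm.mul_apply, hl, (Finset.mem_filter.1 hgc).2 i, hh]
    · simp only [Subgroup.coe_mul, Perm.mul_apply, hly, hg1, hhw]
    · simp only [Subgroup.coe_mul, Perm.mul_apply, hly', hg2, hhw']
  obtain ⟨y₀, hy₀, y₀', hy₀', hy₀ne⟩ := Finset.one_lt_card.1 (show 1 < #Y by omega)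
  obtain ⟨w₀, hw₀, w₀', hw₀', hw₀ne⟩ := Finset.one_lt_card.1 (show 1 < #W by omega)
  set c := cnt y₀ y₀' w₀ w₀' with hc
  have hcnt : ∀ y y' w w', y ∈ Y → y' ∈ Y → y ≠ y' → w ∈ W → w' ∈ W → w ≠ w' →
      cnt y y' w w' = c := fun y y' w w' h1 h2 h3 h4 h5 h6' =>
    le_antisymm (hconst _ _ _ _ _ _ _ _ h1 h2 h3 h4 h5 h6' hy₀ hy₀' hy₀ne hw₀ hw₀' hw₀ne)
      (hconst _ _ _ _ _ _ _ _ hy₀ hy₀' hy₀ne hw₀ hw₀' hw₀ne h1 h2 h3 h4 h5 h6')
  have hpair : ∀ y y', y ∈ Y → y' ∈ Y → y ≠ y' → ∀ B C : Finset α, B ⊆ W → C ⊆ W → Disjoint B C →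
      #(Gc.filter fun g : G => (g : Perm α) y ∈ B ∧ (g : Perm α) y' ∈ C) = #B * #C * c := by
    intro y y' h1 h2 h3 B C hB hC hBC
    rw [Finset.card_eq_sum_card_fiberwise (t := B ×ˢ C)
      (f := fun g : G => ((g : Perm α) y, (g : Perm α) y'))
      (fun g hg => Finset.mem_product.2 (Finset.mem_filter.1 hg).2)]
    rw [Finset.sum_congr rfl (g := fun _ => c) fun p hp => ?_, Finset.sum_const,
      Finset.card_product, smul_eq_mul]
    obtain ⟨hp1, hp2⟩ := Finset.mem_product.1 hp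
    rw [← hcnt y y' p.1 p.2 h1 h2 h3 (hB hp1) (hC hp2)
      (fun h => Finset.disjoint_left.1 hBC hp1 (h ▸ hp2))]
    simp only [cnt]
    congr 1
    ext g
    simp only [Finset.mem_filter, Prod.ext_iff]
    exact ⟨fun h => ⟨h.1.1, h.2⟩, fun h => ⟨⟨h.1, by rw [h.2.1, h.2.2]; exact ⟨hp1, hp2⟩⟩, h.2⟩⟩
  have hpair' : ∀ w w', w ∈ W → w' ∈ W → w ≠ w' → ∀ B C : Finset α, B ⊆ Y → C ⊆ Y → Disjoint B C →
      #(Gc.filter fun g : G => (g : Perm α)⁻¹ w ∈ B ∧ (g : Perm α)⁻¹ w' ∈ C) = #B * #C * c := by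
    intro w w' h1 h2 h3 B C hB hC hBC
    rw [Finset.card_eq_sum_card_fiberwise (t := B ×ˢ C)
      (f := fun g : G => ((g : Perm α)⁻¹ w, (g : Perm α)⁻¹ w'))
      (fun g hg => Finset.mem_product.2 (Finset.mem_filter.1 hg).2)]
    rw [Finset.sum_congr rfl (g := fun _ => c) fun p hp => ?_, Finset.sum_const,
      Finset.card_product, smul_eq_mul]
    obtain ⟨hp1, hp2⟩ := Finset.mem_product.1 hp
    rw [← hcnt p.1 p.2 w w' (hB hp1) (hC hp2)
      (fun h => Finset.disjoint_left.1 hBC hp1 (h ▸ hp2)) h1 h2 h3]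
    simp only [cnt]
    congr 1
    ext g
    simp only [Finset.mem_filter, Prod.ext_iff, Perm.inv_eq_iff_eq]
    refine ⟨fun h => ⟨h.1.1, h.2.1.symm, h.2.2.symm⟩,
      fun h => ⟨⟨h.1, ?_⟩, h.2.1.symm, h.2.2.symm⟩⟩
    rw [← h.2.1, ← h.2.2]
    simp only [show ∀ x, (g : Perm α)⁻¹ ((g : Perm α) x) = x from (g : Perm α).symm_apply_apply]
    exact ⟨hp1, hp2⟩
  -- single points
  have hsingle : ∀ y ∈ Y, ∀ w ∈ W,
      #(Gc.filter fun g : G => (g : Perm α) y = w) = (N - 1) * c := by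
    intro y hy w hw
    obtain ⟨y', hy', hne⟩ : ∃ y' ∈ Y, y' ≠ y := by
      rcases eq_or_ne y₀ y with h | h
      · exact ⟨y₀', hy₀', fun e => hy₀ne (h.trans e.symm)⟩
      · exact ⟨y₀, hy₀, h⟩
    have := hpair y y' hy hy' hne.symm {w} (W.erase w) (Finset.singleton_subset_iff.2 hw)
      (Finset.erase_subset _ _) (Finset.disjoint_singleton_left.2 (Finset.notMem_erase _ _))
    rw [Finset.card_singleton, one_mul, Finset.card_erase_of_mem hw, hWN] at this
    rw [← this]
    congr 1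
    ext g
    simp only [Finset.mem_filter, Finset.mem_singleton, Finset.mem_erase]
    refine ⟨fun h => ⟨h.1, h.2, fun e => hne ((g : Perm α).injective (e.trans h.2.symm)),
      (hGmap g h.1 y').1 hy'⟩, fun h => ⟨h.1, h.2.1⟩⟩
  have hin : ∀ y ∈ Y, ∀ B ⊆ W,
      #(Gc.filter fun g : G => (g : Perm α) y ∈ B) = #B * ((N - 1) * c) := by
    intro y hy B hB
    refine (Finset.card_eq_sum_card_fiberwise (t := B) (f := fun g : G => (g : Perm α) y)
      (fun g hg => (Finset.mem_filter.1 hg).2)).trans ?_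
    rw [Finset.sum_congr rfl (g := fun _ => (N - 1) * c)
      fun w hw => ?_, Finset.sum_const, smul_eq_mul]
    rw [← hsingle y hy w (hB hw)]
    congr 1
    ext g
    simp only [Finset.mem_filter]
    exact ⟨fun h => ⟨h.1.1, h.2⟩, fun h => ⟨⟨h.1, h.2 ▸ hw⟩, h.2⟩⟩
  have hin' : ∀ w ∈ W, ∀ B ⊆ Y,
      #(Gc.filter fun g : G => (g : Perm α)⁻¹ w ∈ B) = #B * ((N - 1) * c) := by
    intro w hw B hB
    refine (Finset.card_eq_sum_card_fiberwise (t := B) (f := fun g : G => (g : Perm α)⁻¹ w)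
      (fun g hg => (Finset.mem_filter.1 hg).2)).trans ?_
    rw [Finset.sum_congr rfl (g := fun _ => (N - 1) * c)
      fun y hy => ?_, Finset.sum_const, smul_eq_mul]
    rw [← hsingle y (hB hy) w hw]
    congr 1
    ext g
    simp only [Finset.mem_filter, Perm.inv_eq_iff_eq]
    refine ⟨fun h => ⟨h.1.1, h.2.symm⟩, fun h => ⟨⟨h.1, ?_⟩, h.2.symm⟩⟩
    rw [← h.2, show (g : Perm α)⁻¹ ((g : Perm α) y) = y from (g : Perm α).symm_apply_apply y]
    exact hy
  have hM : #Gc = N * ((N - 1) * c) := by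
    have := hin y₀ hy₀ W le_rfl
    rwa [hWN, Finset.filter_true_of_mem fun g hg => (hGmap g hg y₀).1 hy₀] at this
  -- the two overlap sets
  set A := S.filter (fun x => x ∈ Y) with hA
  set T := S.erase u with hT
  have hAY : A ⊆ Y := fun x hx => (Finset.mem_filter.1 hx).2
  have hTW : T ⊆ W := fun x hx => by
    obtain ⟨hxu, hxS⟩ := Finset.mem_erase.1 hx
    exact (hWmem x).2 ⟨hxu, fun h => hv (h ▸ hxS), fun h => hv₁ (h ▸ hxS), fun h => hv₂ (h ▸ hxS)⟩
  have hAc : #A = #S - 4 := by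
    rw [hA, hY, show S.filter (fun x => x ∈ (Finset.univ.map src)ᶜ) = S \ Finset.univ.map src by
      ext x; simp, Finset.card_sdiff_of_subset, Finset.card_map, Finset.card_univ, Fintype.card_fin]
    intro x hx
    obtain ⟨i, -, rfl⟩ := Finset.mem_map.1 hx
    fin_cases i <;> [exact hu; exact hbS; exact hz; exact hz₁S]
  have hTc : #T = #S - 1 := Finset.card_erase_of_mem hu
  let τ : G → Perm α := fun g => (g : Perm α) * σ * (g : Perm α)⁻¹
  let I₁ : G → Finset α := fun g => A.filter fun y => (g : Perm α) y ∈ T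
  let P₁ : G → Finset α := fun g => ({b} : Finset α).filter fun x => (g : Perm α)⁻¹ x ∉ A
  let S₁ : G → Finset α := fun g =>
    T.filter fun w => σ w ≠ u ∧ (g : Perm α)⁻¹ w ∈ A ∧ (g : Perm α)⁻¹ (σ w) ∈ Y \ A
  let T₁ : G → Finset α := fun g => A.filter fun y =>
    (g : Perm α) y ∈ T ∧ (σ y = z ∨ (σ y ∈ A ∧ (g : Perm α) (σ y) ∈ W \ T))
  have hkey : ∀ g ∈ Gc, #S ≤ 2 + #(P₁ g) + #(I₁ g) + #(S₁ g) + #(T₁ g) := by
    intro g hg
    have hgi := (Finset.mem_filter.1 hg).2
    have gu : (g : Perm α) u = u := hgi 0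
    have gb : (g : Perm α) b = v := hgi 1
    have gz : (g : Perm α) z = v₁ := hgi 2
    have gz₁ : (g : Perm α) z₁ = v₂ := hgi 3
    have hτapp : ∀ x, τ g ((g : Perm α) x) = (g : Perm α) (σ x) := fun x => by simp [τ]
    have hτu : τ g u = v := by
      rw [← gu, hτapp, ← hb, gb]
    have hπG : σ * τ g * σ⁻¹ * (τ g)⁻¹ ∈ G :=
      G.mul_mem (G.mul_mem (G.mul_mem hσ (G.mul_mem (G.mul_mem g.2 hσ) (G.inv_mem g.2)))
        (G.inv_mem hσ)) (G.inv_mem (G.mul_mem (G.mul_mem g.2 hσ) (G.inv_mem g.2)))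
    have hπne : σ * τ g * σ⁻¹ * (τ g)⁻¹ ≠ 1 := by
      intro h
      have hcm : σ * τ g = τ g * σ := by
        rw [mul_inv_eq_one, mul_inv_eq_iff_eq_mul] at h
        exact h
      have := congrArg (fun f : Perm α => f u) hcm
      simp only [Perm.mul_apply, hτu, ← hb, Perm.notMem_support.1 hv] at this
      exact hbu ((τ g).injective (this.symm.trans hτu.symm))
    have hmemI : ∀ i ∈ σ.support ∩ (τ g).support, i = u ∨ ∃ y ∈ I₁ g, (g : Perm α) y = i := by
      intro i hi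
      obtain ⟨hiS, hiτ⟩ := Finset.mem_inter.1 hi
      by_cases hiu : i = u
      · exact Or.inl hiu
      have hyS : (g : Perm α)⁻¹ i ∈ S := by
        rw [Perm.mem_support] at hiτ
        rw [hS, Perm.mem_support]
        intro h
        apply hiτ
        simp only [τ, Perm.mul_apply, h]
        exact (g : Perm α).apply_symm_apply i
      have hgy : (g : Perm α) ((g : Perm α)⁻¹ i) = i := (g : Perm α).apply_symm_apply i
      generalize (g : Perm α)⁻¹ i = y at hyS hgy
      refine Or.inr ⟨y, Finset.mem_filter.2 ⟨Finset.mem_filter.2 ⟨hyS, (hYmem y).2 ⟨?_, ?_, ?_, ?_⟩⟩,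
        hgy ▸ Finset.mem_erase.2 ⟨hiu, hiS⟩⟩, hgy⟩ <;> intro h <;> subst h
      · exact hiu (hgy.symm.trans gu)
      · exact hv (gb ▸ hgy ▸ hiS)
      · exact hv₁ (gz ▸ hgy ▸ hiS)
      · exact hv₂ (gz₁ ▸ hgy ▸ hiS)
    have hin2 : (σ * τ g * σ⁻¹ * (τ g)⁻¹).support ⊆ {u, v} ∪ P₁ g ∪
        (I₁ g).image (fun y => (g : Perm α) y) ∪ (S₁ g).image σ ∪
          (T₁ g).image (fun y => (g : Perm α) (σ y)) := by
      refine (commutator_support σ (τ g)).trans ?_
      intro x hx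
      simp only [Finset.mem_union, Finset.mem_image] at hx ⊢
      rcases hx with (hx | ⟨i, hi, rfl⟩) | ⟨i, hi, rfl⟩
      · rcases hmemI x hx with rfl | h
        · exact Or.inl (Or.inl (Or.inl (Or.inl (by simp))))
        · exact Or.inl (Or.inl (Or.inr h))
      · rcases hmemI i hi with rfl | ⟨y, hy, rfl⟩
        · by_cases hbA : (g : Perm α)⁻¹ b ∈ A
          · refine Or.inl (Or.inl (Or.inr ⟨_, Finset.mem_filter.2 ⟨hbA, ?_⟩, ?_⟩))
            · rw [show (g : Perm α) ((g : Perm α)⁻¹ b) = b from (g : Perm α).apply_symm_apply b]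
              exact Finset.mem_erase.2 ⟨hbu, hbS⟩
            · exact (g : Perm α).apply_symm_apply b
          · exact Or.inl (Or.inl (Or.inl (Or.inr
              (Finset.mem_filter.2 ⟨Finset.mem_singleton_self _, hbA⟩))))
        · obtain ⟨hyA, hyT⟩ := Finset.mem_filter.1 hy
          obtain ⟨-, hgyS⟩ := Finset.mem_erase.1 hyT
          by_cases h1 : σ ((g : Perm α) y) = u
          · exact Or.inl (Or.inl (Or.inl (Or.inl (by simp [h1]))))
          have hσT : σ ((g : Perm α) y) ∈ T := Finset.mem_erase.2 ⟨h1, hσS _ hgyS⟩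
          by_cases h2 : (g : Perm α)⁻¹ (σ ((g : Perm α) y)) ∈ A
          · exact Or.inl (Or.inl (Or.inr ⟨_, Finset.mem_filter.2 ⟨h2, by
              rwa [show (g : Perm α) ((g : Perm α)⁻¹ (σ ((g : Perm α) y))) = σ ((g : Perm α) y) from
                (g : Perm α).apply_symm_apply _]⟩, (g : Perm α).apply_symm_apply _⟩))
          · refine Or.inl (Or.inr ⟨_, Finset.mem_filter.2 ⟨hyT, h1, ?_, ?_⟩, rfl⟩)
            · rwa [show (g : Perm α)⁻¹ ((g : Perm α) y) = y from (g : Perm α).symm_apply_apply y]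
            · refine Finset.mem_sdiff.2 ⟨(hGmap g hg _).2 ?_, h2⟩
              rw [show (g : Perm α) ((g : Perm α)⁻¹ (σ ((g : Perm α) y))) = σ ((g : Perm α) y) from
                (g : Perm α).apply_symm_apply _]
              exact hTW hσT
      · rcases hmemI i hi with rfl | ⟨y, hy, rfl⟩
        · exact Or.inl (Or.inl (Or.inl (Or.inl (by simp [hτu]))))
        · obtain ⟨hyA, hyT⟩ := Finset.mem_filter.1 hy
          obtain ⟨hyS, hyY⟩ := Finset.mem_filter.1 hyA
          obtain ⟨hyu, hyb, hyz, hyz₁⟩ := (hYmem y).1 hyY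
          rw [hτapp]
          by_cases h1 : σ y = u
          · exact Or.inl (Or.inl (Or.inl (Or.inl (by simp [h1, gu]))))
          by_cases h2 : σ y = z
          · exact Or.inr ⟨y, Finset.mem_filter.2 ⟨hyA, hyT, Or.inl h2⟩, rfl⟩
          have hA' : σ y ∈ A := Finset.mem_filter.2 ⟨hσS y hyS, (hYmem _).2
            ⟨h1, fun h => hyu (σ.injective h), h2, fun h => hyz (σ.injective h)⟩⟩
          by_cases h3 : (g : Perm α) (σ y) ∈ T
          · exact Or.inl (Or.inl (Or.inr ⟨σ y, Finset.mem_filter.2 ⟨hA', h3⟩, rfl⟩))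
          · exact Or.inr ⟨y, Finset.mem_filter.2 ⟨hyA, hyT, Or.inr ⟨hA',
              Finset.mem_sdiff.2 ⟨(hGmap g hg _).1 (hAY hA'), h3⟩⟩⟩, rfl⟩
    have k0 := hcon _ hπG hπne
    have k1 := Finset.card_le_card hin2
    have k2 := Finset.card_union_le ({u, v} ∪ P₁ g ∪ (I₁ g).image (fun y => (g : Perm α) y) ∪
      (S₁ g).image σ) ((T₁ g).image (fun y => (g : Perm α) (σ y)))
    have k3 := Finset.card_union_le ({u, v} ∪ P₁ g ∪ (I₁ g).image (fun y => (g : Perm α) y))
      ((S₁ g).image σ)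
    have k4 := Finset.card_union_le ({u, v} ∪ P₁ g) ((I₁ g).image (fun y => (g : Perm α) y))
    have k5 := Finset.card_union_le ({u, v} : Finset α) (P₁ g)
    have k6 : #({u, v} : Finset α) ≤ 2 := Finset.card_le_two
    have k7 : #((I₁ g).image (fun y => (g : Perm α) y)) ≤ #(I₁ g) := Finset.card_image_le
    have k8 : #((S₁ g).image σ) ≤ #(S₁ g) := Finset.card_image_le
    have k9 : #((T₁ g).image (fun y => (g : Perm α) (σ y))) ≤ #(T₁ g) := Finset.card_image_le
    omega
  have hsum := Finset.sum_le_sum hkey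
  simp only [Finset.sum_add_distrib, Finset.sum_const, smul_eq_mul] at hsum
  have swap : ∀ (X : Finset α) (p : G → α → Prop) [∀ g, DecidablePred (p g)],
      ∑ g ∈ Gc, #(X.filter (p g)) = ∑ x ∈ X, #(Gc.filter fun g => p g x) := by
    intro X p _
    simp only [Finset.card_filter]
    exact Finset.sum_comm
  have hP : ∑ g ∈ Gc, #(P₁ g) = (N * (N - 1) - (#S - 4) * (N - 1)) * c := by
    rw [swap, Finset.sum_singleton]
    have h1 := hin' b (hTW (Finset.mem_erase.2 ⟨hbu, hbS⟩)) A hAY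
    have h2 := Finset.card_filter_add_card_filter_not (s := Gc)
      (fun g : G => (g : Perm α)⁻¹ b ∈ A)
    rw [h1, hM, hAc] at h2
    rw [Nat.sub_mul, mul_assoc, mul_assoc]
    omega
  have hI : ∑ g ∈ Gc, #(I₁ g) = (#S - 4) * (#S - 1) * (N - 1) * c := by
    rw [swap, Finset.sum_congr rfl (g := fun _ => #T * ((N - 1) * c))
      fun y hy => hin y (hAY hy) T hTW, Finset.sum_const, smul_eq_mul, hAc, hTc]
    ring
  have hS₁ : ∑ g ∈ Gc, #(S₁ g) = (#S - 2) * ((#S - 4) * (N - (#S - 4))) * c := by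
    have hT2 : #(T.filter fun w => σ w ≠ u) = #S - 2 := by
      have h3 := Finset.card_filter_add_card_filter_not (s := T) (fun w => σ w = u)
      have h4 : T.filter (fun w => σ w = u) = {σ⁻¹ u} := by
        ext w
        simp only [hT, Finset.mem_filter, Finset.mem_erase, Finset.mem_singleton,
          Perm.eq_inv_iff_eq]
        refine ⟨fun h => h.2, fun h => ⟨⟨fun e => hbu ((congrArg σ e).symm.trans h), ?_⟩, h⟩⟩
        rw [hS, ← Perm.apply_mem_support, h]
        exact hu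
      rw [h4, Finset.card_singleton, hTc] at h3
      change #(T.filter fun w => ¬ σ w = u) = _
      omega
    rw [swap, ← Finset.sum_filter_add_sum_filter_not T (fun w => σ w ≠ u)]
    have e1 : ∀ w ∈ T.filter (fun w => σ w ≠ u),
        #(Gc.filter fun g : G => σ w ≠ u ∧ (g : Perm α)⁻¹ w ∈ A ∧ (g : Perm α)⁻¹ (σ w) ∈ Y \ A) =
          #A * #(Y \ A) * c := by
      intro w hw
      obtain ⟨hwT, hwu⟩ := Finset.mem_filter.1 hw
      obtain ⟨-, hwS⟩ := Finset.mem_erase.1 hwT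
      rw [← hpair' w (σ w) (hTW hwT) (hTW (Finset.mem_erase.2 ⟨hwu, hσS w hwS⟩)) (hσne w hwS).symm
        A (Y \ A) hAY Finset.sdiff_subset Finset.disjoint_sdiff]
      congr 1
      ext g
      simp [hwu]
    have e2 : ∀ w ∈ T.filter (fun w => ¬ σ w ≠ u),
        #(Gc.filter fun g : G => σ w ≠ u ∧ (g : Perm α)⁻¹ w ∈ A ∧ (g : Perm α)⁻¹ (σ w) ∈ Y \ A) =
          0 := by
      intro w hw
      simp [(Finset.mem_filter.1 hw).2]
    rw [Finset.sum_congr rfl e1, Finset.sum_eq_zero e2, add_zero, Finset.sum_const, smul_eq_mul,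
      hT2, Finset.card_sdiff_of_subset hAY, hYN, hAc]
    ring
  have hT₁ : ∑ g ∈ Gc, #(T₁ g) ≤
      ((#S - 4) * ((#S - 1) * (N - (#S - 1))) + (#S - 1) * (#S - 2)) * c := by
    rw [swap]
    set p := (#S - 1) * (N - (#S - 1)) * c with hp
    set e := (#S - 1) * (#S - 2) * c with he
    calc _ ≤ ∑ y ∈ A, (p + if σ y = z then e else 0) := Finset.sum_le_sum fun y hy => ?_
      _ ≤ #A * p + e := by
        rw [Finset.sum_add_distrib, Finset.sum_const, smul_eq_mul, ← Finset.sum_filter,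
          Finset.sum_const, smul_eq_mul]
        refine Nat.add_le_add_left (Nat.le_trans (Nat.mul_le_mul_right e ?_) (one_mul e).le) _
        rw [Finset.card_le_one]
        intro y hy y' hy'
        exact σ.injective ((Finset.mem_filter.1 hy).2.trans (Finset.mem_filter.1 hy').2.symm)
      _ = _ := by rw [hp, he, hAc]; ring
    obtain ⟨hyS, hyY⟩ := Finset.mem_filter.1 hy
    by_cases h2 : σ y = z
    · rw [if_pos h2]
      calc _ ≤ #(Gc.filter fun g : G => (g : Perm α) y ∈ T) :=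
            Finset.card_le_card fun g hg => by
              obtain ⟨h1, h3, -⟩ := Finset.mem_filter.1 hg
              exact Finset.mem_filter.2 ⟨h1, h3⟩
        _ = #T * ((N - 1) * c) := hin y hyY T hTW
        _ = p + e := by
          rw [hTc, hp, he, ← add_mul, ← mul_add, mul_assoc]
          congr 2
          omega
    · rw [if_neg h2, add_zero]
      by_cases h3 : σ y ∈ A
      · calc _ ≤ #(Gc.filter fun g : G => (g : Perm α) y ∈ T ∧ (g : Perm α) (σ y) ∈ W \ T) :=
              Finset.card_le_card fun g hg => by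
                obtain ⟨h1, h4, h5⟩ := Finset.mem_filter.1 hg
                exact Finset.mem_filter.2 ⟨h1, h4, (h5.resolve_left h2).2⟩
          _ = #T * #(W \ T) * c := hpair y (σ y) hyY (hAY h3) (hσne y hyS).symm T (W \ T) hTW
              Finset.sdiff_subset Finset.disjoint_sdiff
          _ = p := by rw [hp, hTc, Finset.card_sdiff_of_subset hTW, hWN, hTc]
      · refine Nat.le_trans (le_of_eq ?_) (Nat.zero_le _)
        rw [Finset.card_eq_zero, Finset.filter_eq_empty_iff]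
        intro g _ h
        exact h3 (h.2.resolve_left h2).1
  rw [hP, hI, hS₁, hM] at hsum
  have hcpos : 0 < c := by
    have := hGcne.card_pos
    rw [hM] at this
    exact Nat.pos_of_ne_zero fun h => by simp [h] at this
  have := Nat.mul_lt_mul_of_pos_right (arith (μ := #S) (N := N) hμ (by omega)) hcpos
  nlinarith [hT₁]

/-- A six-fold transitive group with a small non-trivial element contains the alternating group. -/
theorem le_of_six_transitive (hprim : IsPreprimitive G α) (h6 : TupleTrans G α 6) {σ : Perm α}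
    (hσ : σ ∈ G) (hne : σ ≠ 1) (hn : 2 * σ.support.card < Fintype.card α) :
    alternatingGroup α ≤ G := by
  induction' hs : σ.support.card using Nat.strong_induction_on with μ ih generalizing σ
  rcases Nat.lt_or_ge μ 4 with hlt | hge
  · have := Perm.two_le_card_support_of_ne_one hne
    rcases (by omega : σ.support.card = 2 ∨ σ.support.card = 3) with h | h
    · rw [Perm.subgroup_eq_top_of_isPreprimitive_of_isSwap_mem hprim σ
        (Perm.card_support_eq_two.1 h) hσ]
      exact le_top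
    · exact Perm.alternatingGroup_le_of_isPreprimitive_of_isThreeCycle_mem hprim
        (card_support_eq_three_iff.1 h) hσ
  · obtain ⟨π, hπ, hπne, hlt⟩ := exists_smaller h6 hσ (hs ▸ hge) hn
    exact ih _ (hs ▸ hlt) hπ hπne (by omega) rfl

end Cfsg.Agent.Perm.JordanSet
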