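import Mathlib
import Cfsg.Prelude.Def_Perm
import Cfsg.Agent.Lib.Perm.Homog
import Cfsg.Agent.Lib.Hall.MinimalNormal
import Cfsg.Agent.Lib.Perm.Basic
import Cfsg.Agent.Lib.Perm.TransLinear.Main

/-!
# Kantor: two-homogeneous groups that are not doubly transitive

Such a group has odd order; granting the odd order theorem for it, its minimal normal subgroup
is regular elementary abelian, and a point stabilizer together with `-1` is a solvable linear
group transitive on the nonzero vectors, hence semilinear over a field.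
-/

set_option autoImplicit false

namespace Cfsg.Agent.Perm.Kantor

open MulAction

variable {α : Type*} [Fintype α] [DecidableEq α] {G : Subgroup (Equiv.Perm α)}

/-- two-homogeneity on ordered pairs of distinct points -/
theorem pair (h2 : IsPretransitive G (Set.powersetCard α 2)) {x y z w : α} (hxy : x ≠ y)
    (hzw : z ≠ w) : ∃ g : G, (g • x = z ∧ g • y = w) ∨ (g • x = w ∧ g • y = z) := by
  obtain ⟨g, hg, hgx⟩ := Homog.hom_of_pretransitive h2 {x, y} {z, w}
    (Finset.card_pair hxy) (Finset.card_pair hzw)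
  refine ⟨⟨g, hg⟩, ?_⟩
  have hx := (hgx x).2 (Finset.mem_insert_self _ _)
  have hy := (hgx y).2 (by simp)
  have hne : g x ≠ g y := g.injective.ne hxy
  simp only [Finset.mem_insert, Finset.mem_singleton] at hx hy
  rcases hx with hx | hx <;> rcases hy with hy | hy
  · exact absurd (hx.trans hy.symm) hne
  · exact Or.inl ⟨hx, hy⟩
  · exact Or.inr ⟨hx, hy⟩
  · exact absurd (hx.trans hy.symm) hne

/-- without double transitivity the order is odd -/
theorem odd_card (h2 : IsPretransitive G (Set.powersetCard α 2))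
    (hn2 : ¬ IsMultiplyPretransitive G α 2) : Odd (Nat.card G) := by
  by_contra hodd
  rw [Nat.not_odd_iff_even] at hodd
  haveI : Fact (Nat.Prime 2) := ⟨Nat.prime_two⟩
  obtain ⟨t, ht⟩ := exists_prime_orderOf_dvd_card' (G := G) 2 hodd.two_dvd
  have ht1 : t ≠ 1 := fun h => by simp [h] at ht
  have ht2 : t * t = 1 := by rw [← pow_two, ← ht, pow_orderOf_eq_one]
  obtain ⟨a, ha⟩ : ∃ a : α, t • a ≠ a := by
    by_contra! h
    exact ht1 (eq_of_smul_eq_smul fun y => by rw [h y, one_smul])
  have htb : t • t • a = a := by rw [← mul_smul, ht2, one_smul]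
  refine hn2 ?_
  rw [is_two_pretransitive_iff]
  have key : ∀ x y : α, x ≠ y → ∃ g : G, g • a = x ∧ g • (t • a) = y := by
    intro x y hxy
    obtain ⟨g, ⟨h1, h2'⟩ | ⟨h1, h2'⟩⟩ := pair h2 ha.symm hxy
    · exact ⟨g, h1, h2'⟩
    · exact ⟨g * t, by rw [mul_smul, h2'], by rw [mul_smul, htb, h1]⟩
  intro x y z w hxy hzw
  obtain ⟨g, hgx, hgy⟩ := key x y hxy
  obtain ⟨k, hkz, hkw⟩ := key z w hzw
  exact ⟨k * g⁻¹, by rw [mul_smul, inv_smul_eq_iff.2 hgx.symm, hkz],
    by rw [mul_smul, inv_smul_eq_iff.2 hgy.symm, hkw]⟩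

theorem three_le_card (hne : G ≠ ⊥) (hodd : Odd (Nat.card G)) : 3 ≤ Fintype.card α := by
  by_contra h
  have hd : Nat.card G ∣ (Fintype.card α).factorial := by
    have := G.card_subgroup_dvd_card
    rwa [Nat.card_perm, Nat.card_eq_fintype_card (α := α)] at this
  have hd2 : Nat.card G ∣ 2 := hd.trans (Nat.factorial_dvd_factorial (by omega : Fintype.card α ≤ 2))
  refine hne (G.eq_bot_of_card_eq ?_)
  rcases (Nat.dvd_prime Nat.prime_two).1 hd2 with h1 | h1
  · exact h1
  · rw [h1] at hodd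
    exact absurd hodd (by decide)

theorem transitive (h2 : IsPretransitive G (Set.powersetCard α 2)) (h3 : 3 ≤ Fintype.card α) :
    IsPretransitive G α := by
  refine ⟨fun x y => ?_⟩
  by_cases hxy : x = y
  · exact ⟨1, by rw [one_smul, hxy]⟩
  obtain ⟨z, -, hz⟩ := Finset.exists_mem_notMem_of_card_lt_card
    (s := {x, y}) (t := Finset.univ)
    (lt_of_le_of_lt Finset.card_le_two (by rw [Finset.card_univ]; omega))
  simp only [Finset.mem_insert, Finset.mem_singleton, not_or] at hz
  obtain ⟨g, ⟨h1, -⟩ | ⟨h1, h2'⟩⟩ := pair h2 (Ne.symm hz.1) (Ne.symm hz.2)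
  · exact ⟨g, h1⟩
  · exact ⟨g * g, by rw [mul_smul, h1, h2']⟩

/-- a non-trivial normal subgroup is transitive -/
theorem normal_transitive (h2 : IsPretransitive G (Set.powersetCard α 2))
    (h3 : 3 ≤ Fintype.card α) (N : Subgroup G) [hN : N.Normal] (hNne : N ≠ ⊥) :
    IsPretransitive N α := by
  haveI := transitive h2 h3
  haveI : Nontrivial N := N.nontrivial_iff_ne_bot.2 hNne
  obtain ⟨⟨n, hn⟩, hn1⟩ := exists_ne (1 : N)
  obtain ⟨a, ha⟩ : ∃ a : α, n • a ≠ a := by
    by_contra! h
    exact hn1 (Subtype.ext (eq_of_smul_eq_smul fun y => by rw [h y, OneMemClass.coe_one, one_smul]))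
  refine Basic.isPretransitive_of_forall a fun c => ?_
  by_cases hca : c = a
  · exact ⟨1, by rw [one_smul, hca]⟩
  obtain ⟨g, hg⟩ := pair h2 ha.symm (Ne.symm hca)
  have hconj : (g * n * g⁻¹) • g • a = g • n • a := by
    rw [mul_smul, inv_smul_smul, mul_smul]
  rcases hg with ⟨h1, h2'⟩ | ⟨h1, h2'⟩
  · exact ⟨⟨_, hN.conj_mem n hn g⟩, by rw [h1, h2'] at hconj; exact hconj⟩
  · refine ⟨⟨_, inv_mem (hN.conj_mem n hn g)⟩, ?_⟩
    show (g * n * g⁻¹)⁻¹ • a = c
    rw [inv_smul_eq_iff]
    rw [h1, h2'] at hconj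
    exact hconj.symm

/-- the coordinates, given an abstract vector space of translations -/
theorem coordinates (h2 : IsPretransitive G (Set.powersetCard α 2)) (hodd : Odd (Nat.card G))
    (hsolv : Group.IsSolvable G) {p : ℕ} [Fact p.Prime] (hp2 : p ≠ 2) {V : Type*} [AddCommGroup V]
    [Module (ZMod p) V] [Finite V] [Nontrivial V] (pnt : V ≃ α) {a : α} (hp0 : pnt 0 = a)
    (τ : V → G) (hτ : ∀ v w : V, τ v • pnt w = pnt (v + w)) (c : stabilizer G a → V ≃+ V)
    (hc : ∀ (g : stabilizer G a) (v : V), pnt (c g v) = (g : G) • pnt v) :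
    ∃ (f : ℕ), Fintype.card α = p ^ f ∧ p ^ f % 4 = 3 ∧ ∃ e : α ≃ GaloisField p f,
      (∀ g : G, e.symm.trans (((g : Equiv.Perm α)).trans e) ∈
        Cfsg.semiaffineGroup (GaloisField p f)) ∧
      ∀ b : GaloisField p f, ∃ g : G, ∀ x : α, e ((g : Equiv.Perm α) x) = e x + b := by
  classical
  have hp := (Fact.out : p.Prime)
  have hneg : ∀ v : V, v = -v → v = 0 := fun v hv => by
    have h2v : 2 • v = 0 := by rw [two_nsmul]; nth_rw 1 [hv]; exact neg_add_cancel v
    have hpv : p • v = 0 := by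
      rw [← Nat.cast_smul_eq_nsmul (ZMod p), ZMod.natCast_self, zero_smul]
    have h1 : (Nat.gcd 2 p) • v = 0 := gcd_nsmul_eq_zero.2 ⟨h2v, hpv⟩
    rwa [(Nat.coprime_primes Nat.prime_two hp).2 (Ne.symm hp2), one_nsmul] at h1
  let L : (stabilizer G a) →* (V ≃ₗ[ZMod p] V) :=
    { toFun := fun g => (c g).toLinearEquiv fun r v => ZMod.map_smul (c g) r v
      map_one' := LinearEquiv.ext fun v => pnt.injective (by
        show pnt (c 1 v) = pnt v
        rw [hc, OneMemClass.coe_one, one_smul])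
      map_mul' := fun g k => LinearEquiv.ext fun v => pnt.injective (by
        show pnt (c (g * k) v) = pnt (c g (c k v))
        rw [hc, hc, hc, Subgroup.coe_mul, mul_smul]) }
  have hL : ∀ (g : (stabilizer G a)) (v : V), pnt (L g v) = (g : G) • pnt v := hc
  let Sc : ℤˣ →* (V ≃ₗ[ZMod p] V) :=
    { toFun := fun u => if u = 1 then 1 else LinearEquiv.neg (ZMod p)
      map_one' := if_pos rfl
      map_mul' := fun u w => by
        rcases Int.units_eq_one_or u with rfl | rfl <;> rcases Int.units_eq_one_or w with rfl | rfl <;>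
          refine LinearEquiv.ext fun v => ?_ <;> simp }
  have hSc : ∀ v : V, Sc (-1) v = -v := fun v => by simp [Sc]
  have hcomm : ∀ (g : (stabilizer G a)) (u : ℤˣ), Commute (L g) (Sc u) := fun g u => by
    rcases Int.units_eq_one_or u with rfl | rfl
    · rw [map_one]; exact Commute.one_right _
    · refine LinearEquiv.ext fun v => ?_
      rw [LinearEquiv.mul_apply, LinearEquiv.mul_apply, hSc, hSc, map_neg]
  let ψ := MonoidHom.noncommCoprod L Sc hcomm
  haveI : Group.IsSolvable ψ.range := by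
    haveI : Group.IsSolvable G := hsolv
    exact Group.isSolvable_of_surjective ψ.rangeRestrict_surjective
  -- it is transitive on the nonzero vectors
  have hcase : ∀ v w : V, v ≠ 0 → w ≠ 0 → ∃ g : (stabilizer G a), L g v = w ∨ L g v = -w := by
    intro v w hv hw
    have hva : pnt v ≠ a := fun h => hv (pnt.injective (h.trans hp0.symm))
    have hwa : pnt w ≠ a := fun h => hw (pnt.injective (h.trans hp0.symm))
    obtain ⟨g, ⟨h1, h2'⟩ | ⟨h1, h2'⟩⟩ := pair h2 (Ne.symm hva) (Ne.symm hwa)
    · exact ⟨⟨g, h1⟩, Or.inl (pnt.injective ((hL _ v).trans h2'))⟩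
    · refine ⟨⟨τ (-w) * g, show (τ (-w) * g) • a = a by
        rw [mul_smul, h1, hτ, neg_add_cancel, hp0]⟩, Or.inr (pnt.injective ((hL _ v).trans ?_))⟩
      show (τ (-w) * g) • pnt v = pnt (-w)
      rw [mul_smul, h2', ← hp0, hτ, add_zero]
  have hT : TransLinear.Trans ψ.range := by
    intro v w hv hw
    obtain ⟨g, hg | hg⟩ := hcase v w hv hw
    · exact ⟨⟨ψ (g, 1), _, rfl⟩, by simp [ψ, hg]⟩
    · exact ⟨⟨ψ (g, -1), _, rfl⟩, by simp [ψ, Sc, hg]⟩
  -- the degree
  have hpgV : IsPGroup p (Multiplicative V) := fun x => ⟨1, Multiplicative.toAdd.injective (by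
    rw [pow_one, toAdd_pow, ← Nat.cast_smul_eq_nsmul (ZMod p), ZMod.natCast_self, zero_smul,
      toAdd_one])⟩
  obtain ⟨f, hf⟩ := IsPGroup.iff_card.1 hpgV
  have hcard : Nat.card V = p ^ f := by
    rw [← hf]; exact Nat.card_congr Multiplicative.ofAdd
  have hα : Fintype.card α = p ^ f := by
    rw [← Nat.card_eq_fintype_card, ← hcard, Nat.card_congr pnt]
  have hf0 : f ≠ 0 := fun h => by
    rw [h, pow_zero] at hcard
    have := Finite.one_lt_card (α := V)
    omega
  have hnotneg : ∀ (g : (stabilizer G a)) (v : V), v ≠ 0 → L g v ≠ -v := by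
    intro g v hv hgv
    have hsq : (g * g : (stabilizer G a)) ∈ stabilizer (stabilizer G a) (pnt v) := by
      show ((g * g : (stabilizer G a)) : G) • pnt v = pnt v
      rw [← hL, map_mul, LinearEquiv.mul_apply, hgv, map_neg, hgv, neg_neg]
    have hoo : Odd (orderOf g) :=
      hodd.of_dvd_nat ((orderOf_dvd_natCard g).trans (stabilizer G a).card_subgroup_dvd_card)
    obtain ⟨k, hk⟩ := hoo
    have hg : g = ((g * g) ^ (k + 1)) := by
      rw [← pow_two, ← pow_mul, show 2 * (k + 1) = orderOf g + 1 by omega, pow_succ,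
        pow_orderOf_eq_one, one_mul]
    have hgfix : g ∈ stabilizer (stabilizer G a) (pnt v) := hg ▸ pow_mem hsq _
    have : pnt (L g v) = pnt v := (hL g v).trans hgfix
    rw [hgv] at this
    exact hv (hneg v (pnt.injective this).symm)
  have hmod : p ^ f % 4 = 3 := by
    obtain ⟨v₀, hv₀⟩ := exists_ne (0 : V)
    set O : Finset (V) := {v | ∃ g : (stabilizer G a), L g v₀ = v}.toFinite.toFinset
    have hO : ∀ v, v ∈ O ↔ ∃ g : (stabilizer G a), L g v₀ = v := fun v => by simp [O]
    have hOodd : Odd O.card := by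
      have h1 : O.card = Nat.card (orbit (stabilizer G a) (pnt v₀)) := by
        rw [Nat.card_coe_set_eq, ← Finset.card_image_of_injective O pnt.injective,
          ← Set.ncard_coe_finset]
        congr 1
        ext y
        simp only [Finset.coe_image, Set.mem_image, Finset.mem_coe, hO]
        constructor
        · rintro ⟨v, ⟨g, rfl⟩, rfl⟩
          exact ⟨g, (hL g v₀).symm⟩
        · rintro ⟨g, rfl⟩
          exact ⟨_, ⟨g, rfl⟩, hL g v₀⟩
      rw [h1]
      refine hodd.of_dvd_nat (dvd_trans ?_ (stabilizer G a).card_subgroup_dvd_card)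
      rw [Nat.card_coe_set_eq, ← index_stabilizer]
      exact Subgroup.index_dvd_card _
    haveI : Fintype (V) := Fintype.ofFinite _
    have huniv : (Finset.univ : Finset (V)).erase 0 = O ∪ O.image Neg.neg := by
      ext v
      simp only [Finset.mem_erase, Finset.mem_univ, and_true, Finset.mem_union, Finset.mem_image, hO]
      constructor
      · intro hv
        obtain ⟨g, hg | hg⟩ := hcase v₀ v hv₀ hv
        · exact Or.inl ⟨g, hg⟩
        · exact Or.inr ⟨_, ⟨g, rfl⟩, by rw [hg, neg_neg]⟩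
      · rintro (⟨g, rfl⟩ | ⟨u, ⟨g, rfl⟩, rfl⟩) <;> simpa using hv₀
    have hdis : Disjoint O (O.image Neg.neg) := by
      rw [Finset.disjoint_left]
      intro v hv hv'
      obtain ⟨g, rfl⟩ := (hO _).1 hv
      obtain ⟨u, hu, hu'⟩ := Finset.mem_image.1 hv'
      obtain ⟨k, rfl⟩ := (hO _).1 hu
      refine hnotneg (k⁻¹ * g) v₀ hv₀ ?_
      rw [map_mul, LinearEquiv.mul_apply, ← hu', ← map_neg (L k), ← LinearEquiv.mul_apply,
        ← map_mul, inv_mul_cancel, map_one]
      rfl
    have hc := congrArg Finset.card huniv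
    rw [Finset.card_erase_of_mem (Finset.mem_univ _), Finset.card_union_of_disjoint hdis,
      Finset.card_image_of_injective _ neg_injective, Finset.card_univ,
      ← Nat.card_eq_fintype_card, hcard] at hc
    obtain ⟨k, hk⟩ := hOodd
    omega
  -- the field
  rcases TransLinear.semilinear_or_small hT inferInstance with ⟨F, iF, iF', e, he⟩ | hsmall
  swap
  · exfalso
    rw [hcard] at hsmall
    simp only [Set.mem_insert_iff, Set.mem_singleton_iff] at hsmall
    omega
  haveI : Fintype (GaloisField p f) := Fintype.ofFinite _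
  have r : F ≃+* GaloisField p f := FiniteField.ringEquivOfCardEq (by
    rw [← Nat.card_eq_fintype_card, ← Nat.card_eq_fintype_card, GaloisField.card p f hf0,
      ← Nat.card_congr e.toEquiv, hcard])
  let E : α ≃ GaloisField p f := pnt.symm.trans (e.toEquiv.trans r.toEquiv)
  have hE : ∀ v, E (pnt v) = r (e v) := fun v => by simp [E]
  refine ⟨f, hα, hmod, E, fun g => ?_, fun b => ?_⟩
  · obtain ⟨w, hw⟩ := pnt.surjective (g • a)
    have hfix : ((τ w)⁻¹ * g) • a = a := by
      rw [mul_smul, inv_smul_eq_iff, ← hw, ← hp0, hτ, add_zero]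
    let g₀ : (stabilizer G a) := ⟨(τ w)⁻¹ * g, hfix⟩
    obtain ⟨k, σ, hσ⟩ := he ⟨ψ (g₀, 1), _, rfl⟩
    have hσ' : ∀ v, e (L g₀ v) = k * σ (e v) := fun v => by simpa [ψ] using hσ v
    have hk0 : k ≠ 0 := fun h => by
      obtain ⟨v, hv⟩ := exists_ne (0 : V)
      refine hv ((L g₀).map_eq_zero_iff.1 (e.map_eq_zero_iff.1 ?_))
      rw [hσ', h, zero_mul]
    refine ⟨Units.mk0 (r k) ((map_ne_zero_iff _ r.injective).2 hk0), r (e w),
      r.symm.trans (σ.trans r), fun y => ?_⟩
    obtain ⟨x, rfl⟩ := E.surjective y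
    obtain ⟨v, rfl⟩ := pnt.surjective x
    show E (g • E.symm (E (pnt v))) = _
    rw [Equiv.symm_apply_apply, show g = τ w * g₀ from (mul_inv_cancel_left (τ w) g).symm, mul_smul,
      ← hL, hτ, hE, hE, map_add, hσ', map_add, map_mul]
    simp [add_comm]
  · obtain ⟨w, hw⟩ := (e.toEquiv.trans r.toEquiv).surjective b
    refine ⟨τ w, fun x => ?_⟩
    obtain ⟨v, rfl⟩ := pnt.surjective x
    show E (τ w • pnt v) = _
    rw [hτ, hE, hE, ← hw, map_add, map_add, add_comm]
    rfl

/-- The theorem of Kantor, granting that the group is solvable. -/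
theorem main (hne : G ≠ ⊥) (h2 : IsPretransitive G (Set.powersetCard α 2))
    (hn2 : ¬ IsMultiplyPretransitive G α 2) (hsolv : Group.IsSolvable G) :
    ∃ (p f : ℕ) (_ : Fact p.Prime), p ≠ 2 ∧ Fintype.card α = p ^ f ∧ p ^ f % 4 = 3 ∧
      ∃ e : α ≃ GaloisField p f,
        (∀ g : G, e.symm.trans (((g : Equiv.Perm α)).trans e) ∈
          Cfsg.semiaffineGroup (GaloisField p f)) ∧
        ∀ b : GaloisField p f, ∃ g : G, ∀ x : α, e ((g : Equiv.Perm α) x) = e x + b := by
  classical
  have hodd := odd_card h2 hn2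
  have h3 := three_le_card hne hodd
  haveI := transitive h2 h3
  -- the minimal normal subgroup
  haveI : Nontrivial G := G.nontrivial_iff_ne_bot.2 hne
  obtain ⟨N, hNn, -, hNne, hmin⟩ := Hall.exists_minimal_normal (⊤ : Subgroup G) top_ne_bot
  haveI := hNn
  obtain ⟨p, hp, hpdvd, hpg, hel⟩ := Hall.minimal_normal_isElementaryAbelian hNne hmin
  haveI : Fact p.Prime := ⟨hp⟩
  have hp2 : p ≠ 2 := fun h => (Nat.not_even_iff_odd.2 hodd)
    (even_iff_two_dvd.2 ((h ▸ hpdvd).trans N.card_subgroup_dvd_card))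
  have hNt := normal_transitive h2 h3 N hNne
  have hNc : ∀ u ∈ N, ∀ v ∈ N, u * v = v * u := fun u hu v hv =>
    congrArg Subtype.val (hel.1.is_comm.comm (⟨u, hu⟩ : N) ⟨v, hv⟩)
  have hreg : ∀ x : α, stabilizer N x = ⊥ := fun x => by
    refine (Subgroup.eq_bot_iff_forall _).2 fun n hn => Subtype.ext (eq_of_smul_eq_smul (α := α)
      fun y => ?_)
    obtain ⟨m, rfl⟩ := exists_smul_eq N x y
    show (n : G) • (m : G) • x = (1 : G) • (m : G) • x
    rw [one_smul, ← mul_smul, hNc _ n.2 _ m.2, mul_smul,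
      show (n : G) • x = x from hn]
  obtain ⟨a⟩ : Nonempty α := Fintype.card_pos_iff.1 (by omega)
  -- the vector space
  letI : CommGroup N :=
    { (inferInstance : Group N) with mul_comm := fun u v => Subtype.ext (hNc u u.2 v v.2) }
  let iM : Module (ZMod p) (Additive N) := AddCommGroup.zmodModule fun x =>
    Additive.toMul.injective (Subtype.ext (by
      rw [toMul_nsmul, SubgroupClass.coe_pow, hel.2 _ (Additive.toMul x).2]; rfl))
  let pnt : Additive N ≃ α := Additive.toMul.trans
    (Equiv.ofBijective _ (Basic.orbitMap_bijective N hNt hreg a))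
  have hpnt : ∀ v : Additive N, pnt v = ((Additive.toMul v : N) : G) • a := fun v => rfl
  haveI : Finite (Additive N) := Finite.of_equiv α pnt.symm
  haveI : Nontrivial (Additive N) := by
    haveI : Nontrivial α := Fintype.one_lt_card_iff_nontrivial.1 (by omega)
    exact pnt.nontrivial
  have hp0 : pnt 0 = a := by rw [hpnt, toMul_zero, OneMemClass.coe_one, one_smul]
  obtain ⟨f, h1, h2', h3'⟩ := @coordinates α _ _ G h2 hodd hsolv p _ hp2 (Additive N) _ iM _ _
    pnt a hp0 (fun v => ((Additive.toMul v : N) : G))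
    (fun v w => by
      rw [hpnt, hpnt, ← mul_smul]
      rfl)
    (fun g => MulEquiv.toAdditive (MulAut.conjNormal (H := N) (g : G)))
    (fun g v => by
      rw [hpnt, hpnt]
      refine Eq.trans ?_ (Basic.smul_smul_base (g := (g : G)) g.2 _).symm
      exact congrArg (· • a) (MulAut.conjNormal_apply (g : G) (Additive.toMul v)))
  exact ⟨p, f, ⟨hp⟩, hp2, h1, h2', h3'⟩

end Cfsg.Agent.Perm.Kantor
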