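/-
For two involutions with the same number of moved points there is a third one, again with that number,
whose products with both have odd order (apart from one configuration on four points).
-/
import Mathlib

set_option autoImplicit false
set_option linter.all false

namespace Cfsg.Agent.Perm.OddProductInvolutions

open Equiv Function

variable {α : Type*}

/-- A colouring of an invariant set flipped by `f` and preserved by `g`. -/
def Col (f g : Perm α) (S : Set α) (c : α → Bool) : Prop :=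
  ∀ p ∈ S, f p ∈ S ∧ g p ∈ S ∧ c (f p) = !c p ∧ c (g p) = c p

/-- No such colouring. -/
def Half (f g : Perm α) : Prop := ∀ S c, Col f g S c → ∀ p, p ∉ S

/-- Neither colouring exists. -/
def Good (f g : Perm α) : Prop := Half f g ∧ Half g f

theorem Good.symm {f g : Perm α} (h : Good f g) : Good g f := ⟨h.2, h.1⟩

theorem Col.not_fixed {f g : Perm α} {S : Set α} {c : α → Bool} (h : Col f g S c) {p : α} (hp : f p = p) :
    p ∉ S := fun hS => by
  have := (h p hS).2.2.1
  rw [hp] at this
  cases hc : c p <;> simp [hc] at this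

theorem good_self (f : Perm α) : Good f f :=
  ⟨fun S c h p hp => by
    have h1 := (h p hp).2.2.1; have h2 := (h p hp).2.2.2
    rw [h2] at h1; cases hc : c p <;> simp [hc] at h1,
   fun S c h p hp => by
    have h1 := (h p hp).2.2.1; have h2 := (h p hp).2.2.2
    rw [h2] at h1; cases hc : c p <;> simp [hc] at h1⟩

section Order

variable [Finite α]

theorem odd_orderOf {x z : Perm α} (hx : Involutive x) (hzi : Involutive z) (h : Good x z) :
    Odd (orderOf (x * z)) := by
  classical
  set g := x * z with hg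
  have hz : ∀ q, z q = x (g q) := fun q => by rw [hg, Perm.mul_apply, hx]
  by_contra hodd
  rw [Nat.not_odd_iff_even] at hodd
  obtain ⟨p, hp⟩ : ∃ p : α, Even (MulAction.period g p) := by
    by_contra hall
    push Not at hall
    obtain ⟨m, hm⟩ := hodd
    have hm0 : 0 < orderOf g := orderOf_pos g
    have hfix : g ^ m = 1 := by
      refine Perm.ext fun q => ?_
      have hd : MulAction.period g q ∣ orderOf g := MulAction.period_dvd_orderOf g q
      have ho : Odd (MulAction.period g q) := Nat.not_even_iff_odd.mp (hall q)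
      rw [hm, ← two_mul] at hd
      have hd' : MulAction.period g q ∣ m :=
        Nat.Coprime.dvd_of_dvd_mul_left (Nat.coprime_two_right.mpr ho) hd
      exact (MulAction.pow_smul_eq_iff_period_dvd (m := g) (a := q)).mpr hd'
    have := Nat.le_of_dvd (by omega) (orderOf_dvd_of_pow_eq_one hfix)
    omega
  have hadd : ∀ (k l : ℤ), (g ^ k) ((g ^ l) p) = (g ^ (k + l)) p := fun k l => by
    rw [zpow_add, Perm.mul_apply]
  have hpar : ∀ k l : ℤ, (g ^ k) p = (g ^ l) p → (Odd k ↔ Odd l) := by
    intro k l e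
    have h1 : (g ^ (k - l)) p = p := by
      rw [show k - l = -l + k by ring, ← hadd, e, hadd, neg_add_cancel, zpow_zero, Perm.one_apply]
    have h2 : ((MulAction.period g p : ℤ)) ∣ k - l :=
      (MulAction.zpow_smul_eq_iff_period_dvd (g := g) (a := p)).mp h1
    obtain ⟨j, hj⟩ := hp
    rw [hj] at h2
    obtain ⟨i, hi⟩ := h2
    push_cast at hi
    rw [show k = l + 2 * ((j : ℤ) * i) by linarith]
    simp [parity_simps]
  have hgx : MulAut.conj x g = g⁻¹ := by
    refine Perm.ext fun q => ?_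
    have hginv : g⁻¹ = z * x := by
      rw [hg, mul_inv_rev, inv_eq_of_mul_eq_one_right (show z * z = 1 from Perm.ext hzi),
        inv_eq_of_mul_eq_one_right (show x * x = 1 from Perm.ext hx)]
    rw [hginv, MulAut.conj_apply, hg, inv_eq_of_mul_eq_one_right (show x * x = 1 from Perm.ext hx)]
    simp [Perm.mul_apply, hx _]
  have hxg : ∀ (k : ℤ) (q : α), x ((g ^ k) q) = (g ^ (-k)) (x q) := fun k q => by
    have h1 : MulAut.conj x (g ^ k) = g ^ (-k) := by rw [map_zpow, hgx, inv_zpow, zpow_neg]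
    rw [← h1, MulAut.conj_apply, Perm.mul_apply, Perm.mul_apply, Perm.inv_def, Equiv.symm_apply_apply]
  have hgk : ∀ k : ℤ, g ((g ^ k) p) = (g ^ (k + 1)) p := fun k => by
    rw [add_comm, ← hadd, zpow_one]
  let c : α → Bool := fun q => decide (∃ k : ℤ, Odd k ∧ (q = (g ^ k) p ∨ q = x ((g ^ k) p) ∧ ∀ l : ℤ, q ≠ (g ^ l) p))
  have hc : ∀ k : ℤ, c ((g ^ k) p) = decide (Odd k) := by
    intro k
    refine decide_eq_decide.mpr ⟨?_, fun h => ⟨k, h, Or.inl rfl⟩⟩
    rintro ⟨l, hl, e | ⟨-, e⟩⟩
    · exact (hpar k l e).mpr hl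
    · exact absurd rfl (e k)
  by_cases hin : ∃ s : ℤ, x p = (g ^ s) p
  · obtain ⟨s, hs⟩ := hin
    have hxk : ∀ k : ℤ, x ((g ^ k) p) = (g ^ (s - k)) p := fun k => by
      rw [hxg, hs, hadd]; congr 2; ring
    have hzk : ∀ k : ℤ, z ((g ^ k) p) = (g ^ (s - (k + 1))) p := fun k => by rw [hz, hgk, hxk]
    set S : Set α := Set.range fun k : ℤ => (g ^ k) p
    have hpS : p ∈ S := ⟨0, by simp⟩
    rcases Int.even_or_odd s with hs2 | hs2
    · refine h.2 S c ?_ p hpS
      rintro _ ⟨k, rfl⟩
      refine ⟨⟨_, (hzk k).symm⟩, ⟨_, (hxk k).symm⟩, ?_, ?_⟩ <;> simp only [hxk, hzk, hc]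
      · rw [← decide_not, decide_eq_decide]; simp only [Int.odd_iff, Int.even_iff] at hs2 ⊢; omega
      · rw [decide_eq_decide]; simp only [Int.odd_iff, Int.even_iff] at hs2 ⊢; omega
    · refine h.1 S c ?_ p hpS
      rintro _ ⟨k, rfl⟩
      refine ⟨⟨_, (hxk k).symm⟩, ⟨_, (hzk k).symm⟩, ?_, ?_⟩ <;> simp only [hxk, hzk, hc]
      · rw [← decide_not, decide_eq_decide]; simp only [Int.odd_iff, Int.even_iff] at hs2 ⊢; omega
      · rw [decide_eq_decide]; simp only [Int.odd_iff, Int.even_iff] at hs2 ⊢; omega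
  · push Not at hin
    have hout : ∀ k l : ℤ, x ((g ^ k) p) ≠ (g ^ l) p := fun k l e => by
      refine hin (k + l) ?_
      rw [hxg] at e
      rw [← hadd, ← e, ← Perm.mul_apply, ← zpow_add, add_neg_cancel, zpow_zero, Perm.one_apply]
    have hcx : ∀ k : ℤ, c (x ((g ^ k) p)) = decide (Odd k) := by
      intro k
      refine decide_eq_decide.mpr ⟨?_, fun h => ⟨k, h, Or.inr ⟨rfl, hout k⟩⟩⟩
      rintro ⟨l, hl, e | ⟨e, -⟩⟩
      · exact absurd e (hout k l)
      · exact (hpar k l (x.injective e)).mpr hl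
    set S : Set α := Set.range (fun k : ℤ => (g ^ k) p) ∪ Set.range (fun k : ℤ => x ((g ^ k) p))
    have hpS : p ∈ S := Or.inl ⟨0, by simp⟩
    have hzk : ∀ k : ℤ, z ((g ^ k) p) = x ((g ^ (k + 1)) p) := fun k => by rw [hz, hgk]
    have hzxk : ∀ k : ℤ, z (x ((g ^ k) p)) = (g ^ (k - 1)) p := fun k => by
      have := hzk (k - 1)
      rw [sub_add_cancel] at this
      rw [← this, hzi]
    refine h.2 S c ?_ p hpS
    rintro _ (⟨k, rfl⟩ | ⟨k, rfl⟩)
    · refine ⟨Or.inr ⟨k + 1, (hzk k).symm⟩, Or.inr ⟨k, rfl⟩, ?_, ?_⟩ <;> simp only [hzk, hcx, hc]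
      rw [← decide_not, decide_eq_decide]; simp [parity_simps]
    · refine ⟨Or.inl ⟨k - 1, (hzxk k).symm⟩, Or.inl ⟨k, (hx _).symm⟩, ?_, ?_⟩ <;> simp only [hzxk, hx _, hcx, hc]
      rw [← decide_not, decide_eq_decide]; simp [parity_simps]

end Order

section Build

variable [DecidableEq α]

/-- Evaluating at a point away from the transposed ones. -/
theorem mul_swap_apply {f : Perm α} {a b p : α} (h1 : p ≠ a) (h2 : p ≠ b) : (f * swap a b) p = f p := by
  rw [Perm.mul_apply, swap_apply_of_ne_of_ne h1 h2]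

theorem mul_swap_left {f : Perm α} {a b : α} : (f * swap a b) a = f b := by rw [Perm.mul_apply, swap_apply_left]

theorem mul_swap_right {f : Perm α} {a b : α} : (f * swap a b) b = f a := by rw [Perm.mul_apply, swap_apply_right]

theorem ne_of_fixed {f : Perm α} {a p : α} (ha : f a = a) (h : p ≠ a) : f p ≠ a := fun e =>
  h (f.injective (e.trans ha.symm))

theorem flip_flip {u v w : Bool} (h1 : v = !u) (h2 : w = !v) : w = u := by subst h1 h2; simp

/-- A common transposition. -/
theorem half_add_double {f g : Perm α} {a b : α} (hfa : f a = a) (hfb : f b = b) (hga : g a = a) (hgb : g b = b)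
    (h : Half f g) : Half (f * swap a b) (g * swap a b) := by
  intro S c hC
  have ha : a ∉ S := fun hS => by
    obtain ⟨-, -, h1, h2⟩ := hC a hS
    rw [mul_swap_left, hfb] at h1
    rw [mul_swap_left, hgb, h1] at h2
    cases hc : c a <;> simp [hc] at h2
  have hb : b ∉ S := fun hS => ha (by
    have := (hC b hS).1
    rwa [mul_swap_right, hfa] at this)
  refine h S c fun p hp => ?_
  have h1 : p ≠ a := fun e => ha (e ▸ hp)
  have h2 : p ≠ b := fun e => hb (e ▸ hp)
  have := hC p hp
  rwa [mul_swap_apply h1 h2, mul_swap_apply h1 h2] at this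

theorem good_add_double {f g : Perm α} {a b : α} (hfa : f a = a) (hfb : f b = b) (hga : g a = a) (hgb : g b = b)
    (h : Good f g) : Good (f * swap a b) (g * swap a b) :=
  ⟨half_add_double hfa hfb hga hgb h.1, half_add_double hga hgb hfa hfb h.2⟩

/-- A path of three points. -/
theorem good_add_path3 {f g : Perm α} {a b c : α} (hab : a ≠ b) (hac : a ≠ c) (hbc : b ≠ c)
    (hfa : f a = a) (hfb : f b = b) (hfc : f c = c) (hga : g a = a) (hgb : g b = b) (hgc : g c = c)
    (h : Good f g) : Good (f * swap a b) (g * swap a c) := by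
  have key : ∀ {f g : Perm α} {a b c : α}, a ≠ b → a ≠ c → b ≠ c → f a = a → f b = b → f c = c → g a = a →
      g b = b → g c = c → Half f g → Half (f * swap a b) (g * swap a c) := by
    intro f g a b c hab hac hbc hfa hfb hfc hga hgb hgc h S col hC
    have hFc : (f * swap a b) c = c := by rw [mul_swap_apply hac.symm hbc.symm, hfc]
    have hc : c ∉ S := hC.not_fixed hFc
    have ha : a ∉ S := fun hS => hc (by
      have := (hC a hS).2.1
      rwa [mul_swap_left, hgc] at this)
    have hb : b ∉ S := fun hS => ha (by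
      have := (hC b hS).1
      rwa [mul_swap_right, hfa] at this)
    refine h S col fun p hp => ?_
    have h1 : p ≠ a := fun e => ha (e ▸ hp)
    have := hC p hp
    have h2 : p ≠ b := fun e => hb (e ▸ hp)
    have h3 : p ≠ c := fun e => hc (e ▸ hp)
    rwa [mul_swap_apply h1 h2, mul_swap_apply h1 h3] at this
  exact ⟨key hab hac hbc hfa hfb hfc hga hgb hgc h.1, key hac hab hbc.symm hga hgc hgb hfa hfc hfb h.2⟩

/-- Lengthening a path at an end by two points. -/
theorem good_extend {f g : Perm α} {a b d : α} (hab : a ≠ b) (had : a ≠ d) (hbd : b ≠ d)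
    (hfa : f a = a) (hfb : f b = b) (hfd : f d = d) (hga : g a = a) (hgb : g b = b)
    (h : Good f g) : Good (f * swap b d) (g * swap a b) := by
  constructor
  · intro S c hC
    have hFa : (f * swap b d) a = a := by rw [mul_swap_apply hab had, hfa]
    have ha : a ∉ S := hC.not_fixed hFa
    have hb : b ∉ S := fun hS => ha (by
      have := (hC b hS).2.1
      rwa [mul_swap_right, hga] at this)
    have hd : d ∉ S := fun hS => hb (by
      have := (hC d hS).1
      rwa [mul_swap_right, hfb] at this)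
    refine h.1 S c fun p hp => ?_
    have h2 : p ≠ b := fun e => hb (e ▸ hp)
    have := hC p hp
    have h1 : p ≠ a := fun e => ha (e ▸ hp)
    have h3 : p ≠ d := fun e => hd (e ▸ hp)
    rwa [mul_swap_apply h2 h3, mul_swap_apply h1 h2] at this
  · intro S c hC
    have hG : ∀ p, p ≠ a → p ≠ b → (g * swap a b) p = g p := fun p h1 h2 => mul_swap_apply h1 h2
    have hsub : Col g f {p | p ∈ S ∧ p ≠ a ∧ p ≠ b} c := by
      rintro p ⟨hp, h1, h2⟩
      obtain ⟨g1, f1, g2, f2⟩ := hC p hp
      rw [hG p h1 h2] at g1 g2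
      refine ⟨⟨g1, ne_of_fixed hga h1, ne_of_fixed hgb h2⟩, ?_⟩
      by_cases hpd : p = d
      · subst hpd
        rw [hfd]
        exact ⟨⟨hp, h1, h2⟩, g2, rfl⟩
      · rw [mul_swap_apply h2 hpd] at f1 f2
        exact ⟨⟨f1, ne_of_fixed hfa h1, ne_of_fixed hfb h2⟩, g2, f2⟩
    have hnone := h.2 _ c hsub
    have hd : d ∉ S := fun hS => hnone d ⟨hS, had.symm, hbd.symm⟩
    have hb : b ∉ S := fun hS => hd (by
      have := (hC b hS).2.1
      rwa [mul_swap_left, hfd] at this)
    have ha : a ∉ S := fun hS => hb (by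
      have := (hC a hS).1
      rwa [mul_swap_left, hgb] at this)
    exact fun p hp => hnone p ⟨hp, fun e => ha (e ▸ hp), fun e => hb (e ▸ hp)⟩

/-- Replacing an edge by an alternating path of five edges. -/
theorem good_contract {f g : Perm α} {q0 q1 q2 q3 q4 q5 : α} (hn : [q0, q1, q2, q3, q4, q5].Nodup)
    (f0 : f q0 = q0) (f1 : f q1 = q1) (f2 : f q2 = q2) (f3 : f q3 = q3) (f4 : f q4 = q4) (f5 : f q5 = q5)
    (g1 : g q1 = q1) (g2 : g q2 = q2) (g3 : g q3 = q3) (g4 : g q4 = q4)
    (h : Good (f * swap q0 q5) g) :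
    Good (f * swap q0 q1 * swap q2 q3 * swap q4 q5) (g * swap q1 q2 * swap q3 q4) := by
  simp only [List.nodup_cons, List.mem_cons, List.not_mem_nil, or_false, not_or, List.nodup_nil,
    and_true, not_false_eq_true] at hn
  simp only [← ne_eq] at hn
  obtain ⟨⟨n01, n02, n03, n04, n05⟩, ⟨n12, n13, n14, n15⟩, ⟨n23, n24, n25⟩, ⟨n34, n35⟩, n45⟩ := hn
  set F := f * swap q0 q1 * swap q2 q3 * swap q4 q5 with hFdef
  set G := g * swap q1 q2 * swap q3 q4 with hGdef
  have F0 : F q0 = q1 := by
    rw [hFdef, mul_swap_apply n04 n05, mul_swap_apply n02 n03, mul_swap_left, f1]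
  have F1 : F q1 = q0 := by
    rw [hFdef, mul_swap_apply n14 n15, mul_swap_apply n12 n13, mul_swap_right, f0]
  have F2 : F q2 = q3 := by
    rw [hFdef, mul_swap_apply n24 n25, mul_swap_left, mul_swap_apply n03.symm n13.symm, f3]
  have F3 : F q3 = q2 := by
    rw [hFdef, mul_swap_apply n34 n35, mul_swap_right, mul_swap_apply n02.symm n12.symm, f2]
  have F4 : F q4 = q5 := by
    rw [hFdef, mul_swap_left, mul_swap_apply n25.symm n35.symm, mul_swap_apply n05.symm n15.symm, f5]
  have F5 : F q5 = q4 := by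
    rw [hFdef, mul_swap_right, mul_swap_apply n24.symm n34.symm, mul_swap_apply n04.symm n14.symm, f4]
  have G1 : G q1 = q2 := by rw [hGdef, mul_swap_apply n13 n14, mul_swap_left, g2]
  have G2 : G q2 = q1 := by rw [hGdef, mul_swap_apply n23 n24, mul_swap_right, g1]
  have G3 : G q3 = q4 := by rw [hGdef, mul_swap_left, mul_swap_apply n14.symm n24.symm, g4]
  have G4 : G q4 = q3 := by rw [hGdef, mul_swap_right, mul_swap_apply n13.symm n23.symm, g3]
  set K := fun p => p ≠ q1 ∧ p ≠ q2 ∧ p ≠ q3 ∧ p ≠ q4 with hK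
  have hG : ∀ p, K p → G p = g p ∧ K (g p) := fun p ⟨h1, h2, h3, h4⟩ => by
    refine ⟨by rw [hGdef, mul_swap_apply h3 h4, mul_swap_apply h1 h2], ?_⟩
    exact ⟨ne_of_fixed g1 h1, ne_of_fixed g2 h2, ne_of_fixed g3 h3, ne_of_fixed g4 h4⟩
  have hF : ∀ p, K p → p ≠ q0 → p ≠ q5 → F p = (f * swap q0 q5) p ∧ K ((f * swap q0 q5) p) :=
    fun p ⟨h1, h2, h3, h4⟩ h0 h5 => by
    refine ⟨by rw [hFdef, mul_swap_apply h4 h5, mul_swap_apply h2 h3, mul_swap_apply h0 h1, mul_swap_apply h0 h5], ?_⟩
    rw [mul_swap_apply h0 h5]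
    exact ⟨ne_of_fixed f1 h1, ne_of_fixed f2 h2, ne_of_fixed f3 h3, ne_of_fixed f4 h4⟩
  have k0 : K q0 := ⟨n01, n02, n03, n04⟩
  have k5 : K q5 := ⟨n15.symm, n25.symm, n35.symm, n45.symm⟩
  constructor
  · intro S c hC
    have hsub : Col (f * swap q0 q5) g {p | p ∈ S ∧ K p} c := by
      rintro p ⟨hp, hk⟩
      obtain ⟨a1, b1, a2, b2⟩ := hC p hp
      obtain ⟨hg, hgk⟩ := hG p hk
      rw [hg] at b1 b2
      by_cases h0 : p = q0
      · subst h0
        rw [mul_swap_left, f5]
        rw [F0] at a1 a2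
        obtain ⟨-, c1, -, c2⟩ := hC _ a1; rw [G1] at c1 c2
        obtain ⟨d1, -, d2, -⟩ := hC _ c1; rw [F2] at d1 d2
        obtain ⟨-, e1, -, e2⟩ := hC _ d1; rw [G3] at e1 e2
        obtain ⟨i1, -, i2, -⟩ := hC _ e1; rw [F4] at i1 i2
        exact ⟨⟨i1, k5⟩, ⟨b1, hgk⟩, by rw [i2, e2, d2, c2, a2]; simp, b2⟩
      by_cases h5 : p = q5
      · subst h5
        rw [mul_swap_right, f0]
        rw [F5] at a1 a2
        obtain ⟨-, c1, -, c2⟩ := hC _ a1; rw [G4] at c1 c2
        obtain ⟨d1, -, d2, -⟩ := hC _ c1; rw [F3] at d1 d2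
        obtain ⟨-, e1, -, e2⟩ := hC _ d1; rw [G2] at e1 e2
        obtain ⟨i1, -, i2, -⟩ := hC _ e1; rw [F1] at i1 i2
        exact ⟨⟨i1, k0⟩, ⟨b1, hgk⟩, by rw [i2, e2, d2, c2, a2]; simp, b2⟩
      obtain ⟨hf, hfk⟩ := hF p hk h0 h5
      rw [hf] at a1 a2
      exact ⟨⟨a1, hfk⟩, ⟨b1, hgk⟩, a2, b2⟩
    have hnone := h.1 _ c hsub
    have e0 : q0 ∉ S := fun hS => hnone q0 ⟨hS, k0⟩
    have e1 : q1 ∉ S := fun hS => e0 (F1 ▸ (hC _ hS).1)
    have e2 : q2 ∉ S := fun hS => e1 (G2 ▸ (hC _ hS).2.1)
    have e3 : q3 ∉ S := fun hS => e2 (F3 ▸ (hC _ hS).1)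
    have e4 : q4 ∉ S := fun hS => e3 (G4 ▸ (hC _ hS).2.1)
    exact fun p hp => hnone p ⟨hp, fun e => e1 (e ▸ hp), fun e => e2 (e ▸ hp), fun e => e3 (e ▸ hp),
      fun e => e4 (e ▸ hp)⟩
  · intro S c hC
    have hsub : Col g (f * swap q0 q5) {p | p ∈ S ∧ K p} c := by
      rintro p ⟨hp, hk⟩
      obtain ⟨b1, a1, b2, a2⟩ := hC p hp
      obtain ⟨hg, hgk⟩ := hG p hk
      rw [hg] at b1 b2
      by_cases h0 : p = q0
      · subst h0
        rw [mul_swap_left, f5]
        rw [F0] at a1 a2
        obtain ⟨c1, -, c2, -⟩ := hC _ a1; rw [G1] at c1 c2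
        obtain ⟨-, d1, -, d2⟩ := hC _ c1; rw [F2] at d1 d2
        obtain ⟨e1, -, e2, -⟩ := hC _ d1; rw [G3] at e1 e2
        obtain ⟨-, i1, -, i2⟩ := hC _ e1; rw [F4] at i1 i2
        exact ⟨⟨b1, hgk⟩, ⟨i1, k5⟩, b2, by rw [i2, e2, d2, c2, a2]; simp⟩
      by_cases h5 : p = q5
      · subst h5
        rw [mul_swap_right, f0]
        rw [F5] at a1 a2
        obtain ⟨c1, -, c2, -⟩ := hC _ a1; rw [G4] at c1 c2
        obtain ⟨-, d1, -, d2⟩ := hC _ c1; rw [F3] at d1 d2
        obtain ⟨e1, -, e2, -⟩ := hC _ d1; rw [G2] at e1 e2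
        obtain ⟨-, i1, -, i2⟩ := hC _ e1; rw [F1] at i1 i2
        exact ⟨⟨b1, hgk⟩, ⟨i1, k0⟩, b2, by rw [i2, e2, d2, c2, a2]; simp⟩
      obtain ⟨hf, hfk⟩ := hF p hk h0 h5
      rw [hf] at a1 a2
      exact ⟨⟨b1, hgk⟩, ⟨a1, hfk⟩, b2, a2⟩
    have hnone := h.2 _ c hsub
    have e0 : q0 ∉ S := fun hS => hnone q0 ⟨hS, k0⟩
    have e1 : q1 ∉ S := fun hS => e0 (F1 ▸ (hC _ hS).2.1)
    have e2 : q2 ∉ S := fun hS => e1 (G2 ▸ (hC _ hS).1)
    have e3 : q3 ∉ S := fun hS => e2 (F3 ▸ (hC _ hS).2.1)
    have e4 : q4 ∉ S := fun hS => e3 (G4 ▸ (hC _ hS).1)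
    exact fun p hp => hnone p ⟨hp, fun e => e1 (e ▸ hp), fun e => e2 (e ▸ hp), fun e => e3 (e ▸ hp),
      fun e => e4 (e ▸ hp)⟩

/-- Absorbing a four-cycle into an edge. -/
theorem good_splice_edge {f g : Perm α} {a b c d u v : α} (hn : [a, b, c, d, u, v].Nodup)
    (fa : f a = a) (fb : f b = b) (fc : f c = c) (fd : f d = d)
    (ga : g a = a) (gb : g b = b) (gc : g c = c) (gd : g d = d) (gu : g u = u) (gv : g v = v)
    (h : Good f (g * swap u v)) :
    Good (f * swap a b * swap c d) (g * swap a c * swap b u * swap d v) := by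
  simp only [List.nodup_cons, List.mem_cons, List.not_mem_nil, or_false, not_or, List.nodup_nil,
    and_true, not_false_eq_true] at hn
  simp only [← ne_eq] at hn
  obtain ⟨⟨nab, nac, nad, nau, nav⟩, ⟨nbc, nbd, nbu, nbv⟩, ⟨ncd, ncu, ncv⟩, ⟨ndu, ndv⟩, nuv⟩ := hn
  set F := f * swap a b * swap c d with hFdef
  set G := g * swap a c * swap b u * swap d v with hGdef
  have Fa : F a = b := by rw [hFdef, mul_swap_apply nac nad, mul_swap_left, fb]
  have Fb : F b = a := by rw [hFdef, mul_swap_apply nbc nbd, mul_swap_right, fa]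
  have Fc : F c = d := by rw [hFdef, mul_swap_left, mul_swap_apply nad.symm nbd.symm, fd]
  have Fd : F d = c := by rw [hFdef, mul_swap_right, mul_swap_apply nac.symm nbc.symm, fc]
  have Ga : G a = c := by rw [hGdef, mul_swap_apply nad nav, mul_swap_apply nab nau, mul_swap_left, gc]
  have Gc : G c = a := by rw [hGdef, mul_swap_apply ncd ncv, mul_swap_apply nbc.symm ncu, mul_swap_right, ga]
  have Gb : G b = u := by rw [hGdef, mul_swap_apply nbd nbv, mul_swap_left, mul_swap_apply nau.symm ncu.symm, gu]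
  have Gu : G u = b := by rw [hGdef, mul_swap_apply ndu.symm nuv, mul_swap_right, mul_swap_apply nab.symm nbc, gb]
  have Gd : G d = v := by rw [hGdef, mul_swap_left, mul_swap_apply nbv.symm nuv.symm, mul_swap_apply nav.symm ncv.symm, gv]
  have Gv : G v = d := by rw [hGdef, mul_swap_right, mul_swap_apply nbd.symm ndu, mul_swap_apply nad.symm ncd.symm, gd]
  set K := fun p => p ≠ a ∧ p ≠ b ∧ p ≠ c ∧ p ≠ d with hK
  have hF : ∀ p, K p → F p = f p ∧ K (f p) := fun p ⟨h1, h2, h3, h4⟩ => by
    refine ⟨by rw [hFdef, mul_swap_apply h3 h4, mul_swap_apply h1 h2], ?_⟩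
    exact ⟨ne_of_fixed fa h1, ne_of_fixed fb h2, ne_of_fixed fc h3, ne_of_fixed fd h4⟩
  have hG : ∀ p, K p → p ≠ u → p ≠ v → G p = (g * swap u v) p ∧ K ((g * swap u v) p) :=
    fun p ⟨h1, h2, h3, h4⟩ hu hv => by
    refine ⟨by rw [hGdef, mul_swap_apply h4 hv, mul_swap_apply h2 hu, mul_swap_apply h1 h3, mul_swap_apply hu hv], ?_⟩
    rw [mul_swap_apply hu hv]
    exact ⟨ne_of_fixed ga h1, ne_of_fixed gb h2, ne_of_fixed gc h3, ne_of_fixed gd h4⟩
  have ku : K u := ⟨nau.symm, nbu.symm, ncu.symm, ndu.symm⟩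
  have kv : K v := ⟨nav.symm, nbv.symm, ncv.symm, ndv.symm⟩
  constructor
  · intro S col hC
    have hsub : Col f (g * swap u v) {p | p ∈ S ∧ K p} col := by
      rintro p ⟨hp, hk⟩
      obtain ⟨a1, b1, a2, b2⟩ := hC p hp
      obtain ⟨hf, hfk⟩ := hF p hk
      rw [hf] at a1 a2
      by_cases hu : p = u
      · subst hu
        rw [mul_swap_left, gv]
        rw [Gu] at b1 b2
        obtain ⟨c1, -, c2, -⟩ := hC _ b1; rw [Fb] at c1 c2
        obtain ⟨-, d1, -, d2⟩ := hC _ c1; rw [Ga] at d1 d2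
        obtain ⟨e1, -, e2, -⟩ := hC _ d1; rw [Fc] at e1 e2
        obtain ⟨-, i1, -, i2⟩ := hC _ e1; rw [Gd] at i1 i2
        exact ⟨⟨a1, hfk⟩, ⟨i1, kv⟩, a2, by rw [i2, e2, d2, c2, b2]; simp⟩
      by_cases hv : p = v
      · subst hv
        rw [mul_swap_right, gu]
        rw [Gv] at b1 b2
        obtain ⟨c1, -, c2, -⟩ := hC _ b1; rw [Fd] at c1 c2
        obtain ⟨-, d1, -, d2⟩ := hC _ c1; rw [Gc] at d1 d2
        obtain ⟨e1, -, e2, -⟩ := hC _ d1; rw [Fa] at e1 e2
        obtain ⟨-, i1, -, i2⟩ := hC _ e1; rw [Gb] at i1 i2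
        exact ⟨⟨a1, hfk⟩, ⟨i1, ku⟩, a2, by rw [i2, e2, d2, c2, b2]; simp⟩
      obtain ⟨hg, hgk⟩ := hG p hk hu hv
      rw [hg] at b1 b2
      exact ⟨⟨a1, hfk⟩, ⟨b1, hgk⟩, a2, b2⟩
    have hnone := h.1 _ col hsub
    have eu : u ∉ S := fun hS => hnone u ⟨hS, ku⟩
    have eb : b ∉ S := fun hS => eu (Gb ▸ (hC _ hS).2.1)
    have ea : a ∉ S := fun hS => eb (Fa ▸ (hC _ hS).1)
    have ec : c ∉ S := fun hS => ea (Gc ▸ (hC _ hS).2.1)
    have ed : d ∉ S := fun hS => ec (Fd ▸ (hC _ hS).1)
    exact fun p hp => hnone p ⟨hp, fun e => ea (e ▸ hp), fun e => eb (e ▸ hp), fun e => ec (e ▸ hp),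
      fun e => ed (e ▸ hp)⟩
  · intro S col hC
    have hsub : Col (g * swap u v) f {p | p ∈ S ∧ K p} col := by
      rintro p ⟨hp, hk⟩
      obtain ⟨b1, a1, b2, a2⟩ := hC p hp
      obtain ⟨hf, hfk⟩ := hF p hk
      rw [hf] at a1 a2
      by_cases hu : p = u
      · subst hu
        rw [mul_swap_left, gv]
        rw [Gu] at b1 b2
        obtain ⟨-, c1, -, c2⟩ := hC _ b1; rw [Fb] at c1 c2
        obtain ⟨d1, -, d2, -⟩ := hC _ c1; rw [Ga] at d1 d2
        obtain ⟨-, e1, -, e2⟩ := hC _ d1; rw [Fc] at e1 e2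
        obtain ⟨i1, -, i2, -⟩ := hC _ e1; rw [Gd] at i1 i2
        exact ⟨⟨i1, kv⟩, ⟨a1, hfk⟩, by rw [i2, e2, d2, c2, b2]; simp, a2⟩
      by_cases hv : p = v
      · subst hv
        rw [mul_swap_right, gu]
        rw [Gv] at b1 b2
        obtain ⟨-, c1, -, c2⟩ := hC _ b1; rw [Fd] at c1 c2
        obtain ⟨d1, -, d2, -⟩ := hC _ c1; rw [Gc] at d1 d2
        obtain ⟨-, e1, -, e2⟩ := hC _ d1; rw [Fa] at e1 e2
        obtain ⟨i1, -, i2, -⟩ := hC _ e1; rw [Gb] at i1 i2
        exact ⟨⟨i1, ku⟩, ⟨a1, hfk⟩, by rw [i2, e2, d2, c2, b2]; simp, a2⟩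
      obtain ⟨hg, hgk⟩ := hG p hk hu hv
      rw [hg] at b1 b2
      exact ⟨⟨b1, hgk⟩, ⟨a1, hfk⟩, b2, a2⟩
    have hnone := h.2 _ col hsub
    have eu : u ∉ S := fun hS => hnone u ⟨hS, ku⟩
    have eb : b ∉ S := fun hS => eu (Gb ▸ (hC _ hS).1)
    have ea : a ∉ S := fun hS => eb (Fa ▸ (hC _ hS).2.1)
    have ec : c ∉ S := fun hS => ea (Gc ▸ (hC _ hS).1)
    have ed : d ∉ S := fun hS => ec (Fd ▸ (hC _ hS).2.1)
    exact fun p hp => hnone p ⟨hp, fun e => ea (e ▸ hp), fun e => eb (e ▸ hp), fun e => ec (e ▸ hp),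
      fun e => ed (e ▸ hp)⟩

/-- Absorbing a four-cycle at a fixed point. -/
theorem good_splice_fix {f g : Perm α} {a b c d u : α} (hn : [a, b, c, d, u].Nodup)
    (fa : f a = a) (fb : f b = b) (fc : f c = c) (fd : f d = d)
    (ga : g a = a) (gb : g b = b) (gc : g c = c) (gd : g d = d) (gu : g u = u)
    (h : Good f g) :
    Good (f * swap a b * swap c d) (g * swap a c * swap b u) := by
  simp only [List.nodup_cons, List.mem_cons, List.not_mem_nil, or_false, not_or, List.nodup_nil,
    and_true, not_false_eq_true] at hn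
  simp only [← ne_eq] at hn
  obtain ⟨⟨nab, nac, nad, nau⟩, ⟨nbc, nbd, nbu⟩, ⟨ncd, ncu⟩, ndu⟩ := hn
  set F := f * swap a b * swap c d with hFdef
  set G := g * swap a c * swap b u with hGdef
  have Fa : F a = b := by rw [hFdef, mul_swap_apply nac nad, mul_swap_left, fb]
  have Fb : F b = a := by rw [hFdef, mul_swap_apply nbc nbd, mul_swap_right, fa]
  have Fc : F c = d := by rw [hFdef, mul_swap_left, mul_swap_apply nad.symm nbd.symm, fd]
  have Fd : F d = c := by rw [hFdef, mul_swap_right, mul_swap_apply nac.symm nbc.symm, fc]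
  have Ga : G a = c := by rw [hGdef, mul_swap_apply nab nau, mul_swap_left, gc]
  have Gc : G c = a := by rw [hGdef, mul_swap_apply nbc.symm ncu, mul_swap_right, ga]
  have Gb : G b = u := by rw [hGdef, mul_swap_left, mul_swap_apply nau.symm ncu.symm, gu]
  have Gu : G u = b := by rw [hGdef, mul_swap_right, mul_swap_apply nab.symm nbc, gb]
  have Gd : G d = d := by rw [hGdef, mul_swap_apply nbd.symm ndu, mul_swap_apply nad.symm ncd.symm, gd]
  set K := fun p => p ≠ a ∧ p ≠ b ∧ p ≠ c ∧ p ≠ d with hK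
  have hF : ∀ p, K p → F p = f p ∧ K (f p) := fun p ⟨h1, h2, h3, h4⟩ => by
    refine ⟨by rw [hFdef, mul_swap_apply h3 h4, mul_swap_apply h1 h2], ?_⟩
    exact ⟨ne_of_fixed fa h1, ne_of_fixed fb h2, ne_of_fixed fc h3, ne_of_fixed fd h4⟩
  have hG : ∀ p, K p → p ≠ u → G p = g p ∧ K (g p) := fun p ⟨h1, h2, h3, h4⟩ hu => by
    refine ⟨by rw [hGdef, mul_swap_apply h2 hu, mul_swap_apply h1 h3], ?_⟩
    exact ⟨ne_of_fixed ga h1, ne_of_fixed gb h2, ne_of_fixed gc h3, ne_of_fixed gd h4⟩
  have ku : K u := ⟨nau.symm, nbu.symm, ncu.symm, ndu.symm⟩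
  constructor
  · intro S col hC
    have hsub : Col f g {p | p ∈ S ∧ K p} col := by
      rintro p ⟨hp, hk⟩
      obtain ⟨a1, b1, a2, b2⟩ := hC p hp
      obtain ⟨hf, hfk⟩ := hF p hk
      rw [hf] at a1 a2
      by_cases hu : p = u
      · subst hu
        rw [gu]
        exact ⟨⟨a1, hfk⟩, ⟨hp, hk⟩, a2, rfl⟩
      obtain ⟨hg, hgk⟩ := hG p hk hu
      rw [hg] at b1 b2
      exact ⟨⟨a1, hfk⟩, ⟨b1, hgk⟩, a2, b2⟩
    have hnone := h.1 _ col hsub
    have eu : u ∉ S := fun hS => hnone u ⟨hS, ku⟩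
    have eb : b ∉ S := fun hS => eu (Gb ▸ (hC _ hS).2.1)
    have ea : a ∉ S := fun hS => eb (Fa ▸ (hC _ hS).1)
    have ec : c ∉ S := fun hS => ea (Gc ▸ (hC _ hS).2.1)
    have ed : d ∉ S := fun hS => ec (Fd ▸ (hC _ hS).1)
    exact fun p hp => hnone p ⟨hp, fun e => ea (e ▸ hp), fun e => eb (e ▸ hp), fun e => ec (e ▸ hp),
      fun e => ed (e ▸ hp)⟩
  · intro S col hC
    have ed : d ∉ S := hC.not_fixed Gd
    have ec : c ∉ S := fun hS => ed (Fc ▸ (hC _ hS).2.1)
    have ea : a ∉ S := fun hS => ec (Ga ▸ (hC _ hS).1)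
    have eb : b ∉ S := fun hS => ea (Fb ▸ (hC _ hS).2.1)
    have eu : u ∉ S := fun hS => eb (Gu ▸ (hC _ hS).1)
    refine h.2 S col fun p hp => ?_
    have hk : K p := ⟨fun e => ea (e ▸ hp), fun e => eb (e ▸ hp), fun e => ec (e ▸ hp), fun e => ed (e ▸ hp)⟩
    have := hC p hp
    rwa [(hF p hk).1, (hG p hk fun e => eu (e ▸ hp)).1] at this

end Build

section Core

variable [DecidableEq α]

/-- An involutive permutation fixing everything outside `R`. -/
def On (R : Finset α) (x : Perm α) : Prop := Involutive x ∧ ∀ p, p ∉ R → x p = p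

theorem On.mem {R : Finset α} {x : Perm α} (h : On R x) {p : α} (hp : p ∈ R) : x p ∈ R := by
  by_contra hc
  have := h.2 _ hc
  rw [h.1] at this
  exact hc (this ▸ hp)

theorem On.mem_of_ne {R : Finset α} {x : Perm α} (h : On R x) {p : α} (hp : x p ≠ p) : p ∈ R :=
  by_contra fun hc => hp (h.2 p hc)

theorem peel {R : Finset α} {x : Perm α} (h : On R x) {a b : α} (hab : x a = b) (hne : a ≠ b) :
    On (R \ {a, b}) (x * swap a b) ∧ x * swap a b * swap a b = x ∧ (x * swap a b) a = a ∧
      (x * swap a b) b = b ∧ ∀ p, p ≠ a → p ≠ b → (x * swap a b) p = x p := by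
  have hba : x b = a := by rw [← hab, h.1]
  have ha : (x * swap a b) a = a := by rw [mul_swap_left, hba]
  have hb : (x * swap a b) b = b := by rw [mul_swap_right, hab]
  refine ⟨⟨fun p => ?_, fun p hp => ?_⟩, by rw [mul_assoc, swap_mul_self, mul_one], ha, hb,
    fun p h1 h2 => mul_swap_apply h1 h2⟩
  · by_cases h1 : p = a
    · rw [h1, ha, ha]
    by_cases h2 : p = b
    · rw [h2, hb, hb]
    have e1 : x p ≠ a := fun e => h2 (by rw [← hab, ← e, h.1])
    have e2 : x p ≠ b := fun e => h1 (x.injective (e.trans hab.symm))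
    rw [mul_swap_apply h1 h2, mul_swap_apply e1 e2, h.1]
  · by_cases h1 : p = a
    · rw [h1, ha]
    by_cases h2 : p = b
    · rw [h2, hb]
    rw [mul_swap_apply h1 h2]
    exact h.2 p fun hR => hp (by simp [hR, h1, h2])

theorem On.mul_swap {R : Finset α} {z : Perm α} (h : On R z) {a b : α} (ha : z a = a) (hb : z b = b) :
    On (R ∪ {a, b}) (z * swap a b) := by
  refine ⟨fun p => ?_, fun p hp => ?_⟩
  · by_cases h1 : p = a
    · rw [h1, mul_swap_left, hb, mul_swap_right, ha]
    by_cases h2 : p = b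
    · rw [h2, mul_swap_right, ha, mul_swap_left, hb]
    rw [mul_swap_apply h1 h2, mul_swap_apply (ne_of_fixed ha h1) (ne_of_fixed hb h2), h.1]
  · simp only [Finset.mem_union, Finset.mem_insert, Finset.mem_singleton, not_or] at hp
    rw [mul_swap_apply hp.2.1 hp.2.2]
    exact h.2 p hp.1

theorem On.mono {R R' : Finset α} {z : Perm α} (h : On R z) (hR : R ⊆ R') : On R' z :=
  ⟨h.1, fun p hp => h.2 p fun hc => hp (hR hc)⟩

variable [Fintype α]

theorem card_mul_swap {z : Perm α} {a b : α} (ha : z a = a) (hb : z b = b) (hab : a ≠ b) :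
    (z * swap a b).support.card = z.support.card + 2 := by
  have hd : Perm.Disjoint z (swap a b) := fun p => by
    by_cases h1 : p = a
    · exact Or.inl (h1 ▸ ha)
    by_cases h2 : p = b
    · exact Or.inl (h2 ▸ hb)
    exact Or.inr (swap_apply_of_ne_of_ne h1 h2)
  rw [hd.card_support_mul, Perm.card_support_swap hab]

/-- The exceptional configuration: a four-cycle and nothing else. -/
def Exc (R : Finset α) (x y : Perm α) : Prop := R.card = 4 ∧ ∀ p ∈ R, x p ≠ p ∧ y p ≠ p ∧ x p ≠ y p

/-- A four-cycle component. -/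
def Four (x y : Perm α) (a : α) : Prop := x a ≠ a ∧ y a ≠ a ∧ x a ≠ y a ∧ y (x a) = x (y a)

theorem Exc.four {R : Finset α} {x y : Perm α} (h : Exc R x y) (hx : On R x) (hy : On R y) {a : α} (ha : a ∈ R) :
    Four x y a := by
  obtain ⟨h1, h2, h3⟩ := h.2 a ha
  refine ⟨h1, h2, h3, ?_⟩
  by_contra hne
  have hxa := hx.mem ha; have hya := hy.mem ha
  obtain ⟨g1, g2, g3⟩ := h.2 _ hxa
  obtain ⟨k1, k2, k3⟩ := h.2 _ hya
  have e1 : y (x a) ≠ a := fun e => g3 (by rw [e, hx.1])
  have e2 : y (x a) ≠ y a := fun e => h1 (y.injective e)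
  have e3 : x (y a) ≠ a := fun e => k3 (by rw [e, hy.1])
  have e4 : x (y a) ≠ x a := fun e => h2 (x.injective e)
  have hsub : ({a, x a, y a, y (x a), x (y a)} : Finset α) ⊆ R := by
    intro p hp
    simp only [Finset.mem_insert, Finset.mem_singleton] at hp
    rcases hp with rfl | rfl | rfl | rfl | rfl
    exacts [ha, hxa, hya, hy.mem hxa, hx.mem hya]
  have := Finset.card_le_card hsub
  rw [h.1] at this
  have h5 : ({a, x a, y a, y (x a), x (y a)} : Finset α).card = 5 := by
    rw [Finset.card_insert_of_notMem, Finset.card_insert_of_notMem, Finset.card_insert_of_notMem,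
      Finset.card_insert_of_notMem, Finset.card_singleton] <;>
      simp [hne, h3, h1.symm, h2.symm, e1.symm, e3.symm, e2.symm, e4.symm, g2.symm, k1.symm]
  omega

theorem Four.transfer {x y x' y' : Perm α} {a : α} (h : Four x' y' a) (h1 : x a = x' a) (h2 : y a = y' a)
    (h3 : y (x' a) = y' (x' a)) (h4 : x (y' a) = x' (y' a)) : Four x y a := by
  unfold Four at *
  rw [h1, h2, h3, h4]
  exact h

/-- A third involution with the same number of moved points and odd products with both. -/
def Sol (R : Finset α) (x y : Perm α) : Prop :=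
  ∃ z, On R z ∧ z.support.card = x.support.card ∧ Good x z ∧ Good y z

/-- The statement to be proved by induction. -/
def Holds (R : Finset α) : Prop :=
  ∀ x y : Perm α, On R x → On R y → x.support.card = y.support.card → ¬ Exc R x y → Sol R x y

theorem Sol.swap {R : Finset α} {x y : Perm α} (h : Sol R x y) (hc : x.support.card = y.support.card) :
    Sol R y x := by
  obtain ⟨z, hz, hzc, h1, h2⟩ := h
  exact ⟨z, hz, hzc.trans hc, h2, h1⟩

theorem card_sdiff_lt {R : Finset α} {A : Finset α} {a : α} (ha : a ∈ R) (hA : a ∈ A) :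
    (R \ A).card < R.card :=
  Finset.card_lt_card ⟨Finset.sdiff_subset, fun h => (Finset.mem_sdiff.mp (h ha)).2 hA⟩

variable {R : Finset α} {x y : Perm α}

theorem endpoint_step (hx : On R x) (hy : On R y) (hc : x.support.card = y.support.card)
    (IH : ∀ R' : Finset α, R'.card < R.card → Holds R') {a : α}
    (hxa : x a ≠ a) (hya : y a = a) (hb : y (x a) ≠ x a) : Sol R x y := by
  set b := x a with hbdef
  set d := y b with hddef
  have haR := hx.mem_of_ne hxa
  have hbR : b ∈ R := hx.mem haR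
  have hab : a ≠ b := Ne.symm hxa
  have hbd : b ≠ d := Ne.symm hb
  have had : a ≠ d := fun e => hab (by
    have h := congrArg y e
    rwa [hya, hddef, hy.1] at h)
  obtain ⟨hx', hxe, xa, xb, hxo⟩ := peel hx hbdef.symm hab
  obtain ⟨hy', hye, yb, yd, hyo⟩ := peel hy hddef.symm hbd
  set x' := x * Equiv.swap a b
  set y' := y * Equiv.swap b d
  set R' := R \ {a, b}
  have hy'R : On R' y' := by
    refine ⟨hy'.1, fun p hp => ?_⟩
    by_cases h1 : p = a
    · rw [h1, hyo a hab had, hya]
    by_cases h2 : p = b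
    · rw [h2]; exact yb
    exact hy'.2 p fun hR => hp (by simp [R', (Finset.mem_sdiff.mp hR).1, h1, h2])
  have hdR' : d ∈ R' := Finset.mem_sdiff.mpr ⟨hy.mem hbR, by simp [had.symm, hbd.symm]⟩
  obtain ⟨z, hz, hzc, g1, g2⟩ := IH R' (card_sdiff_lt haR (Finset.mem_insert_self a _)) x' y' hx' hy'R
    (by
      have e1 := card_mul_swap xa xb hab
      have e2 := card_mul_swap yb yd hbd
      rw [hxe] at e1; rw [hye] at e2; omega)
    (fun h => (h.2 d hdR').2.1 yd)
  have za : z a = a := hz.2 a (by simp [R'])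
  have zb : z b = b := hz.2 b (by simp [R'])
  refine ⟨z * Equiv.swap a b, (hz.mul_swap za zb).mono (by
    intro p hp
    simp only [Finset.mem_union, Finset.mem_insert, Finset.mem_singleton, R', Finset.mem_sdiff] at hp
    rcases hp with h | rfl | rfl
    exacts [h.1, haR, hbR]), ?_, ?_, ?_⟩
  · have e1 := card_mul_swap xa xb hab
    rw [hxe] at e1
    rw [card_mul_swap za zb hab, hzc, e1]
  · have := good_add_double xa xb za zb g1
    rwa [hxe] at this
  · have := good_extend hab had hbd (hy'R.2 a (by simp [R'])) yb yd za zb g2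
    rwa [hye] at this

theorem four_step (hx : On R x) (hy : On R y) (hc : x.support.card = y.support.card) (hne : ¬ Exc R x y)
    (IH : ∀ R' : Finset α, R'.card < R.card → Holds R') {a : α} (h : Four x y a) : Sol R x y := by
  obtain ⟨hxa, hya, hxy, hsq⟩ := h
  set b := x a with hbdef
  set d := y a with hddef
  set c := x d with hcdef
  have haR := hx.mem_of_ne hxa
  have hbR : b ∈ R := hx.mem haR
  have hdR : d ∈ R := hy.mem haR
  have hcR : c ∈ R := hx.mem hdR
  have hyb : y b = c := hsq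
  have hxb : x b = a := hx.1 a
  have hyd : y d = a := hy.1 a
  have hxc : x c = d := hx.1 d
  have hyc : y c = b := by rw [← hyb, hy.1]
  have nab : a ≠ b := Ne.symm hxa
  have nad : a ≠ d := Ne.symm hya
  have nbd : b ≠ d := hxy
  have nac : a ≠ c := fun e => nbd (by rw [hbdef, e, hxc])
  have nbc : b ≠ c := fun e => nad (x.injective (hbdef.symm.trans (e.trans hcdef)))
  have ncd : c ≠ d := fun e => nbd (by
    have h := congrArg x e
    rw [hxc, ← hcdef, e] at h
    have h2 := congrArg y e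
    rw [hyc, hyd] at h2
    exact absurd h2 nab.symm)
  obtain ⟨hx1, hx1e, x1c, x1d, hx1o⟩ := peel hx hxc ncd
  obtain ⟨hx0, hx0e, x0a, x0b, hx0o⟩ := peel hx1 (show (x * Equiv.swap c d) a = b by rw [hx1o a nac nad]) nab
  obtain ⟨hy1, hy1e, y1a, y1d, hy1o⟩ := peel hy hddef.symm nad
  obtain ⟨hy0, hy0e, y0c, y0b, hy0o⟩ := peel hy1 (show (y * Equiv.swap a d) c = b by rw [hy1o c nac.symm ncd, hyc]) nbc.symm
  set x1 := x * Equiv.swap c d
  set x0 := x1 * Equiv.swap a b
  set y1 := y * Equiv.swap a d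
  set y0 := y1 * Equiv.swap c b
  have x0c : x0 c = c := (hx0o c nac.symm nbc.symm).trans x1c
  have x0d : x0 d = d := (hx0o d nad.symm nbd.symm).trans x1d
  have y0a : y0 a = a := (hy0o a nac nab).trans y1a
  have y0d : y0 d = d := (hy0o d ncd.symm nbd.symm).trans y1d
  set R' := R \ {a, b, c, d}
  have hR'0 : ∀ (w : Perm α), w a = a → w b = b → w c = c → w d = d → On R w → On R' w := fun w wa wb wc wd hw => by
    refine ⟨hw.1, fun p hp => ?_⟩
    by_cases h1 : p = a
    · rw [h1, wa]
    by_cases h2 : p = b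
    · rw [h2, wb]
    by_cases h3 : p = c
    · rw [h3, wc]
    by_cases h4 : p = d
    · rw [h4, wd]
    exact hw.2 p fun hR => hp (by simp [R', hR, h1, h2, h3, h4])
  have hX : On R' x0 := hR'0 x0 x0a x0b x0c x0d (hx0.mono (Finset.sdiff_subset.trans Finset.sdiff_subset))
  have hY : On R' y0 := hR'0 y0 y0a y0b y0c y0d (hy0.mono (Finset.sdiff_subset.trans Finset.sdiff_subset))
  have hcx : x.support.card = x0.support.card + 4 := by
    rw [← hx1e, card_mul_swap x1c x1d ncd, ← hx0e, card_mul_swap x0a x0b nab]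
  have hcy : y.support.card = y0.support.card + 4 := by
    rw [← hy1e, card_mul_swap y1a y1d nad, ← hy0e, card_mul_swap y0c y0b nbc.symm]
  have hxform : x = x0 * Equiv.swap a b * Equiv.swap c d := by rw [hx0e, hx1e]
  have hyform : y = y0 * Equiv.swap c b * Equiv.swap a d := by rw [hy0e, hy1e]
  have hsub : ∀ {p}, p ∈ R' → p ∈ R ∧ p ≠ a ∧ p ≠ b ∧ p ≠ c ∧ p ≠ d := fun {p} hp => by
    simp only [R', Finset.mem_sdiff, Finset.mem_insert, Finset.mem_singleton, not_or] at hp
    exact hp
  have hmono : ∀ {A : Finset α}, A ⊆ R → R' ∪ A ⊆ R := fun hA => Finset.union_subset Finset.sdiff_subset hA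
  by_cases hexc : Exc R' x0 y0
  · obtain ⟨e, he⟩ : R'.Nonempty := Finset.card_pos.mp (by rw [hexc.1]; norm_num)
    obtain ⟨-, hea, heb, hec, hed⟩ := hsub he
    obtain ⟨hxe', hye', hxye, hsqe⟩ := hexc.four hX hY he
    set f := x0 e with hfdef
    set h := y0 e with hhdef
    set g := x0 h with hgdef
    have hfR' : f ∈ R' := hX.mem he
    have hhR' : h ∈ R' := hY.mem he
    have hgR' : g ∈ R' := hX.mem hhR'
    obtain ⟨-, fa, fb, fc, fd⟩ := hsub hfR'
    obtain ⟨-, ha', hb', hc', hd'⟩ := hsub hhR'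
    obtain ⟨-, ga, gb, gc, gd⟩ := hsub hgR'
    have nef : e ≠ f := Ne.symm hxe'
    have neh : e ≠ h := Ne.symm hye'
    have nfh : f ≠ h := hxye
    have neg : e ≠ g := fun e' => nfh (by rw [hfdef, e', hgdef, hX.1])
    have nfg : f ≠ g := fun e' => neh (x0.injective (hfdef.symm.trans (e'.trans hgdef)))
    have ngh : g ≠ h := by
      intro e'
      have := (hexc.2 h hhR').1
      exact this (hgdef.symm.trans e')
    obtain ⟨hxA, hxAe, xAg, xAh, hxAo⟩ := peel hX (show x0 g = h by rw [hgdef, hX.1]) ngh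
    obtain ⟨hxB, hxBe, xBe, xBf, hxBo⟩ := peel hxA (show (x0 * Equiv.swap g h) e = f by rw [hxAo e neg neh]) nef
    obtain ⟨hyA, hyAe, yAe, yAh, hyAo⟩ := peel hY hhdef.symm neh
    obtain ⟨hyB, hyBe, yBf, yBg, hyBo⟩ := peel hyA (show (y0 * Equiv.swap e h) f = g by rw [hyAo f nef.symm nfh]; exact hsqe) nfg
    -- nothing is left
    have hall : ({e, f, g, h} : Finset α) = R' := by
      refine Finset.eq_of_subset_of_card_le ?_ (by
        rw [hexc.1, Finset.card_insert_of_notMem, Finset.card_insert_of_notMem, Finset.card_insert_of_notMem,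
          Finset.card_singleton] <;> simp [nef, neg, neh, nfg, nfh, ngh])
      intro p hp
      simp only [Finset.mem_insert, Finset.mem_singleton] at hp
      rcases hp with rfl | rfl | rfl | rfl
      exacts [he, hfR', hgR', hhR']
    have hxB1 : x0 * Equiv.swap g h * Equiv.swap e f = 1 := by
      refine Perm.ext fun p => ?_
      by_cases hp : p ∈ R'
      · rw [← hall] at hp
        simp only [Finset.mem_insert, Finset.mem_singleton] at hp
        rcases hp with rfl | rfl | rfl | rfl
        · exact xBe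
        · exact xBf
        · exact (hxBo _ neg.symm nfg.symm).trans xAg
        · exact (hxBo _ neh.symm nfh.symm).trans xAh
      · exact hxB.2 p fun hR => hp (Finset.mem_sdiff.mp (Finset.mem_sdiff.mp hR).1).1
    have hyB1 : y0 * Equiv.swap e h * Equiv.swap f g = 1 := by
      refine Perm.ext fun p => ?_
      by_cases hp : p ∈ R'
      · rw [← hall] at hp
        simp only [Finset.mem_insert, Finset.mem_singleton] at hp
        rcases hp with rfl | rfl | rfl | rfl
        · exact (hyBo _ nef neg).trans yAe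
        · exact yBf
        · exact yBg
        · exact (hyBo _ nfh.symm ngh.symm).trans yAh
      · exact hyB.2 p fun hR => hp (Finset.mem_sdiff.mp (Finset.mem_sdiff.mp hR).1).1
    have hx0f : x0 = Equiv.swap e f * Equiv.swap g h := by
      rw [← hxAe, ← hxBe, hxB1, one_mul]
    have hy0f : y0 = Equiv.swap f g * Equiv.swap e h := by
      rw [← hyAe, ← hyBe, hyB1, one_mul]
    have hdis : ∀ {p q r s : α}, p ≠ r → p ≠ s → q ≠ r → q ≠ s →
        Equiv.swap p q * Equiv.swap r s = Equiv.swap r s * Equiv.swap p q := by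
      intro p q r s h1 h2 h3 h4
      refine Perm.Disjoint.commute (fun w => ?_)
      by_cases hw1 : w = p
      · exact Or.inr (by rw [hw1, swap_apply_of_ne_of_ne h1 h2])
      by_cases hw2 : w = q
      · exact Or.inr (by rw [hw2, swap_apply_of_ne_of_ne h3 h4])
      exact Or.inl (swap_apply_of_ne_of_ne hw1 hw2)
    set z : Perm α := Equiv.swap a b * Equiv.swap f g * Equiv.swap c e * Equiv.swap d h with hzdef
    have h1R : On R (1 : Perm α) := ⟨fun _ => rfl, fun _ _ => rfl⟩
    have o1 : On R (Equiv.swap a b) := by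
      have := h1R.mul_swap (a := a) (b := b) rfl rfl
      rw [one_mul] at this
      exact this.mono (Finset.union_subset le_rfl (by simp [Finset.insert_subset_iff, haR, hbR]))
    have o2 : On R (Equiv.swap a b * Equiv.swap f g) :=
      (o1.mul_swap (swap_apply_of_ne_of_ne fa fb) (swap_apply_of_ne_of_ne ga gb)).mono
        (Finset.union_subset le_rfl (by simp [Finset.insert_subset_iff, (hsub hfR').1, (hsub hgR').1]))
    have o2c : (Equiv.swap a b * Equiv.swap f g) c = c := by
      rw [mul_swap_apply fc.symm gc.symm, swap_apply_of_ne_of_ne nac.symm nbc.symm]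
    have o2e : (Equiv.swap a b * Equiv.swap f g) e = e := by
      rw [mul_swap_apply nef neg, swap_apply_of_ne_of_ne hea heb]
    have o3 : On R (Equiv.swap a b * Equiv.swap f g * Equiv.swap c e) :=
      (o2.mul_swap o2c o2e).mono (Finset.union_subset le_rfl (by simp [Finset.insert_subset_iff, hcR, (hsub he).1]))
    have o3d : (Equiv.swap a b * Equiv.swap f g * Equiv.swap c e) d = d := by
      rw [mul_swap_apply ncd.symm hed.symm, mul_swap_apply fd.symm gd.symm, swap_apply_of_ne_of_ne nad.symm nbd.symm]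
    have o3h : (Equiv.swap a b * Equiv.swap f g * Equiv.swap c e) h = h := by
      rw [mul_swap_apply hc' neh.symm, mul_swap_apply nfh.symm ngh.symm, swap_apply_of_ne_of_ne ha' hb']
    have o4 : On R z :=
      (o3.mul_swap o3d o3h).mono (Finset.union_subset le_rfl (by simp [Finset.insert_subset_iff, hdR, (hsub hhR').1]))
    refine ⟨z, o4, ?_, ?_, ?_⟩
    · rw [hzdef, card_mul_swap o3d o3h (Ne.symm hd'), card_mul_swap o2c o2e (Ne.symm hec),
        card_mul_swap (swap_apply_of_ne_of_ne fa fb) (swap_apply_of_ne_of_ne ga gb) nfg, Perm.card_support_swap nab,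
        hcx, hx0f, card_mul_swap (swap_apply_of_ne_of_ne neg.symm nfg.symm) (swap_apply_of_ne_of_ne neh.symm nfh.symm) ngh,
        Perm.card_support_swap nef]
    · -- x: a double edge and a six-cycle c d h g f e
      have six : Good (Equiv.swap a b * Equiv.swap c d * Equiv.swap h g * Equiv.swap f e)
          (Equiv.swap a b * Equiv.swap c e * Equiv.swap d h * Equiv.swap g f) := by
        refine good_contract (q0 := c) (q1 := d) (q2 := h) (q3 := g) (q4 := f) (q5 := e) ?_ ?_ ?_ ?_ ?_ ?_ ?_ ?_ ?_ ?_ ?_ (good_self _)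
        · simp [ncd, hc'.symm, gc.symm, fc.symm, hec.symm, hd'.symm, gd.symm, fd.symm, hed.symm, ngh.symm, nfh.symm,
            neh.symm, nfg.symm, neg.symm, nef.symm]
        · exact swap_apply_of_ne_of_ne nac.symm nbc.symm
        · exact swap_apply_of_ne_of_ne nad.symm nbd.symm
        · exact swap_apply_of_ne_of_ne ha' hb'
        · exact swap_apply_of_ne_of_ne ga gb
        · exact swap_apply_of_ne_of_ne fa fb
        · exact swap_apply_of_ne_of_ne hea heb
        · rw [mul_swap_apply ncd.symm hed.symm, swap_apply_of_ne_of_ne nad.symm nbd.symm]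
        · rw [mul_swap_apply hc' neh.symm, swap_apply_of_ne_of_ne ha' hb']
        · rw [mul_swap_apply gc neg.symm, swap_apply_of_ne_of_ne ga gb]
        · rw [mul_swap_apply fc nef.symm, swap_apply_of_ne_of_ne fa fb]
      convert six using 1
      · rw [hxform, hx0f]
        simp only [swap_comm h g, swap_comm f e]
        calc Equiv.swap e f * Equiv.swap g h * Equiv.swap a b * Equiv.swap c d
            = Equiv.swap e f * Equiv.swap g h * (Equiv.swap a b * Equiv.swap c d) := by rw [mul_assoc]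
          _ = Equiv.swap a b * Equiv.swap c d * (Equiv.swap g h * Equiv.swap e f) := by
            rw [hdis neg neh nfg nfh]
            have c1 := hdis (p := g) (q := h) ga gb ha' hb'
            have c2 := hdis (p := e) (q := f) hea heb fa fb
            have c3 := hdis (p := g) (q := h) gc gd hc' hd'
            have c4 := hdis (p := e) (q := f) hec hed fc fd
            exact ((Commute.mul_right c1 c3).mul_left (Commute.mul_right c2 c4)).eq
          _ = _ := by rw [← mul_assoc]
      · rw [hzdef, swap_comm g f]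
        have c1 : Commute (Equiv.swap f g) (Equiv.swap c e) := hdis fc nef.symm gc neg.symm
        have c2 : Commute (Equiv.swap f g) (Equiv.swap d h) := hdis fd nfh gd ngh
        simp only [mul_assoc]
        rw [← mul_assoc (Equiv.swap f g) (Equiv.swap c e), c1.eq, mul_assoc, c2.eq]
    · -- y: a double edge and a six-cycle a d h e c b
      have six : Good (Equiv.swap f g * Equiv.swap a d * Equiv.swap h e * Equiv.swap c b)
          (Equiv.swap f g * Equiv.swap a b * Equiv.swap d h * Equiv.swap e c) := by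
        refine good_contract (q0 := a) (q1 := d) (q2 := h) (q3 := e) (q4 := c) (q5 := b) ?_ ?_ ?_ ?_ ?_ ?_ ?_ ?_ ?_ ?_ ?_ (good_self _)
        · simp [nad, ha'.symm, hea.symm, nac, nab, hd'.symm, hed.symm, ncd.symm, nbd.symm, neh.symm, hc', hb',
            hec, heb, nbc.symm]
        · exact swap_apply_of_ne_of_ne fa.symm ga.symm
        · exact swap_apply_of_ne_of_ne fd.symm gd.symm
        · exact swap_apply_of_ne_of_ne nfh.symm ngh.symm
        · exact swap_apply_of_ne_of_ne nef neg
        · exact swap_apply_of_ne_of_ne fc.symm gc.symm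
        · exact swap_apply_of_ne_of_ne fb.symm gb.symm
        · rw [mul_swap_apply nad.symm nbd.symm, swap_apply_of_ne_of_ne fd.symm gd.symm]
        · rw [mul_swap_apply ha' hb', swap_apply_of_ne_of_ne nfh.symm ngh.symm]
        · rw [mul_swap_apply hea heb, swap_apply_of_ne_of_ne nef neg]
        · rw [mul_swap_apply nac.symm nbc.symm, swap_apply_of_ne_of_ne fc.symm gc.symm]
      convert six using 1
      · rw [hyform, hy0f, swap_comm h e]
        have c1 : Commute (Equiv.swap e h) (Equiv.swap a d) := hdis hea hed ha' hd'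
        have c2 : Commute (Equiv.swap e h) (Equiv.swap c b) := hdis hec heb hc' hb'
        have c3 : Commute (Equiv.swap c b) (Equiv.swap a d) := hdis nac.symm ncd nab.symm nbd
        simp only [mul_assoc]
        congr 1
        rw [c3.eq, ← mul_assoc, c1.eq, mul_assoc]
      · rw [hzdef, swap_comm e c]
        have c1 : Commute (Equiv.swap a b) (Equiv.swap f g) := hdis fa.symm ga.symm fb.symm gb.symm
        have c2 : Commute (Equiv.swap c e) (Equiv.swap d h) := hdis ncd hc'.symm hed neh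
        rw [c1.eq]
        simp only [mul_assoc]
        rw [c2.eq]
  · obtain ⟨z, hz, hzc, g1, g2⟩ := IH R' (card_sdiff_lt haR (Finset.mem_insert_self a _)) x0 y0 hX hY
      (by omega) hexc
    obtain ⟨u, hu⟩ : R'.Nonempty := by
      by_contra hemp
      rw [Finset.not_nonempty_iff_eq_empty, Finset.sdiff_eq_empty_iff_subset] at hemp
      refine hne ⟨?_, fun p hp => ?_⟩
      · rw [Finset.eq_of_subset_of_card_le (show ({a, b, c, d} : Finset α) ⊆ R by
          simp [Finset.insert_subset_iff, haR, hbR, hcR, hdR]) (Finset.card_le_card hemp) |>.symm]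
        rw [Finset.card_insert_of_notMem, Finset.card_insert_of_notMem, Finset.card_insert_of_notMem,
          Finset.card_singleton] <;> simp [nab, nac, nad, nbc, nbd, ncd]
      · have := hemp hp
        simp only [Finset.mem_insert, Finset.mem_singleton] at this
        rcases this with rfl | rfl | rfl | rfl
        · exact ⟨hxa, hya, hxy⟩
        · exact ⟨by rw [hxb]; exact nab, by rw [hyb]; exact nbc.symm, by rw [hxb, hyb]; exact nac⟩
        · exact ⟨by rw [hxc]; exact ncd.symm, by rw [hyc]; exact nbc, by rw [hxc, hyc]; exact nbd.symm⟩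
        · exact ⟨by rw [← hcdef]; exact ncd, by rw [hyd]; exact nad, by rw [← hcdef, hyd]; exact nac.symm⟩
    obtain ⟨huR, hua, hub, huc, hud⟩ := hsub hu
    have za : z a = a := hz.2 a (by simp [R'])
    have zb : z b = b := hz.2 b (by simp [R'])
    have zc : z c = c := hz.2 c (by simp [R'])
    have zd : z d = d := hz.2 d (by simp [R'])
    by_cases huv : z u = u
    · have e1 : (z * Equiv.swap a c) b = b := by rw [mul_swap_apply nab.symm nbc, zb]
      have e2 : (z * Equiv.swap a c) u = u := by rw [mul_swap_apply hua huc, huv]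
      refine ⟨z * Equiv.swap a c * Equiv.swap b u, ((hz.mul_swap za zc).mul_swap e1 e2).mono ?_, ?_, ?_, ?_⟩
      · exact Finset.union_subset (hmono (by simp [Finset.insert_subset_iff, haR, hcR]))
          (by simp [Finset.insert_subset_iff, hbR, huR])
      · rw [card_mul_swap e1 e2 hub.symm, card_mul_swap za zc nac, hzc, hcx]
      · have := good_splice_fix (a := a) (b := b) (c := c) (d := d) (u := u)
          (by simp [nab, nac, nad, nbc, nbd, ncd, hua.symm, hub.symm, huc.symm, hud.symm])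
          x0a x0b x0c x0d za zb zc zd huv g1
        rwa [hx0e, hx1e] at this
      · have := good_splice_fix (a := c) (b := b) (c := a) (d := d) (u := u)
          (by simp [nbc.symm, nac.symm, ncd, nab.symm, nbd, nad, hua.symm, hub.symm, huc.symm, hud.symm])
          y0c y0b y0a y0d zc zb za zd huv g2
        rwa [swap_comm c a, hy0e, hy1e] at this
    · set v := z u with hvdef
      have hvR' : v ∈ R' := hz.mem hu
      obtain ⟨hvR, hva, hvb, hvc, hvd⟩ := hsub hvR'
      have huv' : u ≠ v := Ne.symm huv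
      obtain ⟨hw, hwe, wu, wv, hwo⟩ := peel hz hvdef.symm huv'
      set w := z * Equiv.swap u v
      have wa : w a = a := (hwo a hua.symm hva.symm).trans za
      have wb : w b = b := (hwo b hub.symm hvb.symm).trans zb
      have wc : w c = c := (hwo c huc.symm hvc.symm).trans zc
      have wd : w d = d := (hwo d hud.symm hvd.symm).trans zd
      have e1 : (w * Equiv.swap a c) b = b := by rw [mul_swap_apply nab.symm nbc, wb]
      have e2 : (w * Equiv.swap a c) u = u := by rw [mul_swap_apply hua huc, wu]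
      have e3 : (w * Equiv.swap a c * Equiv.swap b u) d = d := by
        rw [mul_swap_apply nbd.symm hud.symm, mul_swap_apply nad.symm ncd.symm, wd]
      have e4 : (w * Equiv.swap a c * Equiv.swap b u) v = v := by
        rw [mul_swap_apply hvb huv'.symm, mul_swap_apply hva hvc, wv]
      refine ⟨w * Equiv.swap a c * Equiv.swap b u * Equiv.swap d v,
        (((hw.mul_swap wa wc).mul_swap e1 e2).mul_swap e3 e4).mono ?_, ?_, ?_, ?_⟩
      · exact Finset.union_subset (Finset.union_subset (Finset.union_subset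
          (Finset.sdiff_subset.trans Finset.sdiff_subset)
          (by simp [Finset.insert_subset_iff, haR, hcR])) (by simp [Finset.insert_subset_iff, hbR, huR]))
          (by simp [Finset.insert_subset_iff, hdR, hvR])
      · rw [card_mul_swap e3 e4 hvd.symm, card_mul_swap e1 e2 hub.symm, card_mul_swap wa wc nac, hcx, ← hzc,
          ← hwe, card_mul_swap wu wv huv']
      · have := good_splice_edge (a := a) (b := b) (c := c) (d := d) (u := u) (v := v)
          (by simp [nab, nac, nad, nbc, nbd, ncd, hua.symm, hub.symm, huc.symm, hud.symm, hva.symm, hvb.symm,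
            hvc.symm, hvd.symm, huv'])
          x0a x0b x0c x0d wa wb wc wd wu wv (by rw [hwe]; exact g1)
        rwa [hx0e, hx1e] at this
      · have := good_splice_edge (a := c) (b := b) (c := a) (d := d) (u := u) (v := v)
          (by simp [nbc.symm, nac.symm, ncd, nab.symm, nbd, nad, hua.symm, hub.symm, huc.symm, hud.symm, hva.symm,
            hvb.symm, hvc.symm, hvd.symm, huv'])
          y0c y0b y0a y0d wc wb wa wd wu wv (by rw [hwe]; exact g2)
        rwa [swap_comm c a, hy0e, hy1e] at this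

theorem Four.exc_lift {R R' : Finset α} {x y x' y' : Perm α} (h : Exc R' x' y') (hx : On R' x') (hy : On R' y')
    (hsub : R' ⊆ R) (hx' : ∀ p ∈ R', x p = x' p) (hy' : ∀ p ∈ R', y p = y' p) : ∃ a ∈ R, Four x y a := by
  obtain ⟨a, ha⟩ : R'.Nonempty := Finset.card_pos.mp (by rw [h.1]; norm_num)
  exact ⟨a, hsub ha, (h.four hx hy ha).transfer (hx' a ha) (hy' a ha) (hy' _ (hx.mem ha)) (hx' _ (hy.mem ha))⟩

theorem pair_step (hx : On R x) (hy : On R y) (hc : x.support.card = y.support.card)
    (IH : ∀ R' : Finset α, R'.card < R.card → Holds R') (hfour : ∀ a, ¬ Four x y a) {a c : α}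
    (hxa : x a ≠ a) (hya : y a = a) (hyb : y (x a) = x a)
    (hyc : y c ≠ c) (hxc : x c = c) (hxd : x (y c) = y c) : Sol R x y := by
  set b := x a with hbdef
  set d := y c with hddef
  have haR := hx.mem_of_ne hxa
  have hbR : b ∈ R := hx.mem haR
  have hcR := hy.mem_of_ne hyc
  have hdR : d ∈ R := hy.mem hcR
  have hxb : x b = a := hx.1 a
  have hyd : y d = c := hy.1 c
  have nab : a ≠ b := Ne.symm hxa
  have ncd : c ≠ d := Ne.symm hyc
  have nac : a ≠ c := fun e => hxa (by rw [hbdef, e, hxc])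
  have nad : a ≠ d := fun e => hxa (by rw [hbdef, e, hxd])
  have nbc : b ≠ c := fun e => nab (by
    have h := congrArg x e
    rw [hxb, hxc, ← e] at h
    exact h)
  have nbd : b ≠ d := fun e => nab (by
    have h := congrArg x e
    rw [hxb, hxd, ← e] at h
    exact h)
  obtain ⟨hx0, hx0e, x0a, x0b, hx0o⟩ := peel hx hbdef.symm nab
  obtain ⟨hy0, hy0e, y0c, y0d, hy0o⟩ := peel hy hddef.symm ncd
  set x0 := x * Equiv.swap a b
  set y0 := y * Equiv.swap c d
  have x0c : x0 c = c := (hx0o c nac.symm nbc.symm).trans hxc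
  have x0d : x0 d = d := (hx0o d nad.symm nbd.symm).trans hxd
  have y0a : y0 a = a := (hy0o a nac nad).trans hya
  have y0b : y0 b = b := (hy0o b nbc nbd).trans hyb
  set R' := R \ {a, b, c, d}
  have hR'0 : ∀ (w : Perm α), w a = a → w b = b → w c = c → w d = d → On R w → On R' w := fun w wa wb wc wd hw => by
    refine ⟨hw.1, fun p hp => ?_⟩
    by_cases h1 : p = a
    · rw [h1, wa]
    by_cases h2 : p = b
    · rw [h2, wb]
    by_cases h3 : p = c
    · rw [h3, wc]
    by_cases h4 : p = d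
    · rw [h4, wd]
    exact hw.2 p fun hR => hp (by simp [R', hR, h1, h2, h3, h4])
  have hX : On R' x0 := hR'0 x0 x0a x0b x0c x0d (hx0.mono Finset.sdiff_subset)
  have hY : On R' y0 := hR'0 y0 y0a y0b y0c y0d (hy0.mono Finset.sdiff_subset)
  have hne : ¬ Exc R' x0 y0 := fun h => by
    obtain ⟨q, -, hq⟩ := Four.exc_lift (x := x) (y := y) h hX hY Finset.sdiff_subset
      (fun p hp => by
        simp only [R', Finset.mem_sdiff, Finset.mem_insert, Finset.mem_singleton, not_or] at hp
        exact (hx0o p hp.2.1 hp.2.2.1).symm)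
      (fun p hp => by
        simp only [R', Finset.mem_sdiff, Finset.mem_insert, Finset.mem_singleton, not_or] at hp
        exact (hy0o p hp.2.2.2.1 hp.2.2.2.2).symm)
    exact hfour q hq
  have ex : x.support.card = x0.support.card + 2 := by rw [← hx0e, card_mul_swap x0a x0b nab]
  have ey : y.support.card = y0.support.card + 2 := by rw [← hy0e, card_mul_swap y0c y0d ncd]
  obtain ⟨z, hz, hzc, g1, g2⟩ := IH R' (card_sdiff_lt haR (Finset.mem_insert_self a _)) x0 y0 hX hY (by omega) hne
  have za : z a = a := hz.2 a (by simp [R'])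
  have zb : z b = b := hz.2 b (by simp [R'])
  have zc : z c = c := hz.2 c (by simp [R'])
  have zd : z d = d := hz.2 d (by simp [R'])
  refine ⟨z * Equiv.swap a c, (hz.mul_swap za zc).mono ?_, ?_, ?_, ?_⟩
  · exact Finset.union_subset Finset.sdiff_subset (by simp [Finset.insert_subset_iff, haR, hcR])
  · rw [card_mul_swap za zc nac, hzc, ex]
  · have := good_add_path3 nab nac nbc x0a x0b x0c za zb zc g1
    rwa [hx0e] at this
  · have := good_add_path3 ncd nac.symm nad.symm y0c y0d y0a zc zd za g2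
    rwa [hy0e, Equiv.swap_comm c a] at this

theorem double_step (hx : On R x) (hy : On R y) (hc : x.support.card = y.support.card)
    (IH : ∀ R' : Finset α, R'.card < R.card → Holds R') (hfour : ∀ a, ¬ Four x y a) {a : α}
    (hxa : x a ≠ a) (hxy : x a = y a) : Sol R x y := by
  set b := x a with hbdef
  have haR := hx.mem_of_ne hxa
  have hbR : b ∈ R := hx.mem haR
  have nab : a ≠ b := Ne.symm hxa
  obtain ⟨hX, hxe, xa, xb, hxo⟩ := peel hx hbdef.symm nab
  obtain ⟨hY, hye, ya, yb, hyo⟩ := peel hy hxy.symm nab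
  set x0 := x * Equiv.swap a b
  set y0 := y * Equiv.swap a b
  have hne : ¬ Exc (R \ {a, b}) x0 y0 := fun h => by
    obtain ⟨q, -, hq⟩ := Four.exc_lift (x := x) (y := y) h hX hY Finset.sdiff_subset
      (fun p hp => by
        simp only [Finset.mem_sdiff, Finset.mem_insert, Finset.mem_singleton, not_or] at hp
        exact (hxo p hp.2.1 hp.2.2).symm)
      (fun p hp => by
        simp only [Finset.mem_sdiff, Finset.mem_insert, Finset.mem_singleton, not_or] at hp
        exact (hyo p hp.2.1 hp.2.2).symm)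
    exact hfour q hq
  have ex : x.support.card = x0.support.card + 2 := by rw [← hxe, card_mul_swap xa xb nab]
  have ey : y.support.card = y0.support.card + 2 := by rw [← hye, card_mul_swap ya yb nab]
  obtain ⟨z, hz, hzc, g1, g2⟩ := IH _ (card_sdiff_lt haR (Finset.mem_insert_self a _)) x0 y0 hX hY (by omega) hne
  have za : z a = a := hz.2 a (by simp)
  have zb : z b = b := hz.2 b (by simp)
  refine ⟨z * Equiv.swap a b, (hz.mul_swap za zb).mono ?_, ?_, ?_, ?_⟩
  · exact Finset.union_subset Finset.sdiff_subset (by simp [Finset.insert_subset_iff, haR, hbR])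
  · rw [card_mul_swap za zb nab, hzc, ex]
  · have := good_add_double xa xb za zb g1
    rwa [hxe] at this
  · have := good_add_double ya yb za zb g2
    rwa [hye] at this

theorem cycle_step (hx : On R x) (hy : On R y) (hc : x.support.card = y.support.card)
    (IH : ∀ R' : Finset α, R'.card < R.card → Holds R') (hfour : ∀ a, ¬ Four x y a)
    (hmov : ∀ p ∈ R, x p ≠ p ∧ y p ≠ p ∧ x p ≠ y p) {a : α} (haR : a ∈ R) : Sol R x y := by
  set q0 := x a with q0def
  set q2 := y a with q2def
  set q3 := x q2 with q3def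
  set q4 := y q3 with q4def
  set q5 := x q4 with q5def
  have h0R : q0 ∈ R := hx.mem haR
  have h2R : q2 ∈ R := hy.mem haR
  have h3R : q3 ∈ R := hx.mem h2R
  have h4R : q4 ∈ R := hy.mem h3R
  have h5R : q5 ∈ R := hx.mem h4R
  have x0' : x q0 = a := hx.1 a
  have y2' : y q2 = a := hy.1 a
  have x3' : x q3 = q2 := hx.1 q2
  have y4' : y q4 = q3 := hy.1 q3
  have x5' : x q5 = q4 := hx.1 q4
  have n01 : q0 ≠ a := (hmov a haR).1
  have n12 : a ≠ q2 := Ne.symm (hmov a haR).2.1
  have n02 : q0 ≠ q2 := (hmov a haR).2.2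
  have n03 : q0 ≠ q3 := fun e => n12 (x.injective (q0def.symm.trans (e.trans q3def)))
  have n13 : a ≠ q3 := fun e => n02 (by rw [q0def, e, x3'])
  have n23 : q2 ≠ q3 := Ne.symm (hmov q2 h2R).1
  have n34 : q3 ≠ q4 := Ne.symm (hmov q3 h3R).2.1
  have n24 : q2 ≠ q4 := fun e => n13 (by rw [← y2', e, y4'])
  have n14 : a ≠ q4 := fun e => n23 (by rw [q2def, e, y4'])
  have n04 : q0 ≠ q4 := fun e => hfour a ⟨(hmov a haR).1, (hmov a haR).2.1, (hmov a haR).2.2, by
    show y q0 = q3
    rw [e, y4']⟩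
  have n45 : q4 ≠ q5 := Ne.symm (hmov q4 h4R).1
  have n35 : q3 ≠ q5 := fun e => n24 (x.injective (q3def.symm.trans (e.trans q5def)))
  have n25 : q2 ≠ q5 := fun e => n34 (by rw [q3def, e, x5'])
  have n15 : a ≠ q5 := fun e => n04 (by rw [q0def, e, x5'])
  have n05 : q0 ≠ q5 := fun e => n14 (x.injective (q0def.symm.trans (e.trans q5def)))
  obtain ⟨hx1, hx1e, x14, x15, hx1o⟩ := peel hx q5def.symm n45
  obtain ⟨hx2, hx2e, x22, x23, hx2o⟩ := peel hx1 (show (x * Equiv.swap q4 q5) q2 = q3 by rw [hx1o q2 n24 n25]) n23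
  obtain ⟨hx3, hx3e, x30, x31, hx3o⟩ := peel hx2 (show (x * Equiv.swap q4 q5 * Equiv.swap q2 q3) q0 = a by
    rw [hx2o q0 n02 n03, hx1o q0 n04 n05, x0']) n01
  obtain ⟨hy1, hy1e, y13, y14, hy1o⟩ := peel hy q4def.symm n34
  obtain ⟨hy2, hy2e, y21, y22, hy2o⟩ := peel hy1 (show (y * Equiv.swap q3 q4) a = q2 by rw [hy1o a n13 n14]) n12
  set x1 := x * Equiv.swap q4 q5
  set x2 := x1 * Equiv.swap q2 q3
  set f := x2 * Equiv.swap q0 a
  set y1 := y * Equiv.swap q3 q4
  set y0 := y1 * Equiv.swap a q2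
  have f0 : f q0 = q0 := x30
  have f1 : f a = a := x31
  have f2 : f q2 = q2 := (hx3o q2 n02.symm n12.symm).trans x22
  have f3 : f q3 = q3 := (hx3o q3 n03.symm n13.symm).trans x23
  have f4 : f q4 = q4 := (hx3o q4 n04.symm n14.symm).trans ((hx2o q4 n24.symm n34.symm).trans x14)
  have f5 : f q5 = q5 := (hx3o q5 n05.symm n15.symm).trans ((hx2o q5 n25.symm n35.symm).trans x15)
  have g1 : y0 a = a := y21
  have g2 : y0 q2 = q2 := y22
  have g3 : y0 q3 = q3 := (hy2o q3 n13.symm n23.symm).trans y13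
  have g4 : y0 q4 = q4 := (hy2o q4 n14.symm n24.symm).trans y14
  have hxform : x = f * Equiv.swap q0 a * Equiv.swap q2 q3 * Equiv.swap q4 q5 := by rw [hx3e, hx2e, hx1e]
  have hyform : y = y0 * Equiv.swap a q2 * Equiv.swap q3 q4 := by rw [hy2e, hy1e]
  set x' := f * Equiv.swap q0 q5 with hx'def
  set R' := R \ {a, q2, q3, q4}
  have hxo : ∀ p, p ≠ q0 → p ≠ a → p ≠ q2 → p ≠ q3 → p ≠ q4 → p ≠ q5 → x' p = x p := fun p h0 h1 h2 h3 h4 h5 => by
    rw [hx'def, mul_swap_apply h0 h5, hx3o p h0 h1, hx2o p h2 h3, hx1o p h4 h5]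
  have hyo : ∀ p, p ≠ a → p ≠ q2 → p ≠ q3 → p ≠ q4 → y0 p = y p := fun p h1 h2 h3 h4 => by
    rw [hy2o p h1 h2, hy1o p h3 h4]
  have hR'0 : ∀ (w : Perm α), w a = a → w q2 = q2 → w q3 = q3 → w q4 = q4 → On R w → On R' w :=
    fun w wa wb wc wd hw => by
    refine ⟨hw.1, fun p hp => ?_⟩
    by_cases h1 : p = a
    · rw [h1, wa]
    by_cases h2 : p = q2
    · rw [h2, wb]
    by_cases h3 : p = q3
    · rw [h3, wc]
    by_cases h4 : p = q4
    · rw [h4, wd]
    exact hw.2 p fun hR => hp (by simp [R', hR, h1, h2, h3, h4])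
  have e1' : x' a = a := by rw [hx'def, mul_swap_apply n01.symm n15, f1]
  have e2' : x' q2 = q2 := by rw [hx'def, mul_swap_apply n02.symm n25, f2]
  have e3' : x' q3 = q3 := by rw [hx'def, mul_swap_apply n03.symm n35, f3]
  have e4' : x' q4 = q4 := by rw [hx'def, mul_swap_apply n04.symm n45, f4]
  have hX : On R' x' := hR'0 x' e1' e2' e3' e4'
    (((hx3.mono (Finset.sdiff_subset.trans (Finset.sdiff_subset.trans Finset.sdiff_subset))).mul_swap f0 f5).mono
      (Finset.union_subset le_rfl (by simp [Finset.insert_subset_iff, h0R, h5R])))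
  have hY : On R' y0 := hR'0 y0 g1 g2 g3 g4 (hy2.mono (Finset.sdiff_subset.trans Finset.sdiff_subset))
  have ex : x.support.card = x'.support.card + 4 := by
    rw [← hx1e, card_mul_swap x14 x15 n45, ← hx2e, card_mul_swap x22 x23 n23, ← hx3e,
      card_mul_swap x30 x31 n01, hx'def, card_mul_swap f0 f5 n05]
  have ey : y.support.card = y0.support.card + 4 := by
    rw [← hy1e, card_mul_swap y13 y14 n34, ← hy2e, card_mul_swap g1 g2 n12]
  by_cases hexc : Exc R' x' y0
  · -- an eight-cycle
    set q7 := y0 q0 with q7def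
    set q6 := y0 q5 with q6def
    have h0' : q0 ∈ R' := Finset.mem_sdiff.mpr ⟨h0R, by simp [n01, n02, n03, n04]⟩
    have h5' : q5 ∈ R' := Finset.mem_sdiff.mpr ⟨h5R, by simp [n15.symm, n25.symm, n35.symm, n45.symm]⟩
    have h7' : q7 ∈ R' := hY.mem h0'
    have h6' : q6 ∈ R' := hY.mem h5'
    have x'0 : x' q0 = q5 := by rw [hx'def, mul_swap_left, f5]
    have x'5 : x' q5 = q0 := by rw [hx'def, mul_swap_right, f0]
    have n07 : q0 ≠ q7 := Ne.symm (hexc.2 q0 h0').2.1
    have n56 : q5 ≠ q6 := Ne.symm (hexc.2 q5 h5').2.1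
    have n57 : q5 ≠ q7 := fun e => (hexc.2 q0 h0').2.2 (by rw [x'0]; exact e.trans q7def)
    have n06 : q0 ≠ q6 := fun e => (hexc.2 q5 h5').2.2 (by rw [x'5]; exact e.trans q6def)
    have n67 : q6 ≠ q7 := fun e => n05 (y0.injective (q7def.symm.trans (e.symm.trans q6def)))
    have hq : ∀ {q}, q ∈ R' → a ≠ q ∧ q2 ≠ q ∧ q3 ≠ q ∧ q4 ≠ q := fun {q} h => by
      simp only [R', Finset.mem_sdiff, Finset.mem_insert, Finset.mem_singleton, not_or] at h
      exact ⟨Ne.symm h.2.1, Ne.symm h.2.2.1, Ne.symm h.2.2.2.1, Ne.symm h.2.2.2.2⟩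
    obtain ⟨n17, n27, n37, n47⟩ := hq h7'
    obtain ⟨n16, n26, n36, n46⟩ := hq h6'
    have hall : ({q0, q5, q6, q7} : Finset α) = R' := by
      refine Finset.eq_of_subset_of_card_le (by simp [Finset.insert_subset_iff, h0', h5', h6', h7']) (by
        rw [hexc.1, Finset.card_insert_of_notMem, Finset.card_insert_of_notMem, Finset.card_insert_of_notMem,
          Finset.card_singleton] <;> simp [n05, n06, n07, n56, n57, n67])
    have x'6 : x' q6 = q7 := by
      have hm := hX.mem h6'
      rw [← hall] at hm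
      simp only [Finset.mem_insert, Finset.mem_singleton] at hm
      rcases hm with h | h | h | h
      · exact absurd (x'.injective (h.trans x'5.symm)) n56.symm
      · exact absurd (x'.injective (h.trans x'0.symm)) n06.symm
      · exact absurd h (hexc.2 q6 h6').1
      · exact h
    have hf : f = Equiv.swap q6 q7 := by
      refine Perm.ext fun p => ?_
      have hfp : f p = (x' * Equiv.swap q0 q5) p := by rw [hx'def, mul_assoc, Equiv.swap_mul_self, mul_one]
      by_cases h6 : p = q6
      · rw [hfp, h6, swap_apply_left, mul_swap_apply n06.symm n56.symm, x'6]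
      by_cases h7 : p = q7
      · rw [hfp, h7, swap_apply_right, mul_swap_apply n07.symm n57.symm]
        exact x'.injective (by rw [hX.1, x'6])
      rw [swap_apply_of_ne_of_ne h6 h7]
      by_cases h0 : p = q0
      · rw [h0, f0]
      by_cases h5 : p = q5
      · rw [h5, f5]
      rw [hfp, mul_swap_apply h0 h5]
      exact hX.2 p fun hp => by rw [← hall] at hp; simp [h0, h5, h6, h7] at hp
    have hy0 : y0 = Equiv.swap q7 q0 * Equiv.swap q6 q5 := by
      refine Perm.ext fun p => ?_
      by_cases h6 : p = q6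
      · rw [h6, mul_swap_left, swap_apply_of_ne_of_ne n57 n05.symm, q6def, hY.1]
      by_cases h5 : p = q5
      · rw [h5, mul_swap_right, swap_apply_of_ne_of_ne n67 n06.symm]
      rw [mul_swap_apply h6 h5]
      by_cases h0 : p = q0
      · rw [h0, swap_apply_right]
      by_cases h7 : p = q7
      · rw [h7, swap_apply_left, q7def, hY.1]
      rw [swap_apply_of_ne_of_ne h7 h0]
      exact hY.2 p fun hp => by rw [← hall] at hp; simp [h0, h5, h6, h7] at hp
    have hxx : x = Equiv.swap q6 q7 * Equiv.swap q0 a * Equiv.swap q2 q3 * Equiv.swap q4 q5 := by rw [← hf]; exact hxform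
    set z : Perm α := Equiv.swap q6 q7 * Equiv.swap q0 q2 * Equiv.swap a q5 * Equiv.swap q3 q4 with hzdef
    have h1R : On R (1 : Perm α) := ⟨fun _ => rfl, fun _ _ => rfl⟩
    have h6R := (Finset.mem_sdiff.mp h6').1
    have h7R := (Finset.mem_sdiff.mp h7').1
    have o1 : On R (Equiv.swap q6 q7) := by
      have := h1R.mul_swap (a := q6) (b := q7) rfl rfl
      rw [one_mul] at this
      exact this.mono (Finset.union_subset le_rfl (by simp [Finset.insert_subset_iff, h6R, h7R]))
    have s0 : Equiv.swap q6 q7 q0 = q0 := swap_apply_of_ne_of_ne n06 n07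
    have s2 : Equiv.swap q6 q7 q2 = q2 := swap_apply_of_ne_of_ne n26 n27
    have o2 : On R (Equiv.swap q6 q7 * Equiv.swap q0 q2) :=
      (o1.mul_swap s0 s2).mono (Finset.union_subset le_rfl (by simp [Finset.insert_subset_iff, h0R, h2R]))
    have o2a : (Equiv.swap q6 q7 * Equiv.swap q0 q2) a = a := by
      rw [mul_swap_apply n01.symm n12, swap_apply_of_ne_of_ne n16 n17]
    have o2b : (Equiv.swap q6 q7 * Equiv.swap q0 q2) q5 = q5 := by
      rw [mul_swap_apply n05.symm n25.symm, swap_apply_of_ne_of_ne n56 n57]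
    have o3 : On R (Equiv.swap q6 q7 * Equiv.swap q0 q2 * Equiv.swap a q5) :=
      (o2.mul_swap o2a o2b).mono (Finset.union_subset le_rfl (by simp [Finset.insert_subset_iff, haR, h5R]))
    have o3a : (Equiv.swap q6 q7 * Equiv.swap q0 q2 * Equiv.swap a q5) q3 = q3 := by
      rw [mul_swap_apply n13.symm n35, mul_swap_apply n03.symm n23.symm, swap_apply_of_ne_of_ne n36 n37]
    have o3b : (Equiv.swap q6 q7 * Equiv.swap q0 q2 * Equiv.swap a q5) q4 = q4 := by
      rw [mul_swap_apply n14.symm n45, mul_swap_apply n04.symm n24.symm, swap_apply_of_ne_of_ne n46 n47]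
    refine ⟨z, (o3.mul_swap o3a o3b).mono (Finset.union_subset le_rfl (by simp [Finset.insert_subset_iff, h3R, h4R])),
      ?_, ?_, ?_⟩
    · rw [hzdef, card_mul_swap o3a o3b n34, card_mul_swap o2a o2b n15, card_mul_swap s0 s2 n02,
        ex, hx'def, card_mul_swap f0 f5 n05, hf, Perm.card_support_swap n67]
    · have six : Good (Equiv.swap q6 q7 * Equiv.swap q0 a * Equiv.swap q5 q4 * Equiv.swap q3 q2)
          (Equiv.swap q6 q7 * Equiv.swap q0 q2 * Equiv.swap a q5 * Equiv.swap q4 q3) := by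
        refine good_contract (q0 := q0) (q1 := a) (q2 := q5) (q3 := q4) (q4 := q3) (q5 := q2) ?_ s0 ?_ ?_ ?_ ?_ s2 ?_ ?_ ?_ ?_ (good_self _)
        · simp [n01, n05, n04, n03, n02, n15, n14, n13, n12, n45.symm, n35.symm, n25.symm, n34.symm, n24.symm, n23.symm]
        · exact swap_apply_of_ne_of_ne n16 n17
        · exact swap_apply_of_ne_of_ne n56 n57
        · exact swap_apply_of_ne_of_ne n46 n47
        · exact swap_apply_of_ne_of_ne n36 n37
        · exact o2a
        · exact o2b
        · rw [mul_swap_apply n04.symm n24.symm, swap_apply_of_ne_of_ne n46 n47]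
        · rw [mul_swap_apply n03.symm n23.symm, swap_apply_of_ne_of_ne n36 n37]
      convert six using 1
      · have c1 : Commute (Equiv.swap q2 q3) (Equiv.swap q4 q5) := Perm.Disjoint.commute fun w => by
          by_cases hw1 : w = q2
          · exact Or.inr (by rw [hw1, swap_apply_of_ne_of_ne n24 n25])
          by_cases hw2 : w = q3
          · exact Or.inr (by rw [hw2, swap_apply_of_ne_of_ne n34 n35])
          exact Or.inl (swap_apply_of_ne_of_ne hw1 hw2)
        rw [hxx, Equiv.swap_comm q5 q4, Equiv.swap_comm q3 q2]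
        simp only [mul_assoc]
        rw [c1.eq]
      · rw [hzdef, Equiv.swap_comm q4 q3]
    · have t1 : Equiv.swap q3 q4 a = a := swap_apply_of_ne_of_ne n13 n14
      have t2 : Equiv.swap q3 q4 q2 = q2 := swap_apply_of_ne_of_ne n23 n24
      have t0 : Equiv.swap q3 q4 q0 = q0 := swap_apply_of_ne_of_ne n03 n04
      have t7 : Equiv.swap q3 q4 q7 = q7 := swap_apply_of_ne_of_ne n37.symm n47.symm
      have t6 : Equiv.swap q3 q4 q6 = q6 := swap_apply_of_ne_of_ne n36.symm n46.symm
      have t5 : Equiv.swap q3 q4 q5 = q5 := swap_apply_of_ne_of_ne n35.symm n45.symm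
      have six : Good (Equiv.swap q3 q4 * Equiv.swap a q2 * Equiv.swap q0 q7 * Equiv.swap q6 q5)
          (Equiv.swap q3 q4 * Equiv.swap a q5 * Equiv.swap q2 q0 * Equiv.swap q7 q6) := by
        refine good_contract (q0 := a) (q1 := q2) (q2 := q0) (q3 := q7) (q4 := q6) (q5 := q5) ?_ t1 t2 t0 t7 t6 t5 ?_ ?_ ?_ ?_ (good_self _)
        · simp [n12, n01.symm, n17, n16, n15, n02.symm, n27, n26, n25, n07, n06, n05, n67.symm, n57.symm, n56.symm]
        · rw [mul_swap_apply n12.symm n25, t2]
        · rw [mul_swap_apply n01 n05, t0]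
        · rw [mul_swap_apply n17.symm n57.symm, t7]
        · rw [mul_swap_apply n16.symm n56.symm, t6]
      have hdis : ∀ {p q r s : α}, p ≠ r → p ≠ s → q ≠ r → q ≠ s → Commute (Equiv.swap p q) (Equiv.swap r s) := by
        intro p q r s h1 h2 h3 h4
        refine Perm.Disjoint.commute (fun w => ?_)
        by_cases hw1 : w = p
        · exact Or.inr (by rw [hw1, swap_apply_of_ne_of_ne h1 h2])
        by_cases hw2 : w = q
        · exact Or.inr (by rw [hw2, swap_apply_of_ne_of_ne h3 h4])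
        exact Or.inl (swap_apply_of_ne_of_ne hw1 hw2)
      convert six using 1
      · rw [hyform, hy0, Equiv.swap_comm q7 q0]
        have c1 : Commute (Equiv.swap q0 q7 * Equiv.swap q6 q5) (Equiv.swap a q2) :=
          (hdis n01 n02 n17.symm n27.symm).mul_left (hdis n16.symm n26.symm n15.symm n25.symm)
        have c2 : Commute (Equiv.swap q0 q7 * Equiv.swap q6 q5) (Equiv.swap q3 q4) :=
          (hdis n03 n04 n37.symm n47.symm).mul_left (hdis n36.symm n46.symm n35.symm n45.symm)
        have c3 : Commute (Equiv.swap a q2) (Equiv.swap q3 q4) := hdis n13 n14 n23 n24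
        rw [mul_assoc (Equiv.swap q0 q7 * Equiv.swap q6 q5), (c1.mul_right c2).eq, c3.eq]
        simp only [mul_assoc]
      · rw [hzdef, Equiv.swap_comm q2 q0, Equiv.swap_comm q7 q6]
        have c1 : Commute (Equiv.swap q6 q7) (Equiv.swap q0 q2) := hdis n06.symm n26.symm n07.symm n27.symm
        have c2 : Commute (Equiv.swap q0 q2) (Equiv.swap a q5) := hdis n01 n05 n12.symm n25
        have c3 : Commute (Equiv.swap q6 q7) (Equiv.swap a q5) := hdis n16.symm n56.symm n17.symm n57.symm
        have c4 : Commute (Equiv.swap q6 q7 * Equiv.swap q0 q2 * Equiv.swap a q5) (Equiv.swap q3 q4) :=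
          ((hdis n36.symm n46.symm n37.symm n47.symm).mul_left (hdis n03 n04 n23 n24)).mul_left
            (hdis n13 n14 n35.symm n45.symm)
        rw [c4.eq, (c3.mul_left c2).eq]
        simp only [mul_assoc]
        rw [c1.eq]
  · obtain ⟨z, hz, hzc, G1, G2⟩ := IH R' (card_sdiff_lt haR (Finset.mem_insert_self a _)) x' y0 hX hY (by omega) hexc
    have za : z a = a := hz.2 a (by simp [R'])
    have z2 : z q2 = q2 := hz.2 q2 (by simp [R'])
    have z3 : z q3 = q3 := hz.2 q3 (by simp [R'])
    have z4 : z q4 = q4 := hz.2 q4 (by simp [R'])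
    have z3' : (z * Equiv.swap a q2) q3 = q3 := by rw [mul_swap_apply n13.symm n23.symm, z3]
    have z4' : (z * Equiv.swap a q2) q4 = q4 := by rw [mul_swap_apply n14.symm n24.symm, z4]
    refine ⟨z * Equiv.swap a q2 * Equiv.swap q3 q4, ((hz.mul_swap za z2).mul_swap z3' z4').mono ?_, ?_, ?_, ?_⟩
    · exact Finset.union_subset (Finset.union_subset Finset.sdiff_subset
        (by simp [Finset.insert_subset_iff, haR, h2R])) (by simp [Finset.insert_subset_iff, h3R, h4R])
    · rw [card_mul_swap z3' z4' n34, card_mul_swap za z2 n12, hzc, ex]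
    · have := good_contract (q0 := q0) (q1 := a) (q2 := q2) (q3 := q3) (q4 := q4) (q5 := q5)
        (by simp [n01, n02, n03, n04, n05, n12, n13, n14, n15, n23, n24, n25, n34, n35, n45])
        f0 f1 f2 f3 f4 f5 za z2 z3 z4 G1
      rwa [← hxform] at this
    · have e3 : (y0 * Equiv.swap a q2) q3 = q3 := by rw [mul_swap_apply n13.symm n23.symm, g3]
      have e4 : (y0 * Equiv.swap a q2) q4 = q4 := by rw [mul_swap_apply n14.symm n24.symm, g4]
      have := good_add_double e3 e4 z3' z4' (good_add_double g1 g2 za z2 G2)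
      rwa [← hyform] at this

theorem holds (R : Finset α) : Holds R := by
  induction hn : R.card using Nat.strong_induction_on generalizing R with
  | _ n ih =>
    subst hn
    have IH : ∀ R' : Finset α, R'.card < R.card → Holds R' := fun R' h => ih _ h R' rfl
    intro x y hx hy hc hne
    by_cases hfour : ∃ a, Four x y a
    · obtain ⟨a, ha⟩ := hfour
      exact four_step hx hy hc hne IH ha
    push Not at hfour
    rcases R.eq_empty_or_nonempty with rfl | ⟨a₀, ha₀⟩
    · have hx1 : x = 1 := Perm.ext fun p => hx.2 p (Finset.notMem_empty p)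
      have hy1 : y = 1 := Perm.ext fun p => hy.2 p (Finset.notMem_empty p)
      exact ⟨1, ⟨fun _ => rfl, fun _ _ => rfl⟩, by rw [hx1], hx1 ▸ good_self _, hy1 ▸ good_self _⟩
    by_cases hfix : ∃ f ∈ R, x f = f ∧ y f = f
    · obtain ⟨f, hfR, hxf, hyf⟩ := hfix
      have hX : On (R.erase f) x := ⟨hx.1, fun p hp => by
        by_cases h : p = f
        · rw [h, hxf]
        · exact hx.2 p fun hR => hp (Finset.mem_erase.mpr ⟨h, hR⟩)⟩
      have hY : On (R.erase f) y := ⟨hy.1, fun p hp => by
        by_cases h : p = f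
        · rw [h, hyf]
        · exact hy.2 p fun hR => hp (Finset.mem_erase.mpr ⟨h, hR⟩)⟩
      obtain ⟨z, hz, r⟩ := IH _ (Finset.card_lt_card (Finset.erase_ssubset hfR)) x y hX hY hc fun h => by
        obtain ⟨q, -, hq⟩ := Four.exc_lift (x := x) (y := y) h hX hY (Finset.erase_subset _ _) (fun _ _ => rfl)
          (fun _ _ => rfl)
        exact hfour q hq
      exact ⟨z, hz.mono (Finset.erase_subset _ _), r⟩
    push Not at hfix
    by_cases hdbl : ∃ a, x a ≠ a ∧ x a = y a
    · obtain ⟨a, h1, h2⟩ := hdbl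
      exact double_step hx hy hc IH hfour h1 h2
    push Not at hdbl
    by_cases hend : ∃ a, x a ≠ a ∧ y a = a ∧ y (x a) ≠ x a
    · obtain ⟨a, h1, h2, h3⟩ := hend
      exact endpoint_step hx hy hc IH h1 h2 h3
    push Not at hend
    by_cases hend' : ∃ a, y a ≠ a ∧ x a = a ∧ x (y a) ≠ y a
    · obtain ⟨a, h1, h2, h3⟩ := hend'
      exact (endpoint_step hy hx hc.symm IH h1 h2 h3).swap hc.symm
    push Not at hend'
    by_cases hpair : ∃ a, x a ≠ a ∧ y a = a
    · obtain ⟨a, h1, h2⟩ := hpair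
      obtain ⟨c, h3, h4⟩ : ∃ c, y c ≠ c ∧ x c = c := by
        by_contra hno
        push Not at hno
        have hsub : y.support ⊆ x.support := fun p hp => Perm.mem_support.mpr (hno p (Perm.mem_support.mp hp))
        have he := Finset.eq_of_subset_of_card_le hsub hc.le
        have : a ∈ y.support := he ▸ Perm.mem_support.mpr h1
        exact Perm.mem_support.mp this h2
      exact pair_step hx hy hc IH hfour h1 h2 (hend a h1 h2) h3 h4 (hend' c h3 h4)
    push Not at hpair
    have hsub : x.support ⊆ y.support := fun p hp => Perm.mem_support.mpr (hpair p (Perm.mem_support.mp hp))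
    have he := Finset.eq_of_subset_of_card_le hsub hc.ge
    refine cycle_step hx hy hc IH hfour (fun p hp => ?_) ha₀
    have hxp : x p ≠ p := fun h => by
      have h2 : p ∈ y.support := Perm.mem_support.mpr (hfix p hp h)
      rw [← he] at h2
      exact Perm.mem_support.mp h2 h
    exact ⟨hxp, hpair p hxp, hdbl p hxp⟩

end Core

end Cfsg.Agent.Perm.OddProductInvolutions
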