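import Mathlib
import Cfsg.Agent.Lib.Perm.Agree

/-! Normal subgroups of triply transitive groups of odd degree. -/

set_option autoImplicit false

namespace Cfsg.Agent.Perm.OddTriple

open MulAction
open scoped Pointwise

variable {G : Type*} [Group G] {α : Type*} [MulAction G α]

/-- Three distinct points can be sent to any three distinct points. -/
theorem exists_map_three (h3 : IsMultiplyPretransitive G α 3) {a b c a' b' c' : α}
    (hab : a ≠ b) (hac : a ≠ c) (hbc : b ≠ c) (hab' : a' ≠ b') (hac' : a' ≠ c') (hbc' : b' ≠ c') :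
    ∃ g : G, g • a = a' ∧ g • b = b' ∧ g • c = c' := by
  have e1 : Function.Injective ![a, b, c] := by
    intro i j hij
    fin_cases i <;> fin_cases j <;> simp_all [eq_comm]
  have e2 : Function.Injective ![a', b', c'] := by
    intro i j hij
    fin_cases i <;> fin_cases j <;> simp_all [eq_comm]
  obtain ⟨g, hg⟩ := h3.exists_smul_eq ⟨![a, b, c], e1⟩ ⟨![a', b', c'], e2⟩
  exact ⟨g, congrArg (fun f : Fin 3 ↪ α => f 0) hg, congrArg (fun f : Fin 3 ↪ α => f 1) hg,
    congrArg (fun f : Fin 3 ↪ α => f 2) hg⟩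

/-- The stabiliser in `N` of two points is transitive on the others, if `G` is 3-transitive of odd
degree and `N` is normal and 2-transitive. -/
theorem exists_fix_map [Fintype α] [Finite G] (hodd : Odd (Fintype.card α))
    (h3 : IsMultiplyPretransitive G α 3) (N : Subgroup G) [hn : N.Normal]
    (h2 : IsMultiplyPretransitive N α 2) {a b x y : α} (hab : a ≠ b)
    (hxa : x ≠ a) (hxb : x ≠ b) (hya : y ≠ a) (hyb : y ≠ b) :
    ∃ g : N, g • a = a ∧ g • b = b ∧ g • x = y := by
  classical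
  -- the two point stabiliser and its orbits
  set A : Subgroup G := N ⊓ stabilizer G a ⊓ stabilizer G b with hA
  have hmemA : ∀ g : G, g ∈ A ↔ g ∈ N ∧ g • a = a ∧ g • b = b := fun g => by
    simp only [hA, Subgroup.mem_inf, mem_stabilizer_iff]; tauto
  have hconjA : ∀ h : G, ((h • a = a ∧ h • b = b) ∨ (h • a = b ∧ h • b = a)) →
      ∀ u : G, u ∈ A → h * u * h⁻¹ ∈ A := by
    intro h hh u hu
    rw [hmemA] at hu ⊢
    refine ⟨hn.conj_mem u hu.1 h, ?_⟩
    rcases hh with ⟨h1, h1'⟩ | ⟨h1, h1'⟩ <;> constructor <;>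
      simp only [mul_smul] <;> first
      | rw [inv_smul_eq_iff.2 h1.symm, hu.2.1, h1]
      | rw [inv_smul_eq_iff.2 h1'.symm, hu.2.2, h1']
      | rw [inv_smul_eq_iff.2 h1.symm, hu.2.2, h1]
      | rw [inv_smul_eq_iff.2 h1'.symm, hu.2.1, h1']
  have horb : ∀ h : G, ((h • a = a ∧ h • b = b) ∨ (h • a = b ∧ h • b = a)) → ∀ z : α,
      (fun w => h • w) '' orbit A z = orbit A (h • z) := by
    intro h hh z
    have hh' : (h⁻¹ • a = a ∧ h⁻¹ • b = b) ∨ (h⁻¹ • a = b ∧ h⁻¹ • b = a) := by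
      simp only [inv_smul_eq_iff]
      rcases hh with ⟨h1, h1'⟩ | ⟨h1, h1'⟩
      · exact Or.inl ⟨h1.symm, h1'.symm⟩
      · exact Or.inr ⟨h1'.symm, h1.symm⟩
    ext w
    constructor
    · rintro ⟨_, ⟨u, rfl⟩, rfl⟩
      refine ⟨⟨_, hconjA h hh u u.2⟩, ?_⟩
      show (h * (u : G) * h⁻¹) • h • z = h • (u : G) • z
      rw [← mul_smul, inv_mul_cancel_right, mul_smul]
    · rintro ⟨u, rfl⟩
      refine ⟨(h⁻¹ * (u : G) * h) • z, ⟨⟨_, by simpa using hconjA h⁻¹ hh' u u.2⟩, rfl⟩, ?_⟩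
      show h • (h⁻¹ * (u : G) * h) • z = (u : G) • h • z
      rw [← mul_smul, ← mul_smul, mul_assoc h⁻¹, mul_inv_cancel_left]
  let Y : Finset α := Finset.univ.filter fun z => z ≠ a ∧ z ≠ b
  have hYc : Y.card + 2 = Fintype.card α := by
    have : Y = Finset.univ \ {a, b} := by ext z; simp [Y]
    rw [this, Finset.card_sdiff, Finset.inter_univ, Finset.card_univ, Finset.card_pair hab]
    have : 2 ≤ Fintype.card α := Fintype.one_lt_card_iff.2 ⟨a, b, hab⟩
    omega
  have hYorb : ∀ z ∈ Y, ∀ w ∈ orbit A z, w ∈ Y := by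
    rintro z hz w ⟨u, rfl⟩
    simp only [Y, Finset.mem_filter, Finset.mem_univ, true_and] at hz ⊢
    have hu := (hmemA u).1 u.2
    constructor
    · intro h; exact hz.1 (MulAction.injective (u : G) (h.trans hu.2.1.symm))
    · intro h; exact hz.2 (MulAction.injective (u : G) (h.trans hu.2.2.symm))
  have hxY : x ∈ Y := by simp [Y, hxa, hxb]
  have hmap : ∀ z ∈ Y, ∀ w ∈ Y, ∃ h : G, h • a = a ∧ h • b = b ∧ h • z = w := by
    intro z hz w hw
    simp only [Y, Finset.mem_filter, Finset.mem_univ, true_and] at hz hw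
    exact exists_map_three h3 hab (Ne.symm hz.1) (Ne.symm hz.2) hab (Ne.symm hw.1) (Ne.symm hw.2)
  -- the orbit of `x` is everything
  suffices hone : ∀ z ∈ Y, z ∈ orbit A x by
    obtain ⟨u, hu⟩ := hone y (by simp [Y, hya, hyb])
    obtain ⟨h1, h2, h3⟩ := (hmemA u).1 u.2
    exact ⟨⟨u, h1⟩, h2, h3, hu⟩
  let R : Finset (Set α) := Y.image fun z => orbit A z
  set s : ℕ := (orbit A x).ncard with hs
  have hsize : ∀ z ∈ Y, (orbit A z).ncard = s := by
    intro z hz
    obtain ⟨h, h1, h2, h3⟩ := hmap x hxY z hz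
    rw [← h3, ← horb h (Or.inl ⟨h1, h2⟩) x,
      Set.ncard_image_of_injective _ (MulAction.injective h)]
  have hprod : Y.card = R.card * s := by
    rw [Finset.card_eq_sum_card_image (fun z => orbit A z) Y, ← smul_eq_mul,
      ← Finset.sum_const]
    refine Finset.sum_congr rfl fun O hO => ?_
    obtain ⟨z, hz, rfl⟩ := Finset.mem_image.1 hO
    rw [← hsize z hz, ← Set.ncard_coe_finset]
    congr 1
    ext w
    simp only [Finset.coe_filter, Set.mem_ofPred_eq]
    exact ⟨fun hw => orbit_eq_iff.1 hw.2, fun hw => ⟨hYorb z hz w hw, orbit_eq_iff.2 hw⟩⟩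
  have hRs : Odd (R.card * s) := by
    rw [← hprod]
    rw [← hYc] at hodd
    rcases hodd with ⟨m, hm⟩
    exact ⟨m - 1, by omega⟩
  rw [Nat.odd_mul] at hRs
  -- an element interchanging `a` and `b`
  obtain ⟨g, hga, hgb⟩ := is_two_pretransitive_iff.1 h2 hab hab.symm
  have hga' : (g : G) • a = b := hga
  have hgb' : (g : G) • b = a := hgb
  -- it fixes every orbit
  have hfix1 : ∃ z ∈ Y, (g : G) • z ∈ orbit A z := by
    have hgY : ∀ z ∈ Y, (g : G) • z ∈ Y := by
      intro z hz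
      simp only [Y, Finset.mem_filter, Finset.mem_univ, true_and] at hz ⊢
      exact ⟨fun h => hz.2 (MulAction.injective (g : G) (h.trans hgb'.symm)),
        fun h => hz.1 (MulAction.injective (g : G) (h.trans hga'.symm))⟩
    have hmapR : ∀ O ∈ R, (fun w => (g : G) • w) '' O ∈ R := by
      intro O hO
      obtain ⟨z, hz, rfl⟩ := Finset.mem_image.1 hO
      rw [horb g (Or.inr ⟨hga', hgb'⟩)]
      exact Finset.mem_image.2 ⟨_, hgY z hz, rfl⟩
    let f : R → R := fun O => ⟨_, hmapR O O.2⟩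
    have hinv : Function.Involutive f := by
      rintro ⟨O, hO⟩
      obtain ⟨z, hz, rfl⟩ := Finset.mem_image.1 hO
      apply Subtype.ext
      show (fun w => (g : G) • w) '' ((fun w => (g : G) • w) '' orbit A z) = orbit A z
      rw [horb g (Or.inr ⟨hga', hgb'⟩), horb g (Or.inr ⟨hga', hgb'⟩)]
      refine orbit_eq_iff.2 ⟨⟨(g : G) * g, ?_⟩, mul_smul _ _ _⟩
      rw [hmemA]
      exact ⟨N.mul_mem g.2 g.2, by rw [mul_smul, hga', hgb'], by rw [mul_smul, hgb', hga']⟩
    have : Fact (Nat.Prime 2) := ⟨Nat.prime_two⟩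
    obtain ⟨⟨O, hO⟩, hfO⟩ := Equiv.Perm.exists_fixed_point_of_prime (p := 2) (n := 1)
      (by rw [Fintype.card_coe]; exact fun h => Nat.not_even_iff_odd.2 hRs.1 (even_iff_two_dvd.2 h))
      (σ := hinv.toPerm f) (Equiv.ext fun O => by
        rw [pow_one, pow_two]; exact hinv O)
    obtain ⟨z, hz, rfl⟩ := Finset.mem_image.1 hO
    refine ⟨z, hz, ?_⟩
    have := congrArg Subtype.val hfO
    change (fun w => (g : G) • w) '' orbit A z = orbit A z at this
    rw [← this]
    exact ⟨z, mem_orbit_self z, rfl⟩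
  have hfix : ∀ z ∈ Y, (g : G) • z ∈ orbit A z := by
    obtain ⟨z₀, hz₀, hgz₀⟩ := hfix1
    intro z hz
    obtain ⟨h, h1, h2, h3⟩ := hmap z₀ hz₀ z hz
    have hh : h * g * h⁻¹ ∈ N := hn.conj_mem _ g.2 h
    have e1 : h⁻¹ • a = a := inv_smul_eq_iff.2 h1.symm
    have e2 : h⁻¹ • b = b := inv_smul_eq_iff.2 h2.symm
    have hmem : (g : G) * (h * g * h⁻¹)⁻¹ ∈ A := by
      rw [hmemA]
      refine ⟨N.mul_mem g.2 (N.inv_mem hh), ?_, ?_⟩ <;> rw [mul_smul]
      · rw [show (h * g * h⁻¹)⁻¹ • a = b from inv_smul_eq_iff.2 (by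
          rw [mul_smul, mul_smul, e2, hgb', h1]), hgb']
      · rw [show (h * g * h⁻¹)⁻¹ • b = a from inv_smul_eq_iff.2 (by
          rw [mul_smul, mul_smul, e1, hga', h2]), hga']
    have h4 : h • (g : G) • z₀ ∈ orbit A z := by
      rw [← h3, ← horb h (Or.inl ⟨h1, h2⟩) z₀]
      exact ⟨_, hgz₀, rfl⟩
    have h5 : h • (g : G) • z₀ = (h * g * h⁻¹) • z := by
      rw [← h3, ← mul_smul, ← mul_smul, inv_mul_cancel_right]
    rw [h5] at h4
    obtain ⟨u, hu⟩ := h4
    refine ⟨⟨_, hmem⟩ * u, ?_⟩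
    show (⟨_, hmem⟩ * u : A) • z = _
    rw [mul_smul]
    rw [show u • z = (h * g * h⁻¹) • z from hu]
    show ((g : G) * (h * g * h⁻¹)⁻¹) • (h * g * h⁻¹) • z = _
    rw [← mul_smul, inv_mul_cancel_right]
  -- more than one orbit is impossible
  by_contra hnot
  have hR : 3 ≤ R.card := by
    push Not at hnot
    obtain ⟨z, hz, hzx⟩ := hnot
    have : 2 ≤ R.card := Finset.one_lt_card.2 ⟨orbit A x, Finset.mem_image.2 ⟨x, hxY, rfl⟩,
      orbit A z, Finset.mem_image.2 ⟨z, hz, rfl⟩, fun h => hzx (orbit_eq_iff.1 h.symm)⟩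
    rcases hRs.1 with ⟨m, hm⟩
    omega
  set C : Subgroup G := A ⊓ stabilizer G x with hC
  set B : Subgroup G := N ⊓ stabilizer G ({a, b} : Set α) with hB
  have hAB : A ≤ B := by
    intro u hu
    rw [hmemA] at hu
    refine ⟨hu.1, mem_stabilizer_iff.2 ?_⟩
    rw [Set.smul_set_insert, Set.smul_set_singleton, hu.2.1, hu.2.2]
  have hgB : (g : G) ∈ B := ⟨g.2, mem_stabilizer_iff.2 (by
    rw [Set.smul_set_insert, Set.smul_set_singleton, hga', hgb', Set.pair_comm])⟩
  have hcard : 2 * Nat.card C ∣ Nat.card B := by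
    have hdvd : Nat.card A * 2 ∣ Nat.card B := by
      refine ⟨1, ?_⟩
      rw [mul_one, ← (A.subgroupOf B).card_mul_index,
        Nat.card_congr (Subgroup.subgroupOfEquivOfLe hAB).toEquiv]
      congr 1
      rw [Subgroup.index_eq_two_iff]
      refine ⟨⟨g, hgB⟩, fun u => ?_⟩
      obtain ⟨huN, hu⟩ := u.2
      have hua : (u : G) • a = a ∨ (u : G) • a = b := by
        have : (u : G) • a ∈ (u : G) • ({a, b} : Set α) := Set.smul_mem_smul_set (by simp)
        rw [mem_stabilizer_iff.1 hu] at this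
        simpa using this
      have hub : (u : G) • b = a ∨ (u : G) • b = b := by
        have : (u : G) • b ∈ (u : G) • ({a, b} : Set α) := Set.smul_mem_smul_set (by simp)
        rw [mem_stabilizer_iff.1 hu] at this
        simpa using this
      have hne : (u : G) • a ≠ (u : G) • b := fun h => hab (MulAction.injective _ h)
      simp only [Subgroup.mem_subgroupOf, hmemA, Subgroup.coe_mul, mul_smul, hga', hgb']
      rcases hua with h1 | h1
      · have h1' : (u : G) • b = b := hub.resolve_left fun h => hne (h1.trans h.symm)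
        exact Or.inr ⟨⟨huN, h1, h1'⟩, fun h => hab (h.2.1.symm.trans h1')⟩
      · have h1' : (u : G) • b = a := hub.resolve_right fun h => hne (h1.trans h.symm)
        exact Or.inl ⟨⟨N.mul_mem huN g.2, h1', h1⟩, fun h => hab (h.2.1.symm.trans h1)⟩
    refine dvd_trans ?_ hdvd
    rw [mul_comm]
    exact Nat.mul_dvd_mul_right (Subgroup.card_dvd_of_le inf_le_left) 2
  have : Fact (Nat.Prime 2) := ⟨Nat.prime_two⟩
  obtain ⟨P⟩ : Nonempty (Sylow 2 B) := inferInstance
  -- `P` fixes a point in each orbit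
  have hPfix : ∀ z ∈ Y, ∃ w ∈ orbit A z, ∀ p : B, p ∈ P → (p : G) • w = w := by
    intro z hz
    have hinv : ∀ u : G, u ∈ B → ∀ w ∈ orbit A z, u • w ∈ orbit A z := by
      intro u hu w hw
      obtain ⟨huN, hu'⟩ := hu
      have hua : u • a = a ∨ u • a = b := by
        have : u • a ∈ u • ({a, b} : Set α) := Set.smul_mem_smul_set (by simp)
        rw [mem_stabilizer_iff.1 hu'] at this
        simpa using this
      have hub : u • b = a ∨ u • b = b := by
        have : u • b ∈ u • ({a, b} : Set α) := Set.smul_mem_smul_set (by simp)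
        rw [mem_stabilizer_iff.1 hu'] at this
        simpa using this
      have hne : u • a ≠ u • b := fun h => hab (MulAction.injective _ h)
      rw [← orbit_eq_iff.2 hw]
      rcases hua with h1 | h1
      · have h1' : u • b = b := hub.resolve_left fun h => hne (h1.trans h.symm)
        exact ⟨⟨u, (hmemA u).2 ⟨huN, h1, h1'⟩⟩, rfl⟩
      · have h1' : u • b = a := hub.resolve_right fun h => hne (h1.trans h.symm)
        have hmem : u * (g : G)⁻¹ ∈ A := by
          rw [hmemA]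
          refine ⟨N.mul_mem huN (N.inv_mem g.2), ?_, ?_⟩ <;> rw [mul_smul]
          · rw [inv_smul_eq_iff.2 hgb'.symm, h1']
          · rw [inv_smul_eq_iff.2 hga'.symm, h1]
        obtain ⟨v, hv⟩ := hfix w (hYorb z hz w hw)
        refine ⟨⟨_, hmem⟩ * v, ?_⟩
        show (⟨_, hmem⟩ * v : A) • w = _
        rw [mul_smul]
        rw [show v • w = (g : G) • w from hv]
        show (u * (g : G)⁻¹) • (g : G) • w = _
        rw [← mul_smul, inv_mul_cancel_right]
    let O : SubMulAction (P : Subgroup B) α :=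
      { carrier := orbit A z
        smul_mem' := fun p w hw => hinv _ (p : B).2 w hw }
    have hO : Nat.card O = s := by
      rw [← hsize z hz, ← Nat.card_coe_set_eq]
      rfl
    have hmod := IsPGroup.card_modEq_card_fixedPoints (α := O) P.isPGroup'
    have hne : Nonempty (fixedPoints (P : Subgroup B) O) := by
      by_contra h
      rw [not_nonempty_iff] at h
      rw [hO, Nat.card_of_isEmpty] at hmod
      exact Nat.not_even_iff_odd.2 hRs.2 (Nat.even_iff.2 hmod)
    obtain ⟨⟨⟨w, hw⟩, hwf⟩⟩ := hne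
    exact ⟨w, hw, fun p hp => congrArg Subtype.val (hwf ⟨p, hp⟩)⟩
  obtain ⟨O₁, O₂, O₃, hO₁, hO₂, hO₃, h12, h13, h23⟩ := Finset.two_lt_card_iff.1 hR
  obtain ⟨z₁, hz₁, rfl⟩ := Finset.mem_image.1 hO₁
  obtain ⟨z₂, hz₂, rfl⟩ := Finset.mem_image.1 hO₂
  obtain ⟨z₃, hz₃, rfl⟩ := Finset.mem_image.1 hO₃
  obtain ⟨w₁, hw₁, hf₁⟩ := hPfix z₁ hz₁
  obtain ⟨w₂, hw₂, hf₂⟩ := hPfix z₂ hz₂
  obtain ⟨w₃, hw₃, hf₃⟩ := hPfix z₃ hz₃
  have hne : ∀ {u v : α} {wu wv : α}, orbit A u ≠ orbit A v → wu ∈ orbit A u → wv ∈ orbit A v →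
      wu ≠ wv := by
    intro u v wu wv h hu hv he
    subst he
    exact h (by rw [← orbit_eq_iff.2 hu, orbit_eq_iff.2 hv])
  obtain ⟨h, e1, e2, e3⟩ := exists_map_three h3 (hne h12 hw₁ hw₂) (hne h13 hw₁ hw₃)
    (hne h23 hw₂ hw₃) hab (Ne.symm hxa) (Ne.symm hxb)
  have hPC : Nat.card P ∣ Nat.card C := by
    refine Subgroup.card_dvd_of_injective
      (((MulAut.conj h).toMonoidHom.comp (B.subtype.comp (P : Subgroup B).subtype)).codRestrict C
        fun p => ?_) ?_
    · have key : ∀ {w c : α}, h • w = c → ((p : B) : G) • w = w →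
          (h * ((p : B) : G) * h⁻¹) • c = c := by
        intro w c hwc hpw
        rw [← hwc, mul_smul, mul_smul, inv_smul_smul, hpw]
      refine ⟨(hmemA _).2 ⟨hn.conj_mem _ (p : B).2.1 h, key e1 (hf₁ _ p.2),
        key e2 (hf₂ _ p.2)⟩, key e3 (hf₃ _ p.2)⟩
    · intro p q hpq
      have := congrArg Subtype.val hpq
      exact Subtype.ext (Subtype.ext ((MulAut.conj h).injective this))
  have hv := P.pow_dvd_card_of_pow_dvd_card (n := (Nat.card C).factorization 2 + 1) (by
    rw [pow_succ, mul_comm]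
    exact dvd_trans (Nat.mul_dvd_mul_left 2 (Nat.ordProj_dvd _ 2)) hcard)
  have := (Nat.prime_two.pow_dvd_iff_le_factorization Nat.card_pos.ne').1 (hv.trans hPC)
  omega

end Cfsg.Agent.Perm.OddTriple
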