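import Mathlib

/-! Subdirect products of non-abelian simple groups are products of diagonals. -/

set_option autoImplicit false

namespace Cfsg.Agent.Perm.Subdirect

variable {ι : Type*} [Finite ι] {T : Type*} [Group T] [IsSimpleGroup T]

/-- A subdirect product of copies of a non-abelian simple group is a product of twisted
diagonals. -/
theorem exists_diagonal (hT : ¬ IsMulCommutative T) (M : Subgroup (ι → T))
    (hsurj : ∀ i t, ∃ l ∈ M, l i = t) :
    ∃ (c : ι → ι) (φ : ι → T ≃* T),
      (∀ i j, c i = c j ↔ ∀ l ∈ M, (l i = 1 ↔ l j = 1)) ∧ (∀ i, c (c i) = c i) ∧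
      (∀ i t, φ (c i) t = t) ∧ ∀ x : ι → T, x ∈ M ↔ ∀ i, x i = φ i (x (c i)) := by
  classical
  have := Fintype.ofFinite ι
  -- the projections of the kernels
  let Im : Finset ι → ι → Subgroup T := fun R r =>
    { carrier := {t | ∃ l ∈ M, (∀ r' ∈ R, l r' = 1) ∧ l r = t}
      one_mem' := ⟨1, M.one_mem, fun _ _ => rfl, rfl⟩
      mul_mem' := by
        rintro _ _ ⟨l, hl, hl', rfl⟩ ⟨l', hl1, hl2, rfl⟩
        exact ⟨l * l', M.mul_mem hl hl1, fun r' hr' => by simp [hl' r' hr', hl2 r' hr'], rfl⟩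
      inv_mem' := by
        rintro _ ⟨l, hl, hl', rfl⟩
        exact ⟨l⁻¹, M.inv_mem hl, fun r' hr' => by simp [hl' r' hr'], rfl⟩ }
  have hIm : ∀ R r, (Im R r).Normal := by
    intro R r
    refine ⟨?_⟩
    rintro _ ⟨l, hl, hl', rfl⟩ t
    obtain ⟨y, hy, rfl⟩ := hsurj r t
    exact ⟨y * l * y⁻¹, M.mul_mem (M.mul_mem hy hl) (M.inv_mem hy),
      fun r' hr' => by simp [hl' r' hr'], rfl⟩
  let rel : ι → ι → Prop := fun i j => ∀ l ∈ M, (l i = 1 ↔ l j = 1)
  have hsub : ∀ i j, (∀ l ∈ M, l i = 1 → l j = 1) → rel i j := by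
    intro i j h l hl
    refine ⟨h l hl, fun hj => ?_⟩
    rcases (hIm {j} i).eq_bot_or_eq_top with h' | h'
    · have : l i ∈ Im {j} i := ⟨l, hl, by simpa using hj, rfl⟩
      rw [h', Subgroup.mem_bot] at this
      exact this
    · exfalso
      obtain ⟨t, ht⟩ := exists_ne (1 : T)
      obtain ⟨l₁, hl₁, hl₁t⟩ := hsurj j t
      obtain ⟨l₂, hl₂, hl₂j, hl₂i⟩ : l₁ i ∈ Im {j} i := h' ▸ Subgroup.mem_top _
      have hj' := hl₂j j (Finset.mem_singleton_self j)
      have := h (l₂⁻¹ * l₁) (M.mul_mem (M.inv_mem hl₂) hl₁) (by simp [hl₂i])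
      simp [hj', hl₁t] at this
      exact ht this
  have hdelta : ∀ r : ι, ∀ R : Finset ι, (∀ r' ∈ R, ¬ rel r' r) → Im R r = ⊤ := by
    intro r R
    induction R using Finset.induction_on with
    | empty =>
      intro _
      refine (Subgroup.eq_top_iff' _).2 fun t => ?_
      obtain ⟨l, hl, hlt⟩ := hsurj r t
      exact ⟨l, hl, by simp, hlt⟩
    | insert r' R _ ih =>
      intro hR
      have h1 := ih fun x hx => hR x (Finset.mem_insert_of_mem hx)
      have h2 : Im {r'} r = ⊤ := by
        refine ((hIm _ _).eq_bot_or_eq_top).resolve_left fun h => ?_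
        refine hR r' (Finset.mem_insert_self _ _) (hsub _ _ fun l hl hl' => ?_)
        have : l r ∈ Im {r'} r := ⟨l, hl, by simpa using hl', rfl⟩
        rwa [h, Subgroup.mem_bot] at this
      refine ((hIm _ _).eq_bot_or_eq_top).resolve_left fun h => hT ⟨⟨fun s t => ?_⟩⟩
      obtain ⟨l, hl, hlR, rfl⟩ : s ∈ Im R r := h1 ▸ Subgroup.mem_top _
      obtain ⟨y, hy, hyR, rfl⟩ : t ∈ Im {r'} r := h2 ▸ Subgroup.mem_top _
      have hy' := hyR r' (Finset.mem_singleton_self r')
      have : l r * y r * (y r * l r)⁻¹ ∈ Im (insert r' R) r := by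
        refine ⟨l * y * (y * l)⁻¹,
          M.mul_mem (M.mul_mem hl hy) (M.inv_mem (M.mul_mem hy hl)), fun x hx => ?_, rfl⟩
        rcases Finset.mem_insert.1 hx with rfl | hx
        · simp [hy']
        · simp [hlR x hx]
      rw [h, Subgroup.mem_bot, mul_inv_eq_one] at this
      exact this
  have hequiv : Equivalence rel :=
    ⟨fun i l _ => Iff.rfl, fun h l hl => (h l hl).symm,
      fun h h' l hl => (h l hl).trans (h' l hl)⟩
  let st : Setoid ι := ⟨rel, hequiv⟩
  let c : ι → ι := fun i => (Quotient.mk st i).out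
  have hc : ∀ i, rel (c i) i := fun i => Quotient.exact (Quotient.out_eq (Quotient.mk st i))
  have hcc : ∀ i j, c i = c j ↔ rel i j := by
    refine fun i j => ⟨fun h => ?_, fun h => congrArg Quotient.out (Quotient.sound h)⟩
    exact hequiv.trans (hequiv.symm (hc i)) (h ▸ hc j)
  have hidem : ∀ i, c (c i) = c i := fun i => (hcc _ _).2 (hc i)
  -- the twisting automorphisms
  have key : ∀ i, ∀ l ∈ M, ∀ l' ∈ M, l (c i) = l' (c i) → l i = l' i := by
    intro i l hl l' hl' h
    have := (hc i (l'⁻¹ * l) (M.mul_mem (M.inv_mem hl') hl)).1 (by simp [h])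
    simp only [Pi.mul_apply, Pi.inv_apply, inv_mul_eq_one] at this
    exact this.symm
  choose pre hpre hpre' using hsurj
  let φ₀ : ι → T →* T := fun i => MonoidHom.mk' (fun t => pre (c i) t i) fun s t =>
    key i _ (hpre _ _) (pre (c i) s * pre (c i) t) (M.mul_mem (hpre _ _) (hpre _ _))
      (by simp [hpre'])
  have hφbij : ∀ i, Function.Bijective (φ₀ i) := by
    intro i
    constructor
    · rw [injective_iff_map_eq_one]
      intro t ht
      have := (hc i _ (hpre (c i) t)).2 ht
      rwa [hpre'] at this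
    · intro t
      refine ⟨pre i t (c i), ?_⟩
      show pre (c i) (pre i t (c i)) i = t
      rw [key i _ (hpre _ _) _ (hpre i t) (hpre' _ _), hpre']
  refine ⟨c, fun i => MulEquiv.ofBijective (φ₀ i) (hφbij i), hcc, hidem, fun i t => ?_, fun x => ⟨?_, ?_⟩⟩
  · show pre (c (c i)) t (c i) = t
    rw [hidem, hpre']
  · intro hx i
    exact key i x hx _ (hpre _ _) (hpre' _ _).symm
  · intro hx
    -- agreement on the representatives
    have hR : ∀ R : Finset ι, (∀ r ∈ R, c r = r) → ∃ l ∈ M, ∀ r ∈ R, l r = x r := by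
      intro R
      induction R using Finset.induction_on with
      | empty => exact fun _ => ⟨1, M.one_mem, by simp⟩
      | insert r R hr ih =>
        intro hfix
        obtain ⟨l, hl, hlR⟩ := ih fun y hy => hfix y (Finset.mem_insert_of_mem hy)
        have h1 := hdelta r R fun y hy h => hr (by
          have := (hcc y r).2 h
          rw [hfix y (Finset.mem_insert_of_mem hy), hfix r (Finset.mem_insert_self r R)] at this
          exact this ▸ hy)
        obtain ⟨y, hy, hyR, hyr⟩ : (l r)⁻¹ * x r ∈ Im R r := h1 ▸ Subgroup.mem_top _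
        refine ⟨l * y, M.mul_mem hl hy, fun z hz => ?_⟩
        rcases Finset.mem_insert.1 hz with rfl | hz
        · simp [hyr]
        · simp [hlR z hz, hyR z hz]
    obtain ⟨l, hl, hlR⟩ := hR (Finset.univ.filter fun r => c r = r) (by simp)
    have : x = l := by
      funext i
      rw [hx i, ← hlR (c i) (by simp [hidem])]
      exact key i _ (hpre _ _) l hl (hpre' _ _)
    exact this ▸ hl

end Cfsg.Agent.Perm.Subdirect
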