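import Mathlib
import Cfsg.Agent.Lib.Perm.SylowEightData

/-!
# Two Sylow 2-subgroups of the symmetric group of degree eight meet non-trivially
-/

set_option autoImplicit false

namespace Cfsg.Agent.Perm.SylowEight

open Equiv

local notation "S8" => Equiv.Perm (Fin 8)

theorem gen_step : ∀ (b : Fin 7) (n : Fin 128), ∃ m : Fin 128, ∀ z, word n (gen b z) = word m z := by
  decide +kernel

theorem gen_sq : ∀ b : Fin 7, gen b * gen b = 1 := by decide +kernel

theorem word_injective_table : ∀ n m : Fin 128, (∀ z, word n z = word m z) → n = m := by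
  decide +kernel

/-- A Sylow 2-subgroup. -/
def base : Subgroup S8 := Subgroup.closure (Set.range gen)

theorem word_mem (n : Fin 128) : word n ∈ base := by
  suffices ∀ (l : List (Fin 7)) (r : S8), r ∈ base →
      l.foldl (fun r b => if (n.val / 2 ^ b.val) % 2 = 1 then r * gen b else r) r ∈ base from
    this _ 1 base.one_mem
  intro l
  induction l with
  | nil => exact fun r hr => hr
  | cons b l ih =>
    intro r hr
    refine ih _ ?_
    show (if (n.val / 2 ^ b.val) % 2 = 1 then r * gen b else r) ∈ base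
    split_ifs
    · exact base.mul_mem hr (Subgroup.subset_closure ⟨b, rfl⟩)
    · exact hr

theorem exists_word {g : S8} (hg : g ∈ base) : ∃ n, g = word n := by
  have hone : (1 : S8) = word 0 := by decide +kernel
  have hinv : ∀ b, (gen b)⁻¹ = gen b := fun b => inv_eq_of_mul_eq_one_right (gen_sq b)
  have key : ∀ (b : Fin 7) (n : Fin 128), ∃ m, word n * gen b = word m := fun b n => by
    obtain ⟨m, hm⟩ := gen_step b n
    exact ⟨m, Equiv.ext fun z => hm z⟩
  induction hg using Subgroup.closure_induction_right with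
  | one => exact ⟨0, hone⟩
  | mul_right x _ y hy ih =>
    obtain ⟨n, rfl⟩ := ih
    obtain ⟨b, rfl⟩ := hy
    exact key b n
  | mul_inv_cancel x _ y hy ih =>
    obtain ⟨n, rfl⟩ := ih
    obtain ⟨b, rfl⟩ := hy
    rw [hinv]
    exact key b n

theorem natCard_base : Nat.card base = 128 := by
  have hbij : Function.Bijective fun n : Fin 128 => (⟨word n, word_mem n⟩ : base) :=
    ⟨fun n m h => word_injective_table n m fun z => Equiv.congr_fun (congrArg Subtype.val h) z,
      fun g => (exists_word g.2).imp fun n hn => Subtype.ext hn.symm⟩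
  rw [← Nat.card_eq_of_bijective _ hbij, Nat.card_fin]

theorem step_check : ∀ i : Fin 315,
    (step.getD i (0, 0, 0, 0)).1 < 315 ∧ (step.getD i (0, 0, 0, 0)).2.2.1 < 315 ∧
    (∀ z, Equiv.swap (0 : Fin 8) 1 (rep i z) =
      rep (step.getD i (0, 0, 0, 0)).1 (word (Fin.ofNat 128 (step.getD i (0, 0, 0, 0)).2.1) z)) ∧
    (∀ z, finRotate 8 (rep i z) =
      rep (step.getD i (0, 0, 0, 0)).2.2.1
        (word (Fin.ofNat 128 (step.getD i (0, 0, 0, 0)).2.2.2) z)) := by
  decide +kernel

theorem witness_check : ∀ i : Fin 315, Fin.ofNat 128 (witness.getD i (0, 0)).1 ≠ 0 ∧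
    ∀ z, rep i (word (Fin.ofNat 128 (witness.getD i (0, 0)).1) z) =
      word (Fin.ofNat 128 (witness.getD i (0, 0)).2) (rep i z) := by
  decide +kernel

theorem rep_zero : ∀ z, rep 0 z = z := by decide +kernel

/-- The cosets are covered. -/
def Covered (y : S8) : Prop := ∃ i : Fin 315, ∃ k ∈ base, ∀ z, y z = rep i (k z)

theorem covered (y : S8) : Covered y := by
  have h1 : Covered 1 := ⟨0, 1, base.one_mem, fun z => (rep_zero z).symm⟩
  have hs : ∀ y, Covered y → Covered (Equiv.swap (0 : Fin 8) 1 * y) := by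
    rintro y ⟨i, k, hk, hy⟩
    obtain ⟨hj, -, h, -⟩ := step_check i
    exact ⟨⟨_, hj⟩, _, base.mul_mem (word_mem _) hk, fun z => by
      rw [Perm.mul_apply, hy, h, Perm.mul_apply]⟩
  have hr : ∀ y, Covered y → Covered (finRotate 8 * y) := by
    rintro y ⟨i, k, hk, hy⟩
    obtain ⟨-, hj, -, h⟩ := step_check i
    exact ⟨⟨_, hj⟩, _, base.mul_mem (word_mem _) hk, fun z => by
      rw [Perm.mul_apply, hy, h, Perm.mul_apply]⟩
  have hpow : ∀ (n : ℕ) y, Covered y → Covered (finRotate 8 ^ n * y) := by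
    intro n
    induction n with
    | zero => intro y hy; rwa [pow_zero, one_mul]
    | succ n ih => intro y hy; rw [pow_succ', mul_assoc]; exact hr _ (ih y hy)
  have htop : y ∈ Subgroup.closure ({finRotate 8, Equiv.swap 0 (finRotate 8 0)} : Set S8) := by
    rw [Perm.closure_cycle_adjacent_swap isCycle_finRotate support_finRotate]
    trivial
  induction htop using Subgroup.closure_induction_left with
  | one => exact h1
  | mul_left x hx y _ ih =>
    rcases hx with rfl | rfl
    · exact hr _ ih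
    · exact hs _ ih
  | inv_mul_cancel x hx y _ ih =>
    rcases hx with rfl | rfl
    · have h8 : (finRotate 8)⁻¹ = finRotate 8 ^ 7 := by decide +kernel
      rw [h8]
      exact hpow 7 _ ih
    · rw [Equiv.swap_inv]
      exact hs _ ih

theorem exists_common (y : S8) :
    ∃ u, u ≠ 1 ∧ u ∈ base ∧ u ∈ base.map (MulAut.conj y).toMonoidHom := by
  obtain ⟨i, k, hk, hy⟩ := covered y
  obtain ⟨hn, hw⟩ := witness_check i
  set n := Fin.ofNat 128 (witness.getD i (0, 0)).1
  set m := Fin.ofNat 128 (witness.getD i (0, 0)).2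
  have hne : word n ≠ 1 := fun h => hn (word_injective_table n 0 fun z => by
    rw [h]
    revert z
    decide +kernel)
  have hw1 : k⁻¹ * word n * k ∈ base := base.mul_mem (base.mul_mem (base.inv_mem hk) (word_mem n)) hk
  have heq : y * (k⁻¹ * word n * k) * y⁻¹ = word m := by
    rw [mul_inv_eq_iff_eq_mul]
    refine Equiv.ext fun z => ?_
    rw [Perm.mul_apply, Perm.mul_apply (f := word m), hy, hy, ← hw]
    simp [Perm.mul_apply]
  refine ⟨word m, ?_, word_mem m, ⟨_, hw1, heq⟩⟩
  intro h1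
  rw [h1, mul_inv_eq_iff_eq_mul, one_mul, mul_eq_left] at heq
  exact hne (by rwa [mul_assoc, inv_mul_eq_one, eq_comm, mul_eq_right] at heq)

theorem meet_ne_bot (H : Sylow 2 S8) (x : S8) :
    (H : Subgroup S8) ⊓ (H : Subgroup S8).map (MulAut.conj x).toMonoidHom ≠ ⊥ := by
  haveI : Fact (Nat.Prime 2) := ⟨Nat.prime_two⟩
  obtain ⟨Q, hQ⟩ := (IsPGroup.of_card (p := 2) (n := 7) (G := base)
    (by rw [natCard_base]; norm_num)).exists_le_sylow
  have hQcard : Nat.card (Q : Subgroup S8) ≤ 128 := by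
    obtain ⟨j, hj⟩ := IsPGroup.iff_card.1 Q.isPGroup'
    have hd : 2 ^ j ∣ 2 ^ 7 * 315 := by
      have h := Subgroup.card_subgroup_dvd_card (Q : Subgroup S8)
      rw [hj, Nat.card_perm, Nat.card_fin] at h
      exact h
    have hd' : 2 ^ j ∣ 2 ^ 7 :=
      ((Nat.Coprime.pow_left j (by norm_num : Nat.Coprime 2 315))).dvd_of_dvd_mul_right hd
    rw [hj]
    exact Nat.le_of_dvd (by norm_num) hd'
  have hQb : (Q : Subgroup S8) = base :=
    (Subgroup.eq_of_le_of_card_ge hQ (by rw [natCard_base]; exact hQcard)).symm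
  obtain ⟨g, hg⟩ := MulAction.exists_smul_eq S8 Q H
  have hH : (H : Subgroup S8) = base.map (MulAut.conj g).toMonoidHom := by
    rw [← hg, Sylow.coe_subgroup_smul, hQb]
    rfl
  intro hbot
  obtain ⟨u, hu1, hu, hu'⟩ := exists_common (g⁻¹ * x * g)
  have h1 : g * u * g⁻¹ ∈ (H : Subgroup S8) := by rw [hH]; exact ⟨u, hu, rfl⟩
  obtain ⟨v, hv, hvu⟩ := hu'
  have h2 : g * u * g⁻¹ ∈ (H : Subgroup S8).map (MulAut.conj x).toMonoidHom := by
    refine ⟨g * v * g⁻¹, by rw [hH]; exact ⟨v, hv, rfl⟩, ?_⟩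
    rw [← hvu]
    simp [mul_assoc]
  have hmem : g * u * g⁻¹ ∈ (⊥ : Subgroup S8) := hbot ▸ ⟨h1, h2⟩
  rw [Subgroup.mem_bot, mul_inv_eq_iff_eq_mul, one_mul, mul_eq_left] at hmem
  exact hu1 hmem

end Cfsg.Agent.Perm.SylowEight
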