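import Mathlib

/-!
# Sylvester's theorem

For `1 ≤ k` and `2 * k ≤ m` the binomial coefficient `choose m k` has a prime divisor exceeding `k`.
Large `k`: the bound of Erdős. Small `k`: a chain of primes.
-/

namespace Cfsg.Agent.Sylvester

open Finset Nat

/-- A large prime in one of the factors of the falling factorial divides the coefficient. -/
theorem dvd_choose_of_dvd_sub {m k p i : ℕ} (hp : p.Prime) (hkp : k < p) (hi : i < k)
    (hd : p ∣ m - i) : p ∣ m.choose k := by
  have h1 : p ∣ m.descFactorial k := by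
    rw [Nat.descFactorial_eq_prod_range]
    exact hd.trans (Finset.dvd_prod_of_mem _ (Finset.mem_range.2 hi))
  rw [Nat.descFactorial_eq_factorial_mul_choose] at h1
  refine (hp.dvd_mul.1 h1).resolve_left fun h => ?_
  have := hp.dvd_factorial.1 h
  omega

theorem desc_ratio {m k : ℕ} (hkm : k ≤ m) :
    ∀ j, j ≤ k → m ^ j * k.descFactorial j ≤ m.descFactorial j * k ^ j := by
  intro j
  induction j with
  | zero => simp
  | succ j ih =>
    intro hj
    have h1 : m * (k - j) ≤ (m - j) * k := by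
      rw [Nat.mul_sub, Nat.sub_mul]
      have : j * k ≤ m * j := by
        rw [mul_comm m j]
        exact Nat.mul_le_mul_left j hkm
      have h2 : j * k ≤ m * k := Nat.mul_le_mul_right k (by omega)
      omega
    calc m ^ (j + 1) * k.descFactorial (j + 1)
        = (m * (k - j)) * (m ^ j * k.descFactorial j) := by
          rw [Nat.descFactorial_succ]; ring
      _ ≤ ((m - j) * k) * (m.descFactorial j * k ^ j) := Nat.mul_le_mul h1 (ih (by omega))
      _ = m.descFactorial (j + 1) * k ^ (j + 1) := by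
          rw [Nat.descFactorial_succ]; ring

theorem pow_le_mul_choose {m k : ℕ} (hkm : k ≤ m) : m ^ k ≤ k ^ k * m.choose k := by
  have h := desc_ratio hkm k le_rfl
  rw [Nat.descFactorial_self, Nat.descFactorial_eq_factorial_mul_choose] at h
  refine Nat.le_of_mul_le_mul_right (c := k !) ?_ (Nat.factorial_pos k)
  calc m ^ k * k ! ≤ k ! * m.choose k * k ^ k := h
    _ = k ^ k * m.choose k * k ! := by ring

theorem card_primes_le {B : ℕ} {S : Finset ℕ} (h : ∀ p ∈ S, p.Prime ∧ p ≤ B) :
    S.card ≤ Nat.primeCounting B := by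
  rw [← Nat.primesLE_card_eq_primeCounting]
  refine Finset.card_le_card fun p hp => ?_
  rw [Nat.mem_primesLE]
  exact ⟨(h p hp).2, (h p hp).1⟩

/-- All prime factors at most `B`: at most `π B` prime powers, each at most `m`. -/
theorem choose_le_pow {m k B : ℕ} (hm : 0 < m) (hkm : k ≤ m)
    (h : ∀ p, p.Prime → p ∣ m.choose k → p ≤ B) : m.choose k ≤ m ^ Nat.primeCounting B := by
  conv_lhs => rw [← Nat.prod_factorization_pow_eq_self (Nat.choose_ne_zero hkm)]
  rw [Finsupp.prod, Nat.support_factorization]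
  refine (Finset.prod_le_pow_card _ _ m fun p _ => Nat.pow_factorization_choose_le hm).trans ?_
  refine Nat.pow_le_pow_right hm (card_primes_le fun p hp => ?_)
  have := Nat.prime_of_mem_primeFactors hp
  exact ⟨this, h p this (Nat.dvd_of_mem_primeFactors hp)⟩

/-- Primes above the square root appear at most once. -/
theorem choose_le_primorial {m k B : ℕ} (hm : 0 < m) (hkm : k ≤ m)
    (h : ∀ p, p.Prime → p ∣ m.choose k → p ≤ B) :
    m.choose k ≤ m ^ Nat.primeCounting (Nat.sqrt m) * 4 ^ B := by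
  conv_lhs => rw [← Nat.prod_factorization_pow_eq_self (Nat.choose_ne_zero hkm)]
  rw [Finsupp.prod, Nat.support_factorization,
    ← Finset.prod_filter_mul_prod_filter_not _ (fun p => p ≤ Nat.sqrt m)]
  refine Nat.mul_le_mul ?_ ?_
  · refine (Finset.prod_le_pow_card _ _ m fun p _ => Nat.pow_factorization_choose_le hm).trans ?_
    refine Nat.pow_le_pow_right hm (card_primes_le fun p hp => ?_)
    rw [Finset.mem_filter] at hp
    exact ⟨Nat.prime_of_mem_primeFactors hp.1, hp.2⟩
  · refine le_trans ?_ (primorial_le_four_pow B)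
    refine (Finset.prod_le_prod' (g := fun p => p) fun p hp => ?_).trans ?_
    · rw [Finset.mem_filter] at hp
      exact (Nat.pow_le_pow_right (Nat.prime_of_mem_primeFactors hp.1).pos
        (Nat.factorization_choose_le_one (Nat.sqrt_lt'.1 (not_le.1 hp.2)))).trans (pow_one p).le
    · rw [primorial_eq_prod_primesLE]
      refine Finset.prod_le_prod_of_subset_of_one_le' (fun p hp => ?_) fun p hp _ => ?_
      · rw [Finset.mem_filter] at hp
        rw [Nat.mem_primesLE]
        exact ⟨h p (Nat.prime_of_mem_primeFactors hp.1) (Nat.dvd_of_mem_primeFactors hp.1),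
          Nat.prime_of_mem_primeFactors hp.1⟩
      · exact ((Nat.mem_primesLE).1 hp).2.one_lt.le

theorem three_pi_le {x : ℕ} : 3 * Nat.primeCounting x ≤ x + 9 := by
  rcases Nat.lt_or_ge x 6 with h | h
  · interval_cases x <;> decide
  · obtain ⟨n, rfl⟩ := Nat.exists_eq_add_of_le h
    have h1 := Nat.primeCounting_add_le (a := 6) (k := 6) (by norm_num) le_rfl n
    have h2 : Nat.totient 6 = 2 := by decide
    have h3 : Nat.primeCounting 6 = 3 := by decide
    rw [h2, h3] at h1
    omega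

theorem seven_pi_le {k : ℕ} (h : 14 ≤ k) : 7 * Nat.primeCounting k ≤ 3 * k := by
  rcases Nat.lt_or_ge k 32 with h' | h'
  · interval_cases k <;> decide
  · obtain ⟨n, rfl⟩ := Nat.exists_eq_add_of_le (show 6 ≤ k by omega)
    have h1 := Nat.primeCounting_add_le (a := 6) (k := 6) (by norm_num) le_rfl n
    have h2 : Nat.totient 6 = 2 := by decide
    have h3 : Nat.primeCounting 6 = 3 := by decide
    rw [h2, h3] at h1
    omega

theorem three_pi_le_self {k : ℕ} (h : 150 ≤ k) : 3 * Nat.primeCounting k ≤ k := by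
  obtain ⟨n, rfl⟩ := Nat.exists_eq_add_of_le (show 30 ≤ k by omega)
  have h1 := Nat.primeCounting_add_le (a := 30) (k := 30) (by norm_num) le_rfl n
  have h2 : Nat.totient 30 = 8 := by decide
  have h3 : Nat.primeCounting 30 = 10 := by decide
  rw [h2, h3] at h1
  omega

section Smooth

variable {m k : ℕ}

/-- The crude consequence of having no prime factor above `k`. -/
theorem smooth_pow_le (hk : 1 ≤ k) (hmk : 2 * k ≤ m)
    (hs : ∀ p, p.Prime → p ∣ m.choose k → p ≤ k) :
    m ^ (k - Nat.primeCounting k) ≤ k ^ k := by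
  have hπ : Nat.primeCounting k ≤ k := by
    rw [← Nat.primesLE_card_eq_primeCounting]
    have : Nat.primesLE k ⊆ Finset.Icc 1 k := fun p hp => by
      rw [Nat.mem_primesLE] at hp
      exact Finset.mem_Icc.2 ⟨hp.2.one_lt.le, hp.1⟩
    exact (Finset.card_le_card this).trans_eq (by simp)
  have h1 : m ^ k ≤ k ^ k * m ^ Nat.primeCounting k :=
    (pow_le_mul_choose (by omega)).trans
      (Nat.mul_le_mul_left _ (choose_le_pow (by omega) (by omega) hs))
  refine Nat.le_of_mul_le_mul_right (c := m ^ Nat.primeCounting k) ?_ (Nat.pow_pos (by omega))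
  rwa [← pow_add, Nat.sub_add_cancel hπ]

theorem smooth_four_seven (hk : 14 ≤ k) (hmk : 2 * k ≤ m)
    (hs : ∀ p, p.Prime → p ∣ m.choose k → p ≤ k) : m ^ 4 ≤ k ^ 7 := by
  have h1 := Nat.pow_le_pow_left (smooth_pow_le (by omega) hmk hs) 7
  rw [← pow_mul, ← pow_mul] at h1
  have h2 : m ^ (4 * k) ≤ m ^ ((k - Nat.primeCounting k) * 7) :=
    Nat.pow_le_pow_right (by omega) (by have := seven_pi_le hk; omega)
  have h3 := h2.trans h1
  rw [pow_mul, mul_comm k 7, pow_mul] at h3
  exact (Nat.pow_le_pow_iff_left (by omega)).1 h3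

theorem smooth_two_three (hk : 150 ≤ k) (hmk : 2 * k ≤ m)
    (hs : ∀ p, p.Prime → p ∣ m.choose k → p ≤ k) : m ^ 2 ≤ k ^ 3 := by
  have h1 := Nat.pow_le_pow_left (smooth_pow_le (by omega) hmk hs) 3
  rw [← pow_mul, ← pow_mul] at h1
  have h2 : m ^ (2 * k) ≤ m ^ ((k - Nat.primeCounting k) * 3) :=
    Nat.pow_le_pow_right (by omega) (by have := three_pi_le_self hk; omega)
  have h3 := h2.trans h1
  rw [pow_mul, mul_comm k 3, pow_mul] at h3
  exact (Nat.pow_le_pow_iff_left (by omega)).1 h3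

/-- The condition on consecutive entries of the chain. -/
def step (a b : ℕ) : Bool :=
  (b - a ≤ 14) || ((b - a) ^ 7 ≤ a ^ 4) || (6421 ≤ a && (b - a) ^ 3 ≤ a ^ 2)

def chain : List ℕ → Bool
  | [] => false
  | [a] => a ≤ 28
  | b :: a :: l => step a b && chain (a :: l)

theorem not_smooth_of_chain (hk : 14 ≤ k) (hmk : 2 * k ≤ m)
    (hs : ∀ p, p.Prime → p ∣ m.choose k → p ≤ k) :
    ∀ (l : List ℕ) (b : ℕ), (∀ a ∈ l, a.Prime) → chain (b :: l) = true → m < b → False
  | [], b, _, hc, hm => by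
    simp [chain] at hc
    omega
  | a :: l, b, hp, hc, hm => by
    simp only [chain, Bool.and_eq_true] at hc
    rcases Nat.lt_or_ge m a with h | h
    · exact not_smooth_of_chain hk hmk hs l a (fun x hx => hp x (by simp [hx])) hc.2 h
    rcases Nat.lt_or_ge m (a + k) with h' | h'
    · have := hs a (hp a (by simp))
        (dvd_choose_of_dvd_sub (i := m - a) (hp a (by simp)) (by omega) (by omega)
          (by rw [Nat.sub_sub_self h]))
      omega
    · have hd : k < b - a := by omega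
      have hstep := hc.1
      simp only [step, Bool.or_eq_true, Bool.and_eq_true, decide_eq_true_eq] at hstep
      have h47 := smooth_four_seven hk hmk hs
      have ha4 : a ^ 4 ≤ m ^ 4 := Nat.pow_le_pow_left h 4
      rcases hstep with (h1 | h1) | ⟨h1, h2⟩
      · omega
      · have := Nat.pow_lt_pow_left hd (show (7 : ℕ) ≠ 0 by omega)
        omega
      · have hk150 : 150 ≤ k := by
          by_contra hlt
          have e1 : k ^ 7 ≤ 149 ^ 7 := Nat.pow_le_pow_left (by omega) 7
          have e2 : 6421 ^ 4 ≤ a ^ 4 := Nat.pow_le_pow_left h1 4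
          have e3 : (149 : ℕ) ^ 7 < 6421 ^ 4 := by norm_num
          omega
        have h23 := smooth_two_three hk150 hmk hs
        have ha2 : a ^ 2 ≤ m ^ 2 := Nat.pow_le_pow_left h 2
        have := Nat.pow_lt_pow_left hd (show (3 : ℕ) ≠ 0 by omega)
        omega

def primeTop : ℕ := 266059

def primeList : List ℕ := [
  261983, 257953, 253951, 249989, 246073, 242201, 238373, 234589, 230833, 227113, 223441,
  219809, 216217, 212669, 209147, 205663, 202219, 198823, 195457, 192133, 188843, 185599, 182389,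
  179213, 176089, 172999, 169943, 166919, 163927, 160997, 158077, 155209, 152363, 149551, 146777,
  144031, 141319, 138661, 136027, 133417, 130859, 128321, 125813, 123341, 120899, 118493, 116131,
  113783, 111467, 109201, 106949, 104729, 102551, 100393, 98269, 96181, 94121, 92111, 90107,
  88129, 86209, 84313, 82421, 80567, 78737, 76961, 75181, 73433, 71713, 70019, 68351,
  66721, 65111, 63521, 61961, 60427, 58913, 57427, 55967, 54541, 53129, 51749, 50387,
  49057, 47743, 46457, 45197, 43963, 42743, 41549, 40387, 39251, 38119, 37021, 35933,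
  34871, 33827, 32803, 31817, 30841, 29881, 28949, 28031, 27143, 26267, 25411, 24571,
  23747, 22943, 22159, 21391, 20641, 19927, 19219, 18523, 17851, 17191, 16553, 15923,
  15319, 14723, 14143, 13577, 13037, 12503, 11987, 11497, 11003, 10531, 10069, 9619,
  9181, 8761, 8353, 7963, 7591, 7229, 6869, 6521, 6373, 6229, 6091, 5953,
  5839, 5701, 5563, 5431, 5297, 5167, 5039, 4919, 4801, 4679, 4561, 4441,
  4327, 4211, 4099, 3989, 3877, 3767, 3659, 3559, 3461, 3359, 3259, 3163,
  3067, 2971, 2887, 2797, 2707, 2621, 2543, 2459, 2377, 2297, 2221, 2143,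
  2069, 2003, 1933, 1873, 1801, 1733, 1669, 1621, 1559, 1499, 1439, 1381,
  1327, 1279, 1223, 1171, 1117, 1069, 1021, 977, 929, 887, 853, 811,
  773, 743, 701, 661, 631, 593, 557, 523, 499, 467, 439, 409,
  383, 359, 337, 317, 293, 271, 251, 229, 211, 199, 181, 167,
  151, 139, 127, 113, 109, 97, 83, 73, 61, 47, 37, 23]

set_option maxRecDepth 10000 in
theorem chain_primeList : chain (primeTop :: primeList) = true := by decide +kernel

set_option maxHeartbeats 4000000 in
set_option maxRecDepth 10000 in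
theorem prime_primeList : ∀ a ∈ primeList, a.Prime := by
  simp only [primeList, List.forall_mem_cons, List.not_mem_nil, IsEmpty.forall_iff, implies_true,
    and_true]
  repeat' apply And.intro
  all_goals norm_num

theorem log_bound : ∀ L, 12 ≤ L → 8 * (L + 6) ^ 2 ≤ 2 ^ L := by
  refine Nat.le_induction (by norm_num) fun L hL ih => ?_
  rw [pow_succ 2 L]
  nlinarith

theorem log_bound_four : ∀ L, 12 ≤ L → (L + 6) ^ 4 ≤ 256 * 2 ^ L := by
  refine Nat.le_induction (by norm_num) fun L hL ih => ?_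
  rw [pow_succ 2 L]
  have h6 : (L + 1 + 6) ^ 4 ≤ 2 * (L + 6) ^ 4 := by
    have : 18 ≤ L + 6 := by omega
    nlinarith [Nat.mul_le_mul this this, Nat.mul_le_mul (Nat.mul_le_mul this this) this]
  omega

theorem six_pow_le : ∀ k, 4 ≤ k → 6 ^ k ≤ 3 * (3 * k).choose k := by
  refine Nat.le_induction (by decide) fun k hk ih => ?_
  have a1 := Nat.add_one_mul_choose_eq (3 * k + 2) k
  have a2 := Nat.choose_mul_succ_eq (3 * k + 1) k
  have a3 := Nat.choose_mul_succ_eq (3 * k) k
  rw [show 3 * k + 1 + 1 - k = 2 * k + 2 by omega] at a2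
  rw [show 3 * k + 1 - k = 2 * k + 1 by omega] at a3
  rw [show 3 * (k + 1) = 3 * k + 2 + 1 by ring, pow_succ]
  set c0 := (3 * k).choose k
  set c1 := (3 * k + 1).choose k
  set c2 := (3 * k + 2).choose k
  set c3 := (3 * k + 2 + 1).choose (k + 1)
  have e : (3 * k + 3) * (3 * k + 2) * (3 * k + 1) * c0 =
      c3 * (k + 1) * (2 * k + 2) * (2 * k + 1) := by
    calc (3 * k + 3) * (3 * k + 2) * (3 * k + 1) * c0
        = (3 * k + 3) * (3 * k + 2) * (c0 * (3 * k + 1)) := by ring
      _ = (3 * k + 3) * (c1 * (3 * k + 1 + 1)) * (2 * k + 1) := by rw [a3]; ring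
      _ = ((3 * k + 2 + 1) * c2) * (2 * k + 2) * (2 * k + 1) := by rw [a2]; ring
      _ = c3 * (k + 1) * (2 * k + 2) * (2 * k + 1) := by rw [a1]
  have hco : 6 * ((k + 1) * (2 * k + 2) * (2 * k + 1)) ≤
      (3 * k + 3) * (3 * k + 2) * (3 * k + 1) := by
    have hq : 12 * (k + 1) * (2 * k + 1) ≤ 3 * ((3 * k + 2) * (3 * k + 1)) := by nlinarith
    calc 6 * ((k + 1) * (2 * k + 2) * (2 * k + 1))
        = (k + 1) * (12 * (k + 1) * (2 * k + 1)) := by ring
      _ ≤ (k + 1) * (3 * ((3 * k + 2) * (3 * k + 1))) := Nat.mul_le_mul_left _ hq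
      _ = _ := by ring
  refine Nat.le_of_mul_le_mul_right (c := (k + 1) * (2 * k + 2) * (2 * k + 1)) ?_ (by positivity)
  calc 6 ^ k * 6 * ((k + 1) * (2 * k + 2) * (2 * k + 1))
      = 6 ^ k * (6 * ((k + 1) * (2 * k + 2) * (2 * k + 1))) := by ring
    _ ≤ 3 * c0 * ((3 * k + 3) * (3 * k + 2) * (3 * k + 1)) := Nat.mul_le_mul ih hco
    _ = 3 * c3 * ((k + 1) * (2 * k + 2) * (2 * k + 1)) := by
      rw [show 3 * c0 * ((3 * k + 3) * (3 * k + 2) * (3 * k + 1)) =
        3 * ((3 * k + 3) * (3 * k + 2) * (3 * k + 1) * c0) by ring, e]; ring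

theorem three_halves_pow_mul_le :
    ∀ j, 2 * k + j ≤ 3 * k → 3 ^ j * (2 * k).choose k ≤ 2 ^ j * (2 * k + j).choose k := by
  intro j
  induction j with
  | zero => simp
  | succ j ih =>
    intro hj
    have h1 := Nat.choose_mul_succ_eq (2 * k + j) k
    rw [show 2 * k + j + 1 - k = k + j + 1 by omega] at h1
    rw [← add_assoc]
    refine Nat.le_of_mul_le_mul_right (c := k + j + 1) ?_ (by omega)
    calc 3 ^ (j + 1) * (2 * k).choose k * (k + j + 1)
        = 3 ^ j * (2 * k).choose k * (3 * (k + j + 1)) := by ring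
      _ ≤ 2 ^ j * (2 * k + j).choose k * (2 * (2 * k + j + 1)) :=
          Nat.mul_le_mul (ih (by omega)) (by omega)
      _ = 2 ^ (j + 1) * (2 * k + j + 1).choose k * (k + j + 1) := by
          rw [show 2 ^ j * (2 * k + j).choose k * (2 * (2 * k + j + 1)) =
            2 ^ (j + 1) * ((2 * k + j).choose k * (2 * k + j + 1)) by ring, h1]; ring

/-- Bookkeeping of exponents. -/
theorem exponent_bound {t A : ℕ} (hA : t ^ 2 * m ≤ A ^ 2) :
    3 * (t * Nat.primeCounting (Nat.sqrt m)) ≤ A + 9 * t := by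
  have h1 : t * Nat.sqrt m ≤ A := by
    refine (Nat.pow_le_pow_iff_left (show 2 ≠ 0 by omega)).1 ?_
    rw [mul_pow]
    exact (Nat.mul_le_mul_left _ (Nat.sqrt_le' m)).trans hA
  have h2 := Nat.mul_le_mul_left t (three_pi_le (x := Nat.sqrt m))
  nlinarith

theorem not_smooth_large (hk : 4096 ≤ k) (hmk : 2 * k ≤ m)
    (hs : ∀ p, p.Prime → p ∣ m.choose k → p ≤ k) : False := by
  set L := Nat.log 2 k with hL
  have hLk : 2 ^ L ≤ k := Nat.pow_log_le_self 2 (by omega)
  have hkL : k < 2 ^ (L + 1) := Nat.lt_pow_succ_log_self (by omega) k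
  have hL12 : 12 ≤ L := Nat.le_log_of_pow_le (by omega) (by norm_num; omega)
  have hlog := log_bound L hL12
  have hlin : 144 * (L + 6) ≤ k := by
    refine le_trans ?_ (hlog.trans hLk)
    nlinarith
  set e := Nat.primeCounting (Nat.sqrt m) with he
  rcases Nat.lt_or_ge m (3 * k) with hA | hA
  · -- `2k ≤ m < 3k`
    obtain ⟨j, rfl⟩ := Nat.exists_eq_add_of_le hmk
    have hj : j < k := by omega
    set m := 2 * k + j with hm
    have hs' : ∀ p, p.Prime → p ∣ m.choose k → p ≤ m / 3 := by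
      intro p hp hd
      by_contra hlt
      have := Nat.factorization_choose_of_lt_three_mul (n := m) (k := k) (p := p)
        (by omega) (hs p hp hd) (by have := hs p hp hd; omega) (by omega)
      have := hp.factorization_pos_of_dvd (Nat.choose_ne_zero (by omega)) hd
      omega
    have hup := choose_le_primorial (by omega) (by omega) hs'
    have hlo := three_halves_pow_mul_le (k := k) j (by omega)
    have hcb : 4 ^ k ≤ k * (2 * k).choose k :=
      (Nat.four_pow_lt_mul_centralBinom k (by omega)).le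
    have h0 : 4 ^ k * 3 ^ j ≤ k * 2 ^ j * (m ^ e * 4 ^ (m / 3)) := by
      calc 4 ^ k * 3 ^ j ≤ k * (2 * k).choose k * 3 ^ j := Nat.mul_le_mul_right _ hcb
        _ = k * (3 ^ j * (2 * k).choose k) := by ring
        _ ≤ k * (2 ^ j * (m ^ e * 4 ^ (m / 3))) :=
          Nat.mul_le_mul_left _ (hlo.trans (Nat.mul_le_mul_left _ hup))
        _ = k * 2 ^ j * (m ^ e * 4 ^ (m / 3)) := by ring
    have hmt : m ≤ 2 ^ (L + 3) := by
      rw [pow_add 2 L 3]; rw [pow_succ] at hkL; omega
    have hexp := exponent_bound (m := m) (t := L + 3) (A := k) (by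
      calc (L + 3) ^ 2 * m ≤ (L + 3) ^ 2 * (3 * k) := Nat.mul_le_mul_left _ hA.le
        _ ≤ 8 * (L + 6) ^ 2 * k := by nlinarith
        _ ≤ k * k := Nat.mul_le_mul_right _ (hlog.trans hLk)
        _ = k ^ 2 := (sq k).symm)
    rw [← he] at hexp
    -- the sixth power, to clear denominators
    have h1 : (4 ^ k * 3 ^ j) ^ 6 ≤ (k * 2 ^ j * (m ^ e * 4 ^ (m / 3))) ^ 6 :=
      Nat.pow_le_pow_left h0 6
    have h2 : (k * 2 ^ j * (m ^ e * 4 ^ (m / 3))) ^ 6 ≤
        2 ^ (6 * (L + 1) + 6 * ((L + 3) * e) + 8 * k + 10 * j) := by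
      calc (k * 2 ^ j * (m ^ e * 4 ^ (m / 3))) ^ 6
          ≤ (2 ^ (L + 1) * 2 ^ j * ((2 ^ (L + 3)) ^ e * (2 ^ 2) ^ (m / 3))) ^ 6 := by
            gcongr <;> norm_num
        _ = 2 ^ (6 * (L + 1) + 6 * ((L + 3) * e) + 6 * j + 12 * (m / 3)) := by
            rw [← pow_mul, ← pow_mul, ← pow_add, ← pow_add, ← pow_add, ← pow_mul]
            ring_nf
        _ ≤ _ := Nat.pow_le_pow_right (by omega) (by omega)
    have h3 : 2 ^ (12 * k) * 729 ^ j ≤ 2 ^ (6 * (L + 1) + 6 * ((L + 3) * e) + 8 * k + 10 * j) := by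
      refine le_trans (le_of_eq ?_) (h1.trans h2)
      rw [mul_pow, show (4 : ℕ) = 2 ^ 2 by norm_num, show (729 : ℕ) = 3 ^ 6 by norm_num]
      simp only [← pow_mul]
      ring_nf
    have h4 : 2 ^ (12 * k + 9 * j) ≤ 2 ^ (12 * k) * 729 ^ j := by
      rw [pow_add, pow_mul 2 9 j]
      exact Nat.mul_le_mul_left _ (Nat.pow_le_pow_left (by norm_num) j)
    have := (Nat.pow_le_pow_iff_right (show 1 < 2 by omega)).1 (h4.trans h3)
    omega
  have hk3 := smooth_two_three (by omega) hmk hs
  have hup := choose_le_primorial (by omega) (by omega) hs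
  rw [← he] at hup
  rcases Nat.lt_or_ge m (8 * k) with hB | hB
  · -- `3k ≤ m < 8k`
    have hmt : m ≤ 2 ^ (L + 4) := by
      rw [pow_add 2 L 4]; rw [pow_succ] at hkL; omega
    have hexp := exponent_bound (m := m) (t := L + 4) (A := k) (by
      calc (L + 4) ^ 2 * m ≤ (L + 4) ^ 2 * (8 * k) := Nat.mul_le_mul_left _ hB.le
        _ ≤ 8 * (L + 6) ^ 2 * k := by nlinarith
        _ ≤ k * k := Nat.mul_le_mul_right _ (hlog.trans hLk)
        _ = k ^ 2 := (sq k).symm)
    rw [← he] at hexp
    have h0 : 6 ^ k ≤ 3 * (m ^ e * 4 ^ k) :=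
      (six_pow_le k (by omega)).trans
        (Nat.mul_le_mul_left 3 ((Nat.choose_le_choose k hA).trans hup))
    have h1 : 2 ^ (2 * k) * 9 ^ k ≤ 2 ^ (4 + 2 * ((L + 4) * e) + 4 * k) := by
      calc 2 ^ (2 * k) * 9 ^ k = (6 ^ k) ^ 2 := by
            rw [show (9 : ℕ) = 3 ^ 2 by norm_num, show (6 : ℕ) = 2 * 3 by norm_num, mul_pow]
            simp only [← pow_mul]; ring_nf
        _ ≤ (2 ^ 2 * ((2 ^ (L + 4)) ^ e * (2 ^ 2) ^ k)) ^ 2 := by
            refine Nat.pow_le_pow_left (h0.trans ?_) 2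
            gcongr <;> norm_num
        _ = _ := by simp only [← pow_mul, ← pow_add]; ring_nf
    have h2 : 2 ^ (5 * k) ≤ 2 ^ (2 * k) * 9 ^ k := by
      rw [show 5 * k = 2 * k + 3 * k by ring, pow_add, pow_mul 2 3 k]
      exact Nat.mul_le_mul_left _ (Nat.pow_le_pow_left (by norm_num) k)
    have := (Nat.pow_le_pow_iff_right (show 1 < 2 by omega)).1 (h2.trans h1)
    omega
  have hCk : m ^ k ≤ k ^ k * (m ^ e * 4 ^ k) :=
    (pow_le_mul_choose (by omega)).trans (Nat.mul_le_mul_left _ hup)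
  rcases Nat.lt_or_ge m (32 * k) with hC | hC
  · -- `8k ≤ m < 32k`
    have hmt : m ≤ 2 ^ (L + 6) := by
      rw [pow_add 2 L 6]; rw [pow_succ] at hkL; omega
    have hexp := exponent_bound (m := m) (t := L + 6) (A := 2 * k) (by
      calc (L + 6) ^ 2 * m ≤ (L + 6) ^ 2 * (32 * k) := Nat.mul_le_mul_left _ hC.le
        _ = 4 * (8 * (L + 6) ^ 2 * k) := by ring
        _ ≤ 4 * (k * k) := Nat.mul_le_mul_left _ (Nat.mul_le_mul_right _ (hlog.trans hLk))
        _ = (2 * k) ^ 2 := by ring)
    rw [← he] at hexp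
    have h0 : (2 ^ 3) ^ k * k ^ k ≤ (2 ^ ((L + 6) * e) * (2 ^ 2) ^ k) * k ^ k := by
      calc (2 ^ 3) ^ k * k ^ k = (8 * k) ^ k := by rw [mul_pow]; norm_num
        _ ≤ m ^ k := Nat.pow_le_pow_left hB k
        _ ≤ k ^ k * (m ^ e * 4 ^ k) := hCk
        _ ≤ k ^ k * ((2 ^ (L + 6)) ^ e * (2 ^ 2) ^ k) := by gcongr; norm_num
        _ = _ := by rw [← pow_mul]; ring
    have h1 := Nat.le_of_mul_le_mul_right h0 (Nat.pow_pos (by omega))
    rw [← pow_mul, ← pow_mul, ← pow_add] at h1
    have := (Nat.pow_le_pow_iff_right (show 1 < 2 by omega)).1 h1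
    omega
  · -- `32k ≤ m`
    set t := (3 * L + 4) / 2 with ht
    have hmt : m ≤ 2 ^ t := by
      refine (Nat.pow_le_pow_iff_left (show 2 ≠ 0 by omega)).1 (hk3.trans ?_)
      calc k ^ 3 ≤ (2 ^ (L + 1)) ^ 3 := Nat.pow_le_pow_left hkL.le 3
        _ ≤ (2 ^ t) ^ 2 := by
            rw [← pow_mul, ← pow_mul]; exact Nat.pow_le_pow_right (by omega) (by omega)
    have ht4 : t ^ 4 ≤ 4096 * k := by
      have h2t : t ≤ 2 * (L + 6) := by omega
      calc t ^ 4 ≤ (2 * (L + 6)) ^ 4 := Nat.pow_le_pow_left h2t 4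
        _ = 16 * ((L + 6) ^ 2) ^ 2 := by ring
        _ ≤ 4096 * k := by
          have h5 := log_bound_four L hL12
          rw [← pow_mul]
          have := Nat.mul_le_mul_left 16 h5
          norm_num at this ⊢
          omega
    have hexp := exponent_bound (m := m) (t := t) (A := 8 * k) (by
      refine (Nat.pow_le_pow_iff_left (show 2 ≠ 0 by omega)).1 ?_
      calc (t ^ 2 * m) ^ 2 = t ^ 4 * m ^ 2 := by ring
        _ ≤ 4096 * k * k ^ 3 := Nat.mul_le_mul ht4 hk3
        _ = ((8 * k) ^ 2) ^ 2 := by ring)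
    rw [← he] at hexp
    have h0 : (2 ^ 5) ^ k * k ^ k ≤ (2 ^ (t * e) * (2 ^ 2) ^ k) * k ^ k := by
      calc (2 ^ 5) ^ k * k ^ k = (32 * k) ^ k := by rw [mul_pow]; norm_num
        _ ≤ m ^ k := Nat.pow_le_pow_left hC k
        _ ≤ k ^ k * (m ^ e * 4 ^ k) := hCk
        _ ≤ k ^ k * ((2 ^ t) ^ e * (2 ^ 2) ^ k) := by gcongr; norm_num
        _ = _ := by rw [← pow_mul]; ring
    have h1 := Nat.le_of_mul_le_mul_right h0 (Nat.pow_pos (by omega))
    rw [← pow_mul, ← pow_mul, ← pow_add] at h1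
    have := (Nat.pow_le_pow_iff_right (show 1 < 2 by omega)).1 h1
    omega

def smallPrimes : List ℕ :=
  [2, 3, 5, 7, 11, 13, 17, 19, 23, 29, 31, 37, 41, 43, 47, 53, 59, 61, 67, 71, 73, 79, 83, 89,
   97, 101, 103, 107, 109, 113]

theorem prime_smallPrimes : ∀ a ∈ smallPrimes, a.Prime := by
  simp only [smallPrimes, List.forall_mem_cons, List.not_mem_nil, IsEmpty.forall_iff, implies_true,
    and_true]
  repeat' apply And.intro
  all_goals norm_num

set_option maxRecDepth 10000 in
theorem small_witness : ∀ k < 14, ∀ m < 121, k = 0 ∨ m < 2 * k ∨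
    smallPrimes.any (fun p => decide (k < p) && (List.range k).any fun i => (m - i) % p == 0) := by
  decide +kernel

set_option maxRecDepth 10000 in
theorem small_range : ∀ k < 14, k = 0 ∨ k ^ k < 121 ^ (k - Nat.primeCounting k) := by
  decide +kernel

theorem exists_prime_gt_dvd_choose (hk : 1 ≤ k) (hmk : 2 * k ≤ m) :
    ∃ p, p.Prime ∧ k < p ∧ p ∣ m.choose k := by
  by_contra hno
  have hs : ∀ p, p.Prime → p ∣ m.choose k → p ≤ k := fun p hp hd =>
    not_lt.1 fun h => hno ⟨p, hp, h, hd⟩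
  rcases Nat.lt_or_ge k 14 with hk14 | hk14
  · rcases Nat.lt_or_ge m 121 with hm | hm
    · rcases small_witness k hk14 m hm with h | h | h
      · omega
      · omega
      · rw [List.any_eq_true] at h
        obtain ⟨p, hp, h⟩ := h
        rw [Bool.and_eq_true, List.any_eq_true, decide_eq_true_eq] at h
        obtain ⟨hkp, i, hi, hd⟩ := h
        exact hno ⟨p, prime_smallPrimes p hp, hkp, dvd_choose_of_dvd_sub
          (prime_smallPrimes p hp) hkp (List.mem_range.1 hi)
          (Nat.dvd_of_mod_eq_zero (by simpa using hd))⟩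
    · rcases small_range k hk14 with h | h
      · omega
      · have h1 := smooth_pow_le hk hmk hs
        have h2 : 121 ^ (k - Nat.primeCounting k) ≤ m ^ (k - Nat.primeCounting k) :=
          Nat.pow_le_pow_left hm _
        omega
  · rcases Nat.lt_or_ge m primeTop with hm | hm
    · exact not_smooth_of_chain hk14 hmk hs primeList primeTop prime_primeList chain_primeList hm
    · refine not_smooth_large ?_ hmk hs
      by_contra hlt
      have h47 := smooth_four_seven hk14 hmk hs
      rcases Nat.lt_or_ge k 150 with h | h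
      · have : k ^ 7 ≤ 149 ^ 7 := Nat.pow_le_pow_left (by omega) 7
        have : primeTop ^ 4 ≤ m ^ 4 := Nat.pow_le_pow_left hm 4
        have : (149 : ℕ) ^ 7 < primeTop ^ 4 := by norm_num [primeTop]
        omega
      · have := smooth_two_three h hmk hs
        have : k ^ 3 ≤ 4095 ^ 3 := Nat.pow_le_pow_left (by omega) 3
        have : primeTop ^ 2 ≤ m ^ 2 := Nat.pow_le_pow_left hm 2
        have : (4095 : ℕ) ^ 3 < primeTop ^ 2 := by norm_num [primeTop]
        omega

end Smooth

end Cfsg.Agent.Sylvester
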