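import Cfsg.Agent.Lib.Components.MaximalPair
import Cfsg.Agent.Lib.Components.Local

/-!
The theorem of Thompson and Wielandt on two subgroups `M`, `N` that are the normalizers of their
non-trivial normal subgroups.
-/

set_option autoImplicit false

namespace Cfsg.Agent.ThompsonWielandt

open Subgroup Cfsg.Agent.Components
open Cfsg.Agent.Components.MaximalPair (core le_normalizer_core core_isPGroup core_le_fitting le_normalizer_map_of_normal centralizer_inf_le)

variable {G : Type*} [Group G] [Finite G]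

/-- `M` is the normalizer of each of its non-trivial normal subgroups. -/
def Prim (M : Subgroup G) : Prop :=
  ∀ X : Subgroup G, X ≠ ⊥ → X ≤ M → M ≤ normalizer (X : Set G) → normalizer (X : Set G) ≤ M

/-- The core in `M` of a subgroup. -/
def cr (M X : Subgroup G) : Subgroup G := ((X.subgroupOf M).normalCore).map M.subtype

lemma mem_cr {M X : Subgroup G} {x : G} :
    x ∈ cr M X ↔ x ∈ M ∧ ∀ m ∈ M, m * x * m⁻¹ ∈ X := by
  constructor
  · rintro ⟨y, hy, rfl⟩
    exact ⟨y.2, fun m hm => hy ⟨m, hm⟩⟩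
  · rintro ⟨hx, h⟩
    exact ⟨⟨x, hx⟩, fun m => h m m.2, rfl⟩

lemma cr_le_left (M X : Subgroup G) : cr M X ≤ M := map_subtype_le _

lemma cr_le (M X : Subgroup G) : cr M X ≤ X := fun x hx => by
  simpa using (mem_cr.mp hx).2 1 M.one_mem

lemma le_normalizer_cr (M X : Subgroup G) : M ≤ normalizer (cr M X : Set G) :=
  le_normalizer_map_of_normal M _

lemma conj_mem {M X : Subgroup G} (h : M ≤ normalizer (X : Set G)) {m x : G} (hm : m ∈ M) (hx : x ∈ X) :
    m * x * m⁻¹ ∈ X := (mem_normalizer_iff.mp (h hm) x).mp hx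

lemma conj_mem' {M X : Subgroup G} (h : M ≤ normalizer (X : Set G)) {m x : G} (hm : m ∈ M) (hx : x ∈ X) :
    m⁻¹ * x * m ∈ X := by simpa using conj_mem h (M.inv_mem hm) hx

lemma le_cr {M X Y : Subgroup G} (hM : Y ≤ M) (hX : Y ≤ X) (hn : M ≤ normalizer (Y : Set G)) :
    Y ≤ cr M X := fun _ hy => mem_cr.mpr ⟨hM hy, fun _ hm => hX (conj_mem hn hm hy)⟩

lemma cr_mono {M X Y : Subgroup G} (h : X ≤ Y) : cr M X ≤ cr M Y := fun _ hx =>
  mem_cr.mpr ⟨(mem_cr.mp hx).1, fun m hm => h ((mem_cr.mp hx).2 m hm)⟩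

/-- The subgroup generated by the elements of order prime to `p`. -/
def qGen (p : ℕ) (D : Subgroup G) : Subgroup G := closure {x | x ∈ D ∧ (orderOf x).Coprime p}

lemma qGen_le (p : ℕ) (D : Subgroup G) : qGen p D ≤ D := (closure_le _).mpr fun _ hx => hx.1

lemma le_normalizer_qGen_of_conj {p : ℕ} {D P : Subgroup G}
    (h : ∀ s ∈ P, ∀ x ∈ D, (orderOf x).Coprime p → s * x * s⁻¹ ∈ D) :
    P ≤ normalizer (qGen p D : Set G) := by
  have key : ∀ s ∈ P, ∀ y ∈ qGen p D, s * y * s⁻¹ ∈ qGen p D := fun s hs y hy => by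
    have : qGen p D ≤ (qGen p D).comap (MulAut.conj s).toMonoidHom := (closure_le _).mpr fun x hx =>
      subset_closure ⟨h s hs x hx.1 hx.2, by
        show (orderOf (MulAut.conj s x)).Coprime p
        rw [MulEquiv.orderOf_eq]
        exact hx.2⟩
    exact this hy
  intro s hs
  exact mem_normalizer_iff.mpr fun y => ⟨key s hs y, fun h' => by
    simpa [mul_assoc] using key s⁻¹ (P.inv_mem hs) _ h'⟩

lemma le_normalizer_qGen {p : ℕ} {M D : Subgroup G} (h : M ≤ normalizer (D : Set G)) :
    M ≤ normalizer (qGen p D : Set G) :=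
  le_normalizer_qGen_of_conj fun _ hs _ hx _ => conj_mem h hs hx

/-- A `p`-group normalizing `L` and normalized by a normal subgroup `D` of `L` normalizes `qGen p D`. -/
lemma le_normalizer_qGen_of_subnormal {p : ℕ} {D L P : Subgroup G} (hDL : D ≤ L)
    (hLD : L ≤ normalizer (D : Set G)) (hPL : P ≤ normalizer (L : Set G))
    (hDP : D ≤ normalizer (P : Set G)) (hP : IsPGroup p P) :
    P ≤ normalizer (qGen p D : Set G) := by
  refine le_normalizer_qGen_of_conj fun s hs x hx hco => ?_
  set c := x⁻¹ * s * x * s⁻¹ with hc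
  have hcP : c ∈ P := P.mul_mem (conj_mem' hDP hx hs) (P.inv_mem hs)
  have hcL : c ∈ L := by
    have : c = x⁻¹ * (s * x * s⁻¹) := by rw [hc]; group
    rw [this]
    exact L.mul_mem (L.inv_mem (hDL hx)) (conj_mem hPL hs (hDL hx))
  have hxc : s * x * s⁻¹ = x * c := by rw [hc]; group
  have hpw : ∀ n : ℕ, ∃ d ∈ D, (x * c) ^ n = d * c ^ n := by
    intro n
    induction n with
    | zero => exact ⟨1, D.one_mem, by simp⟩
    | succ n ih =>
      obtain ⟨d, hd, e⟩ := ih
      refine ⟨d * (c ^ n * x * (c ^ n)⁻¹), D.mul_mem hd (conj_mem hLD (L.pow_mem hcL n) hx), ?_⟩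
      rw [pow_succ, e, pow_succ c n]
      group
  obtain ⟨k, hk⟩ := hP ⟨c, hcP⟩
  obtain ⟨d, hd, e⟩ := hpw (p ^ k)
  have hk' : c ^ p ^ k = 1 := congrArg Subtype.val hk
  rw [hk', mul_one] at e
  have hord : orderOf (x * c) = orderOf x := by rw [← hxc, ← MulAut.conj_apply, MulEquiv.orderOf_eq]
  obtain ⟨m, hm⟩ := exists_pow_eq_self_of_coprime (n := p ^ k) (x := x * c)
    (by rw [hord]; exact (hco.pow_right k).symm)
  rw [hxc, ← hm, e]
  exact D.pow_mem hd m

lemma isPGroup_of_qGen_eq_bot {p : ℕ} [hp : Fact p.Prime] {D : Subgroup G} (h : qGen p D = ⊥) :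
    IsPGroup p D := by
  intro x
  obtain ⟨k, m, hm, hkm⟩ := Nat.exists_eq_pow_mul_and_not_dvd (orderOf_pos (x : G)).ne' p hp.out.ne_one
  refine ⟨k, Subtype.ext (mem_bot.mp (h ▸ subset_closure ⟨pow_mem x.2 _, ?_⟩))⟩
  have h0 : p ^ k ≠ 0 := pow_ne_zero k hp.out.pos.ne'
  rw [Subgroup.coe_pow, orderOf_pow' (x : G) h0, hkm, Nat.gcd_mul_right_left, Nat.mul_div_cancel_left _ (Nat.pos_of_ne_zero h0)]
  exact ((hp.out.coprime_iff_not_dvd).2 hm).symm

lemma isSubnormal_subgroupOf {N L D : Subgroup G} (hDL : D ≤ L) (hLN : L ≤ N)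
    (hNL : N ≤ normalizer (L : Set G)) (hLD : L ≤ normalizer (D : Set G)) :
    (D.subgroupOf N).IsSubnormal := by
  have h1 : (L.subgroupOf N).Normal := normal_subgroupOf_of_le_normalizer hNL
  refine IsSubnormal.step _ (L.subgroupOf N) (comap_mono hDL) h1.isSubnormal ?_
  refine normal_subgroupOf_of_le_normalizer fun x hx => mem_normalizer_iff.mpr fun y => ?_
  exact mem_normalizer_iff.mp (hLD hx) y

lemma le_core {p : ℕ} {N D : Subgroup G} (hDN : D ≤ N) (hsn : (D.subgroupOf N).IsSubnormal)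
    (hD : IsPGroup p D) : D ≤ core p N := fun _ hx =>
  ⟨⟨_, hDN hx⟩, Cores.le_pCore_of_isSubnormal hsn (hD.comap_subtype) hx, rfl⟩

variable {M N : Subgroup G}

/-- The key lemma: a normal subgroup of `M` inside the core of `M ⊓ N` in `N` is a `p`-group,
whenever `O_p(M)` and `O_p(N)` have the same non-trivial order. -/
theorem isPGroup_of_core_ne_bot (hM : Prim M) (hN : Prim N) (hne : M ≠ N) {p : ℕ} [Fact p.Prime]
    (hc : Nat.card (core p M) = Nat.card (core p N)) (hU : core p M ≠ ⊥) {D : Subgroup G}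
    (hDn : M ≤ normalizer (D : Set G)) (hD : D ≤ cr N (M ⊓ N)) : IsPGroup p D := by
  refine isPGroup_of_qGen_eq_bot ?_
  by_contra hY
  set L := cr N (M ⊓ N) with hL
  set U := core p M with hUdef
  set R := core p N with hRdef
  have hR : R ≠ ⊥ := fun h => hU (card_eq_one.mp (by rw [hc, h, card_bot]))
  have hLM : L ≤ M := (cr_le _ _).trans inf_le_left
  have hLN : L ≤ N := cr_le_left _ _
  have hNL : N ≤ normalizer (L : Set G) := le_normalizer_cr _ _
  have hLD : L ≤ normalizer (D : Set G) := hLM.trans hDn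
  have hDM : D ≤ M := hD.trans hLM
  have hDN : D ≤ N := hD.trans hLN
  have hnY : normalizer (qGen p D : Set G) ≤ M :=
    hM _ hY ((qGen_le p D).trans hDM) (le_normalizer_qGen hDn)
  have hnR : normalizer (R : Set G) ≤ N := hN _ hR (map_subtype_le _) (le_normalizer_core p N)
  have hnU : normalizer (U : Set G) ≤ M := hM _ hU (map_subtype_le _) (le_normalizer_core p M)
  have hRM : R ≤ M := (le_normalizer_qGen_of_subnormal hD hLD ((map_subtype_le _).trans hNL)
    (hDN.trans (le_normalizer_core p N)) (core_isPGroup p N)).trans hnY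
  -- `U ⊓ N` lies in `L`
  have hU0 : U ⊓ N ≤ L := by
    intro u hu
    refine mem_cr.mpr ⟨hu.2, fun m hm => ⟨hnY ?_, N.mul_mem (N.mul_mem hm hu.2) (N.inv_mem hm)⟩⟩
    have hP : IsPGroup p ((U ⊓ N).map (MulAut.conj m).toMonoidHom) :=
      ((core_isPGroup p M).to_le inf_le_left).map _
    refine le_normalizer_qGen_of_subnormal hD hLD (P := (U ⊓ N).map (MulAut.conj m).toMonoidHom)
      ?_ ?_ hP ⟨u, hu, rfl⟩
    · rintro _ ⟨v, hv, rfl⟩
      exact hNL (N.mul_mem (N.mul_mem hm hv.2) (N.inv_mem hm))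
    · intro d hd
      have hd' : m⁻¹ * d * m ∈ L := conj_mem' hNL hm (hD hd)
      have hn : ∀ z ∈ L, ∀ v ∈ U ⊓ N, z * v * z⁻¹ ∈ U ⊓ N := fun z hz v hv =>
        ⟨conj_mem (le_normalizer_core p M) (hLM hz) hv.1, N.mul_mem (N.mul_mem (hLN hz) hv.2) (N.inv_mem (hLN hz))⟩
      refine mem_normalizer_iff.mpr fun y => ⟨?_, ?_⟩
      · rintro ⟨v, hv, rfl⟩
        exact ⟨_, hn _ hd' v hv, by simp [mul_assoc]⟩
      · rintro ⟨v, hv, hvy⟩
        refine ⟨_, hn _ (L.inv_mem hd') v hv, ?_⟩
        simp only [MulEquiv.coe_toMonoidHom, MulAut.conj_apply] at hvy ⊢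
        calc m * ((m⁻¹ * d * m)⁻¹ * v * ((m⁻¹ * d * m)⁻¹)⁻¹) * m⁻¹
            = d⁻¹ * (m * v * m⁻¹) * d := by group
          _ = y := by rw [hvy]; group
  have hU0R : U ⊓ N ≤ R := by
    refine le_core inf_le_right (isSubnormal_subgroupOf hU0 hLN hNL fun z hz => ?_)
      ((core_isPGroup p M).to_le inf_le_left)
    exact inf_normalizer_le_normalizer_inf ⟨(hLM.trans (le_normalizer_core p M)) hz, le_normalizer (hLN hz)⟩
  -- normalizer growth in `U ⊔ R`
  have hRU : R ≤ normalizer (U : Set G) := hRM.trans (le_normalizer_core p M)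
  have hW : IsPGroup p ↥(U ⊔ R) := (core_isPGroup p M).to_sup_of_normal_left' (core_isPGroup p N) hRU
  have := hW.isNilpotent
  have htop : R.subgroupOf (U ⊔ R) = ⊤ := by
    refine normalizerCondition_iff_only_full_group_self_normalizing.mp
      Group.normalizerCondition_of_isNilpotent _ (le_antisymm ?_ le_normalizer)
    intro w hw
    have hwN : (w : G) ∈ normalizer (R : Set G) := by
      refine mem_normalizer_iff.mpr fun y => ?_
      constructor
      · intro hy
        exact (mem_normalizer_iff.mp hw ⟨y, mem_sup_right hy⟩).mp hy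
      · intro hy
        have hy' : y ∈ U ⊔ R := by
          have := (U ⊔ R).mul_mem ((U ⊔ R).mul_mem ((U ⊔ R).inv_mem w.2) (mem_sup_right hy : _ ∈ U ⊔ R)) w.2
          simpa [mul_assoc] using this
        exact (mem_normalizer_iff.mp hw ⟨y, hy'⟩).mpr hy
    have hw' : (w : G) ∈ U ⊔ R := w.2
    rw [← SetLike.mem_coe, coe_mul_of_right_le_normalizer_left U R hRU] at hw'
    obtain ⟨u, hu, r, hr, hur⟩ := hw'
    have huN : u ∈ N := by
      have := N.mul_mem (hnR hwN) (N.inv_mem (map_subtype_le _ hr))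
      rwa [← hur, mul_inv_cancel_right] at this
    show (w : G) ∈ R
    rw [← hur]
    exact R.mul_mem (hU0R ⟨hu, huN⟩) hr
  have hUR : U ≤ R := le_sup_left.trans (subgroupOf_eq_top.mp htop)
  have he : U = R := eq_of_le_of_card_ge hUR hc.ge
  have h1 : M ≤ normalizer (U : Set G) := le_normalizer_core p M
  have h2 : N ≤ normalizer (R : Set G) := le_normalizer_core p N
  rw [he] at h1 hnU
  exact hne (le_antisymm (h1.trans hnR) (h2.trans hnU))

/-- The layer of `M` lies in `N`, given a non-trivial normal subgroup of `N` in the core of `M ⊓ N` in `M`. -/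
lemma layer_le (hN : Prim N) {B : Subgroup G} (hB0 : B ≠ ⊥) (hBn : N ≤ normalizer (B : Set G))
    (hB : B ≤ cr M (M ⊓ N)) : (Cfsg.layer M).map M.subtype ≤ N := by
  have hBM : B ≤ M := hB.trans (cr_le_left _ _)
  have hBN : B ≤ N := hB.trans ((cr_le _ _).trans inf_le_right)
  have hsn := isSubnormal_subgroupOf hB (cr_le_left _ _) (le_normalizer_cr _ _)
    (((cr_le _ _).trans inf_le_right).trans hBn)
  rw [map_le_iff_le_comap]
  refine Basic.layer_le fun X hX => ?_
  rw [← map_le_iff_le_comap]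
  rcases Basic.component_le_or_commutator_eq_bot hX hsn with h | h
  · refine (Subgroup.map_mono h).trans ?_
    rw [map_subgroupOf_eq_of_le hBM]
    exact hBN
  · have h' := congrArg (Subgroup.map M.subtype) h
    rw [map_commutator, map_subgroupOf_eq_of_le hBM, Subgroup.map_bot,
      commutator_eq_bot_iff_le_centralizer] at h'
    exact (h'.trans (centralizer_le_normalizer _)).trans (hN B hB0 hBN hBn)

/-- With a single prime in the Fitting subgroups, the layer of `M` lies in the layer of `N`. -/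
lemma layer_le_layer (hM : Prim M) {p : ℕ} [Fact p.Prime] {A : Subgroup G} (hA0 : A ≠ ⊥)
    (hAp : IsPGroup p A) (hAn : M ≤ normalizer (A : Set G)) (hA : A ≤ cr N (M ⊓ N))
    (h1 : (Cfsg.layer M).map M.subtype ≤ N) (h2 : (Cfsg.layer N).map N.subtype ≤ M)
    (hFN : Cfsg.fittingSubgroup N ≤ Cfsg.pCore p N) :
    (Cfsg.layer M).map M.subtype ≤ (Cfsg.layer N).map N.subtype := by
  set R := core p N with hRdef
  set V := (Cfsg.layer N).map N.subtype with hV
  have hVN : V ≤ N := map_subtype_le _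
  have hAM : A ≤ M := (hA.trans (cr_le _ _)).trans inf_le_left
  have hAN : A ≤ N := hA.trans (cr_le_left _ _)
  have hAR : A ≤ R := le_core hAN
    (isSubnormal_subgroupOf hA (cr_le_left _ _) (le_normalizer_cr _ _)
      (((cr_le _ _).trans inf_le_left).trans hAn)) hAp
  rw [map_le_iff_le_comap]
  refine Basic.layer_le fun X hX => ?_
  rw [← map_le_iff_le_comap]
  set X' := X.map M.subtype with hX'
  have hXM : X' ≤ M := map_subtype_le X
  have hXN : X' ≤ N := (Subgroup.map_mono (Basic.le_layer hX)).trans h1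
  -- `X'` centralizes every `p`-subgroup of `M` normalized by `M ⊓ N`
  have hcent : ∀ T : Subgroup G, T ≤ M → IsPGroup p T → M ⊓ N ≤ normalizer (T : Set G) →
      X' ≤ centralizer (T : Set G) := by
    intro T hTM hT hn
    have hT' : IsPGroup p (T.subgroupOf M) := hT.comap_subtype
    have : Group.IsNilpotent (T.subgroupOf M) := hT'.isNilpotent
    have hXn : X ≤ normalizer ((T.subgroupOf M : Subgroup M) : Set M) := fun x hx =>
      mem_normalizer_iff.mpr fun y =>
        mem_normalizer_iff.mp (hn ⟨x.2, hXN ⟨x, hx, rfl⟩⟩) (y : G)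
    have h := congrArg (Subgroup.map M.subtype)
      (Basic.component_commutator_eq_bot_of_le_normalizer hX inferInstance hXn)
    rwa [map_commutator, map_subgroupOf_eq_of_le hTM, Subgroup.map_bot,
      commutator_eq_bot_iff_le_centralizer] at h
  have hXA : X' ≤ centralizer (A : Set G) := hcent A hAM hAp (inf_le_left.trans hAn)
  have hXRM : X' ≤ centralizer ((R ⊓ M : Subgroup G) : Set G) :=
    hcent _ inf_le_right ((core_isPGroup p N).to_le inf_le_left) fun z hz =>
      inf_normalizer_le_normalizer_inf ⟨le_normalizer_core p N hz.2, le_normalizer hz.1⟩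
  have hperf : ⁅X', X'⁆ = X' := by rw [← map_commutator, Basic.component_commutator_self hX]
  have hXR : X' ≤ centralizer (R : Set G) :=
    Local.le_of_pPrime_mem_of_perfect (p := p) hperf fun x hx hco =>
      Local.mem_centralizer_of_pxq hAp (core_isPGroup p N) (hAN.trans (le_normalizer_core p N)) hco
        (le_normalizer_core p N (hXN hx)) (hXA hx)
        (centralizer_le (SetLike.coe_subset_coe.mpr (inf_le_inf_left R (hM A hA0 hAM hAn))) (hXRM hx))
  set H := M ⊓ N with hH
  have hsn : (X'.subgroupOf H).IsSubnormal := by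
    have e : X'.subgroupOf H = X.comap (inclusion (inf_le_left : H ≤ M)) := by
      ext x
      simp only [mem_subgroupOf, mem_comap, hX', Subgroup.mem_map, Subgroup.coe_subtype]
      exact ⟨fun ⟨y, hy, hyx⟩ => (Subtype.ext hyx : y = inclusion inf_le_left x) ▸ hy,
        fun h => ⟨_, h, rfl⟩⟩
    rw [e]
    exact hX.1.comap _
  have hcomp : Cfsg.IsComponent (X'.subgroupOf H) :=
    ⟨hsn, Basic.quasisimple_of_mulEquiv ((equivMapOfInjective X M.subtype M.subtype_injective).trans
      (subgroupOfEquivOfLe (le_inf hXM hXN)).symm) hX.2⟩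
  have hVle : V ≤ H := le_inf h2 hVN
  have hVH : (V.subgroupOf H).Normal := normal_subgroupOf_of_le_normalizer
    (inf_le_right.trans (le_normalizer_map_of_normal N _))
  rcases Basic.component_le_or_commutator_eq_bot hcomp hVH.isSubnormal with h | h
  · have := Subgroup.map_mono (f := H.subtype) h
    rwa [map_subgroupOf_eq_of_le (le_inf hXM hXN), map_subgroupOf_eq_of_le hVle] at this
  exfalso
  have h' := congrArg (Subgroup.map H.subtype) h
  rw [map_commutator, map_subgroupOf_eq_of_le (le_inf hXM hXN), map_subgroupOf_eq_of_le hVle,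
    Subgroup.map_bot, commutator_eq_bot_iff_le_centralizer] at h'
  set F := (Cfsg.generalizedFittingSubgroup N).map N.subtype with hF
  have hFle : F ≤ V ⊔ R := by
    rw [hF, Cfsg.generalizedFittingSubgroup, Subgroup.map_sup]
    exact sup_le_sup_left (Subgroup.map_mono hFN) _
  have hXF : X' ≤ centralizer (F : Set G) :=
    le_centralizer_iff.mp (hFle.trans (sup_le (le_centralizer_iff.mp h') (le_centralizer_iff.mp hXR)))
  have hXinF : X' ≤ F := (le_inf hXF hXN).trans centralizer_inf_le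
  have hab : ⁅X', X'⁆ = ⊥ :=
    commutator_eq_bot_iff_le_centralizer.mpr (hXF.trans (centralizer_le (SetLike.coe_subset_coe.mpr hXinF)))
  rw [hperf] at hab
  exact Basic.component_ne_bot hX ((map_eq_bot_iff_of_injective _ M.subtype_injective).mp hab)

lemma subnormal_le_core {p : ℕ} {A : Subgroup G} (hAn : M ≤ normalizer (A : Set G))
    (hA : A ≤ cr N (M ⊓ N)) (hAp : IsPGroup p A) : A ≤ core p N :=
  le_core (hA.trans (cr_le_left _ _)) (isSubnormal_subgroupOf hA (cr_le_left _ _) (le_normalizer_cr _ _)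
    (((cr_le _ _).trans inf_le_left).trans hAn)) hAp

/-- The theorem of Thompson and Wielandt. -/
theorem pair (hM : Prim M) (hN : Prim N) (hne : M ≠ N)
    (hc : ∀ p : ℕ, Nat.card (core p M) = Nat.card (core p N))
    {A B : Subgroup G} (hA0 : A ≠ ⊥) (hAn : M ≤ normalizer (A : Set G)) (hA : A ≤ cr N (M ⊓ N))
    (hB0 : B ≠ ⊥) (hBn : N ≤ normalizer (B : Set G)) (hB : B ≤ cr M (M ⊓ N)) :
    ∃ p : ℕ, p.Prime ∧ Cfsg.generalizedFittingSubgroup M = Cfsg.pCore p M ∧
      Cfsg.generalizedFittingSubgroup N = Cfsg.pCore p N ∧ IsPGroup p A ∧ IsPGroup p B := by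
  have hB' : B ≤ cr M (N ⊓ M) := inf_comm M N ▸ hB
  have hA' : A ≤ cr N (N ⊓ M) := inf_comm M N ▸ hA
  have h1 := layer_le hN hB0 hBn hB
  have h2 := layer_le hM hA0 hAn hA'
  have hAM : A ≤ M := (hA.trans (cr_le _ _)).trans inf_le_left
  have hBN : B ≤ N := (hB.trans (cr_le _ _)).trans inf_le_right
  obtain ⟨p, hp, hpM⟩ : ∃ p : ℕ, p.Prime ∧ core p M ≠ ⊥ := by
    by_contra hcon
    push Not at hcon
    have hF : ∀ H : Subgroup G, (∀ r : ℕ, r.Prime → core r H = ⊥) → Cfsg.fittingSubgroup H = ⊥ := by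
      intro H hH
      rw [Fitting.fitting_eq_coreJoin, eq_bot_iff]
      exact iSup_le fun r => le_of_eq ((map_eq_bot_iff_of_injective _ H.subtype_injective).mp (hH r r.2))
    have hFM := hF M hcon
    have hFN := hF N fun r hr => card_eq_one.mp (by rw [← hc r, hcon r hr, card_bot])
    have hlay : ∀ H : Subgroup G, Cfsg.fittingSubgroup H = ⊥ →
        Cfsg.generalizedFittingSubgroup H = Cfsg.layer H := fun H hH => by
      rw [Cfsg.generalizedFittingSubgroup, hH, sup_bot_eq]
    obtain ⟨p, hp, hpM, -⟩ := MaximalPair.result_pair (M := M) (N := N) hne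
      (fun X h0 hX hn => inf_le_right.trans (hM X h0 (hX.trans inf_le_left) hn))
      (fun X h0 hX hn => inf_le_right.trans (hN X h0 (hX.trans inf_le_right) hn))
      (by rw [hlay M hFM]; exact h1) (by rw [hlay N hFN]; exact h2)
    have : Fact p.Prime := ⟨hp⟩
    have hle : Cfsg.generalizedFittingSubgroup M ≤ ⊥ := hFM ▸ Fitting.le_fitting hpM.isNilpotent
    have h := centralizer_inf_le (N := M)
    rw [le_bot_iff.mp hle, Subgroup.map_bot] at h
    refine hA0 (le_bot_iff.mp (le_trans (fun x hx => ?_) h))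
    exact ⟨mem_centralizer_iff.mpr fun y hy => by
      rw [SetLike.mem_coe, mem_bot] at hy
      rw [hy, one_mul, mul_one], hAM hx⟩
  have : Fact p.Prime := ⟨hp⟩
  have hpN : core p N ≠ ⊥ := fun h => hpM (card_eq_one.mp (by rw [hc p, h, card_bot]))
  have hAp : IsPGroup p A := isPGroup_of_core_ne_bot hM hN hne (hc p) hpM hAn hA
  have hBp : IsPGroup p B := isPGroup_of_core_ne_bot hN hM hne.symm (hc p).symm hpN hBn hB'
  have hq : ∀ q : ℕ, q.Prime → q ≠ p → core q M = ⊥ := by
    intro q hq hqp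
    by_contra hqM
    have : Fact q.Prime := ⟨hq⟩
    have hAq : IsPGroup q A := isPGroup_of_core_ne_bot hM hN hne (hc q) hqM hAn hA
    exact hA0 (disjoint_self.mp (IsPGroup.disjoint_of_ne q p hqp A A hAq hAp))
  have hFle : ∀ H : Subgroup G, (∀ r : ℕ, r.Prime → r ≠ p → core r H = ⊥) →
      Cfsg.fittingSubgroup H ≤ Cfsg.pCore p H := by
    intro H hH
    rw [Fitting.fitting_eq_coreJoin]
    refine iSup_le fun r => ?_
    by_cases hr : (r : ℕ) = p
    · rw [hr]
    · rw [show Cfsg.pCore (r : ℕ) H = ⊥ from (map_eq_bot_iff_of_injective _ H.subtype_injective).mp (hH r r.2 hr)]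
      exact bot_le
  have hFM := hFle M hq
  have hFN := hFle N fun r hr hrp => card_eq_one.mp (by rw [← hc r, hq r hr hrp, card_bot])
  have he := le_antisymm (layer_le_layer hM hA0 hAp hAn hA h1 h2 hFN)
    (layer_le_layer hN hB0 hBp hBn hB' h2 h1 hFM)
  have hnormal : ∀ H : Subgroup G, H ≤ normalizer (((Cfsg.layer H).map H.subtype : Subgroup G) : Set G) :=
    fun H => le_normalizer_map_of_normal H _
  have hE : (Cfsg.layer M).map M.subtype = ⊥ := by
    by_contra h0
    exact hne (le_antisymm ((hnormal M).trans (he ▸ hN _ (he ▸ h0) (map_subtype_le _) (hnormal N)))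
      ((hnormal N).trans (he.symm ▸ hM _ h0 (map_subtype_le _) (hnormal M))))
  have hgen : ∀ H : Subgroup G, (Cfsg.layer H).map H.subtype = ⊥ → Cfsg.fittingSubgroup H ≤ Cfsg.pCore p H →
      Cfsg.generalizedFittingSubgroup H = Cfsg.pCore p H := by
    intro H hl hF
    rw [Cfsg.generalizedFittingSubgroup, (map_eq_bot_iff_of_injective _ H.subtype_injective).mp hl, bot_sup_eq]
    exact le_antisymm hF (Fitting.pCore_le_fitting p)
  exact ⟨p, hp, hgen M hE hFM, hgen N (he ▸ hE) hFN, hAp, hBp⟩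

end Cfsg.Agent.ThompsonWielandt
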