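import Cfsg.Agent.Lib.Perm.ThompsonWielandtBound
import Mathlib.GroupTheory.GroupAction.Primitive

/-!
The two point stabilisers of an orbital of a primitive group.
-/

set_option autoImplicit false

namespace Cfsg.Agent.ThompsonWielandt

open MulAction Subgroup

variable {G Ω : Type*} [Group G] [Finite G] [MulAction G Ω] [FaithfulSMul G Ω]

lemma stabilizer_setup (hprim : IsPreprimitive G Ω) (a b : Ω) {d : ℕ}
    (hd : Nat.card (orbit (stabilizer G a) b) = d) (h2 : 2 ≤ d) :
    IsCoatom (stabilizer G a) ∧ (stabilizer G a).normalCore = ⊥ ∧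
      (∃ g : G, stabilizer G b = (stabilizer G a).map (MulAut.conj g).toMonoidHom) ∧
      stabilizer G a ≠ stabilizer G b ∧
      (stabilizer G a ⊓ stabilizer G b).relIndex (stabilizer G a) = d := by
  have hsub : ∀ c : Ω, (∀ m ∈ stabilizer G a, m • c = c) → Nat.card (orbit (stabilizer G a) c) = 1 := by
    intro c hc
    rw [Nat.card_eq_one_iff_unique]
    refine ⟨⟨fun x y => ?_⟩, ⟨⟨c, mem_orbit_self c⟩⟩⟩
    obtain ⟨x, m, rfl⟩ := x
    obtain ⟨y, n, rfl⟩ := y
    ext
    show ((m : G) • c) = (n : G) • c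
    rw [hc m m.2, hc n n.2]
  have hab : a ≠ b := by
    rintro rfl
    rw [hsub a fun m hm => hm] at hd
    omega
  have : Nontrivial Ω := ⟨a, b, hab⟩
  refine ⟨MulAction.IsPreprimitive.isCoatom_stabilizer_of_isPreprimitive G a, ?_, ?_, ?_, ?_⟩
  · rw [eq_bot_iff]
    intro x hx
    refine mem_bot.mpr (eq_of_smul_eq_smul fun c : Ω => ?_)
    obtain ⟨h, rfl⟩ := exists_smul_eq G a c
    have h' : (h⁻¹ * x * h⁻¹⁻¹) • a = a := hx h⁻¹
    rw [inv_inv, mul_smul, mul_smul, inv_smul_eq_iff] at h'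
    rw [one_smul, h']
  · obtain ⟨g, hg⟩ := exists_smul_eq G a b
    exact ⟨g, hg ▸ stabilizer_smul_eq_stabilizer_map_conj g a⟩
  · intro he
    rw [hsub b fun m hm => (he ▸ hm : m ∈ stabilizer G b)] at hd
    omega
  · rw [inf_relIndex_left, relIndex]
    have he : (stabilizer G b).subgroupOf (stabilizer G a) = stabilizer (stabilizer G a) b := rfl
    rw [he, index_stabilizer, ← Nat.card_coe_set_eq, hd]

end Cfsg.Agent.ThompsonWielandt
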