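import Cfsg.Agent.Lib.Perm.ThreeCycleFStar
import Cfsg.Agent.SimpleFacts.AutAlt
import Cfsg.Agent.Lib.Cores.Nilpotent

/-!
# Two proper overgroups of a Sylow 3-subgroup of an alternating group that generate it
-/

namespace Cfsg.Agent.Perm.ThreeMinimalAlt

open Equiv MulAction Subgroup ThreeCycleFStar
open SimpleFacts.AutAlt (cyc cyc_apply cyc_apply_of_ne conj_cyc isThreeCycle_cyc)
open scoped _root_.Classical

attribute [local instance] ThreeCycleFStar.fintypeSet

variable {α : Type*} [Fintype α] [DecidableEq α]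

/-- `x` and `y` are joined by 3-cycles of `H`. -/
def Linked (H : Subgroup (Perm α)) (x y : α) : Prop := ∃ u : H, u ∈ N H ∧ (u : Perm α) x = y

variable {H : Subgroup (Perm α)}

theorem Linked.refl (x : α) : Linked H x x := ⟨1, one_mem _, rfl⟩

theorem Linked.symm {x y : α} : Linked H x y → Linked H y x := by
  rintro ⟨u, hu, rfl⟩
  exact ⟨u⁻¹, inv_mem hu, by simp⟩

theorem Linked.trans {x y z : α} : Linked H x y → Linked H y z → Linked H x z := by
  rintro ⟨u, hu, rfl⟩ ⟨v, hv, rfl⟩
  exact ⟨v * u, mul_mem hv hu, rfl⟩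

theorem linked_cyc {a b c : α} (hab : a ≠ b) (hbc : b ≠ c) (hac : a ≠ c) (h : cyc a b c ∈ H) :
    Linked H a b :=
  ⟨⟨cyc a b c, h⟩, subset_closure (isThreeCycle_cyc hab hbc hac), (cyc_apply hab hbc hac).1⟩

/-- Points of a set of size at least three all whose 3-cycles belong to `H` are linked. -/
theorem linked_of_set {S : Finset α} (hS : 3 ≤ S.card)
    (h : ∀ a b c, a ∈ S → b ∈ S → c ∈ S → a ≠ b → b ≠ c → a ≠ c → cyc a b c ∈ H)
    {x y : α} (hx : x ∈ S) (hy : y ∈ S) : Linked H x y := by
  rcases eq_or_ne x y with rfl | hxy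
  · exact Linked.refl x
  obtain ⟨z, hz, hz'⟩ := Finset.exists_mem_notMem_of_card_lt_card (s := {x, y}) (t := S)
    (Finset.card_le_two.trans_lt (by omega))
  simp only [Finset.mem_insert, Finset.mem_singleton, not_or] at hz'
  exact linked_cyc hxy (Ne.symm hz'.2) (Ne.symm hz'.1) (h x y z hx hy hz hxy (Ne.symm hz'.2) (Ne.symm hz'.1))

theorem Linked.map {x y : α} (hl : Linked H x y) {g : Perm α} (hg : g ∈ H) :
    Linked H (g x) (g y) := by
  obtain ⟨u, hu, rfl⟩ := hl
  refine ⟨⟨g, hg⟩ * u * ⟨g, hg⟩⁻¹, ?_, ?_⟩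
  · exact (inferInstance : (N H).Normal).conj_mem u hu _
  · simp

theorem alternating_le_of_linked (hα : 3 ≤ Fintype.card α) (h : ∀ x y, Linked H x y) :
    alternatingGroup α ≤ H := by
  haveI : Nonempty α := Fintype.card_pos_iff.1 (by omega)
  obtain ⟨x⟩ := (inferInstance : Nonempty α)
  obtain ⟨y, hy⟩ := Fintype.exists_ne_of_one_lt_card (by omega) x
  obtain ⟨u, hu, hux⟩ := h x y
  obtain ⟨t, ht, htx⟩ := exists_mem_moving H ⟨u, hu, by rw [hux]; exact hy⟩
  obtain ⟨s, hs, hs'⟩ := alternating_le_range H ht htx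
  obtain ⟨-, hA⟩ := hs' (inf_le_left (a := N H) hs)
  intro σ hσ
  have hmem : ∀ z, z ∈ orbit (N H) x := fun z => by
    obtain ⟨v, hv, hvz⟩ := h x z
    exact ⟨⟨v, hv⟩, hvz⟩
  let e : orbit (N H) x ≃ α := Equiv.subtypeUnivEquiv hmem
  have hσ' : e.symm.permCongr σ ∈ alternatingGroup (orbit (N H) x) := by
    rw [Perm.mem_alternatingGroup, Perm.sign_permCongr]
    exact Perm.mem_alternatingGroup.1 hσ
  obtain ⟨v, hv⟩ := hA hσ'
  have hval : ((v : H) : Perm α) = σ := by
    ext z
    have := congrArg (fun f : Perm (orbit (N H) x) => ((f ⟨z, hmem z⟩ : orbit (N H) x) : α)) hv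
    simpa [act_apply, e] using this
  rw [← hval]
  exact (v : H).2

section Blocks

variable {z : Perm α}

/-- A product of three 3-cycles commuting with a fixed-point-free element of order three. -/
theorem exists_commuting (hz3 : z ^ 3 = 1) (hfpf : ∀ x, z x ≠ x) {u₁ u₂ u₃ y : α}
    (h12 : ¬ Perm.SameCycle z u₁ u₂) (h23 : ¬ Perm.SameCycle z u₂ u₃)
    (h13 : ¬ Perm.SameCycle z u₁ u₃) (hy1 : ¬ Perm.SameCycle z u₁ y)
    (hy2 : ¬ Perm.SameCycle z u₂ y) (hy3 : ¬ Perm.SameCycle z u₃ y) :
    ∃ a : Perm α, a ∈ alternatingGroup α ∧ Commute a z ∧ a u₁ = u₂ ∧ a y = y := by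
  let C : ℕ → Perm α := fun i => cyc ((z ^ i) u₁) ((z ^ i) u₂) ((z ^ i) u₃)
  have hne : ∀ {p q : α}, ¬ Perm.SameCycle z p q → ∀ i j : ℕ, (z ^ i) p ≠ (z ^ j) q := by
    intro p q hpq i j h
    exact hpq (Perm.sameCycle_pow_left.1 (Perm.sameCycle_pow_right.1
      (h ▸ Perm.SameCycle.refl z ((z ^ i) p) : Perm.SameCycle z ((z ^ i) p) ((z ^ j) q))))
  have hinj : ∀ p : α, ∀ i j : ℕ, i < 3 → j < 3 → (z ^ i) p = (z ^ j) p → i = j := by
    intro p i j hi hj h
    have hcube : z (z (z p)) = p := by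
      have := Perm.congr_fun hz3 p
      simpa [pow_succ, Perm.mul_apply] using this
    have hf2 : z (z p) ≠ p := fun h' => hfpf p (by conv_rhs => rw [← hcube, h'])
    interval_cases i <;> interval_cases j <;>
      simp [pow_succ, Perm.mul_apply] at h ⊢
    all_goals first
      | exact hfpf p h.symm
      | exact hfpf p h
      | exact hf2 h
      | exact hf2 h.symm
      | exact hfpf (z p) h.symm
      | exact hfpf (z p) h
  have hC3 : C 3 = C 0 := by simp [C, hz3]
  have hconj : ∀ i, z * C i * z⁻¹ = C (i + 1) := fun i => by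
    simp only [C, conj_cyc, pow_succ', Perm.mul_apply]
  have hcomm : ∀ i j : ℕ, i < 3 → j < 3 → i ≠ j → Commute (C i) (C j) := by
    intro i j hi hj hij
    refine Perm.Disjoint.commute fun w => ?_
    by_contra h
    push Not at h
    have hcases : ∀ k : ℕ, C k w ≠ w → w = (z ^ k) u₁ ∨ w = (z ^ k) u₂ ∨ w = (z ^ k) u₃ := by
      intro k hk
      by_contra hh
      push Not at hh
      exact hk (cyc_apply_of_ne hh.1 hh.2.1 hh.2.2)
    have h12' := fun i j => hne h12 i j
    have h13' := fun i j => hne h13 i j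
    have h23' := fun i j => hne h23 i j
    rcases hcases i h.1 with h1 | h1 | h1 <;> rcases hcases j h.2 with h2 | h2 | h2 <;>
      rw [h1] at h2
    · exact hij (hinj _ i j hi hj h2)
    · exact h12' i j h2
    · exact h13' i j h2
    · exact h12' j i h2.symm
    · exact hij (hinj _ i j hi hj h2)
    · exact h23' i j h2
    · exact h13' j i h2.symm
    · exact h23' j i h2.symm
    · exact hij (hinj _ i j hi hj h2)
  refine ⟨C 0 * C 1 * C 2, ?_, ?_, ?_, ?_⟩
  · have hC : ∀ i, C i ∈ alternatingGroup α := fun i => Perm.IsThreeCycle.mem_alternatingGroup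
      (isThreeCycle_cyc (hne h12 i i) (hne h23 i i) (hne h13 i i))
    exact mul_mem (mul_mem (hC 0) (hC 1)) (hC 2)
  · refine (commute_iff_eq _ _).2 ?_
    have h1 : z * (C 0 * C 1 * C 2) * z⁻¹ = C 0 * C 1 * C 2 := by
      calc z * (C 0 * C 1 * C 2) * z⁻¹ = (z * C 0 * z⁻¹) * (z * C 1 * z⁻¹) * (z * C 2 * z⁻¹) := by
            group
        _ = C 1 * C 2 * C 0 := by rw [hconj, hconj, hconj, hC3]
        _ = C 0 * C 1 * C 2 := by
            have hc := (hcomm 0 1 (by omega) (by omega) (by omega)).mul_right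
              (hcomm 0 2 (by omega) (by omega) (by omega))
            rw [← hc.eq, ← mul_assoc]
    exact (mul_inv_eq_iff_eq_mul.1 h1).symm
  · have h0 : ∀ i, i ≠ 0 → i < 3 → ∀ w, (w = u₁ ∨ w = u₂) → C i w = w := by
      intro i hi hi3 w hw
      rcases hw with rfl | rfl
      · refine cyc_apply_of_ne (fun h => hi (hinj w i 0 hi3 (by omega) (by simpa using h.symm))) ?_ ?_
        · simpa using hne h12 0 i
        · simpa using hne h13 0 i
      · refine cyc_apply_of_ne ?_ (fun h => hi (hinj w i 0 hi3 (by omega) (by simpa using h.symm))) ?_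
        · simpa using (hne h12 i 0).symm
        · simpa using hne h23 0 i
    rw [Perm.mul_apply, Perm.mul_apply, h0 2 (by omega) (by omega) u₁ (Or.inl rfl),
      h0 1 (by omega) (by omega) u₁ (Or.inl rfl)]
    simpa [C] using (cyc_apply (hne h12 0 0) (hne h23 0 0) (hne h13 0 0)).1
  · have h0 : ∀ i, C i y = y := fun i => cyc_apply_of_ne
      (by simpa using (hne hy1 i 0).symm) (by simpa using (hne hy2 i 0).symm)
      (by simpa using (hne hy3 i 0).symm)
    rw [Perm.mul_apply, Perm.mul_apply, h0, h0, h0]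

theorem sameCycle_card_le (hz3 : z ^ 3 = 1) (p : α) :
    (Finset.univ.filter fun q => Perm.SameCycle z p q).card ≤ 3 := by
  refine (Finset.card_le_card (t := {p, z p, z (z p)}) fun q hq => ?_).trans Finset.card_le_three
  simp only [Finset.mem_filter, Finset.mem_univ, true_and] at hq
  obtain ⟨i, rfl⟩ := hq.exists_nat_pow_eq
  rw [← Nat.mod_add_div i 3, pow_add, pow_mul, hz3, one_pow, mul_one]
  have := Nat.mod_lt i (show 3 > 0 by norm_num)
  interval_cases i % 3 <;> simp [pow_succ, Perm.mul_apply]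

end Blocks

/-- The set of points in the `K`-orbit of `x`. -/
noncomputable def orb (K : Subgroup (Perm α)) (x : α) : Finset α := (orbit K x).toFinset

theorem mem_orb {K : Subgroup (Perm α)} {x y : α} : y ∈ orb K x ↔ ∃ g ∈ K, g x = y := by
  simp only [orb, Set.mem_toFinset, mem_orbit_iff, Subtype.exists, Subgroup.smul_def]
  exact ⟨fun ⟨g, hg, h⟩ => ⟨g, hg, h⟩, fun ⟨g, hg, h⟩ => ⟨g, hg, h⟩⟩

theorem orb_eq_of_mem {K : Subgroup (Perm α)} {x y : α} (h : y ∈ orb K x) : orb K y = orb K x := by
  simp only [orb, Set.toFinset_inj]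
  rw [orbit_eq_iff]
  simpa [orb] using h

theorem mem_orb_self {K : Subgroup (Perm α)} (x : α) : x ∈ orb K x := by simp [orb]

theorem card_orb {K : Subgroup (Perm α)} (hK : IsPGroup 3 K) (x : α) :
    ∃ a, (orb K x).card = 3 ^ a := by
  haveI : Fact (Nat.Prime 3) := ⟨Nat.prime_three⟩
  obtain ⟨a, ha⟩ := hK.card_orbit x
  exact ⟨a, by rw [orb, ← Set.ncard_eq_toFinset_card', ← Nat.card_coe_set_eq, ha]⟩

theorem exists_outside {z : Perm α} (hz3 : z ^ 3 = 1) (S : Finset α) (hS : 9 ≤ S.card)
    (p : α) : ∃ q ∈ S, ¬ Perm.SameCycle z p q := by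
  by_contra hh
  push Not at hh
  have : S ⊆ Finset.univ.filter fun q => Perm.SameCycle z p q := fun q hq => by simp [hh q hq]
  have := (Finset.card_le_card this).trans (sameCycle_card_le hz3 p)
  omega

/-- Two proper overgroups generating the alternating group. -/
theorem exists_pair (h5 : 5 ≤ Fintype.card α) (P : Sylow 3 (Perm α))
    (hexc : ¬ (Fintype.card α = 6 ∨ Fintype.card α = 9 ∨ ∃ a, 2 ≤ a ∧ Fintype.card α = 3 ^ a + 1)) :
    ∃ A B : Subgroup (Perm α), (P : Subgroup (Perm α)) ≤ A ∧ (P : Subgroup (Perm α)) ≤ B ∧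
      A < alternatingGroup α ∧ B < alternatingGroup α ∧ alternatingGroup α ≤ A ⊔ B := by
  haveI : Fact (Nat.Prime 3) := ⟨Nat.prime_three⟩
  set K : Subgroup (Perm α) := (P : Subgroup (Perm α)) with hKdef
  have hKA : K ≤ alternatingGroup α := fun g hg => by
    obtain ⟨k, hk⟩ := P.2 ⟨g, hg⟩
    have hk' : g ^ 3 ^ k = 1 := congrArg Subtype.val hk
    rw [Perm.mem_alternatingGroup]
    have h1 : Perm.sign g ^ 3 ^ k = 1 := by rw [← map_pow, hk', map_one]
    rcases Int.units_eq_one_or (Perm.sign g) with h | h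
    · exact h
    · rw [h, (Odd.pow (by decide : Odd 3)).neg_one_pow] at h1
      exact absurd h1 (by decide)
  -- set stabilisers of orbits
  let St : Finset α → Subgroup (Perm α) := fun S =>
    { carrier := {g | g ∈ alternatingGroup α ∧ ∀ y, g y ∈ S ↔ y ∈ S}
      one_mem' := ⟨one_mem _, fun y => Iff.rfl⟩
      mul_mem' := fun {a b} ha hb => ⟨mul_mem ha.1 hb.1, fun y => (ha.2 (b y)).trans (hb.2 y)⟩
      inv_mem' := fun {a} ha => ⟨inv_mem ha.1, fun y => by
        rw [← ha.2 (a⁻¹ y)]; simp⟩ }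
  have hPSt : ∀ x, K ≤ St (orb K x) := by
    intro x g hg
    refine ⟨hKA hg, fun y => ?_⟩
    have hgy : g y ∈ orb K y := mem_orb.2 ⟨g, hg, rfl⟩
    constructor <;> intro h
    · rw [← orb_eq_of_mem h, orb_eq_of_mem hgy]; exact mem_orb_self y
    · rw [← orb_eq_of_mem h]; exact hgy
  have hStlt : ∀ S : Finset α, ∀ a b, a ∈ S → b ∉ S → St S < alternatingGroup α := by
    intro S a b ha hb
    refine lt_of_le_of_ne (fun g hg => hg.1) fun he => ?_
    have hab : a ≠ b := fun h => hb (h ▸ ha)
    obtain ⟨c, -, hc⟩ := Finset.exists_mem_notMem_of_card_lt_card (s := {a, b}) (t := Finset.univ)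
      (Finset.card_le_two.trans_lt (by rw [Finset.card_univ]; omega))
    simp only [Finset.mem_insert, Finset.mem_singleton, not_or] at hc
    have hmem : cyc a b c ∈ St S :=
      he.ge (isThreeCycle_cyc hab (Ne.symm hc.2) (Ne.symm hc.1)).mem_alternatingGroup
    have := (hmem.2 a).2 ha
    rw [(cyc_apply hab (Ne.symm hc.2) (Ne.symm hc.1)).1] at this
    exact hb this
  have hcycSt : ∀ (S : Finset α) a b c, a ≠ b → b ≠ c → a ≠ c →
      ((a ∈ S ∧ b ∈ S ∧ c ∈ S) ∨ (a ∈ Sᶜ ∧ b ∈ Sᶜ ∧ c ∈ Sᶜ)) → cyc a b c ∈ St S := by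
    intro S a b c hab hbc hac hcases
    refine ⟨(isThreeCycle_cyc hab hbc hac).mem_alternatingGroup, fun y => ?_⟩
    by_cases h : y = a ∨ y = b ∨ y = c
    · obtain ⟨e1, e2, e3⟩ := cyc_apply hab hbc hac
      simp only [Finset.mem_compl] at hcases
      rcases h with rfl | rfl | rfl <;> rcases hcases with ⟨_, _, _⟩ | ⟨_, _, _⟩ <;> simp [*]
    · push Not at h
      rw [cyc_apply_of_ne h.1 h.2.1 h.2.2]
  by_cases hthree : ∃ x y w, orb K x ≠ orb K y ∧ orb K y ≠ orb K w ∧ orb K x ≠ orb K w
  · -- at least three orbits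
    obtain ⟨x, y, w, hxy, hyw, hxw⟩ := hthree
    have hdisj : ∀ {a b}, orb K a ≠ orb K b → Disjoint (orb K a) (orb K b) := fun {a b} h => by
      rw [Finset.disjoint_left]
      intro q hq hq'
      exact h ((orb_eq_of_mem hq).symm.trans (orb_eq_of_mem hq'))
    -- two orbits with complement of size at least three
    have hone : ∀ a b, orb K a ≠ orb K b → 3 ≤ (orb K a)ᶜ.card ∨ 3 ≤ (orb K b)ᶜ.card := by
      intro a b h
      by_contra hh
      push Not at hh
      rw [Finset.card_compl, Finset.card_compl] at hh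
      have := Finset.card_le_univ (orb K a ∪ orb K b)
      rw [Finset.card_union_of_disjoint (hdisj h)] at this
      omega
    obtain ⟨a, b, c, hab, hbc, hac, ha, hb⟩ : ∃ a b c, orb K a ≠ orb K b ∧ orb K b ≠ orb K c ∧
        orb K a ≠ orb K c ∧ 3 ≤ (orb K a)ᶜ.card ∧ 3 ≤ (orb K b)ᶜ.card := by
      by_cases h1 : 3 ≤ (orb K x)ᶜ.card
      · by_cases h2 : 3 ≤ (orb K y)ᶜ.card
        · exact ⟨x, y, w, hxy, hyw, hxw, h1, h2⟩
        · exact ⟨x, w, y, hxw, Ne.symm hyw, hxy, h1, (hone y w hyw).resolve_left h2⟩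
      · exact ⟨y, w, x, hyw, Ne.symm hxw, Ne.symm hxy, (hone x y hxy).resolve_left h1,
          (hone x w hxw).resolve_left h1⟩
    refine ⟨St (orb K a), St (orb K b), hPSt a, hPSt b,
      hStlt _ a b (mem_orb_self a) (fun h => hab (orb_eq_of_mem h).symm),
      hStlt _ b c (mem_orb_self b) (fun h => hbc (orb_eq_of_mem h).symm),
      alternating_le_of_linked (by omega) ?_⟩
    have hlink : ∀ S : Finset α, 3 ≤ Sᶜ.card → St S ≤ St (orb K a) ⊔ St (orb K b) →
        ∀ p q, p ∉ S → q ∉ S → Linked (St (orb K a) ⊔ St (orb K b)) p q := by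
      intro S hS hle p q hp hq
      exact linked_of_set hS (fun u v t hu hv ht huv hvt hut =>
        hle (hcycSt S u v t huv hvt hut (Or.inr ⟨hu, hv, ht⟩)))
        (Finset.mem_compl.2 hp) (Finset.mem_compl.2 hq)
    have hca : c ∉ orb K a := fun h => hac (orb_eq_of_mem h).symm
    have hcb : c ∉ orb K b := fun h => hbc (orb_eq_of_mem h).symm
    have hto : ∀ p, Linked (St (orb K a) ⊔ St (orb K b)) p c := by
      intro p
      by_cases hp : p ∈ orb K a
      · exact hlink _ hb le_sup_right p c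
          (fun h => Finset.disjoint_left.1 (hdisj hab) hp h) hcb
      · exact hlink _ ha le_sup_left p c hp hca
    exact fun p q => (hto p).trans (hto q).symm
  push Not at hthree
  -- central elements supported on an orbit
  have hiff : ∀ x, ∀ g ∈ K, ∀ y, g y ∈ orb K x ↔ y ∈ orb K x := fun x g hg y => (hPSt x hg).2 y
  let r : ∀ x : α, K →* Perm α := fun x =>
    Perm.ofSubtype.comp
      { toFun := fun g => (g : Perm α).subtypePerm (p := fun y => y ∈ orb K x) (hiff x g g.2)
        map_one' := by ext; rfl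
        map_mul' := fun a b => by ext; rfl }
  have hr_mem : ∀ x (g : K) y, y ∈ orb K x → r x g y = (g : Perm α) y := fun x g y hy => by
    show Perm.ofSubtype _ y = _
    rw [Perm.ofSubtype_apply_of_mem _ hy]; rfl
  have hr_notMem : ∀ x (g : K) y, y ∉ orb K x → r x g y = y := fun x g y hy => by
    show Perm.ofSubtype _ y = _
    rw [Perm.ofSubtype_apply_of_not_mem _ hy]
  have hr_comm : ∀ x (g : K) (k : K), (g : Perm α) * r x k * (g : Perm α)⁻¹ = r x (g * k * g⁻¹) := by
    intro x g k
    ext y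
    have hy' := hiff x _ (inv_mem g.2) y
    simp only [Perm.mul_apply]
    by_cases hy : y ∈ orb K x
    · rw [hr_mem x _ y hy, hr_mem x k _ (hy'.2 hy)]; rfl
    · rw [hr_notMem x _ y hy, hr_notMem x k _ (fun h => hy (hy'.1 h))]; simp
  have hrK : ∀ x, (r x).range ≤ K := by
    intro x
    have hnorm : K ≤ normalizer ((r x).range : Set (Perm α)) := by
      intro g hg
      rw [mem_normalizer_iff]
      intro h
      constructor
      · rintro ⟨k, rfl⟩
        exact ⟨_, (hr_comm x ⟨g, hg⟩ k).symm⟩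
      · rintro ⟨k, hk⟩
        refine ⟨⟨g, hg⟩⁻¹ * k * ⟨g, hg⟩, ?_⟩
        have := hr_comm x ⟨g, hg⟩⁻¹ k
        rw [inv_inv] at this
        rw [← this, hk]
        simp [mul_assoc]
    have hp : IsPGroup 3 (r x).range := P.2.of_surjective (r x).rangeRestrict (r x).rangeRestrict_surjective
    have hsup : IsPGroup 3 ↥((r x).range ⊔ K) := hp.to_sup_of_normal_left' P.2 hnorm
    exact le_sup_left.trans (P.3 hsup le_sup_right).le
  have hcent : ∀ x, 3 ≤ (orb K x).card → ∃ c ∈ K, c ^ 3 = 1 ∧ (∀ g ∈ K, c * g = g * c) ∧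
      (∀ y, y ∉ orb K x → c y = y) ∧ ∀ y, y ∈ orb K x → c y ≠ y := by
    intro x hx
    have hp : IsPGroup 3 (r x).range := P.2.of_surjective (r x).rangeRestrict (r x).rangeRestrict_surjective
    haveI : Nontrivial (r x).range := by
      obtain ⟨y, hy, hyx⟩ := Finset.exists_mem_ne (show 1 < (orb K x).card by omega) x
      obtain ⟨g, hg, hgy⟩ := mem_orb.1 hy
      refine ⟨⟨⟨_, ⟨g, hg⟩, rfl⟩, 1, fun h => hyx ?_⟩⟩
      have h1 := Perm.congr_fun (congrArg Subtype.val h) x
      rw [hr_mem x _ x (mem_orb_self x)] at h1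
      exact hgy.symm.trans h1
    haveI := hp.center_nontrivial
    have hpc : IsPGroup 3 (center (r x).range) := hp.to_subgroup _
    obtain ⟨k, hk⟩ := IsPGroup.iff_card.1 hpc
    have hk0 : k ≠ 0 := by
      intro h0
      have := Finite.one_lt_card (α := center (r x).range)
      rw [hk, h0, pow_zero] at this
      omega
    obtain ⟨c, hc⟩ := exists_prime_orderOf_dvd_card' (G := center (r x).range) 3
      (hk ▸ dvd_pow_self 3 hk0)
    have hcK : ((c : (r x).range) : Perm α) ∈ K := hrK x (c : (r x).range).2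
    have hc3 : ((c : (r x).range) : Perm α) ^ 3 = 1 := by
      have := pow_orderOf_eq_one c
      rw [hc] at this
      exact congrArg (fun u : center (r x).range => ((u : (r x).range) : Perm α)) this
    have hout : ∀ y, y ∉ orb K x → ((c : (r x).range) : Perm α) y = y := by
      intro y hy
      obtain ⟨k, hk⟩ := (c : (r x).range).2
      rw [← hk, hr_notMem x k y hy]
    have hcomm : ∀ g ∈ K, ((c : (r x).range) : Perm α) * g = g * ((c : (r x).range) : Perm α) := by
      intro g hg
      have h1 : r x ⟨g, hg⟩ * ((c : (r x).range) : Perm α) =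
          ((c : (r x).range) : Perm α) * r x ⟨g, hg⟩ :=
        congrArg Subtype.val (mem_center_iff.1 c.2 ⟨_, ⟨g, hg⟩, rfl⟩)
      ext y
      have hgy := hiff x g hg y
      have hcy : ∀ v, ((c : (r x).range) : Perm α) v ∈ orb K x ↔ v ∈ orb K x :=
        fun v => hiff x _ hcK v
      simp only [Perm.mul_apply]
      by_cases hy : y ∈ orb K x
      · have h2 := Perm.congr_fun h1 y
        simp only [Perm.mul_apply] at h2
        rw [hr_mem x _ _ ((hcy y).2 hy), hr_mem x _ _ hy] at h2
        exact h2.symm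
      · rw [hout _ (fun h => hy (hgy.1 h)), hout y hy]
    refine ⟨_, hcK, hc3, hcomm, hout, fun y hy hfix => ?_⟩
    have hone : ((c : (r x).range) : Perm α) = 1 := by
      ext v
      by_cases hv : v ∈ orb K x
      · rw [← orb_eq_of_mem hy] at hv
        obtain ⟨g, hg, rfl⟩ := mem_orb.1 hv
        have := Perm.congr_fun (hcomm g hg) y
        simpa [hfix] using this
      · simpa using hout v hv
    have : c = 1 := Subtype.ext (Subtype.ext hone)
    rw [this, orderOf_one] at hc
    omega
  haveI : Nonempty α := Fintype.card_pos_iff.1 (by omega)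
  obtain ⟨x₀⟩ := (inferInstance : Nonempty α)
  -- the main orbit and its partner
  by_cases hsingle : ∀ y, y ∈ orb K x₀
  · -- one orbit
    obtain ⟨a, ha⟩ := card_orb (K := K) P.2 x₀
    have hn : Fintype.card α = 3 ^ a := by
      rw [← ha, ← Finset.card_univ, Finset.eq_univ_iff_forall.2 hsingle]
    push Not at hexc
    have ha3 : 3 ≤ a := by
      by_contra h
      interval_cases a <;> omega
    haveI : IsPretransitive K α := ⟨fun p q => by
      obtain ⟨g, hg, hg'⟩ := mem_orb.1 (hsingle p)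
      obtain ⟨g', hg'', hg'''⟩ := mem_orb.1 (hsingle q)
      exact ⟨⟨g', hg''⟩ * ⟨g, hg⟩⁻¹, by
        show g' (g⁻¹ p) = q
        rw [← hg', Perm.inv_def, Equiv.symm_apply_apply, hg''']⟩⟩
    -- a subgroup of index three containing the stabiliser
    obtain ⟨j, hj⟩ := IsPGroup.iff_card.1 (P.2.to_subgroup (stabilizer K x₀))
    obtain ⟨i, hi⟩ := IsPGroup.iff_card.1 P.2
    have hidx : (stabilizer K x₀).index = 3 ^ a := by
      rw [index_stabilizer_of_transitive, Nat.card_eq_fintype_card, hn]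
    have hcm := Subgroup.card_mul_index (stabilizer K x₀)
    rw [hidx, hj, hi, ← pow_add] at hcm
    have hji : j + a = i := Nat.pow_right_injective (le_refl 2 |>.trans (by norm_num : 2 ≤ 3)) hcm
    obtain ⟨Q, hQc, hQle⟩ := Sylow.exists_subgroup_card_pow_prime_le (p := 3) (n := j) (m := i - 1)
      (by rw [hi]; exact pow_dvd_pow 3 (by omega)) (stabilizer K x₀) hj (by omega)
    have hQidx : Q.index = 3 := by
      have h1 := Subgroup.card_mul_index Q
      rw [hQc, hi, show i = i - 1 + 1 by omega, pow_succ, Nat.add_sub_cancel] at h1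
      exact Nat.eq_of_mul_eq_mul_left (pow_pos (by norm_num) _) h1
    have hQn : Q.Normal := by
      refine Subgroup.normal_of_index_eq_minFac_card ?_
      rw [hQidx, hi, Nat.pow_minFac (by omega)]
      norm_num
    haveI : Nontrivial Q := by
      rw [← Finite.one_lt_card_iff_nontrivial, hQc]
      exact Nat.one_lt_pow (by omega) (by norm_num)
    -- a central element of order three inside `Q`
    obtain ⟨z, hzQ, hz3, hzc⟩ : ∃ z : K, z ∈ Q ∧ orderOf z = 3 ∧ z ∈ center K := by
      have hQp : IsPGroup 3 Q := P.2.to_subgroup Q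
      haveI : Group.IsNilpotent K := P.2.isNilpotent
      have hne : (center K ⊓ Q) ≠ ⊥ := by
        rw [inf_comm]
        exact Cfsg.Agent.Cores.inf_center_ne_bot ((nontrivial_iff_ne_bot Q).1 inferInstance)
      obtain ⟨k, hk⟩ := IsPGroup.iff_card.1 (P.2.to_subgroup (center K ⊓ Q))
      have hk0 : k ≠ 0 := fun h => hne (Subgroup.eq_bot_of_card_eq _ (by rw [hk, h, pow_zero]))
      obtain ⟨z, hz⟩ := exists_prime_orderOf_dvd_card' (G := ↥(center K ⊓ Q)) 3 (hk ▸ dvd_pow_self 3 hk0)
      exact ⟨z, z.2.2, by rw [Subgroup.orderOf_coe, hz], z.2.1⟩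
    set zz : Perm α := (z : Perm α) with hzz
    have hzz3 : zz ^ 3 = 1 := by
      have := pow_orderOf_eq_one z
      rw [hz3] at this
      exact congrArg Subtype.val this
    have hzcomm : ∀ g ∈ K, zz * g = g * zz := fun g hg =>
      (congrArg Subtype.val (mem_center_iff.1 hzc ⟨g, hg⟩)).symm
    have hfpf : ∀ y, zz y ≠ y := by
      intro y hy
      have hone : zz = 1 := by
        ext v
        obtain ⟨g, hg⟩ := exists_smul_eq K y v
        rw [← hg]
        show zz ((g : Perm α) y) = _
        have := Perm.congr_fun (hzcomm g g.2) y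
        simp only [Perm.mul_apply] at this
        rw [this, hy]; rfl
      have : z = 1 := Subtype.ext hone
      rw [this, orderOf_one] at hz3; omega
    -- the orbits of `Q`
    set Qm : Subgroup (Perm α) := Q.map K.subtype with hQm
    have hQmK : Qm ≤ K := Subgroup.map_subtype_le Q
    have hequiv : ∀ g ∈ K, ∀ p q, q ∈ orb Qm p → g q ∈ orb Qm (g p) := by
      intro g hg p q hq
      obtain ⟨u, hu, rfl⟩ := mem_orb.1 hq
      obtain ⟨u', hu', rfl⟩ := hu
      refine mem_orb.2 ⟨g * u' * g⁻¹, ⟨⟨g, hg⟩ * u' * ⟨g, hg⟩⁻¹, hQn.conj_mem u' hu' _, rfl⟩, ?_⟩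
      simp
    have hQcard : ∀ p, (orb Qm p).card * 3 = Fintype.card α := by
      have hbase : (orb Qm x₀).card * 3 = Fintype.card α := by
        have hst : stabilizer Qm x₀ = ((stabilizer K x₀).map K.subtype).subgroupOf Qm := by
          ext ⟨u, hu⟩
          simp only [mem_stabilizer_iff, Subgroup.smul_def, mem_subgroupOf, Subgroup.mem_map]
          constructor
          · intro h; exact ⟨⟨u, hQmK hu⟩, h, rfl⟩
          · rintro ⟨v, hv, hvu⟩; rw [← hvu]; exact hv
        have h1 : (orb Qm x₀).card = (stabilizer Qm x₀).index := by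
          rw [index_stabilizer, orb, ← Set.ncard_eq_toFinset_card']
        rw [h1, hst, ← Subgroup.relIndex, hQm,
          Subgroup.relIndex_map_map_of_injective _ _ K.subtype_injective, ← hQidx,
          Subgroup.relIndex_mul_index hQle, hidx, hn]
      intro p
      obtain ⟨g, hg⟩ := exists_smul_eq K x₀ p
      have himg : orb Qm p = (orb Qm x₀).image (g : Perm α) := by
        ext q
        constructor
        · intro hq
          refine Finset.mem_image.2 ⟨(g : Perm α)⁻¹ q, ?_, by simp⟩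
          have := hequiv _ (inv_mem g.2) p q hq
          rw [← hg] at this
          simpa [Subgroup.smul_def] using this
        · intro hq
          obtain ⟨v, hv, rfl⟩ := Finset.mem_image.1 hq
          rw [← hg]
          exact hequiv _ g.2 x₀ v hv
      rw [himg, Finset.card_image_of_injective _ (g : Perm α).injective, hbase]
    let B : Subgroup (Perm α) :=
      { carrier := {g | g ∈ alternatingGroup α ∧ ∀ p q, g q ∈ orb Qm (g p) ↔ q ∈ orb Qm p}
        one_mem' := ⟨one_mem _, fun p q => Iff.rfl⟩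
        mul_mem' := fun {u v} hu hv => ⟨mul_mem hu.1 hv.1, fun p q => (hu.2 (v p) (v q)).trans (hv.2 p q)⟩
        inv_mem' := fun {u} hu => ⟨inv_mem hu.1, fun p q => by
          rw [← hu.2 (u⁻¹ p) (u⁻¹ q)]; simp⟩ }
    have hPB : K ≤ B := fun g hg => ⟨hKA hg, fun p q => ⟨fun h => by
      simpa using hequiv _ (inv_mem hg) _ _ h, hequiv g hg p q⟩⟩
    let A : Subgroup (Perm α) := alternatingGroup α ⊓ centralizer ({zz} : Set (Perm α))
    have hPA : K ≤ A := fun g hg => Subgroup.mem_inf.2 ⟨hKA hg, by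
      rw [mem_centralizer_iff]
      intro u hu
      rw [Set.mem_singleton_iff] at hu
      rw [hu]; exact hzcomm g hg⟩
    have hbig : ∀ p, 9 ≤ (orb Qm p).card := by
      intro p
      have h27 : 27 ≤ 3 ^ a := le_trans (by norm_num) (Nat.pow_le_pow_right (show 0 < 3 by norm_num) ha3)
      have := hQcard p
      omega
    have hnotall : ∀ p, ∃ q, q ∉ orb Qm p := fun p => by
      obtain ⟨q, -, hq⟩ := Finset.exists_mem_notMem_of_card_lt_card (s := orb Qm p) (t := Finset.univ)
        (by have := hQcard p; have := hbig p; rw [Finset.card_univ]; omega)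
      exact ⟨q, hq⟩
    have hzQm : ∀ p q, Perm.SameCycle zz p q → q ∈ orb Qm p := by
      intro p q hpq
      obtain ⟨i, rfl⟩ := hpq
      exact mem_orb.2 ⟨zz ^ i, zpow_mem (show zz ∈ Qm from ⟨z, hzQ, rfl⟩) i, rfl⟩
    refine ⟨A, B, hPA, hPB, ?_, ?_, alternating_le_of_linked (by omega) ?_⟩
    · refine lt_of_le_of_ne inf_le_left fun he => ?_
      have hcent := centralizer_alt_eq_bot (β := α) (by rw [Nat.card_eq_fintype_card]; omega)
      have hz1 : zz ∈ centralizer (alternatingGroup α : Set (Perm α)) := by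
        rw [mem_centralizer_iff]
        intro g hg
        have hgA : g ∈ A := he.ge hg
        exact (mem_centralizer_iff.1 hgA.2 zz rfl).symm
      rw [hcent, Subgroup.mem_bot] at hz1
      exact hfpf x₀ (by rw [hz1]; rfl)
    · refine lt_of_le_of_ne (fun g hg => hg.1) fun he => ?_
      obtain ⟨q, hq⟩ := hnotall x₀
      obtain ⟨v, hv, hvx⟩ := Finset.exists_mem_ne (show 1 < (orb Qm x₀).card by
        have := hbig x₀; omega) x₀
      have hvq : v ≠ q := fun h => hq (h ▸ hv)
      have hxq : x₀ ≠ q := fun h => hq (h ▸ mem_orb_self _)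
      obtain ⟨w, -, hw⟩ := Finset.exists_mem_notMem_of_card_lt_card (s := {x₀, v, q}) (t := Finset.univ)
        (Finset.card_le_three.trans_lt (by rw [Finset.card_univ]; omega))
      simp only [Finset.mem_insert, Finset.mem_singleton, not_or] at hw
      have hmem : cyc v q w ∈ B :=
        he.ge (isThreeCycle_cyc hvq (Ne.symm hw.2.2) (Ne.symm hw.2.1)).mem_alternatingGroup
      have := (hmem.2 x₀ v).2 hv
      rw [(cyc_apply hvq (Ne.symm hw.2.2) (Ne.symm hw.2.1)).1,
        cyc_apply_of_ne (Ne.symm hvx) hxq (Ne.symm hw.1)] at this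
      exact hq this
    · -- linking
      have hin : ∀ p q, q ∈ orb Qm p → Linked (A ⊔ B) p q := by
        intro p q hq
        refine linked_of_set (le_trans (by norm_num) (hbig p)) (fun u v w hu hv hw huv hvw huw => ?_)
          (mem_orb_self p) hq
        refine le_sup_right (a := A) ⟨(isThreeCycle_cyc huv hvw huw).mem_alternatingGroup, fun s t => ?_⟩
        have hkey : ∀ s, orb Qm (cyc u v w s) = orb Qm s := by
          intro s
          obtain ⟨e1, e2, e3⟩ := cyc_apply huv hvw huw
          by_cases h1 : s = u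
          · rw [h1, e1, orb_eq_of_mem hu, orb_eq_of_mem hv]
          by_cases h2 : s = v
          · rw [h2, e2, orb_eq_of_mem hv, orb_eq_of_mem hw]
          by_cases h3 : s = w
          · rw [h3, e3, orb_eq_of_mem hw, orb_eq_of_mem hu]
          rw [cyc_apply_of_ne h1 h2 h3]
        rw [hkey s]
        constructor <;> intro h
        · rw [← orb_eq_of_mem h, hkey t]; exact mem_orb_self t
        · rw [← orb_eq_of_mem h, ← hkey t]; exact mem_orb_self _
      -- an element of `A` moving one orbit of `Q` across another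
      obtain ⟨u₂, hu₂⟩ := hnotall x₀
      obtain ⟨u₃, -, hu₃⟩ := Finset.exists_mem_notMem_of_card_lt_card
        (s := orb Qm x₀ ∪ orb Qm u₂) (t := Finset.univ) (by
          refine (Finset.card_union_le _ _).trans_lt ?_
          have := hQcard x₀; have := hQcard u₂; have := hbig x₀; rw [Finset.card_univ]; omega)
      rw [Finset.mem_union, not_or] at hu₃
      obtain ⟨y, hy, hy1⟩ := exists_outside hzz3 (orb Qm x₀) (hbig x₀) x₀
      obtain ⟨g, hgA, hgz, hg1, hgy⟩ := exists_commuting hzz3 hfpf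
        (u₁ := x₀) (u₂ := u₂) (u₃ := u₃) (y := y)
        (fun h => hu₂ (hzQm _ _ h)) (fun h => hu₃.2 (hzQm _ _ h)) (fun h => hu₃.1 (hzQm _ _ h)) hy1
        (fun h => hu₂ (by rw [← orb_eq_of_mem hy, orb_eq_of_mem (hzQm _ _ h)]; exact mem_orb_self _))
        (fun h => hu₃.1 (by rw [← orb_eq_of_mem hy, orb_eq_of_mem (hzQm _ _ h)]; exact mem_orb_self _))
      have hgmem : g ∈ A ⊔ B := le_sup_left (b := B) (Subgroup.mem_inf.2 ⟨hgA, by
        rw [mem_centralizer_iff]
        intro u hu
        rw [Set.mem_singleton_iff] at hu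
        rw [hu]; exact hgz.eq.symm⟩)
      -- the linked class of `x₀` has more than a third of the points
      have hcross : Linked (A ⊔ B) u₂ x₀ := by
        have := (hin x₀ y hy).map hgmem
        rw [hg1, hgy] at this
        exact this.trans (hin x₀ y hy).symm
      set H := A ⊔ B with hH
      haveI : IsPretransitive H α := ⟨fun p q => by
        obtain ⟨u, hu⟩ := exists_smul_eq K p q
        exact ⟨⟨u, le_sup_left (b := B) (hPA u.2)⟩, hu⟩⟩
      let L : Set α := {q | Linked H x₀ q}
      have hblock : IsBlock H L := by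
        rw [isBlock_iff_smul_eq_of_nonempty]
        intro u hu
        obtain ⟨s, hs1, hs2⟩ := hu
        obtain ⟨t, ht, rfl⟩ := hs1
        ext q
        constructor
        · rintro ⟨q', hq', rfl⟩
          exact hs2.trans (((ht.symm).trans hq').map u.2)
        · intro hq
          refine ⟨(u : Perm α)⁻¹ q, ?_, ?_⟩
          · have := (hs2.symm.trans hq).map (inv_mem u.2)
            simp only [Subgroup.smul_def, Perm.smul_def, Perm.inv_def, Equiv.symm_apply_apply] at this
            exact ht.trans this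
          · simp [Subgroup.smul_def]
      have hsub : ((orb Qm x₀ ∪ orb Qm u₂ : Finset α) : Set α) ⊆ L := by
        intro q hq
        rcases Finset.mem_union.1 hq with h | h
        · exact hin _ _ h
        · exact hcross.symm.trans (hin _ _ h)
      have hLuniv : L = Set.univ := by
        refine hblock.eq_univ_of_card_lt ?_
        have hd : Disjoint (orb Qm x₀) (orb Qm u₂) := by
          rw [Finset.disjoint_left]
          intro q hq hq'
          exact hu₂ (by rw [← orb_eq_of_mem hq, orb_eq_of_mem hq']; exact mem_orb_self _)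
        have h1 := Set.ncard_le_ncard hsub
        rw [Set.ncard_coe_finset, Finset.card_union_of_disjoint hd] at h1
        have := hQcard x₀; have := hQcard u₂; have := hbig x₀
        rw [Nat.card_eq_fintype_card]
        omega
      intro p q
      exact (hLuniv.symm ▸ Set.mem_univ p : p ∈ L).symm.trans (hLuniv.symm ▸ Set.mem_univ q : q ∈ L)
  -- two orbits
  push Not at hsingle
  obtain ⟨x₁, hx₁⟩ := hsingle
  have htwo : ∀ p, p ∈ orb K x₀ ∨ p ∈ orb K x₁ := by
    intro p
    have hne : orb K x₀ ≠ orb K x₁ := fun h => hx₁ (h ▸ mem_orb_self x₁)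
    by_cases h : orb K x₁ = orb K p
    · exact Or.inr (h ▸ mem_orb_self p)
    · exact Or.inl ((hthree x₀ x₁ p hne h).symm ▸ mem_orb_self p)
  have hd : Disjoint (orb K x₀) (orb K x₁) := by
    rw [Finset.disjoint_left]
    intro q hq hq'
    exact hx₁ (by rw [← orb_eq_of_mem hq, orb_eq_of_mem hq']; exact mem_orb_self _)
  have hsum : (orb K x₀).card + (orb K x₁).card = Fintype.card α := by
    rw [← Finset.card_union_of_disjoint hd, ← Finset.card_univ]
    congr 1
    rw [Finset.eq_univ_iff_forall]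
    exact fun p => Finset.mem_union.2 (htwo p)
  obtain ⟨a, ha⟩ := card_orb (K := K) P.2 x₀
  obtain ⟨b, hb⟩ := card_orb (K := K) P.2 x₁
  push Not at hexc
  obtain ⟨h6, -, hpow⟩ := hexc
  have hab : 1 ≤ a ∧ 1 ≤ b ∧ (2 ≤ a ∨ 2 ≤ b) := by
    rcases Nat.eq_zero_or_pos a with rfl | ha1
    · rcases Nat.lt_or_ge b 2 with hb2 | hb2
      · interval_cases b <;> simp only [pow_zero, pow_one] at ha hb <;> omega
      · exact absurd (show Fintype.card α = 3 ^ b + 1 by omega) (hpow b hb2)
    rcases Nat.eq_zero_or_pos b with rfl | hb1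
    · rcases Nat.lt_or_ge a 2 with ha2 | ha2
      · interval_cases a; simp only [pow_zero, pow_one] at ha hb; omega
      · exact absurd (show Fintype.card α = 3 ^ a + 1 by omega) (hpow a ha2)
    refine ⟨ha1, hb1, ?_⟩
    by_contra h
    push Not at h
    obtain ⟨h1, h2⟩ := h
    interval_cases a <;> interval_cases b <;> simp only [pow_zero, pow_one] at ha hb <;> omega
  obtain ⟨X, Y, hX9, hY3, hXY, hcover⟩ : ∃ X Y, 9 ≤ (orb K X).card ∧ 3 ≤ (orb K Y).card ∧
      Disjoint (orb K X) (orb K Y) ∧ ∀ p, p ∈ orb K X ∨ p ∈ orb K Y := by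
    have h3a : 3 ≤ 3 ^ a := by
      calc 3 = 3 ^ 1 := rfl
        _ ≤ 3 ^ a := Nat.pow_le_pow_right (by norm_num) hab.1
    have h3b : 3 ≤ 3 ^ b := by
      calc 3 = 3 ^ 1 := rfl
        _ ≤ 3 ^ b := Nat.pow_le_pow_right (by norm_num) hab.2.1
    rcases hab.2.2 with h | h
    · exact ⟨x₀, x₁, ha ▸ (show 9 ≤ 3 ^ a from (by norm_num : (9:ℕ) ≤ 3 ^ 2).trans (Nat.pow_le_pow_right (by norm_num) h)),
        hb ▸ h3b, hd, htwo⟩
    · exact ⟨x₁, x₀, hb ▸ (show 9 ≤ 3 ^ b from (by norm_num : (9:ℕ) ≤ 3 ^ 2).trans (Nat.pow_le_pow_right (by norm_num) h)),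
        ha ▸ h3a, hd.symm, fun p => (htwo p).symm⟩
  obtain ⟨c₁, hc₁K, hc₁3, hc₁c, hc₁o, hc₁m⟩ := hcent X (by omega)
  obtain ⟨c₂, hc₂K, hc₂3, hc₂c, hc₂o, hc₂m⟩ := hcent Y hY3
  set zz := c₁ * c₂ with hzz
  have hzK : zz ∈ K := mul_mem hc₁K hc₂K
  have hzz3 : zz ^ 3 = 1 := by
    rw [Commute.mul_pow (hc₁c c₂ hc₂K), hc₁3, hc₂3, one_mul]
  have hzcomm : ∀ g ∈ K, zz * g = g * zz := fun g hg => by
    rw [hzz, mul_assoc, hc₂c g hg, ← mul_assoc, hc₁c g hg, mul_assoc]
  have hfpf : ∀ p, zz p ≠ p := by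
    intro p hp
    rw [hzz, Perm.mul_apply] at hp
    rcases hcover p with h | h
    · rw [hc₂o p (Finset.disjoint_left.1 hXY h)] at hp
      exact hc₁m p h hp
    · have h2 : c₂ p ∈ orb K Y := (hiff Y c₂ hc₂K p).2 h
      rw [hc₁o _ (fun h' => Finset.disjoint_left.1 hXY h' h2)] at hp
      exact hc₂m p h hp
  have hsame : ∀ p q, Perm.SameCycle zz p q → orb K q = orb K p := by
    intro p q hpq
    obtain ⟨i, rfl⟩ := hpq
    exact orb_eq_of_mem (mem_orb.2 ⟨zz ^ i, zpow_mem hzK i, rfl⟩)
  have hYX : orb K Y ≠ orb K X := fun h =>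
    Finset.disjoint_left.1 hXY (mem_orb_self X) (h ▸ mem_orb_self X)
  refine ⟨St (orb K X), alternatingGroup α ⊓ centralizer ({zz} : Set (Perm α)), hPSt X, fun g hg => Subgroup.mem_inf.2 ⟨hKA hg, by
      rw [mem_centralizer_iff]
      intro u hu
      rw [Set.mem_singleton_iff] at hu
      rw [hu]; exact hzcomm g hg⟩,
    hStlt _ X Y (mem_orb_self X) (fun h => hYX (orb_eq_of_mem h)), ?_, alternating_le_of_linked (by omega) ?_⟩
  · refine lt_of_le_of_ne inf_le_left fun he => ?_
    have hcent' := centralizer_alt_eq_bot (β := α) (by rw [Nat.card_eq_fintype_card]; omega)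
    have hz1 : zz ∈ centralizer (alternatingGroup α : Set (Perm α)) := by
      rw [mem_centralizer_iff]
      intro g hg
      have hgA := he.ge hg
      exact (mem_centralizer_iff.1 hgA.2 zz rfl).symm
    rw [hcent', Subgroup.mem_bot] at hz1
    exact hfpf X (by rw [hz1]; rfl)
  · set H := St (orb K X) ⊔ (alternatingGroup α ⊓ centralizer ({zz} : Set (Perm α))) with hH
    have hinX : ∀ p q, p ∈ orb K X → q ∈ orb K X → Linked H p q := fun p q hp hq =>
      linked_of_set (by omega) (fun u v w hu hv hw huv hvw huw =>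
        le_sup_left (b := alternatingGroup α ⊓ centralizer ({zz} : Set (Perm α)))
          (hcycSt _ u v w huv hvw huw (Or.inl ⟨hu, hv, hw⟩))) hp hq
    have hinY : ∀ p q, p ∈ orb K Y → q ∈ orb K Y → Linked H p q := fun p q hp hq =>
      linked_of_set hY3 (fun u v w hu hv hw huv hvw huw =>
        le_sup_left (b := alternatingGroup α ⊓ centralizer ({zz} : Set (Perm α)))
          (hcycSt _ u v w huv hvw huw (Or.inr ⟨Finset.mem_compl.2 (fun h => Finset.disjoint_left.1 hXY h hu),
            Finset.mem_compl.2 (fun h => Finset.disjoint_left.1 hXY h hv),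
            Finset.mem_compl.2 (fun h => Finset.disjoint_left.1 hXY h hw)⟩))) hp hq
    obtain ⟨u₃, hu₃, hu₃1⟩ := exists_outside hzz3 _ hX9 X
    obtain ⟨y, hy, hy'⟩ : ∃ y ∈ orb K X, ¬ Perm.SameCycle zz X y ∧ ¬ Perm.SameCycle zz u₃ y := by
      by_contra hh
      push Not at hh
      have hsub : orb K X ⊆ (Finset.univ.filter fun q => Perm.SameCycle zz X q) ∪
          (Finset.univ.filter fun q => Perm.SameCycle zz u₃ q) := by
        intro q hq
        simp only [Finset.mem_union, Finset.mem_filter, Finset.mem_univ, true_and]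
        by_cases h : Perm.SameCycle zz X q
        · exact Or.inl h
        · exact Or.inr (hh q hq h)
      have := (Finset.card_le_card hsub).trans (Finset.card_union_le _ _)
      have := sameCycle_card_le hzz3 X
      have := sameCycle_card_le hzz3 u₃
      omega
    have hoy : orb K y = orb K X := orb_eq_of_mem hy
    have ho3 : orb K u₃ = orb K X := orb_eq_of_mem hu₃
    obtain ⟨g, hgA, hgz, hg1, hgy⟩ := exists_commuting hzz3 hfpf
      (u₁ := X) (u₂ := Y) (u₃ := u₃) (y := y)
      (fun h => hYX (hsame _ _ h)) (fun h => hYX ((hsame _ _ h).symm.trans ho3)) hu₃1 hy'.1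
      (fun h => hYX ((hsame _ _ h).symm.trans hoy)) hy'.2
    have hgmem : g ∈ H := le_sup_right (a := St (orb K X)) (Subgroup.mem_inf.2 ⟨hgA, by
      rw [mem_centralizer_iff]
      intro u hu
      rw [Set.mem_singleton_iff] at hu
      rw [hu]; exact hgz.eq.symm⟩)
    have hXYl : Linked H X Y := by
      have := (hinX X y (mem_orb_self X) hy).map hgmem
      rw [hg1, hgy] at this
      exact (hinX X y (mem_orb_self X) hy).trans this.symm
    have hto : ∀ p, Linked H p X := by
      intro p
      rcases hcover p with h | h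
      · exact hinX p X h (mem_orb_self X)
      · exact (hinY p Y h (mem_orb_self Y)).trans hXYl.symm
    exact fun p q => (hto p).trans (hto q).symm

end Cfsg.Agent.Perm.ThreeMinimalAlt
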