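import Mathlib

/-!
# Stabilisers of uniform partitions

The stabiliser of a partition into `b ≥ 2` blocks of size `a ≥ 2` is maximal in the symmetric
group; its even part is maximal in the alternating group except in degree 8.
-/

set_option autoImplicit false

namespace Cfsg.Agent.Perm.UniformPartition

open Equiv
open scoped Pointwise

variable {Ω : Type*} {b : ℕ}

/-- The stabiliser of the partition into the fibres of `f`. -/
def stab (f : Ω → Fin b) : Subgroup (Perm Ω) where
  carrier := {g | ∀ x y : Ω, f x = f y ↔ f (g x) = f (g y)}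
  one_mem' := fun _ _ => Iff.rfl
  mul_mem' := fun {g h} hg hh x y => (hh x y).trans (hg (h x) (h y))
  inv_mem' := fun {g} hg x y => by
    rw [hg (g⁻¹ x) (g⁻¹ y)]
    simp

theorem apply_inv (g : Perm Ω) (x : Ω) : g (g⁻¹ x) = x := g.apply_symm_apply x

theorem inv_apply (g : Perm Ω) (x : Ω) : g⁻¹ (g x) = x := g.symm_apply_apply x

theorem prodCongrRight_apply' {α β : Type*} (e : α → Perm β) (p : α × β) :
    Equiv.prodCongrRight e p = (p.1, e p.1 p.2) := rfl

theorem closure_eq_stab (f : Ω → Fin b) :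
    Subgroup.closure {g : Perm Ω | ∀ x y : Ω, f x = f y ↔ f (g x) = f (g y)} = stab f :=
  Subgroup.closure_eq (stab f)

theorem exists_coord [Fintype Ω] (f : Ω → Fin b) (a : ℕ)
    (hf : ∀ i : Fin b, Nat.card {x : Ω // f x = i} = a) :
    ∃ e : Ω ≃ Fin b × Fin a, ∀ x, (e x).1 = f x := by
  classical
  let e' : ∀ i, {x : Ω // f x = i} ≃ Fin a := fun i =>
    Finite.equivFinOfCardEq (hf i)
  exact ⟨(Equiv.sigmaFiberEquiv f).symm.trans
    ((Equiv.sigmaCongrRight e').trans (Equiv.sigmaEquivProd _ _)), fun x => rfl⟩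

variable [Fintype Ω] [DecidableEq Ω] (f : Ω → Fin b) {a : ℕ}
  (hf : ∀ i : Fin b, Nat.card {x : Ω // f x = i} = a)

theorem swap_mem {x y : Ω} (h : f x = f y) : Equiv.swap x y ∈ stab f := by
  have key : ∀ z, f (Equiv.swap x y z) = f z := by
    intro z
    rcases eq_or_ne z x with rfl | hx
    · rw [Equiv.swap_apply_left, h]
    · rcases eq_or_ne z y with rfl | hy
      · rw [Equiv.swap_apply_right, h]
      · rw [Equiv.swap_apply_of_ne_of_ne hx hy]
  intro u v
  rw [key, key]

include hf

theorem exists_ne_in_fibre (ha : 2 ≤ a) (x : Ω) : ∃ y, f y = f x ∧ y ≠ x := by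
  classical
  obtain ⟨e, he⟩ := exists_coord f a hf
  haveI : Nontrivial (Fin a) := Fin.nontrivial_iff_two_le.2 ha
  obtain ⟨j, hj⟩ := exists_ne (e x).2
  refine ⟨e.symm ((e x).1, j), ?_, fun h => hj ?_⟩
  · rw [← he, e.apply_symm_apply, he]
  · rw [← h, e.apply_symm_apply]

theorem card_eq : Fintype.card Ω = b * a := by
  obtain ⟨e, -⟩ := exists_coord f a hf
  rw [Fintype.card_congr e, Fintype.card_prod, Fintype.card_fin, Fintype.card_fin]

omit hf in
theorem prodCongr_mem {e : Ω ≃ Fin b × Fin a} (he : ∀ x, (e x).1 = f x) (σ : Perm (Fin b))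
    (τ : Fin b → Perm (Fin a)) :
    e.trans (((Equiv.prodCongrRight τ).trans (Equiv.prodCongr σ (Equiv.refl _))).trans e.symm) ∈
      stab f := by
  intro u v
  rw [← he u, ← he v, ← he, ← he]
  simp [σ.injective.eq_iff]

/-- The stabiliser is transitive, also on the pairs of given kind. -/
theorem exists_move {x y z : Ω} (hyx : y ≠ x) (hzx : z ≠ x) (h : f y = f x ↔ f z = f x) :
    ∃ g ∈ stab f, g x = x ∧ g y = z := by
  classical
  obtain ⟨e, he⟩ := exists_coord f a hf
  by_cases hy : f y = f x
  · exact ⟨Equiv.swap y z, swap_mem f (hy.trans (h.1 hy).symm),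
      Equiv.swap_apply_of_ne_of_ne hyx.symm hzx.symm, Equiv.swap_apply_left y z⟩
  · have hz : f z ≠ f x := fun hh => hy (h.2 hh)
    refine ⟨Equiv.swap (e.symm (f z, (e y).2)) z *
      e.trans (((Equiv.prodCongrRight fun _ => Equiv.refl (Fin a)).trans
        (Equiv.prodCongr (Equiv.swap (f y) (f z)) (Equiv.refl _))).trans e.symm),
      (stab f).mul_mem (swap_mem f ?_) (prodCongr_mem f he _ _), ?_, ?_⟩
    · rw [← he, e.apply_symm_apply]
    · have h1 : (e x).1 ≠ f y := fun hh => hy (by rw [← hh, he])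
      have h2 : (e x).1 ≠ f z := fun hh => hz (by rw [← hh, he])
      rw [Perm.mul_apply, show (e.trans (((Equiv.prodCongrRight fun _ => Equiv.refl (Fin a)).trans
        (Equiv.prodCongr (Equiv.swap (f y) (f z)) (Equiv.refl _))).trans e.symm)) x = x by
          simp [prodCongrRight_apply', Prod.map, Equiv.swap_apply_of_ne_of_ne h1 h2], Equiv.swap_apply_of_ne_of_ne ?_ hzx.symm]
      intro hh
      exact hz (by rw [hh, ← he (e.symm _), e.apply_symm_apply])
    · have h0 : (e y).1 = f y := he y
      rw [Perm.mul_apply, show (e.trans (((Equiv.prodCongrRight fun _ => Equiv.refl (Fin a)).trans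
        (Equiv.prodCongr (Equiv.swap (f y) (f z)) (Equiv.refl _))).trans e.symm)) y =
          e.symm (f z, (e y).2) by simp [prodCongrRight_apply', Prod.map, h0], Equiv.swap_apply_left]

theorem exists_map (x z : Ω) : ∃ g ∈ stab f, g x = z := by
  classical
  obtain ⟨e, he⟩ := exists_coord f a hf
  refine ⟨e.trans (((Equiv.prodCongrRight fun _ => Equiv.swap (e x).2 (e z).2).trans
    (Equiv.prodCongr (Equiv.swap (e x).1 (e z).1) (Equiv.refl _))).trans e.symm),
    prodCongr_mem f he _ _, ?_⟩
  simp [prodCongrRight_apply', Prod.map]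

theorem stab_ne_top (ha : 2 ≤ a) (hb : 2 ≤ b) : stab f ≠ ⊤ := by
  classical
  obtain ⟨e, he⟩ := exists_coord f a hf
  intro htop
  let x := e.symm (⟨0, by omega⟩, ⟨0, by omega⟩)
  let y := e.symm (⟨0, by omega⟩, ⟨1, by omega⟩)
  let z := e.symm (⟨1, by omega⟩, ⟨0, by omega⟩)
  have hxy : f x = f y := by rw [← he, ← he]; simp [x, y]
  have hxz : f x ≠ f z := by rw [← he, ← he]; simp [x, z]
  have hyx : y ≠ x := by simp [x, y]
  have hmem : Equiv.swap y z ∈ stab f := by rw [htop]; trivial
  have := (hmem x y).1 hxy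
  rw [Equiv.swap_apply_of_ne_of_ne hyx.symm (fun h => hxz (by rw [h])), Equiv.swap_apply_left] at this
  exact hxz this

/-- A transposition in the stabiliser avoiding two given points. -/
theorem exists_spare (ha : 2 ≤ a) (hb : 2 ≤ b) (hn : Fintype.card Ω ≠ 4) (x z : Ω) :
    ∃ p q, p ≠ q ∧ f p = f q ∧ p ≠ x ∧ p ≠ z ∧ q ≠ x ∧ q ≠ z := by
  classical
  obtain ⟨e, he⟩ := exists_coord f a hf
  have mk : ∀ (i : Fin b) (j k : Fin a), j ≠ k → e.symm (i, j) ≠ x → e.symm (i, j) ≠ z →
      e.symm (i, k) ≠ x → e.symm (i, k) ≠ z →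
      ∃ p q, p ≠ q ∧ f p = f q ∧ p ≠ x ∧ p ≠ z ∧ q ≠ x ∧ q ≠ z := by
    intro i j k hjk h1 h2 h3 h4
    refine ⟨e.symm (i, j), e.symm (i, k), ?_, ?_, h1, h2, h3, h4⟩
    · simpa using hjk
    · rw [← he, ← he]; simp
  have hne : ∀ (i : Fin b) (j : Fin a) (u : Ω), i ≠ f u → e.symm (i, j) ≠ u := fun i j u hi hh =>
    hi (by rw [← hh, ← he, e.apply_symm_apply])
  have hne' : ∀ (i : Fin b) (j : Fin a) (u : Ω), j ≠ (e u).2 → e.symm (i, j) ≠ u :=
    fun i j u hj hh => hj (by rw [← hh, e.apply_symm_apply])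
  by_cases h3 : ∃ i : Fin b, i ≠ f x ∧ i ≠ f z
  · obtain ⟨i, hix, hiz⟩ := h3
    exact mk i ⟨0, by omega⟩ ⟨1, by omega⟩ (by simp) (hne _ _ _ hix) (hne _ _ _ hiz)
      (hne _ _ _ hix) (hne _ _ _ hiz)
  · push Not at h3
    -- two blocks, each of size at least three
    have hb2 : b = 2 := by
      by_contra hb2
      have hlt : ({f x, f z} : Finset (Fin b)).card < (Finset.univ : Finset (Fin b)).card := by
        refine lt_of_le_of_lt (Finset.card_le_two) ?_
        rw [Finset.card_univ, Fintype.card_fin]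
        omega
      obtain ⟨i, -, hi⟩ := Finset.exists_mem_notMem_of_card_lt_card hlt
      simp only [Finset.mem_insert, Finset.mem_singleton, not_or] at hi
      exact hi.2 (h3 i hi.1)
    have hxz : f x ≠ f z := by
      intro hxz
      haveI : Nontrivial (Fin b) := Fin.nontrivial_iff_two_le.2 hb
      obtain ⟨i, hi⟩ := exists_ne (f x)
      exact hi ((h3 i hi).trans hxz.symm)
    have ha3 : 3 ≤ a := by
      have := card_eq f hf
      rw [hb2] at this
      omega
    have hlt : ({(e x).2} : Finset (Fin a)).card + 1 < (Finset.univ : Finset (Fin a)).card := by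
      rw [Finset.card_singleton, Finset.card_univ, Fintype.card_fin]
      omega
    obtain ⟨j, -, hj⟩ := Finset.exists_mem_notMem_of_card_lt_card (s := {(e x).2})
      (t := (Finset.univ : Finset (Fin a))) (by omega)
    obtain ⟨k, -, hk⟩ := Finset.exists_mem_notMem_of_card_lt_card (s := {(e x).2, j})
      (t := (Finset.univ : Finset (Fin a))) (lt_of_le_of_lt Finset.card_le_two (by
        rw [Finset.card_univ, Fintype.card_fin]; omega))
    simp only [Finset.mem_insert, Finset.mem_singleton, not_or] at hj hk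
    exact mk (f x) j k (Ne.symm hk.2) (hne' _ _ _ hj) (hne _ _ _ hxz) (hne' _ _ _ hk.1)
      (hne _ _ _ hxz)

/-- An element can be corrected to an even one without changing the images of two points. -/
theorem exists_even (ha : 2 ≤ a) (hb : 2 ≤ b) (hn : Fintype.card Ω ≠ 4) {g : Perm Ω}
    (hg : g ∈ stab f) (x y : Ω) :
    ∃ g' ∈ stab f ⊓ alternatingGroup Ω, g' x = g x ∧ g' y = g y := by
  rcases Int.units_eq_one_or (Perm.sign g) with h | h
  · exact ⟨g, ⟨hg, h⟩, rfl, rfl⟩
  · obtain ⟨p, q, hpq, hf', h1, h2, h3, h4⟩ := exists_spare f hf ha hb hn (g x) (g y)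
    refine ⟨Equiv.swap p q * g, ⟨(stab f).mul_mem (swap_mem f hf') hg, ?_⟩, ?_, ?_⟩
    · show Equiv.swap p q * g ∈ alternatingGroup Ω
      rw [Perm.mem_alternatingGroup, map_mul, Perm.sign_swap hpq, h]
      decide
    · rw [Perm.mul_apply, Equiv.swap_apply_of_ne_of_ne h1.symm h3.symm]
    · rw [Perm.mul_apply, Equiv.swap_apply_of_ne_of_ne h2.symm h4.symm]

omit hf in
/-- A group containing a transitive and "pair-transitive" part of the stabiliser, but not contained
in it, is primitive. -/
theorem isPreprimitive (hb : 2 ≤ b) (W : Subgroup (Perm Ω))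
    (hmove : ∀ {x y z : Ω}, y ≠ x → z ≠ x → (f y = f x ↔ f z = f x) →
      ∃ g ∈ W, g x = x ∧ g y = z)
    (hmap : ∀ x z : Ω, ∃ g ∈ W, g x = z) (hW : W ≤ stab f)
    (H : Subgroup (Perm Ω)) (hWH : W ≤ H) (hH : ¬ H ≤ stab f) (x₀ : Ω) :
    MulAction.IsPreprimitive H Ω := by
  haveI : MulAction.IsPretransitive H Ω := ⟨fun u v => by
    obtain ⟨g, hg, hgu⟩ := hmap u v
    exact ⟨⟨g, hWH hg⟩, hgu⟩⟩
  refine MulAction.IsPreprimitive.of_isTrivialBlock_base x₀ ?_
  intro B hx₀ hB
  by_cases hsub : B.Subsingleton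
  · exact Or.inl hsub
  right
  obtain ⟨y, hyB, hy⟩ : ∃ y ∈ B, y ≠ x₀ := by
    by_contra hh
    push Not at hh
    exact hsub fun u hu v hv => (hh u hu).trans (hh v hv).symm
  have hsmul : ∀ (g : H) {u : Ω}, u ∈ B → (g : Perm Ω) u ∈ B → ∀ v ∈ B, (g : Perm Ω) v ∈ B := by
    intro g u hu hgu v hv
    have : g • B = B := hB.smul_eq_of_mem hu hgu
    rw [← this]
    exact ⟨v, hv, rfl⟩
  have hfill : ∀ {y : Ω}, y ∈ B → y ≠ x₀ → ∀ z, z ≠ x₀ → (f y = f x₀ ↔ f z = f x₀) → z ∈ B := by
    intro y hyB hy z hz hiff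
    obtain ⟨g, hg, hgx, hgy⟩ := hmove hy hz hiff
    exact hgy ▸ hsmul ⟨g, hWH hg⟩ hx₀ (by show g x₀ ∈ B; rw [hgx]; exact hx₀) y hyB
  by_cases hcross : ∃ y ∈ B, f y ≠ f x₀
  · obtain ⟨y, hyB, hfy⟩ := hcross
    have hyx : y ≠ x₀ := fun hh => hfy (by rw [hh])
    have houter : ∀ z, f z ≠ f x₀ → z ∈ B := fun z hz =>
      hfill hyB hyx z (fun hh => hz (by rw [hh])) ⟨fun hh => absurd hh hfy, fun hh => absurd hh hz⟩
    rw [Set.eq_univ_iff_forall]
    intro z
    by_cases hz : f z = f x₀
    · -- move `x₀` to another fibre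
      obtain ⟨g, hg, hgx⟩ := hmap y x₀
      have h1 : ∀ v ∈ B, g v ∈ B := hsmul ⟨g, hWH hg⟩ hyB (by show g y ∈ B; rw [hgx]; exact hx₀)
      have h2 : f (g⁻¹ z) ≠ f x₀ := by
        intro hh
        have hgm : g ∈ stab f := hW hg
        have := (hgm (g⁻¹ z) x₀).1 hh
        rw [apply_inv] at this
        exact hfy ((hgm y x₀).2 (by rw [hgx, ← this, hz]))
      have := h1 _ (houter _ h2)
      rwa [apply_inv] at this
    · exact houter z hz
  · push Not at hcross
    exfalso
    have hB' : ∀ z, z ∈ B ↔ f z = f x₀ := by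
      refine fun z => ⟨hcross z, fun hz => ?_⟩
      rcases eq_or_ne z x₀ with rfl | hzx
      · exact hx₀
      · exact hfill hyB hy z hzx (iff_of_true (hcross y hyB) hz)
    apply hH
    -- every translate of `B` is a fibre
    have hfib : ∀ z, ∃ g : H, ∀ u, u ∈ g • B ↔ f u = f z := by
      intro z
      obtain ⟨g, hg, hgx⟩ := hmap x₀ z
      refine ⟨⟨g, hWH hg⟩, fun u => ?_⟩
      rw [Set.mem_smul_set_iff_inv_smul_mem]
      show g⁻¹ u ∈ B ↔ _
      rw [hB', ← hgx, hW hg (g⁻¹ u) x₀, apply_inv]
    have one : ∀ k ∈ H, ∀ u v : Ω, f u = f v → f (k u) = f (k v) := by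
      intro k hk u v huv
      obtain ⟨g, hg⟩ := hfib u
      obtain ⟨g', hg'⟩ := hfib (k u)
      have hku : k u ∈ ((⟨k, hk⟩ : H) * g) • B ∧ k u ∈ g' • B := by
        refine ⟨?_, (hg' _).2 rfl⟩
        rw [mul_smul]
        exact ⟨u, (hg u).2 rfl, rfl⟩
      have heq : ((⟨k, hk⟩ : H) * g) • B = g' • B := by
        by_contra hne
        exact Set.disjoint_left.1 (hB hne) hku.1 hku.2
      have hkv : k v ∈ ((⟨k, hk⟩ : H) * g) • B := by
        rw [mul_smul]
        exact ⟨v, (hg v).2 huv.symm, rfl⟩
      rw [heq] at hkv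
      exact ((hg' _).1 hkv).symm
    intro k hk u v
    refine ⟨one k hk u v, fun h => ?_⟩
    have := one k⁻¹ (H.inv_mem hk) _ _ h
    simpa using this

/-- The stabiliser of a uniform partition is maximal in the symmetric group. -/
theorem isCoatom_stab (ha : 2 ≤ a) (hb : 2 ≤ b) : IsCoatom (stab f) := by
  classical
  refine ⟨stab_ne_top f hf ha hb, fun H hlt => ?_⟩
  obtain ⟨e, he⟩ := exists_coord f a hf
  let x₀ := e.symm (⟨0, by omega⟩, ⟨0, by omega⟩)
  have hprim := isPreprimitive f hb (stab f) (fun {x y z} => exists_move f hf) (exists_map f hf)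
    le_rfl H hlt.le (not_le_of_gt hlt) x₀
  obtain ⟨y, hy, hyx⟩ := exists_ne_in_fibre f hf ha x₀
  exact Perm.subgroup_eq_top_of_isPreprimitive_of_isSwap_mem hprim _ ⟨x₀, y, hyx.symm, rfl⟩
    (hlt.le (swap_mem f hy.symm))

/-- A double transposition of two pairs is even and preserves the partition. -/
theorem flip_mem {p p' q q' : Ω} (hp : p ≠ p') (hq : q ≠ q') (h1 : f p = f p') (h2 : f q = f q') :
    Equiv.swap p p' * Equiv.swap q q' ∈ stab f ⊓ alternatingGroup Ω := by
  refine ⟨(stab f).mul_mem (swap_mem f h1) (swap_mem f h2), ?_⟩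
  show Equiv.swap p p' * Equiv.swap q q' ∈ alternatingGroup Ω
  rw [Perm.mem_alternatingGroup, map_mul, Perm.sign_swap hp, Perm.sign_swap hq]
  decide

omit hf [Fintype Ω] in
/-- Two double transpositions with product a three-cycle. -/
theorem threeCycle_of_doubles {u u' v s t : Ω} (h1 : u ≠ v) (h3 : u' ≠ v) :
    (Equiv.swap u v * Equiv.swap s t) * (Equiv.swap u' v * Equiv.swap s t) =
        Equiv.swap u v * Equiv.swap u' v ∨
      ¬ Commute (Equiv.swap s t) (Equiv.swap u' v) := by
  by_cases hc : Commute (Equiv.swap s t) (Equiv.swap u' v)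
  · left
    rw [← mul_assoc, mul_assoc (Equiv.swap u v), hc.eq, ← mul_assoc, mul_assoc,
      Equiv.swap_mul_self, mul_one]
  · exact Or.inr hc

/-- Partitions into pairs, at least five of them: a larger group contains a three-cycle. -/
theorem threeCycle_of_pairs (ha : a = 2) (hb : 5 ≤ b) (H : Subgroup (Perm Ω))
    (hWH : stab f ⊓ alternatingGroup Ω ≤ H) (hH : ¬ H ≤ stab f) :
    ∃ c ∈ H, c.IsThreeCycle := by
  classical
  subst ha
  obtain ⟨e, he⟩ := exists_coord f 2 hf
  have hpartner : ∀ p q r : Ω, q ≠ p → r ≠ p → f q = f p → f r = f p → q = r := by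
    intro p q r hq hr fq fr
    apply e.injective
    refine Prod.ext (by rw [he, he, fq, fr]) ?_
    have h1 : (e q).2 ≠ (e p).2 := fun hh => hq (e.injective (Prod.ext (by rw [he, he, fq]) hh))
    have h2 : (e r).2 ≠ (e p).2 := fun hh => hr (e.injective (Prod.ext (by rw [he, he, fr]) hh))
    omega
  obtain ⟨g, hgH, hg⟩ := SetLike.not_le_iff_exists.1 hH
  -- a pair mapped to a non-pair
  obtain ⟨x, x', hxne, hx, hgx⟩ : ∃ x x', x ≠ x' ∧ f x = f x' ∧ f (g x) ≠ f (g x') := by
    by_contra hh
    push Not at hh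
    have hone : ∀ p q, f p = f q → f (g p) = f (g q) := fun p q hpq => by
      rcases eq_or_ne p q with rfl | hne
      · rfl
      · exact hh p q hne hpq
    apply hg
    intro p q
    refine ⟨hone p q, fun hpq => ?_⟩
    by_contra hne
    obtain ⟨p', hp', hp'ne⟩ := exists_ne_in_fibre f hf (le_refl 2) p
    have hpq' : g q = g p' := hpartner (g p) (g q) (g p') (fun hh => hne (by rw [g.injective hh]))
      (fun hh => hp'ne (g.injective hh)) hpq.symm (hone p' p hp')
    exact hne (by rw [g.injective hpq', hp'])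
  set u := g x with hu
  set v := g x' with hv
  obtain ⟨u', hu', hu'ne⟩ := exists_ne_in_fibre f hf (le_refl 2) u
  obtain ⟨v', hv', hv'ne⟩ := exists_ne_in_fibre f hf (le_refl 2) v
  -- a pair avoiding those that map to `u'` and `v'`
  have hlt : ({f x, f (g⁻¹ u'), f (g⁻¹ v')} : Finset (Fin b)).card < (Finset.univ : Finset (Fin b)).card := by
    refine lt_of_le_of_lt Finset.card_le_three ?_
    rw [Finset.card_univ, Fintype.card_fin]
    omega
  obtain ⟨i, -, hi⟩ := Finset.exists_mem_notMem_of_card_lt_card hlt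
  simp only [Finset.mem_insert, Finset.mem_singleton, not_or] at hi
  let y := e.symm (i, 0)
  obtain ⟨y', hy', hy'ne⟩ := exists_ne_in_fibre f hf (le_refl 2) y
  have hfy : f y = i := by rw [← he, e.apply_symm_apply]
  set s := g y with hs
  set t := g y' with ht
  have hst : s ≠ t := fun hh => hy'ne (g.injective hh).symm
  have havoid : ∀ w, f w = i → g w ≠ u' ∧ g w ≠ v' ∧ g w ≠ u ∧ g w ≠ v := by
    intro w hw
    refine ⟨fun hh => hi.2.1 ?_, fun hh => hi.2.2 ?_, fun hh => hi.1 ?_, fun hh => hi.1 ?_⟩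
    · rw [← hw, ← hh, inv_apply]
    · rw [← hw, ← hh, inv_apply]
    · rw [← hw, g.injective hh]
    · rw [← hw, g.injective hh, hx]
  obtain ⟨su', sv', su, sv⟩ := havoid y hfy
  obtain ⟨tu', tv', tu, tv⟩ := havoid y' (hy'.trans hfy)
  -- a further pair
  have hlt' : ({f u, f v, f s, f t} : Finset (Fin b)).card < (Finset.univ : Finset (Fin b)).card := by
    refine lt_of_le_of_lt Finset.card_le_four ?_
    rw [Finset.card_univ, Fintype.card_fin]
    omega
  obtain ⟨l, -, hl⟩ := Finset.exists_mem_notMem_of_card_lt_card hlt'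
  simp only [Finset.mem_insert, Finset.mem_singleton, not_or] at hl
  let p := e.symm (l, 0)
  obtain ⟨p', hp', hp'ne⟩ := exists_ne_in_fibre f hf (le_refl 2) p
  have hfp : f p = l := by rw [← he, e.apply_symm_apply]
  have hout : ∀ w, f w = f u ∨ f w = f v ∨ f w = f s ∨ f w = f t → w ≠ p ∧ w ≠ p' := by
    intro w hw
    have : f w ≠ l := by
      rcases hw with h | h | h | h <;> rw [h]
      exacts [Ne.symm hl.1, Ne.symm hl.2.1, Ne.symm hl.2.2.1, Ne.symm hl.2.2.2]
    exact ⟨fun hh => this (by rw [hh, hfp]), fun hh => this (by rw [hh, hp', hfp])⟩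
  -- the two double transpositions
  have hh1 : Equiv.swap u v * Equiv.swap s t ∈ H := by
    have h0 := hWH (flip_mem f hf hxne hy'ne.symm hx hy'.symm)
    have h1 := H.mul_mem (H.mul_mem hgH h0) (H.inv_mem hgH)
    rwa [show g * (Equiv.swap x x' * Equiv.swap y y') * g⁻¹ =
      (g * Equiv.swap x x' * g⁻¹) * (g * Equiv.swap y y' * g⁻¹) by group,
      ← Equiv.swap_apply_apply, ← Equiv.swap_apply_apply] at h1
  let k := Equiv.swap u u' * Equiv.swap p p'
  have hk : k ∈ H := hWH (flip_mem f hf hu'ne.symm hp'ne.symm hu'.symm hp'.symm)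
  have hfix : ∀ w, w ≠ u → w ≠ u' → w ≠ p → w ≠ p' → k w = w := by
    intro w h1 h2 h3 h4
    rw [Perm.mul_apply, Equiv.swap_apply_of_ne_of_ne h3 h4, Equiv.swap_apply_of_ne_of_ne h1 h2]
  obtain ⟨hup, hup'⟩ := hout u (Or.inl rfl)
  obtain ⟨hvp, hvp'⟩ := hout v (Or.inr (Or.inl rfl))
  obtain ⟨hsp, hsp'⟩ := hout s (Or.inr (Or.inr (Or.inl rfl)))
  obtain ⟨htp, htp'⟩ := hout t (Or.inr (Or.inr (Or.inr rfl)))
  have huv : u ≠ v := fun hh => hgx (by rw [hh])
  have hvu' : v ≠ u' := fun hh => hgx (by rw [hh, hu'])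
  have hh2 : Equiv.swap u' v * Equiv.swap s t ∈ H := by
    have h1 := H.mul_mem (H.mul_mem hk hh1) (H.inv_mem hk)
    rwa [show k * (Equiv.swap u v * Equiv.swap s t) * k⁻¹ =
      (k * Equiv.swap u v * k⁻¹) * (k * Equiv.swap s t * k⁻¹) by group,
      ← Equiv.swap_apply_apply, ← Equiv.swap_apply_apply,
      show k u = u' by rw [Perm.mul_apply, Equiv.swap_apply_of_ne_of_ne hup hup',
        Equiv.swap_apply_left],
      hfix v huv.symm hvu' hvp hvp', hfix s su su' hsp hsp', hfix t tu tu' htp htp'] at h1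
  refine ⟨_, H.mul_mem hh1 hh2, ?_⟩
  have hcomm : Commute (Equiv.swap s t) (Equiv.swap u' v) := by
    refine Perm.Disjoint.commute ?_
    intro w
    rcases eq_or_ne w s with rfl | hws
    · exact Or.inr (Equiv.swap_apply_of_ne_of_ne su' sv)
    · rcases eq_or_ne w t with rfl | hwt
      · exact Or.inr (Equiv.swap_apply_of_ne_of_ne tu' tv)
      · exact Or.inl (Equiv.swap_apply_of_ne_of_ne hws hwt)
  rcases threeCycle_of_doubles (u := u) (u' := u') (v := v) (s := s) (t := t) huv hvu'.symm with h | h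
  · rw [h, Equiv.swap_comm u v, Equiv.swap_comm u' v]
    exact Perm.isThreeCycle_swap_mul_swap_same huv.symm hvu' hu'ne.symm
  · exact absurd hcomm h

/-- The even part of the stabiliser is maximal in the alternating group. -/
theorem isCoatom_stab_alternating (h8 : Fintype.card Ω ≠ 8) (ha : 2 ≤ a) (hb : 2 ≤ b) :
    IsCoatom ((stab f ⊓ alternatingGroup Ω).subgroupOf (alternatingGroup Ω)) := by
  classical
  have hcard := card_eq f hf
  haveI : Nontrivial Ω := Fintype.one_lt_card_iff_nontrivial.1 (by rw [hcard]; nlinarith)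
  obtain ⟨e, he⟩ := exists_coord f a hf
  let x₀ := e.symm (⟨0, by omega⟩, ⟨0, by omega⟩)
  set W := stab f ⊓ alternatingGroup Ω with hWdef
  have hcardA : Nat.card (alternatingGroup Ω) * 2 = (Fintype.card Ω).factorial := by
    have h' := two_mul_card_alternatingGroup (α := Ω)
    rw [Fintype.card_perm] at h'
    rw [Nat.card_eq_fintype_card, mul_comm]
    exact h'
  refine ⟨?_, fun M hlt => ?_⟩
  · -- a three-cycle outside the stabiliser
    rw [Ne, Subgroup.subgroupOf_eq_top]
    intro hle
    obtain ⟨y, hy, hyx⟩ := exists_ne_in_fibre f hf ha x₀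
    let z := e.symm (⟨1, by omega⟩, ⟨0, by omega⟩)
    have hxz : f x₀ ≠ f z := by rw [← he, ← he]; simp [x₀, z]
    have hzy : z ≠ y := fun hh => hxz (by rw [hh, hy])
    have hzx : z ≠ x₀ := fun hh => hxz (by rw [hh])
    have h3 : Equiv.swap y z * Equiv.swap y x₀ ∈ alternatingGroup Ω := by
      rw [Perm.mem_alternatingGroup, map_mul, Perm.sign_swap hzy.symm, Perm.sign_swap hyx]
      decide
    have := ((hle h3).1 x₀ y).1 hy.symm
    rw [Perm.mul_apply, Perm.mul_apply, Equiv.swap_apply_right, Equiv.swap_apply_left,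
      Equiv.swap_apply_left, Equiv.swap_apply_of_ne_of_ne hyx.symm hzx.symm] at this
    exact hxz this.symm
  -- the subgroup as a group of permutations
  set H := M.map (alternatingGroup Ω).subtype with hHdef
  have hHA : H ≤ alternatingGroup Ω := Subgroup.map_subtype_le M
  have hWH : W ≤ H := fun g hg => ⟨⟨g, hg.2⟩, hlt.le hg, rfl⟩
  have hH : ¬ H ≤ stab f := by
    intro hh
    refine not_le_of_gt hlt fun g hg => ?_
    exact ⟨hh ⟨g, hg, rfl⟩, g.2⟩
  have hfinish : alternatingGroup Ω ≤ H → M = ⊤ := by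
    intro hle
    rw [eq_top_iff]
    intro g _
    obtain ⟨g', hg', hgg⟩ := hle g.2
    rwa [← Subtype.ext hgg]
  have hHcard : Nat.card H = Nat.card M :=
    Subgroup.card_map_of_injective (alternatingGroup Ω).subtype_injective
  have hdvdA : Nat.card H ∣ Nat.card (alternatingGroup Ω) := Subgroup.card_dvd_of_le hHA
  have hWlt : Nat.card W < Nat.card H := by
    refine lt_of_le_of_ne (Nat.le_of_dvd Nat.card_pos (Subgroup.card_dvd_of_le hWH)) fun hh => hH ?_
    rw [← Subgroup.eq_of_le_of_card_ge hWH hh.ge]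
    exact inf_le_left
  by_cases h4 : Fintype.card Ω = 4
  · -- degree four
    apply hfinish
    have ha2 : a = 2 := by nlinarith [hcard.symm.trans h4]
    subst ha2
    have htrans : ∀ z, ∃ g ∈ W, g x₀ = z := by
      intro z
      obtain ⟨y, hy, hyx⟩ := exists_ne_in_fibre f hf ha x₀
      obtain ⟨i, hi⟩ : ∃ i, i ≠ f x₀ := by
        haveI : Nontrivial (Fin b) := Fin.nontrivial_iff_two_le.2 hb
        exact exists_ne _
      obtain ⟨w, hw⟩ : ∃ w, f w = i := ⟨e.symm (i, 0), by rw [← he, e.apply_symm_apply]⟩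
      obtain ⟨w', hw', hww⟩ := exists_ne_in_fibre f hf ha w
      by_cases hz : z = x₀
      · exact ⟨1, W.one_mem, hz.symm⟩
      · obtain ⟨g, hg, hgx⟩ := exists_map f hf x₀ z
        rcases Int.units_eq_one_or (Perm.sign g) with h | h
        · exact ⟨g, ⟨hg, h⟩, hgx⟩
        · -- compose with a transposition in a block missing `x₀`
          refine ⟨g * Equiv.swap w w', ⟨(stab f).mul_mem hg (swap_mem f hw'.symm), ?_⟩, ?_⟩
          · show g * Equiv.swap w w' ∈ alternatingGroup Ω
            rw [Perm.mem_alternatingGroup, map_mul, Perm.sign_swap hww.symm, h]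
            decide
          · rw [Perm.mul_apply, Equiv.swap_apply_of_ne_of_ne (fun hh => hi (by rw [← hw, hh]))
              (fun hh => hi (by rw [← hw, ← hw', hh])), hgx]
    have h4W : 4 ∣ Nat.card W := by
      haveI : MulAction.IsPretransitive W Ω := (MulAction.isPretransitive_iff_base x₀).2 fun z => by
        obtain ⟨g, hg, hgz⟩ := htrans z
        exact ⟨⟨g, hg⟩, hgz⟩
      have h' := (MulAction.stabilizer W x₀).index_mul_card
      rw [MulAction.index_stabilizer_of_transitive, Nat.card_eq_fintype_card (α := Ω), h4] at h'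
      exact ⟨_, h'.symm⟩
    have h12 : Nat.card (alternatingGroup Ω) = 12 := by
      rw [h4, show Nat.factorial 4 = 24 by decide] at hcardA
      omega
    have hHmul : 4 ∣ Nat.card H := h4W.trans (Subgroup.card_dvd_of_le hWH)
    have hWpos : 0 < Nat.card W := Nat.card_pos
    have hHle := Nat.le_of_dvd (by rw [h12]; norm_num) hdvdA
    rw [h12] at hdvdA hHle
    refine (Subgroup.eq_of_le_of_card_ge hHA ?_).ge
    rw [h12]
    obtain ⟨k, hk⟩ := h4W
    obtain ⟨m, hm⟩ := hHmul
    rw [hk, hm] at hWlt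
    rw [hm] at hdvdA hHle ⊢
    have : m ≤ 3 := by omega
    interval_cases m <;> omega
  -- the general case
  have hmove : ∀ {x y z : Ω}, y ≠ x → z ≠ x → (f y = f x ↔ f z = f x) →
      ∃ g ∈ W, g x = x ∧ g y = z := by
    intro x y z h1 h2 h3
    obtain ⟨g, hg, hgx, hgy⟩ := exists_move f hf h1 h2 h3
    obtain ⟨g', hg', h', h''⟩ := exists_even f hf ha hb h4 hg x y
    exact ⟨g', hg', h'.trans hgx, h''.trans hgy⟩
  have hmap : ∀ x z : Ω, ∃ g ∈ W, g x = z := by
    intro x z
    obtain ⟨g, hg, hgx⟩ := exists_map f hf x z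
    obtain ⟨g', hg', h', -⟩ := exists_even f hf ha hb h4 hg x x
    exact ⟨g', hg', h'.trans hgx⟩
  have hprim := isPreprimitive f hb W hmove hmap inf_le_left H hWH hH x₀
  apply hfinish
  rcases eq_or_lt_of_le ha with ha2 | ha3
  · by_cases hb5 : 5 ≤ b
    · obtain ⟨c, hc, hc3⟩ := threeCycle_of_pairs f hf ha2.symm hb5 H hWH hH
      exact Perm.alternatingGroup_le_of_isPreprimitive_of_isThreeCycle_mem hprim hc3 hc
    · -- three pairs: the index of `H` is too small
      subst ha2
      have hb3 : b = 3 := by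
        rw [hcard] at h4 h8
        omega
      subst hb3
      have h6 : Fintype.card Ω = 6 := hcard
      have h360 : Nat.card (alternatingGroup Ω) = 360 := by
        rw [h6, show Nat.factorial 6 = 720 by decide] at hcardA
        omega
      obtain ⟨y, hy, hyx⟩ := exists_ne_in_fibre f hf ha x₀
      let q := e.symm (1, 0)
      let q' := e.symm (1, 1)
      let r := e.symm (2, 0)
      let r' := e.symm (2, 1)
      have fq : f q = 1 := by rw [← he, e.apply_symm_apply]
      have fq' : f q' = 1 := by rw [← he, e.apply_symm_apply]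
      have fr : f r = 2 := by rw [← he, e.apply_symm_apply]
      have fr' : f r' = 2 := by rw [← he, e.apply_symm_apply]
      have fx : f x₀ = 0 := by rw [← he, e.apply_symm_apply]; rfl
      have hqq : q ≠ q' := by simp [q, q']
      have hrr : r ≠ r' := by simp [r, r']
      -- four elements fixing `x₀`
      have hmul4 : 24 ≤ Nat.card W ∧ 12 ∣ Nat.card W := by
        haveI : MulAction.IsPretransitive W Ω := (MulAction.isPretransitive_iff_base x₀).2 fun z => by
          obtain ⟨g, hg, hgz⟩ := hmap x₀ z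
          exact ⟨⟨g, hg⟩, hgz⟩
        have h' := (MulAction.stabilizer W x₀).index_mul_card
        rw [MulAction.index_stabilizer_of_transitive, Nat.card_eq_fintype_card (α := Ω), h6] at h'
        have hd1 : Equiv.swap q q' * Equiv.swap r r' ∈ W :=
          flip_mem f hf hqq hrr (fq.trans fq'.symm) (fr.trans fr'.symm)
        have hx1 : x₀ ≠ q := fun hh => by rw [hh, fq] at fx; exact absurd fx (by decide)
        have hx2 : x₀ ≠ q' := fun hh => by rw [hh, fq'] at fx; exact absurd fx (by decide)
        have hx3 : x₀ ≠ r := fun hh => by rw [hh, fr] at fx; exact absurd fx (by decide)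
        have hx4 : x₀ ≠ r' := fun hh => by rw [hh, fr'] at fx; exact absurd fx (by decide)
        -- elements moving `q` to `r` and to `r'`
        obtain ⟨g1, hg1, g1x, g1q⟩ := hmove (x := x₀) (y := q) (z := r) hx1.symm hx3.symm
          (by rw [fq, fr, fx]; decide)
        obtain ⟨g2, hg2, g2x, g2q⟩ := hmove (x := x₀) (y := q) (z := r') hx1.symm hx4.symm
          (by rw [fq, fr', fx]; decide)
        have hd1x : (Equiv.swap q q' * Equiv.swap r r') x₀ = x₀ := by
          rw [Perm.mul_apply, Equiv.swap_apply_of_ne_of_ne hx3 hx4,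
            Equiv.swap_apply_of_ne_of_ne hx1 hx2]
        have hd1q : (Equiv.swap q q' * Equiv.swap r r') q = q' := by
          have hqr : q ≠ r := fun hh => by rw [hh, fr] at fq; exact absurd fq (by decide)
          have hqr' : q ≠ r' := fun hh => by rw [hh, fr'] at fq; exact absurd fq (by decide)
          rw [Perm.mul_apply, Equiv.swap_apply_of_ne_of_ne hqr hqr', Equiv.swap_apply_left]
        let F : Fin 4 → MulAction.stabilizer W x₀ :=
          ![1, ⟨⟨_, hd1⟩, hd1x⟩, ⟨⟨g1, hg1⟩, g1x⟩, ⟨⟨g2, hg2⟩, g2x⟩]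
        have hFq : ∀ i, (((F i : W) : Perm Ω)) q = ![q, q', r, r'] i := by
          intro i
          fin_cases i
          · rfl
          · exact hd1q
          · exact g1q
          · exact g2q
        have hinj : Function.Injective F := by
          intro i j hij
          have h2 := (hFq i).symm.trans ((congrArg (fun g : MulAction.stabilizer W x₀ =>
            ((g : W) : Perm Ω) q) hij).trans (hFq j))
          revert h2
          fin_cases i <;> fin_cases j <;> simp [q, q', r, r']
        have hst := Nat.card_le_card_of_injective F hinj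
        rw [Nat.card_fin] at hst
        have h2 : 2 ∣ Nat.card (MulAction.stabilizer W x₀) := by
          haveI : Fact (Nat.Prime 2) := ⟨Nat.prime_two⟩
          have hord : orderOf (F 1) = 2 := by
            refine orderOf_eq_prime ?_ ?_
            · refine Subtype.ext (Subtype.ext ?_)
              have hdisj : Perm.Disjoint (Equiv.swap q q') (Equiv.swap r r') := by
                intro z
                rcases eq_or_ne z q with rfl | hzq
                · exact Or.inr (Equiv.swap_apply_of_ne_of_ne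
                    (fun hh => by rw [hh, fr] at fq; exact absurd fq (by decide))
                    (fun hh => by rw [hh, fr'] at fq; exact absurd fq (by decide)))
                · rcases eq_or_ne z q' with rfl | hzq'
                  · exact Or.inr (Equiv.swap_apply_of_ne_of_ne
                      (fun hh => by rw [hh, fr] at fq'; exact absurd fq' (by decide))
                      (fun hh => by rw [hh, fr'] at fq'; exact absurd fq' (by decide)))
                  · exact Or.inl (Equiv.swap_apply_of_ne_of_ne hzq hzq')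
              show (Equiv.swap q q' * Equiv.swap r r') ^ 2 = 1
              rw [hdisj.commute.mul_pow, pow_two, pow_two, Equiv.swap_mul_self, Equiv.swap_mul_self,
                mul_one]
            · intro hh
              exact absurd (hinj (a₁ := 1) (a₂ := 0) hh) (by decide)
          exact hord ▸ orderOf_dvd_natCard (F 1)
        obtain ⟨m, hm⟩ := h2
        exact ⟨by omega, ⟨m, by omega⟩⟩
      have hindex : H.relIndex (alternatingGroup Ω) ≤ 5 ∧
          Nat.card H * H.relIndex (alternatingGroup Ω) = 360 := by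
        have hmul := Subgroup.card_mul_index (H.subgroupOf (alternatingGroup Ω))
        rw [Nat.card_congr (Subgroup.subgroupOfEquivOfLe hHA).toEquiv, h360] at hmul
        refine ⟨?_, hmul⟩
        show (H.subgroupOf (alternatingGroup Ω)).index ≤ 5
        by_contra hh
        have hW24 : 24 ∣ Nat.card H ∨ Nat.card W ≠ 24 := by
          by_cases hW : Nat.card W = 24
          · exact Or.inl (hW ▸ Subgroup.card_dvd_of_le hWH)
          · exact Or.inr hW
        have h7 : Nat.card H * 6 ≤ 360 := hmul ▸ Nat.mul_le_mul_left _ (by omega)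
        rcases hW24 with hd | hd
        · obtain ⟨m, hm⟩ := hd
          rw [hm] at hmul hWlt h7
          have : m ≤ 2 := by omega
          interval_cases m <;> omega
        · obtain ⟨m, hm⟩ := Subgroup.card_dvd_of_le hWH
          obtain ⟨m12, hm12⟩ := hmul4.2
          have := hmul4.1
          have h6W : 6 ∣ Nat.card W := by
            haveI : MulAction.IsPretransitive W Ω := (MulAction.isPretransitive_iff_base x₀).2 fun z => by
              obtain ⟨g, hg, hgz⟩ := hmap x₀ z
              exact ⟨⟨g, hg⟩, hgz⟩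
            have h' := (MulAction.stabilizer W x₀).index_mul_card
            rw [MulAction.index_stabilizer_of_transitive, Nat.card_eq_fintype_card (α := Ω), h6] at h'
            exact ⟨_, h'.symm⟩
          have : 2 ≤ m := by
            by_contra hm'
            have : m = 0 ∨ m = 1 := by omega
            rcases this with rfl | rfl <;> omega
          have : Nat.card W * 2 ≤ Nat.card H := hm ▸ Nat.mul_le_mul_left _ this
          omega
      set K := H.subgroupOf (alternatingGroup Ω)
      have hK5 : K.index ≤ 5 := hindex.1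
      by_contra hne
      have hKtop : K ≠ ⊤ := fun hK => hne (Subgroup.subgroupOf_eq_top.1 hK)
      haveI : IsSimpleGroup (alternatingGroup Ω) :=
        alternatingGroup.isSimpleGroup (by rw [Nat.card_eq_fintype_card, h6]; norm_num)
      have hinj : Function.Injective
          (MulAction.toPermHom (alternatingGroup Ω) (alternatingGroup Ω ⧸ K)) := by
        rw [← MonoidHom.ker_eq_bot_iff, ← Subgroup.normalCore_eq_ker]
        refine (IsSimpleGroup.eq_bot_or_eq_top_of_normal _ (Subgroup.normalCore_normal K)).resolve_right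
          fun hh => hKtop (top_le_iff.1 (hh ▸ Subgroup.normalCore_le K))
      have hle5 := Nat.card_le_card_of_injective _ hinj
      rw [Nat.card_perm, ← Subgroup.index_eq_card, h360] at hle5
      have := hle5.trans (Nat.factorial_le hK5)
      rw [show Nat.factorial 5 = 120 by decide] at this
      omega
  · -- a three-cycle inside a block
    obtain ⟨y, hy, hyx⟩ := exists_ne_in_fibre f hf ha x₀
    obtain ⟨w, hw, hwx, hwy⟩ : ∃ w, f w = f x₀ ∧ w ≠ x₀ ∧ w ≠ y := by
      have hlt : ({(e x₀).2, (e y).2} : Finset (Fin a)).card <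
          (Finset.univ : Finset (Fin a)).card := by
        refine lt_of_le_of_lt Finset.card_le_two ?_
        rw [Finset.card_univ, Fintype.card_fin]
        omega
      obtain ⟨j, -, hj⟩ := Finset.exists_mem_notMem_of_card_lt_card hlt
      simp only [Finset.mem_insert, Finset.mem_singleton, not_or] at hj
      refine ⟨e.symm (f x₀, j), by rw [← he, e.apply_symm_apply], fun hh => hj.1 ?_,
        fun hh => hj.2 ?_⟩
      · rw [← hh, e.apply_symm_apply]
      · rw [← hh, e.apply_symm_apply]
    exact Perm.alternatingGroup_le_of_isPreprimitive_of_isThreeCycle_mem hprim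
      (Perm.isThreeCycle_swap_mul_swap_same hyx.symm hwx.symm hwy.symm)
      (hWH (flip_mem f hf hyx.symm hwx.symm hy.symm hw.symm))

end Cfsg.Agent.Perm.UniformPartition
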